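import Mathlib.Data.ZMod.Basic
import Mathlib.GroupTheory.SpecificGroups.Alternating
import Mathlib.LinearAlgebra.Matrix.GeneralLinearGroup.Defs
import Mathlib.LinearAlgebra.Matrix.NonsingularInverse
import Mathlib.RingTheory.Nilpotent.Basic
import Mathlib.Tactic.FinCases
import Mathlib.Tactic.LinearCombination
import Mathlib.Tactic.NoncommRing

/-!
# Alternating subgroups of degree four in `GL₂(ℤ/2ᵏ)`
-/

namespace CfsgLib.Amalgam.AltFourGL

open Matrix

variable {k : ℕ}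

local notation "Mat" => Matrix (Fin 2) (Fin 2) (ZMod (2 ^ k))
local notation "Mat₂" => Matrix (Fin 2) (Fin 2) (ZMod 2)

/-- Reduction modulo `2`. -/
noncomputable def red (hk : 1 ≤ k) : Mat →+* Mat₂ :=
  (ZMod.castHom (dvd_pow_self 2 (by omega)) (ZMod 2)).mapMatrix

/-- The companion matrix of `X² + X + 1`. -/
def cmp {S : Type*} [Ring S] : Matrix (Fin 2) (Fin 2) S := !![0, -1; 1, -1]

theorem red_cmp (hk : 1 ≤ k) : red hk cmp = cmp := by
  ext i j; fin_cases i <;> fin_cases j <;> simp [red, cmp, -ZMod.castHom_apply]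

theorem cmp_cube {S : Type*} [CommRing S] : (cmp : Matrix (Fin 2) (Fin 2) S) ^ 3 = 1 := by
  ext i j; fin_cases i <;> fin_cases j <;> simp [cmp, pow_succ]

/-- The conjugate of `u` by the `i`th power of `cmp`. -/
def rot {S : Type*} [Ring S] (i : ℕ) (u : Matrix (Fin 2) (Fin 2) S) : Matrix (Fin 2) (Fin 2) S :=
  cmp ^ i * u * cmp ^ (2 * i)

theorem cast_eq_zero_iff (hk : 1 ≤ k) {x : ZMod (2 ^ k)} :
    ZMod.castHom (dvd_pow_self 2 (by omega : k ≠ 0)) (ZMod 2) x = 0 ↔ ∃ y, x = 2 * y := by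
  constructor
  · intro h
    rw [ZMod.castHom_apply, ZMod.cast_eq_val, ZMod.natCast_eq_zero_iff] at h
    obtain ⟨c, hc⟩ := h
    exact ⟨c, by rw [← ZMod.natCast_zmod_val x, hc]; push_cast; rfl⟩
  · rintro ⟨y, rfl⟩
    rw [map_mul, map_ofNat, show (2 : ZMod 2) = 0 from rfl, zero_mul]

theorem red_eq_zero_iff (hk : 1 ≤ k) {A : Mat} : red hk A = 0 ↔ ∃ B : Mat, A = (2 : ZMod (2 ^ k)) • B := by
  constructor
  · intro h
    choose B hB using fun i j => (cast_eq_zero_iff hk).1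
      (show ZMod.castHom (dvd_pow_self 2 (by omega : k ≠ 0)) (ZMod 2) (A i j) = 0 from
        congrFun (congrFun h i) j)
    exact ⟨B, by ext i j; exact hB i j⟩
  · rintro ⟨B, rfl⟩
    ext i j
    exact (cast_eq_zero_iff hk).2 ⟨B i j, rfl⟩

theorem red_smul (hk : 1 ≤ k) (n : ℕ) (A : Mat) :
    red hk ((2 : ZMod (2 ^ k)) ^ n • A) = (2 : ZMod 2) ^ n • red hk A := by
  ext i j
  simp [red, map_mul, map_pow, map_ofNat, -ZMod.castHom_apply]

theorem two_pow_smul_eq_zero (hk : 1 ≤ k) {m : ℕ} (hm : m < k) {A : Mat}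
    (h : (2 : ZMod (2 ^ k)) ^ m • A = 0) : red hk A = 0 := by
  ext i j
  have h1 : (2 : ZMod (2 ^ k)) ^ m * A i j = 0 := congrFun (congrFun h i) j
  rw [← ZMod.natCast_zmod_val (A i j), show (2 : ZMod (2 ^ k)) ^ m = ((2 ^ m : ℕ) : ZMod (2 ^ k)) by simp,
    ← Nat.cast_mul, ZMod.natCast_eq_zero_iff] at h1
  have h2 : 2 ∣ (A i j).val := by
    have : 2 ^ m * 2 ∣ 2 ^ m * (A i j).val :=
      dvd_trans (by rw [← pow_succ]; exact pow_dvd_pow 2 hm) h1
    exact (Nat.mul_dvd_mul_iff_left (by positivity)).1 this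
  show ZMod.castHom (dvd_pow_self 2 (by omega : k ≠ 0)) (ZMod 2) (A i j) = 0
  rwa [ZMod.castHom_apply, ZMod.cast_eq_val, ZMod.natCast_eq_zero_iff]

theorem two_pow_self : (2 : ZMod (2 ^ k)) ^ k = 0 := by
  have := ZMod.natCast_self (2 ^ k)
  push_cast at this
  exact this

theorem two_pow_top (A : Mat) : (2 : ZMod (2 ^ k)) ^ k • A = 0 := by
  rw [two_pow_self, zero_smul]

theorem isUnit_of_cast (hk : 1 ≤ k) {x : ZMod (2 ^ k)}
    (h : ZMod.castHom (dvd_pow_self 2 (by omega : k ≠ 0)) (ZMod 2) x = 1) : IsUnit x := by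
  obtain ⟨y, hy⟩ := (cast_eq_zero_iff hk).1
    (show ZMod.castHom (dvd_pow_self 2 (by omega : k ≠ 0)) (ZMod 2) (x - 1) = 0 by
      rw [map_sub, h, map_one, sub_self])
  rw [show x = 1 + 2 * y by rw [← hy]; ring]
  refine IsNilpotent.isUnit_one_add ⟨k, ?_⟩
  rw [mul_pow, two_pow_self, zero_mul]

theorem isUnit_det (hk : 1 ≤ k) {A : Mat} (h : (red hk A).det = 1) : IsUnit A.det :=
  isUnit_of_cast hk (by rw [RingHom.map_det]; exact h)

theorem rot_red (hk : 1 ≤ k) (i : ℕ) (A : Mat) : red hk (rot i A) = rot i (red hk A) := by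
  simp [rot, red_cmp]

theorem fin_det : ∀ A : Mat₂, A ^ 3 = 1 → A ≠ 1 → (A - 1).det = 1 ∧ A 1 0 = 1 := by decide

theorem fin_unipotent : ∀ A B : Mat₂, B ^ 3 = 1 → B ≠ 1 → A * A = 1 →
    A * (B * A * (B * B)) = (B * B) * A * B → A = 1 := by decide

theorem fin_idem : ∀ A : Mat₂, rot 0 A + rot 1 A - rot 2 A = 0 → A * A + A = 0 → A = 0 := by decide

theorem fin_kernel : ∀ A B : Mat₂, rot 0 A + rot 1 A - rot 2 A = 0 → A ≠ 0 →
    rot 0 B + rot 1 B - rot 2 B = 0 → B ≠ 0 → ∃ i : Fin 3, rot (i : ℕ) A = B := by decide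

theorem red_order_three (hk : 1 ≤ k) {M : Mat} (hM : M ^ 3 = 1) (hM1 : M ≠ 1) : red hk M ≠ 1 := by
  intro h
  have hu : IsUnit (M ^ 2 + M + 1).det := isUnit_det hk (by simp [h]; decide)
  refine hM1 (sub_eq_zero.1 (((Matrix.isUnit_iff_isUnit_det _).2 hu).mul_left_eq_zero.1 ?_))
  have : (M - 1) * (M ^ 2 + M + 1) = M ^ 3 - 1 := by noncomm_ring
  rw [this, hM, sub_self]

/-- An element of order three is similar to the companion matrix. -/
theorem exists_similar (hk : 1 ≤ k) {M : Mat} (hM : M ^ 3 = 1) (hM1 : M ≠ 1) :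
    ∃ P : GL (Fin 2) (ZMod (2 ^ k)), M * (P : Mat) = (P : Mat) * cmp := by
  have hne := red_order_three hk hM hM1
  have hr3 : red hk M ^ 3 = 1 := by rw [← map_pow, hM, map_one]
  obtain ⟨hdet, h10⟩ := fin_det _ hr3 hne
  have hu : IsUnit (M - 1).det := isUnit_det hk (by rw [map_sub, map_one]; exact hdet)
  have hq : M * M + M + 1 = 0 := by
    refine ((Matrix.isUnit_iff_isUnit_det _).2 hu).mul_right_eq_zero.1 ?_
    have : (M - 1) * (M * M + M + 1) = M ^ 3 - 1 := by noncomm_ring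
    rw [this, hM, sub_self]
  let P : Mat := !![1, M 0 0; 0, M 1 0]
  have hP : IsUnit P.det := by
    rw [Matrix.det_fin_two]
    simpa [P] using isUnit_of_cast hk h10
  refine ⟨Matrix.GeneralLinearGroup.mk'' P hP, ?_⟩
  show M * P = P * cmp
  have e0 := congrFun (congrFun hq 0) 0
  have e1 := congrFun (congrFun hq 1) 0
  simp only [Matrix.add_apply, Matrix.mul_apply, Fin.sum_univ_two, Matrix.one_apply_eq,
    Matrix.zero_apply, Matrix.one_apply_ne (show (1 : Fin 2) ≠ 0 by decide), add_zero] at e0 e1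
  ext i j
  fin_cases i <;> fin_cases j <;>
    simp [P, cmp, Matrix.mul_apply, Fin.sum_univ_two] <;>
    first
      | linear_combination e0
      | linear_combination e1

/-- An involution of an alternating subgroup containing `cmp`. -/
structure Good (hk : 1 ≤ k) (v : Mat) : Prop where
  ne_one : v ≠ 1
  sq : v * v = 1
  prod : v * rot 1 v = rot 2 v

theorem Good.form (hk : 2 ≤ k) {v : Mat} (h : Good (by omega) v) :
    ∃ A : Mat, v = 1 + (2 : ZMod (2 ^ k)) ^ (k - 1) • A ∧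
      rot 0 (red (by omega) A) + rot 1 (red (by omega) A) - rot 2 (red (by omega) A) = 0 ∧
      red (by omega) A ≠ 0 := by
  have hk1 : 1 ≤ k := by omega
  have hB : red hk1 cmp ^ 3 = 1 ∧ red hk1 cmp ≠ 1 := by rw [red_cmp]; decide
  have hred : red hk1 v = 1 := by
    refine fin_unipotent _ (red hk1 cmp) hB.1 hB.2 (by rw [← map_mul, h.sq, map_one]) ?_
    have h4 : ((cmp : Mat₂) ^ (2 * 2)) = cmp := by
      rw [show 2 * 2 = 3 + 1 by rfl, pow_succ, cmp_cube, one_mul]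
    have h1 := congrArg (red hk1) h.prod
    rw [map_mul, rot_red, rot_red] at h1
    rw [rot, rot, h4, pow_one, show 2 * 1 = 2 by rfl, pow_two] at h1
    rw [red_cmp]
    exact h1
  have hc : ∀ i, (cmp : Mat) ^ i * cmp ^ (2 * i) = 1 := fun i => by
    rw [← pow_add, show i + 2 * i = 3 * i by ring, pow_mul, cmp_cube, one_pow]
  have hrot : ∀ i (c : ZMod (2 ^ k)) (A : Mat), rot i (1 + c • A) = 1 + c • rot i A := fun i c A => by
    simp only [rot, mul_add, add_mul, mul_one, hc, mul_smul_comm, smul_mul_assoc]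
  obtain ⟨A₀, hA₀⟩ := (red_eq_zero_iff hk1).1
    (show red hk1 (v - 1) = 0 by rw [map_sub, hred, map_one, sub_self])
  have hv : v = 1 + (2 : ZMod (2 ^ k)) • A₀ := by rw [← hA₀]; abel
  -- the squared relation
  have hsq : ∀ (j : ℕ) (A : Mat), v = 1 + (2 : ZMod (2 ^ k)) ^ j • A →
      (2 : ZMod (2 ^ k)) ^ (j + 1) • A + (2 : ZMod (2 ^ k)) ^ (2 * j) • (A * A) = 0 := by
    intro j A e
    have h1 := h.sq
    simp only [e, add_mul, mul_add, one_mul, mul_one, smul_mul_smul_comm, ← pow_add, ← two_mul,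
      add_assoc] at h1
    have h2 := add_left_cancel (h1.trans (add_zero (1 : Mat)).symm)
    rw [← h2, pow_succ', ← smul_smul, two_smul, add_assoc]
  have hprod : ∀ (j : ℕ) (A : Mat), v = 1 + (2 : ZMod (2 ^ k)) ^ j • A →
      (2 : ZMod (2 ^ k)) ^ j • (rot 0 A + rot 1 A - rot 2 A + (2 : ZMod (2 ^ k)) ^ j • (A * rot 1 A)) = 0 := by
    intro j A e
    have h1 := h.prod
    rw [e, hrot, hrot, ← sub_eq_zero] at h1
    rw [← h1, show rot 0 A = A by simp [rot]]
    simp only [add_mul, mul_add, one_mul, mul_one, smul_mul_smul_comm, smul_add, smul_sub, smul_smul]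
    abel
  have hkernel : ∀ (j : ℕ) (A : Mat), 1 ≤ j → j < k → v = 1 + (2 : ZMod (2 ^ k)) ^ j • A →
      rot 0 (red hk1 A) + rot 1 (red hk1 A) - rot 2 (red hk1 A) = 0 := by
    intro j A hj hjk e
    have h1 := two_pow_smul_eq_zero hk1 hjk (hprod j A e)
    rw [map_add, red_smul, show (2 : ZMod 2) = 0 from rfl, zero_pow (by omega : j ≠ 0), zero_smul,
      add_zero, map_sub, map_add, rot_red, rot_red, rot_red] at h1
    exact h1
  have key : ∀ j, 1 ≤ j → j ≤ k - 1 → ∃ A : Mat, v = 1 + (2 : ZMod (2 ^ k)) ^ j • A := by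
    intro j hj
    induction j, hj using Nat.le_induction with
    | base => exact fun _ => ⟨A₀, by rw [pow_one]; exact hv⟩
    | succ j hj ih =>
      intro hjk
      obtain ⟨A, hA⟩ := ih (by omega)
      have h1 := hsq j A hA
      rw [show (2 : ZMod (2 ^ k)) ^ (2 * j) = 2 ^ (j + 1) * 2 ^ (j - 1) by
        rw [← pow_add]; congr 1; omega, ← smul_smul, ← smul_add] at h1
      have h2 := two_pow_smul_eq_zero hk1 (by omega) h1
      rw [map_add, red_smul, map_mul] at h2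
      have h3 : red hk1 A = 0 := by
        rcases Nat.eq_or_lt_of_le hj with hj1 | hj1
        · rw [← hj1, Nat.sub_self, pow_zero, one_smul, add_comm] at h2
          exact fin_idem _ (hkernel j A (by omega) (by omega) hA) h2
        · rwa [show (2 : ZMod 2) = 0 from rfl, zero_pow (by omega), zero_smul, add_zero] at h2
      obtain ⟨B, rfl⟩ := (red_eq_zero_iff hk1).1 h3
      exact ⟨B, by rw [hA, smul_smul, pow_succ]⟩
  obtain ⟨A, hA⟩ := key (k - 1) (by omega) le_rfl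
  refine ⟨A, hA, hkernel _ A (by omega) (by omega) hA, fun h0 => h.ne_one ?_⟩
  obtain ⟨B, rfl⟩ := (red_eq_zero_iff hk1).1 h0
  rw [hA, smul_smul, ← pow_succ, Nat.sub_add_cancel hk1, two_pow_top, add_zero]

theorem Good.eq_rot (hk : 2 ≤ k) {v w : Mat} (hv : Good (by omega) v) (hw : Good (by omega) w) :
    ∃ i : ℕ, w = rot i v := by
  have hk1 : 1 ≤ k := by omega
  obtain ⟨A, rfl, hA, hA0⟩ := hv.form hk
  obtain ⟨B, rfl, hB, hB0⟩ := hw.form hk
  obtain ⟨i, hi⟩ := fin_kernel _ _ hA hA0 hB hB0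
  obtain ⟨D, hD⟩ := (red_eq_zero_iff hk1).1
    (show red hk1 (B - rot (i : ℕ) A) = 0 by rw [map_sub, rot_red, hi, sub_self])
  have hc : (cmp : Mat) ^ (i : ℕ) * cmp ^ (2 * (i : ℕ)) = 1 := by
    rw [← pow_add, show (i : ℕ) + 2 * (i : ℕ) = 3 * (i : ℕ) by ring, pow_mul, cmp_cube, one_pow]
  refine ⟨i, ?_⟩
  rw [sub_eq_iff_eq_add.1 hD, smul_add, smul_smul, ← pow_succ, Nat.sub_add_cancel hk1, two_pow_top,
    zero_add]
  simp only [rot, mul_add, add_mul, mul_one, hc, mul_smul_comm, smul_mul_assoc]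

theorem alt_generators : ∃ c v : alternatingGroup (Fin 4), orderOf c = 3 ∧ v ≠ 1 ∧ v * v = 1 ∧
    v * (c * v * c ^ 2) = c ^ 2 * v * c ∧
    ∀ g, ∃ i j : Fin 3, g = c ^ (i : ℕ) ∨ g = c ^ (i : ℕ) * v * c ^ (j : ℕ) := by
  refine ⟨⟨Equiv.swap 0 1 * Equiv.swap 1 2, Equiv.Perm.mem_alternatingGroup.2 (by decide)⟩,
    ⟨Equiv.swap 0 1 * Equiv.swap 2 3, Equiv.Perm.mem_alternatingGroup.2 (by decide)⟩, ?_, by decide, by decide,
    by decide, by decide⟩
  exact orderOf_eq_prime (by decide) (by decide)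

/-- Conjugate generators in normal form. -/
theorem exists_normal_form (hk : 2 ≤ k) (H : Subgroup (GL (Fin 2) (ZMod (2 ^ k))))
    (h : Nonempty (↥H ≃* ↥(alternatingGroup (Fin 4)))) :
    ∃ g c v : GL (Fin 2) (ZMod (2 ^ k)), (c : Mat) = cmp ∧ Good (by omega) (v : Mat) ∧
      H.map (MulAut.conj g).toMonoidHom = Subgroup.closure {c, v} := by
  have hk1 : 1 ≤ k := by omega
  obtain ⟨e⟩ := h
  obtain ⟨c₀, v₀, hc, hv1, hv2, hrel, hall⟩ := alt_generators
  let C : GL (Fin 2) (ZMod (2 ^ k)) := (e.symm c₀ : H)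
  have hC : (C : Mat) ^ 3 = 1 := by
    rw [← Units.val_pow_eq_pow_val, ← SubgroupClass.coe_pow, ← map_pow, ← hc, pow_orderOf_eq_one,
      map_one, OneMemClass.coe_one, Units.val_one]
  have hC1 : (C : Mat) ≠ 1 := by
    intro h1
    have h2 : e.symm c₀ = 1 := Subtype.ext (Units.ext h1)
    rw [map_eq_one_iff _ e.symm.injective] at h2
    rw [h2, orderOf_one] at hc
    omega
  obtain ⟨P, hP⟩ := exists_similar hk1 hC hC1
  let f : alternatingGroup (Fin 4) →* GL (Fin 2) (ZMod (2 ^ k)) :=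
    (MulAut.conj P⁻¹).toMonoidHom.comp (H.subtype.comp e.symm.toMonoidHom)
  have hf : Function.Injective f :=
    (MulAut.conj P⁻¹).injective.comp (H.subtype_injective.comp e.symm.injective)
  have hfc : (f c₀ : Mat) = cmp := by
    show ((P⁻¹ * C * P⁻¹⁻¹ : GL (Fin 2) (ZMod (2 ^ k))) : Mat) = cmp
    rw [inv_inv, Units.val_mul, Units.val_mul, mul_assoc, hP, Units.inv_mul_cancel_left]
  refine ⟨P⁻¹, f c₀, f v₀, hfc, ⟨?_, ?_, ?_⟩, ?_⟩
  · intro h1
    exact hv1 (hf (by rw [map_one]; exact Units.ext h1))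
  · rw [← Units.val_mul, ← map_mul, hv2, map_one, Units.val_one]
  · have h1 := congrArg Units.val (congrArg f hrel)
    simp only [map_mul, map_pow, Units.val_mul, Units.val_pow_eq_pow_val, hfc] at h1
    rw [rot, rot, pow_one, show (cmp : Mat) ^ (2 * 2) = cmp by
      rw [show 2 * 2 = 3 + 1 by rfl, pow_succ, cmp_cube, one_mul]]
    exact h1
  · apply le_antisymm
    · rintro _ ⟨x, hx, rfl⟩
      have hx' : (MulAut.conj P⁻¹).toMonoidHom x = f (e ⟨x, hx⟩) := by
        show _ = (MulAut.conj P⁻¹).toMonoidHom ((e.symm (e ⟨x, hx⟩) : H) : GL (Fin 2) (ZMod (2 ^ k)))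
        rw [e.symm_apply_apply]
      have hcm := Subgroup.subset_closure (k := ({f c₀, f v₀} : Set _)) (Set.mem_insert _ _)
      have hvm := Subgroup.subset_closure (k := ({f c₀, f v₀} : Set _))
        (Set.mem_insert_of_mem _ rfl)
      rw [hx']
      obtain ⟨i, j, h1 | h1⟩ := hall (e ⟨x, hx⟩) <;> rw [h1]
      · rw [map_pow]; exact pow_mem hcm _
      · rw [map_mul, map_mul, map_pow, map_pow]
        exact mul_mem (mul_mem (pow_mem hcm _) hvm) (pow_mem hcm _)
    · rw [Subgroup.closure_le]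
      rintro _ (rfl | rfl) <;> exact Subgroup.mem_map_of_mem _ (SetLike.coe_mem _)

/-- Any two alternating subgroups of degree four of `GL₂(ℤ/2ᵏ)`, `k ≥ 2`, are conjugate. -/
theorem conjugate_of_alt_four (hk : 2 ≤ k) (H₁ H₂ : Subgroup (GL (Fin 2) (ZMod (2 ^ k))))
    (h₁ : Nonempty (↥H₁ ≃* ↥(alternatingGroup (Fin 4))))
    (h₂ : Nonempty (↥H₂ ≃* ↥(alternatingGroup (Fin 4)))) :
    ∃ g : GL (Fin 2) (ZMod (2 ^ k)), H₂ = H₁.map (MulAut.conj g).toMonoidHom := by
  obtain ⟨g₁, c, v, hc, hv, e₁⟩ := exists_normal_form hk H₁ h₁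
  obtain ⟨g₂, c', w, hc', hw, e₂⟩ := exists_normal_form hk H₂ h₂
  obtain rfl : c = c' := Units.ext (hc.trans hc'.symm)
  obtain ⟨i, hi⟩ := hv.eq_rot hk hw
  have hw' : w = c ^ i * v * c ^ (2 * i) := Units.ext (by
    simp only [Units.val_mul, Units.val_pow_eq_pow_val, hc]; exact hi)
  have hv' : v = c ^ (2 * i) * w * c ^ i := by
    have h3 : c ^ 3 = 1 := Units.ext (by
      rw [Units.val_pow_eq_pow_val, hc, cmp_cube, Units.val_one])
    rw [hw', ← mul_assoc, ← mul_assoc, ← pow_add, mul_assoc, ← pow_add,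
      show 2 * i + i = 3 * i by ring, pow_mul, h3, one_pow, one_mul, mul_one]
  refine ⟨g₂⁻¹ * g₁, ?_⟩
  have h12 : Subgroup.closure {c, w} = Subgroup.closure {c, v} := by
    apply le_antisymm <;> rw [Subgroup.closure_le] <;> rintro _ (rfl | rfl)
    all_goals try exact Subgroup.subset_closure (Set.mem_insert _ _)
    · rw [hw']
      exact mul_mem (mul_mem (pow_mem (Subgroup.subset_closure (Set.mem_insert _ _)) _)
        (Subgroup.subset_closure (Set.mem_insert_of_mem _ rfl)))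
        (pow_mem (Subgroup.subset_closure (Set.mem_insert _ _)) _)
    · rw [hv']
      exact mul_mem (mul_mem (pow_mem (Subgroup.subset_closure (Set.mem_insert _ _)) _)
        (Subgroup.subset_closure (Set.mem_insert_of_mem _ rfl)))
        (pow_mem (Subgroup.subset_closure (Set.mem_insert _ _)) _)
  rw [h12, ← e₁] at e₂
  apply Subgroup.map_injective (f := (MulAut.conj g₂).toMonoidHom) (MulAut.conj g₂).injective
  rw [e₂, Subgroup.map_map]
  congr 1
  ext x
  simp [mul_assoc]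

end CfsgLib.Amalgam.AltFourGL
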