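import Mathlib.GroupTheory.GroupAction.Jordan
import Mathlib.GroupTheory.SpecificGroups.Alternating
import Mathlib.GroupTheory.SpecificGroups.Alternating.Simple
import Mathlib.GroupTheory.Perm.ViaEmbedding
import Mathlib.GroupTheory.Sylow
import Cfsg.Prelude.Def_CaseTheorems
import Cfsg.Prelude.Def_Local
import Cfsg.Agent.Lib.Comp.FStar
import Cfsg.Agent.S4203

/-!
Subgroups of symmetric groups with quasisimple generalized Fitting subgroup and many 3-cycles.
-/

set_option autoImplicit false
set_option linter.unusedSectionVars false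

namespace CfsgLib.Amalgam

open Subgroup
open scoped commutatorElement Pointwise

/-- The data carried by a quasisimple generalized Fitting subgroup `Q` of `H`, inside an ambient group. -/
structure QsFitting {G : Type*} [Group G] (H Q : Subgroup G) : Prop where
  le : Q ≤ H
  norm : H ≤ normalizer (Q : Set G)
  perfect : ⁅Q, Q⁆ = Q
  ne_bot : Q ≠ ⊥
  quasi : ∀ N : Subgroup G, N ≤ Q → Q ≤ normalizer (N : Set G) →
    N = Q ∨ ∀ x ∈ N, ∀ q ∈ Q, x * q = q * x
  self_cent : ∀ h ∈ H, (∀ q ∈ Q, h * q = q * h) → h ∈ Q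

theorem qsFitting_of_isQuasisimple {G : Type*} [Group G] [Finite G] (H : Subgroup G)
    (hF : Cfsg.IsQuasisimple ↥(Cfsg.generalizedFittingSubgroup ↥H)) :
    QsFitting H ((Cfsg.generalizedFittingSubgroup ↥H).map H.subtype) := by
  set F := Cfsg.generalizedFittingSubgroup ↥H with hFdef
  haveI hFn : F.Normal := CfsgLib.Comp.generalizedFittingSubgroup_normal ↥H
  haveI := hF.2
  have hperf : ⁅F, F⁆ = F := by
    have h1 : _root_.commutator ↥F = ⊤ := hF.1.commutator_eq_top
    have h2 := congrArg (Subgroup.map F.subtype) h1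
    rwa [_root_.commutator_def, map_commutator, ← MonoidHom.range_eq_map, range_subtype] at h2
  refine ⟨map_subtype_le F, ?_, by rw [← map_commutator, hperf], ?_, ?_, ?_⟩
  · intro h hh
    rw [mem_normalizer_iff]
    have key : ∀ h ∈ H, ∀ x ∈ F.map H.subtype, h * x * h⁻¹ ∈ F.map H.subtype := by
      rintro h hh _ ⟨x, hx, rfl⟩
      exact ⟨⟨h, hh⟩ * x * ⟨h, hh⟩⁻¹, hFn.conj_mem x hx _, rfl⟩
    refine fun x => ⟨key h hh x, fun hx => ?_⟩
    simpa [mul_assoc] using key h⁻¹ (inv_mem hh) _ hx
  · rw [Ne, map_eq_bot_iff_of_injective _ H.subtype_injective]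
    intro hb
    haveI : Subsingleton ↥F := by rw [hb]; infer_instance
    exact not_subsingleton (↥F ⧸ center ↥F) inferInstance
  · intro N hN hn
    let f : ↥F →* G := H.subtype.comp F.subtype
    have hinj : Function.Injective f := H.subtype_injective.comp F.subtype_injective
    have hrange : f.range = F.map H.subtype := by rw [MonoidHom.range_comp, range_subtype]
    haveI hNn : (N.comap f).Normal := ⟨fun n hn' x => by
      show f (x * n * x⁻¹) ∈ N
      rw [map_mul, map_mul, map_inv]
      exact (mem_normalizer_iff.1 (hn (hrange ▸ ⟨x, rfl⟩)) _).1 hn'⟩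
    rcases (hNn.map (QuotientGroup.mk' (center ↥F)) (QuotientGroup.mk'_surjective _)).eq_bot_or_eq_top
      with hb | ht
    · right
      intro x hx q hq
      obtain ⟨a, rfl⟩ : x ∈ f.range := hrange ▸ hN hx
      obtain ⟨b, rfl⟩ : q ∈ f.range := hrange ▸ hq
      rw [Subgroup.map_eq_bot_iff, QuotientGroup.ker_mk'] at hb
      rw [← map_mul, ← map_mul, (mem_center_iff.1 (hb hx) b).symm]
    · left
      have h1 : N.comap f ⊔ center ↥F = ⊤ := by
        have := congrArg (Subgroup.comap (QuotientGroup.mk' (center ↥F))) ht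
        rwa [comap_map_eq, QuotientGroup.ker_mk', comap_top] at this
      have h2 : _root_.commutator ↥F ≤ N.comap f := by
        rw [_root_.commutator_def, commutator_le]
        intro a _ b _
        obtain ⟨n, hn1, z, hz, rfl⟩ := mem_sup_of_normal_left.1 (h1 ▸ mem_top a : a ∈ N.comap f ⊔ center ↥F)
        have e : ⁅n * z, b⁆ = ⁅n, b⁆ := by
          rw [commutatorElement_mul_left_eq_conj_mul,
            commutatorElement_eq_one_iff_mul_comm.2 (mem_center_iff.1 hz b).symm]
          simp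
        rw [e, commutatorElement_def, mul_assoc, mul_assoc]
        exact mul_mem hn1 (by rw [← mul_assoc]; exact hNn.conj_mem _ (inv_mem hn1) b)
      rw [hF.1.commutator_eq_top] at h2
      exact le_antisymm hN (hrange ▸ fun x ⟨a, ha⟩ => ha ▸ h2 (mem_top a))
  · intro h hh hc
    refine ⟨⟨h, hh⟩, CfsgLib.Comp.centralizer_generalizedFitting_le ↥H (mem_centralizer_iff.2 ?_), rfl⟩
    intro q hq
    exact Subtype.ext (hc q ⟨q, hq, rfl⟩).symm

namespace QsFitting

variable {G : Type*} [Group G] {H Q : Subgroup G}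

theorem not_abelian (hQ : QsFitting H Q) : ∃ a ∈ Q, ∃ b ∈ Q, a * b ≠ b * a := by
  by_contra hc
  push Not at hc
  refine hQ.ne_bot (eq_bot_iff.2 ?_)
  conv_lhs => rw [← hQ.perfect]
  rw [commutator_le]
  intro a ha b hb
  exact mem_bot.2 (commutatorElement_eq_one_iff_mul_comm.2 (hc a ha b hb))

theorem hom_trivial (hQ : QsFitting H Q) {P : Type*} [Group P] [Group.IsSolvable P]
    (φ : ↥Q →* P) (q : ↥Q) : φ q = 1 := by
  have hperf : _root_.commutator ↥Q = ⊤ := by
    refine map_injective Q.subtype_injective ?_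
    rw [_root_.commutator_def, map_commutator, ← MonoidHom.range_eq_map, range_subtype, hQ.perfect]
  have key : ∀ n, (⊤ : Subgroup ↥Q).map φ ≤ derivedSeries P n := by
    intro n
    induction n with
    | zero => rw [derivedSeries_zero]; exact le_top
    | succ n ih =>
      rw [derivedSeries_succ]
      calc (⊤ : Subgroup ↥Q).map φ = (_root_.commutator ↥Q).map φ := by rw [hperf]
        _ = ⁅(⊤ : Subgroup ↥Q).map φ, (⊤ : Subgroup ↥Q).map φ⁆ := by rw [_root_.commutator_def, map_commutator]
        _ ≤ _ := commutator_mono ih ih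
  obtain ⟨n, hn⟩ := (isSolvable_def P).1 inferInstance
  exact mem_bot.1 (hn ▸ key n ⟨q, mem_top q, rfl⟩)

theorem le_or_commute (hQ : QsFitting H Q) {N : Subgroup G} (hN : N ≤ H)
    (hn : H ≤ normalizer (N : Set G)) : Q ≤ N ∨ ∀ x ∈ N, ∀ q ∈ Q, x * q = q * x := by
  rcases hQ.quasi (N ⊓ Q) inf_le_right (fun q hq =>
    inf_normalizer_le_normalizer_inf ⟨hn (hQ.le hq), le_normalizer hq⟩) with h | h
  · exact Or.inl (h.ge.trans inf_le_left)
  · right
    have h1 : ⁅⁅Q, N⁆, Q⁆ = ⊥ := by
      rw [commutator_eq_bot_iff_le_centralizer]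
      intro x hx
      have hxm : x ∈ N ⊓ Q := by
        refine (commutator_le.2 fun q hq m hm => mem_inf.2 ⟨?_, ?_⟩) hx
        · rw [commutatorElement_def]
          exact mul_mem ((mem_normalizer_iff.1 (hn (hQ.le hq)) _).1 hm) (inv_mem hm)
        · rw [commutatorElement_def, mul_assoc, mul_assoc]
          refine mul_mem hq ?_
          rw [← mul_assoc]
          exact (mem_normalizer_iff.1 (hQ.norm (hN hm)) _).1 (inv_mem hq)
      exact mem_centralizer_iff.2 fun q hq => (h x hxm q hq).symm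
    have h2 : ⁅⁅N, Q⁆, Q⁆ = ⊥ := by rw [commutator_comm N Q]; exact h1
    have h3 := commutator_commutator_eq_bot_of_rotate h1 h2
    rw [hQ.perfect, commutator_comm, commutator_eq_bot_iff_le_centralizer] at h3
    exact fun x hx q hq => (mem_centralizer_iff.1 (h3 hx) q hq).symm

end QsFitting

section Perm

open Equiv Equiv.Perm

variable {α : Type*} [Fintype α] [DecidableEq α]

/-- The alternating group on the points of `Δ`, inside the symmetric group on `α`. -/
def altOn (Δ : Finset α) : Subgroup (Perm α) :=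
  (alternatingGroup {x // x ∈ Δ}).map (ofSubtype : Perm {x // x ∈ Δ} →* Perm α)

theorem altOn_apply_of_notMem {Δ : Finset α} {g : Perm α} (hg : g ∈ altOn Δ) {x : α} (hx : x ∉ Δ) :
    g x = x := by
  obtain ⟨σ, -, rfl⟩ := hg
  exact ofSubtype_apply_of_not_mem σ hx

noncomputable def altOnEquiv (Δ : Finset α) : ↥(altOn Δ) ≃* ↥(alternatingGroup (Fin Δ.card)) :=
  ((alternatingGroup {x // x ∈ Δ}).equivMapOfInjective _ ofSubtype_injective).symm.trans
    (Equiv.altCongrHom Δ.equivFin)

variable {H Q : Subgroup (Perm α)}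

theorem perm_conj_isThreeCycle {c : Perm α} (hc : c.IsThreeCycle) (g : Perm α) :
    (g * c * g⁻¹).IsThreeCycle := by
  unfold Equiv.Perm.IsThreeCycle at hc ⊢
  rw [cycleType_conj, hc]

theorem isSolvable_perm_of_card_le_four {β : Type*} [Fintype β] [DecidableEq β]
    (h : Fintype.card β ≤ 4) : Group.IsSolvable (Perm β) := by
  haveI := Cfsg.Agent.S4203.isSolvable_perm_four
  let e : β ↪ Fin 4 := (Fintype.equivFin β).toEmbedding.trans (Fin.castLEEmb h)
  exact solvable_of_solvable_injective (f := Equiv.Perm.viaEmbeddingHom e)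
    (Equiv.Perm.viaEmbeddingHom_injective _)

/-- Either `Q` is an alternating group on a subset, or `Q` centralizes all 3-cycles of `H`. -/
theorem QsFitting.eq_altOn_or_commute (hQ : QsFitting H Q) :
    (∀ c ∈ H, c.IsThreeCycle → ∀ q ∈ Q, c * q = q * c) ∨
      ∃ Δ : Finset α, 5 ≤ Δ.card ∧ Q = altOn Δ := by
  classical
  set C : Set (Perm α) := {c | c ∈ H ∧ c.IsThreeCycle} with hCdef
  set K := closure C with hKdef
  have hKH : K ≤ H := (closure_le _).2 fun c hc => hc.1
  have hKn : H ≤ normalizer (K : Set (Perm α)) := by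
    intro h hh
    have key : ∀ h ∈ H, ∀ x ∈ K, h * x * h⁻¹ ∈ K := by
      intro h hh
      have : K ≤ K.comap (MulAut.conj h).toMonoidHom := (closure_le _).2 fun c hc =>
        subset_closure ⟨mul_mem (mul_mem hh hc.1) (inv_mem hh), perm_conj_isThreeCycle hc.2 h⟩
      exact fun x hx => this hx
    rw [mem_normalizer_iff]
    refine fun x => ⟨key h hh x, fun hx => ?_⟩
    simpa [mul_assoc] using key h⁻¹ (inv_mem hh) _ hx
  rcases hQ.le_or_commute hKH hKn with hQK | hcomm
  swap
  · exact Or.inl fun c hc h3 q hq => hcomm c (subset_closure ⟨hc, h3⟩) q hq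
  right
  -- an orbit of length at least five
  obtain ⟨x₀, hx₀⟩ : ∃ x₀ : α, 5 ≤ (Finset.univ.filter fun y => ∃ k ∈ K, k x₀ = y).card := by
    by_contra hc
    push Not at hc
    refine hQ.ne_bot (eq_bot_iff.2 fun q hq => mem_bot.2 (Equiv.ext fun x₀ => ?_))
    set O := Finset.univ.filter fun y => ∃ k ∈ K, k x₀ = y with hO
    have hmemO : ∀ {y}, y ∈ O ↔ ∃ k ∈ K, k x₀ = y := by intro y; simp [hO]
    have hinv : ∀ k ∈ K, ∀ y, k y ∈ O ↔ y ∈ O := by
      intro k hk y
      rw [hmemO, hmemO]
      constructor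
      · rintro ⟨l, hl, he⟩
        exact ⟨k⁻¹ * l, mul_mem (inv_mem hk) hl, by simp [Perm.mul_apply, he]⟩
      · rintro ⟨l, hl, he⟩
        exact ⟨k * l, mul_mem hk hl, by simp [Perm.mul_apply, he]⟩
    haveI := isSolvable_perm_of_card_le_four (β := {y // y ∈ O})
      (by rw [Fintype.card_coe]; exact Nat.lt_succ_iff.1 (hc x₀))
    let φ : ↥Q →* Perm {y // y ∈ O} := MonoidHom.mk'
      (fun q => (q : Perm α).subtypePerm (fun y => hinv q (hQK q.2) y))
      (fun a b => Equiv.ext fun y => Subtype.ext rfl)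
    have h1 := hQ.hom_trivial φ ⟨q, hq⟩
    have hx : x₀ ∈ O := hmemO.2 ⟨1, one_mem _, rfl⟩
    exact congrArg Subtype.val (Equiv.congr_fun h1 ⟨x₀, hx⟩)
  set Δ := Finset.univ.filter fun y => ∃ k ∈ K, k x₀ = y with hΔ
  have hmemΔ : ∀ {y}, y ∈ Δ ↔ ∃ k ∈ K, k x₀ = y := by intro y; simp [hΔ]
  have hinv : ∀ k ∈ K, ∀ y, k y ∈ Δ ↔ y ∈ Δ := by
    intro k hk y
    rw [hmemΔ, hmemΔ]
    constructor
    · rintro ⟨l, hl, he⟩
      exact ⟨k⁻¹ * l, mul_mem (inv_mem hk) hl, by simp [Perm.mul_apply, he]⟩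
    · rintro ⟨l, hl, he⟩
      exact ⟨k * l, mul_mem hk hl, by simp [Perm.mul_apply, he]⟩
  let f : Perm {y // y ∈ Δ} →* Perm α := ofSubtype
  let ρ : ↥K →* Perm {y // y ∈ Δ} := MonoidHom.mk'
    (fun k => (k : Perm α).subtypePerm (fun y => hinv k k.2 y))
    (fun a b => Equiv.ext fun y => Subtype.ext rfl)
  set L := closure {σ : Perm {y // y ∈ Δ} | σ.IsThreeCycle ∧ f σ ∈ H} with hL
  have hρ : ∀ k : ↥K, ρ k ∈ L := by
    rintro ⟨k, hk⟩
    induction hk using closure_induction with
    | mem c hc =>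
      have hcK : c ∈ K := subset_closure hc
      by_cases hd : ∀ y ∈ Δ, c y = y
      · have : ρ ⟨c, hcK⟩ = 1 := Equiv.ext fun y => Subtype.ext (hd y y.2)
        rw [this]; exact one_mem _
      · push Not at hd
        obtain ⟨y, hy, hcy⟩ := hd
        have hsupp : ∀ z, c z ≠ z → z ∈ Δ := by
          intro z hz
          obtain ⟨i, hi⟩ := (hc.2.isCycle.sameCycle hcy hz)
          rw [← hi]
          exact (hinv (c ^ i) (zpow_mem hcK i) y).2 hy
        have hf : f (ρ ⟨c, hcK⟩) = c := ofSubtype_subtypePerm (fun y => hinv c hcK y) hsupp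
        refine subset_closure ⟨?_, by rw [hf]; exact hc.1⟩
        have h3 := hc.2
        rw [← hf] at h3
        unfold Equiv.Perm.IsThreeCycle at h3 ⊢
        rwa [cycleType_ofSubtype] at h3
    | one => exact (map_one ρ).symm ▸ one_mem _
    | mul a b ha hb iha ihb =>
      have := mul_mem iha ihb
      rw [← map_mul] at this
      exact this
    | inv a ha iha =>
      have := inv_mem iha
      rw [← map_inv] at this
      exact this
  haveI htrans : MulAction.IsPretransitive ↥L {y // y ∈ Δ} := by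
    refine ⟨fun a b => ?_⟩
    obtain ⟨k, hk, hka⟩ := hmemΔ.1 a.2
    obtain ⟨l, hl, hlb⟩ := hmemΔ.1 b.2
    refine ⟨⟨ρ ⟨l * k⁻¹, mul_mem hl (inv_mem hk)⟩, hρ _⟩, Subtype.ext ?_⟩
    show (l * k⁻¹) (a : α) = b
    rw [Perm.mul_apply, ← hka]
    simpa using hlb
  have hcardΔ : 5 ≤ Fintype.card {y // y ∈ Δ} := by rw [Fintype.card_coe]; exact hx₀
  haveI hprim : MulAction.IsPreprimitive ↥L {y // y ∈ Δ} := by
    refine { isTrivialBlock_of_isBlock := fun {B} hB => ?_ }
    by_contra hB'
    simp only [MulAction.IsTrivialBlock, not_or] at hB'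
    obtain ⟨hns, hnu⟩ := hB'
    have hfix : ∀ σ : ↥L, σ • B = B := by
      have hgen : ∀ σ : Perm {y // y ∈ Δ}, σ ∈ L → σ '' B = B := by
        intro σ hσ
        induction hσ using closure_induction with
        | mem c hc =>
          by_contra hne
          have hd : Disjoint (c '' B) B := by
            have := hB.smul_eq_or_disjoint (⟨c, subset_closure hc⟩ : ↥L)
            exact this.resolve_left hne
          have hsub : B ⊆ ↑c.support := by
            intro b hb
            rw [Finset.mem_coe, mem_support]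
            intro h
            exact Set.disjoint_left.1 hd ⟨b, hb, h⟩ hb
          have hsub' : c '' B ⊆ ↑c.support := by
            rintro _ ⟨b, hb, rfl⟩
            rw [Finset.mem_coe, apply_mem_support]
            exact hsub hb
          have hcard : (c '' B ∪ B).ncard ≤ 3 := by
            refine le_trans (Set.ncard_le_ncard (Set.union_subset hsub' hsub) (Finset.finite_toSet _)) ?_
            rw [Set.ncard_coe_finset, hc.1.card_support]
          rw [Set.ncard_union_eq hd, Set.ncard_image_of_injective _ c.injective] at hcard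
          have h2 : 2 ≤ B.ncard := by
            by_contra h
            exact hns ((Set.ncard_le_one_iff_subsingleton).1 (by omega))
          omega
        | one => simp
        | mul a b _ _ iha ihb => rw [Perm.coe_mul, Set.image_comp, ihb, iha]
        | inv a _ iha =>
          conv_lhs => rw [← iha]
          simp [← Set.image_comp]
      exact fun σ => hgen σ σ.2
    obtain ⟨b, hb⟩ : B.Nonempty := by
      by_contra h
      rw [Set.not_nonempty_iff_eq_empty] at h
      exact hns (h ▸ Set.subsingleton_empty)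
    refine hnu (Set.eq_univ_of_forall fun z => ?_)
    obtain ⟨σ, hσ⟩ := MulAction.exists_smul_eq (↥L) b z
    rw [← hfix σ, ← hσ]
    exact Set.smul_mem_smul_set hb
  have halt : alternatingGroup {y // y ∈ Δ} ≤ L := by
    by_cases hex : ∃ σ, σ ∈ L ∧ σ.IsThreeCycle
    · obtain ⟨σ, hσ, h3⟩ := hex
      exact alternatingGroup_le_of_isPreprimitive_of_isThreeCycle_mem hprim h3 hσ
    · exfalso
      push Not at hex
      have hbot : L = ⊥ := by
        rw [hL, closure_eq_bot_iff]
        intro σ hσ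
        exact absurd hσ.1 (hex σ (subset_closure hσ))
      obtain ⟨a, b, hab⟩ := Fintype.exists_pair_of_one_lt_card (show 1 < Fintype.card {y // y ∈ Δ} by omega)
      obtain ⟨⟨σ, hσ⟩, h⟩ := MulAction.exists_smul_eq (↥L) a b
      rw [hbot, mem_bot] at hσ
      subst hσ
      exact hab h
  have hLH : L.map f ≤ H := by
    rw [map_le_iff_le_comap]
    exact (closure_le _).2 fun σ hσ => hσ.2
  have hAH : altOn Δ ≤ H := (map_mono halt).trans hLH
  have hAK : altOn Δ ≤ K := by
    rw [altOn, map_le_iff_le_comap, ← closure_three_cycles_eq_alternating, closure_le]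
    intro σ hσ
    refine subset_closure ⟨hAH (mem_map_of_mem _ (IsThreeCycle.mem_alternatingGroup hσ)), ?_⟩
    show ((ofSubtype : Perm {y // y ∈ Δ} →* Perm α) σ).IsThreeCycle
    unfold Equiv.Perm.IsThreeCycle at hσ ⊢
    rwa [cycleType_ofSubtype]
  have hKA : ∀ k ∈ K, ∀ a ∈ altOn Δ, k * a * k⁻¹ ∈ altOn Δ := by
    rintro k hk _ ⟨σ, hσ, rfl⟩
    refine ⟨ρ ⟨k, hk⟩ * σ * (ρ ⟨k, hk⟩)⁻¹, ?_, ?_⟩
    · rw [SetLike.mem_coe, mem_alternatingGroup] at hσ ⊢
      rw [map_mul, map_mul, map_inv, hσ, mul_one, mul_inv_cancel]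
    · apply Equiv.ext
      intro z
      obtain ⟨w, rfl⟩ := k.surjective z
      rw [Perm.mul_apply (k * _), Perm.mul_apply k, Perm.inv_def k, Equiv.symm_apply_apply]
      by_cases hw : w ∈ Δ
      · have hkw : k w ∈ Δ := (hinv k hk w).2 hw
        rw [ofSubtype_apply_of_mem _ hkw, ofSubtype_apply_of_mem _ hw, Perm.mul_apply, Perm.mul_apply]
        have : (ρ ⟨k, hk⟩)⁻¹ ⟨k w, hkw⟩ = ⟨w, hw⟩ := by
          rw [Perm.inv_eq_iff_eq]
          exact Subtype.ext rfl
        rw [this]
        rfl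
      · have hkw : k w ∉ Δ := fun h => hw ((hinv k hk w).1 h)
        rw [ofSubtype_apply_of_not_mem _ hkw, ofSubtype_apply_of_not_mem _ hw]
  have hQA : Q ≤ normalizer (altOn Δ : Set (Perm α)) := by
    intro q hq
    rw [mem_normalizer_iff]
    refine fun x => ⟨hKA q (hQK hq) x, fun hx => ?_⟩
    simpa [mul_assoc] using hKA q⁻¹ (inv_mem (hQK hq)) _ hx
  haveI hsimple : IsSimpleGroup ↥(alternatingGroup {y // y ∈ Δ}) :=
    alternatingGroup.isSimpleGroup (by rw [Nat.card_eq_fintype_card]; exact hcardΔ)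
  haveI : Nontrivial ↥(altOn Δ) :=
    ((alternatingGroup {y // y ∈ Δ}).equivMapOfInjective f ofSubtype_injective).toEquiv.symm.nontrivial
  haveI hsimpleA : IsSimpleGroup ↥(altOn Δ) :=
    IsSimpleGroup.isSimpleGroup_of_surjective
      ((alternatingGroup {y // y ∈ Δ}).equivMapOfInjective f ofSubtype_injective).toMonoidHom
      ((alternatingGroup {y // y ∈ Δ}).equivMapOfInjective f ofSubtype_injective).surjective
  refine ⟨Δ, hx₀, ?_⟩
  set N := altOn Δ ⊓ Q with hN
  have hNn : (N.subgroupOf (altOn Δ)).Normal := by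
    refine normal_subgroupOf_of_le_normalizer fun a ha => ?_
    exact inf_normalizer_le_normalizer_inf ⟨le_normalizer ha, hQ.norm (hAH ha)⟩
  rcases hNn.eq_bot_or_eq_top with hb | ht
  · exfalso
    rw [subgroupOf_eq_bot, disjoint_iff, hN, inf_assoc, inf_comm Q, ← inf_assoc, inf_idem] at hb
    have hcommA : ∀ a ∈ altOn Δ, ∀ q ∈ Q, a * q = q * a := by
      intro a ha q hq
      rw [← commutatorElement_eq_one_iff_mul_comm, ← mem_bot, ← hb, mem_inf, commutatorElement_def]
      refine ⟨?_, mul_mem ((mem_normalizer_iff.1 (hQ.norm (hAH ha)) _).1 hq) (inv_mem hq)⟩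
      rw [mul_assoc, mul_assoc]
      refine mul_mem ha ?_
      rw [← mul_assoc]
      exact hKA q (hQK hq) _ (inv_mem ha)
    have hle : altOn Δ ≤ Q := fun a ha => hQ.self_cent a (hAH ha) (hcommA a ha)
    rw [inf_eq_left.2 hle] at hb
    haveI : Subsingleton ↥(altOn Δ) := by rw [hb]; infer_instance
    exact not_subsingleton (↥(altOn Δ)) inferInstance
  · rw [subgroupOf_eq_top] at ht
    rcases hQ.quasi (altOn Δ) (ht.trans inf_le_right) hQA with h | h
    · exact h.symm
    · exfalso
      haveI : Subsingleton ↥(altOn Δ) := by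
        refine subsingleton_of_forall_eq 1 ?_
        rintro ⟨_, σ, hσ, rfl⟩
        have hc : (⟨σ, hσ⟩ : alternatingGroup {y // y ∈ Δ}) ∈ center _ := by
          rw [mem_center_iff]
          rintro ⟨τ, hτ⟩
          apply Subtype.ext
          apply ofSubtype_injective
          show f (τ * σ) = f (σ * τ)
          rw [map_mul, map_mul]
          exact (h _ (mem_map_of_mem f hσ) _ (ht.trans inf_le_right (mem_map_of_mem f hτ))).symm
        rw [alternatingGroup.center_eq_bot (by rw [Nat.card_eq_fintype_card]; omega), mem_bot] at hc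
        exact Subtype.ext ((congrArg f (congrArg Subtype.val hc)).trans (map_one f))
      exact not_subsingleton (↥(altOn Δ)) inferInstance

/-- With `Q` alternating on `Δ`, every element of `H` stabilizes `Δ` and acts faithfully on it. -/
theorem QsFitting.mem_iff_mem (hQ : QsFitting H Q) {Δ : Finset α} (h5 : 5 ≤ Δ.card)
    (hΔ : Q = altOn Δ) {h : Perm α} (hh : h ∈ H) (x : α) : h x ∈ Δ ↔ x ∈ Δ := by
  have key : ∀ h ∈ H, ∀ x ∈ Δ, h x ∈ Δ := by
    intro h hh x hx
    obtain ⟨q, hq, hqx⟩ : ∃ q ∈ Q, q x ≠ x := by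
      obtain ⟨y, hy, z, hz, hyx, hzx, hyz⟩ : ∃ y ∈ Δ, ∃ z ∈ Δ, y ≠ x ∧ z ≠ x ∧ y ≠ z := by
        have h2 : 1 < (Δ.erase x).card := by rw [Finset.card_erase_of_mem hx]; omega
        obtain ⟨y, hy, z, hz, hne⟩ := Finset.one_lt_card.1 h2
        exact ⟨y, (Finset.mem_erase.1 hy).2, z, (Finset.mem_erase.1 hz).2,
          (Finset.mem_erase.1 hy).1, (Finset.mem_erase.1 hz).1, hne⟩
      refine ⟨ofSubtype (swap ⟨x, hx⟩ ⟨y, hy⟩ * swap (⟨x, hx⟩ : {w // w ∈ Δ}) ⟨z, hz⟩), ?_, ?_⟩
      · rw [hΔ]
        refine ⟨_, ?_, rfl⟩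
        rw [SetLike.mem_coe, mem_alternatingGroup, map_mul, sign_swap, sign_swap]
        · decide
        · simpa using hzx.symm
        · simpa using hyx.symm
      · rw [ofSubtype_apply_of_mem _ hx, Perm.mul_apply, swap_apply_left,
          swap_apply_of_ne_of_ne (by simpa using hzx) (by simpa using hyz.symm)]
        exact hzx
    by_contra hc
    have h1 : h * q * h⁻¹ ∈ Q := (mem_normalizer_iff.1 (hQ.norm hh) q).1 hq
    rw [hΔ] at h1
    have h2 := altOn_apply_of_notMem h1 hc
    apply hqx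
    simpa [Perm.mul_apply] using h2
  refine ⟨fun hx => ?_, key h hh x⟩
  simpa using key h⁻¹ (inv_mem hh) _ hx

theorem QsFitting.eq_one_of_fix (hQ : QsFitting H Q) {Δ : Finset α}
    (hΔ : Q = altOn Δ) {h : Perm α} (hh : h ∈ H) (hfix : ∀ x ∈ Δ, h x = x) : h = 1 := by
  have hc : ∀ q ∈ Q, h * q = q * h := by
    intro q hq
    rw [hΔ] at hq
    obtain ⟨σ, -, rfl⟩ := hq
    apply Equiv.ext
    intro x
    rw [Perm.mul_apply, Perm.mul_apply]
    by_cases hx : x ∈ Δ
    · rw [hfix x hx, ofSubtype_apply_of_mem _ hx]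
      exact hfix _ (Subtype.coe_prop _)
    · rw [ofSubtype_apply_of_not_mem σ hx]
      by_cases hhx : h x ∈ Δ
      · exfalso
        have := hfix _ hhx
        exact hx (by rw [h.injective this] at hhx; exact hhx)
      · rw [ofSubtype_apply_of_not_mem σ hhx]
  have hmem := hQ.self_cent h hh hc
  rw [hΔ] at hmem
  apply Equiv.ext
  intro x
  by_cases hx : x ∈ Δ
  · exact hfix x hx
  · exact altOn_apply_of_notMem hmem hx

end Perm

end CfsgLib.Amalgam
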