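import Cfsg.Prelude.Def_Solvable
import Mathlib.GroupTheory.Sylow

set_option autoImplicit false

namespace CfsgLib.Amalgam

open Cfsg

variable {G : Type*} [Group G] {p : ℕ}

theorem le_pCore {N : Subgroup G} (hn : N.Normal) (hp : IsPGroup p N) : N ≤ pCore p G :=
  le_sSup ⟨hn, hp⟩

theorem normal_pCore : (pCore p G).Normal :=
  Subgroup.sSup_normal _ (fun _ h => h.1)

theorem pCore_le_sylow (P : Sylow p G) : pCore p G ≤ (P : Subgroup G) := by
  refine sSup_le fun N hN => ?_
  obtain ⟨hn, hp⟩ := hN
  have : IsPGroup p ↥(N ⊔ (P : Subgroup G)) := by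
    have := hn
    exact hp.to_sup_of_normal_left P.isPGroup'
  have := P.is_maximal' this le_sup_right
  exact this ▸ le_sup_left

theorem isPGroup_pCore : IsPGroup p (pCore p G) := by
  obtain ⟨P⟩ := (Sylow.nonempty : Nonempty (Sylow p G))
  exact P.isPGroup'.to_le (pCore_le_sylow P)

theorem map_pCore_eq {H : Type*} [Group H] (e : G ≃* H) :
    (pCore p G).map e.toMonoidHom = pCore p H := by
  apply le_antisymm
  · exact le_pCore (normal_pCore.map _ e.surjective) (isPGroup_pCore.map _)
  · have h : (pCore p H).map e.symm.toMonoidHom ≤ pCore p G :=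
      le_pCore (normal_pCore.map _ e.symm.surjective) (isPGroup_pCore.map _)
    intro x hx
    exact ⟨e.symm x, h ⟨x, hx, rfl⟩, by simp⟩

end CfsgLib.Amalgam
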