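import Cfsg.Prelude.Def_Amalgam
import Cfsg.Agent.Lib.Amalgam.PCore

set_option autoImplicit false

namespace CfsgLib.Amalgam

open Cfsg

variable {G : Type*} [Group G] {p : ℕ}

theorem pCoreOf_le (H : Subgroup G) : pCoreOf p H ≤ H := Subgroup.map_subtype_le _

theorem isPGroup_pCoreOf (H : Subgroup G) : IsPGroup p (pCoreOf p H) := isPGroup_pCore.map _

theorem pCoreOf_map {K : Type*} [Group K] (f : G →* K) (hf : Function.Injective f) (H : Subgroup G) :
    pCoreOf p (H.map f) = (pCoreOf p H).map f := by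
  unfold Cfsg.pCoreOf
  rw [← map_pCore_eq (H.equivMapOfInjective f hf), Subgroup.map_map, Subgroup.map_map]
  congr 1

/-- A `p`-subgroup of `H` normalized by `H` lies in `O_p(H)`. -/
theorem le_pCoreOf {N H : Subgroup G} (hNH : N ≤ H) (hn : H ≤ Subgroup.normalizer (N : Set G))
    (hp : IsPGroup p N) : N ≤ pCoreOf p H := by
  have h1 : (N.subgroupOf H).Normal := Subgroup.normal_subgroupOf_iff_le_normalizer hNH |>.2 hn
  have h2 : IsPGroup p (N.subgroupOf H) := hp.of_equiv (Subgroup.subgroupOfEquivOfLe hNH).symm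
  intro x hx
  exact ⟨⟨x, hNH hx⟩, le_pCore h1 h2 hx, rfl⟩

theorem le_normalizer_pCoreOf (H : Subgroup G) :
    H ≤ Subgroup.normalizer (pCoreOf p H : Set G) := by
  intro h hh
  rw [Subgroup.mem_normalizer_iff]
  intro x
  have key : ∀ h ∈ H, ∀ x ∈ pCoreOf p H, h * x * h⁻¹ ∈ pCoreOf p H := by
    rintro h hh _ ⟨y, hy, rfl⟩
    exact ⟨⟨h, hh⟩ * y * ⟨h, hh⟩⁻¹, (normal_pCore (p := p)).conj_mem y hy ⟨h, hh⟩, rfl⟩
  refine ⟨key h hh x, fun hx => ?_⟩
  simpa [mul_assoc] using key h⁻¹ (H.inv_mem hh) _ hx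

end CfsgLib.Amalgam
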