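import Cfsg.Prelude.Def_PLocal
import Cfsg.Agent.Lib.Amalgam.PCoreOf
import Cfsg.Agent.Lib.Coprime.Action
import Cfsg.Agent.Lib.OddLocal.Stab
import Cfsg.Agent.Lib.PLocal.Section
import Cfsg.Agent.Lib.Comp.Local
import Cfsg.Agent.Lib.Transfer.Frobenius

/-!
Groups and subgroups of characteristic `p`; nilpotent action; subnormal and normalized subgroups.
-/

set_option autoImplicit false
set_option linter.unusedSectionVars false

namespace CfsgLib.Amalgam

open Cfsg Subgroup
open scoped commutatorElement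

variable {G : Type*} [Group G] [Finite G] {p : ℕ} [Fact p.Prime]

/-- Coprime nilpotent action is trivial. -/
theorem commutator_eq_bot_of_iterCommutator {R A : Subgroup G} (hA : A ≤ normalizer (R : Set G))
    (hcop : (Nat.card A).Coprime (Nat.card R)) (hs : Group.IsSolvable A ∨ Group.IsSolvable R) {n : ℕ}
    (h : iterCommutator R A n = ⊥) : ⁅R, A⁆ = ⊥ := by
  have key : ∀ i, iterCommutator R A (i + 1) = ⁅R, A⁆ := by
    intro i
    induction i with
    | zero => rfl
    | succ i ih =>
      show ⁅iterCommutator R A (i + 1), A⁆ = _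
      rw [ih]
      exact CfsgLib.Coprime.commutator_commutator_eq hA hcop hs
  rcases n with _ | n
  · rw [show R = ⊥ from h, Subgroup.commutator_bot_left]
  · rw [← key n]; exact h

theorem coprime_card_zpowers {x : G} {R : Subgroup G} (hR : IsPGroup p R)
    (hx : (orderOf x).Coprime p) : (Nat.card (zpowers x)).Coprime (Nat.card R) := by
  obtain ⟨k, hk⟩ := hR.exists_card_eq
  rw [hk, Nat.card_zpowers]
  exact hx.pow_right k

/-- A `p'`-element trivial on `N` and on `H/N` centralizes the `p`-group `H`. -/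
theorem centralizes_of_stabilizes {x : G} {N H : Subgroup G} (hNH : N ≤ H) (hH : IsPGroup p H)
    (hx : (orderOf x).Coprime p) (h1 : x ∈ centralizer (N : Set G))
    (h2 : ∀ h ∈ H, x * h * x⁻¹ * h⁻¹ ∈ N) : x ∈ centralizer (H : Set G) := by
  intro h hh
  have := CfsgLib.OddLocal.conj_eq_of_stabilizes N x h (h2 h hh)
    (by rw [← h1 _ (h2 h hh), mul_inv_cancel_right]) (by
      obtain ⟨k, hk⟩ := (hH.to_le hNH).exists_card_eq
      rw [hk]; exact hx.pow_right k)
  exact (mul_inv_eq_iff_eq_mul.1 this).symm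

theorem eq_one_of_coprime_of_mem {x : G} {R : Subgroup G} (hR : IsPGroup p R)
    (hx : (orderOf x).Coprime p) (hxR : x ∈ R) : x = 1 := by
  obtain ⟨k, hk⟩ := hR.exists_card_eq
  exact orderOf_eq_one_iff.1 (Nat.eq_one_of_dvd_coprimes (hx.pow_right k) dvd_rfl
    (hk ▸ Subgroup.orderOf_dvd_natCard R hxR))

/-- `L` has characteristic `p`, in element form. -/
def CharPElements (p : ℕ) (L : Subgroup G) : Prop :=
  ∀ x ∈ L, (orderOf x).Coprime p → x ∈ centralizer (pCoreOf p L : Set G) → x = 1

theorem charPElements_iff {L : Subgroup G} : CharPElements p L ↔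
    centralizer (pCore p L : Set L) ≤ pCore p L := by
  constructor
  · intro h
    have hn := normal_pCore (p := p) (G := L)
    refine le_pCore inferInstance (CfsgLib.PLocal.isPGroup_of_forall_coprime fun g hg hgp => ?_)
    refine Subtype.ext (h g g.2 (by rwa [Subgroup.orderOf_coe]) ?_)
    rintro _ ⟨y, hy, rfl⟩
    exact congrArg Subtype.val (hg y hy)
  · intro h x hx hxp hxc
    have hx' : (⟨x, hx⟩ : L) ∈ pCore p L :=
      h fun y hy => Subtype.ext (hxc y ⟨y, hy, rfl⟩)
    exact eq_one_of_coprime_of_mem (isPGroup_pCoreOf L) hxp ⟨⟨x, hx⟩, hx', rfl⟩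

theorem pCoreOf_top : pCoreOf p (⊤ : Subgroup G) = pCore p G := by
  rw [Cfsg.pCoreOf]
  exact map_pCore_eq (Subgroup.topEquiv : (⊤ : Subgroup G) ≃* G)

theorem charPElements_top (h : centralizer (pCore p G : Set G) ≤ pCore p G) :
    CharPElements p (⊤ : Subgroup G) := by
  intro x _ hx hc
  rw [pCoreOf_top] at hc
  exact eq_one_of_coprime_of_mem isPGroup_pCore hx (h hc)

/-- A subgroup of a subgroup of characteristic `p` normalized by its `O_p` has characteristic `p`. -/
theorem charPElements_of_normalized {K L : Subgroup G} (hK : CharPElements p K) (hLK : L ≤ K)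
    (hQ : pCoreOf p K ≤ normalizer (L : Set G)) : CharPElements p L := by
  intro x hx hxp hxc
  refine hK x (hLK hx) hxp ?_
  have hN : L ⊓ pCoreOf p K ≤ pCoreOf p L := by
    refine le_pCoreOf inf_le_left ?_ ((isPGroup_pCoreOf K).to_le inf_le_right)
    exact (le_inf Subgroup.le_normalizer (hLK.trans (le_normalizer_pCoreOf K))).trans
      Subgroup.inf_normalizer_le_normalizer_inf
  refine centralizes_of_stabilizes (N := L ⊓ pCoreOf p K) inf_le_right (isPGroup_pCoreOf K) hxp
    (Subgroup.centralizer_le hN hxc) fun q hq => Subgroup.mem_inf.2 ⟨?_, ?_⟩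
  · rw [show x * q * x⁻¹ * q⁻¹ = x * (q * x⁻¹ * q⁻¹) by group]
    exact mul_mem hx ((Subgroup.mem_normalizer_iff.1 (hQ hq) _).1 (inv_mem hx))
  · exact mul_mem ((Subgroup.mem_normalizer_iff.1 (le_normalizer_pCoreOf K (hLK hx)) q).1 hq) (inv_mem hq)

theorem charPElements_of_subnormal (h : centralizer (pCore p G : Set G) ≤ pCore p G) {Y : Subgroup G}
    (hY : Y.IsSubnormal) : CharPElements p Y := by
  induction hY with
  | top => exact charPElements_top h
  | step H K hle _ hN ih =>
    exact charPElements_of_normalized ih hle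
      ((pCoreOf_le K).trans ((Subgroup.normal_subgroupOf_iff_le_normalizer hle).1 hN))

theorem isPGroup_centralizer_of_sylow (h : centralizer (pCore p G : Set G) ≤ pCore p G)
    (T : Sylow p G) {Q : Subgroup G} (hQT : Q ≤ (T : Subgroup G))
    (hQn : (T : Subgroup G) ≤ normalizer (Q : Set G))
    (hC : (T : Subgroup G) ⊓ centralizer (Q : Set G) ≤ Q) : IsPGroup p (centralizer (Q : Set G)) := by
  refine CfsgLib.PLocal.isPGroup_of_forall_coprime fun x hx hxp => ?_
  have hOT := pCore_le_sylow (p := p) T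
  have hn := normal_pCore (p := p) (G := G)
  refine eq_one_of_coprime_of_mem isPGroup_pCore hxp (h ?_)
  refine CfsgLib.Comp.le_centralizer_of_centralizes_fixed isPGroup_pCore (T.isPGroup'.to_le hQT)
    (by rw [Nat.card_zpowers]; exact hxp) ?_ ?_ (Subgroup.zpowers_le.2 hx)
    (Subgroup.zpowers_le.2 fun y hy => ?_) (Subgroup.mem_zpowers x)
  · rw [Subgroup.normalizer_eq_top]; exact le_top
  · rw [Subgroup.normalizer_eq_top]; exact le_top
  · exact hx y (hC ⟨hOT hy.1, hy.2⟩)

theorem centralizer_le_of_sylow (h : centralizer (pCore p G : Set G) ≤ pCore p G)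
    (T : Sylow p G) {Q : Subgroup G} (hQT : Q ≤ (T : Subgroup G))
    (hQn : (T : Subgroup G) ≤ normalizer (Q : Set G))
    (hC : (T : Subgroup G) ⊓ centralizer (Q : Set G) ≤ Q) : centralizer (Q : Set G) ≤ Q := by
  have hp := isPGroup_centralizer_of_sylow h T hQT hQn hC
  have hle : (T : Subgroup G) ≤ normalizer ((centralizer (Q : Set G) : Subgroup G) : Set G) :=
    hQn.trans (CfsgLib.Comp.normalizer_le_normalizer_centralizer Q)
  have hsup := T.is_maximal' (hp.to_sup_of_normal_left' T.isPGroup' hle) le_sup_right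
  exact fun x hx => hC ⟨hsup.le (Subgroup.mem_sup_left hx), hx⟩

/-- Overgroups of such a `Q` have characteristic `p`. -/
theorem charPElements_of_sylow_le (h : centralizer (pCore p G : Set G) ≤ pCore p G)
    (T : Sylow p G) {Q L : Subgroup G} (hQT : Q ≤ (T : Subgroup G))
    (hQn : (T : Subgroup G) ≤ normalizer (Q : Set G))
    (hC : (T : Subgroup G) ⊓ centralizer (Q : Set G) ≤ Q) (hQL : Q ≤ L) : CharPElements p L := by
  have hn := normal_pCore (p := p) (G := G)
  have hCQ := centralizer_le_of_sylow h T hQT hQn hC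
  set R := pCoreOf p L with hR
  set C := L ⊓ centralizer (R : Set G) with hCdef
  have hLC : L ≤ normalizer (C : Set G) :=
    (le_inf Subgroup.le_normalizer ((le_normalizer_pCoreOf L).trans
      (CfsgLib.Comp.normalizer_le_normalizer_centralizer R))).trans Subgroup.inf_normalizer_le_normalizer_inf
  have hS0R : L ⊓ pCore p G ≤ R := le_pCoreOf inf_le_left
    ((le_inf Subgroup.le_normalizer (by rw [Subgroup.normalizer_eq_top]; exact le_top)).trans
      Subgroup.inf_normalizer_le_normalizer_inf) (isPGroup_pCore.to_le inf_le_right)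
  set W := ⁅Q, C⁆ with hW
  have hWC : W ≤ C := by
    rw [hW, Subgroup.commutator_comm]
    exact CfsgLib.Comp.commutator_le_of_le_normalizer (hQL.trans hLC)
  -- `W` centralizes every series of `O_p(G)` above `L ⊓ O_p(G)`
  have step : ∀ S : Subgroup G, L ⊓ pCore p G ≤ S → S ≤ pCore p G → L ≤ normalizer (S : Set G) →
      ∀ x ∈ W, (orderOf x).Coprime p → x ∈ centralizer (S : Set G) → x ∈ centralizer (pCore p G : Set G) := by
    intro S
    induction S using WellFoundedGT.induction with
    | ind S ih =>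
      intro hS0 hSO hLS x hx hxp hxS
      by_cases he : pCore p G ≤ S
      · exact Subgroup.centralizer_le he hxS
      obtain ⟨y, hyO, hyN, hyS⟩ := CfsgLib.Transfer.exists_mem_normalizer_not_mem isPGroup_pCore
        (lt_of_le_not_ge hSO he)
      set S' := pCore p G ⊓ normalizer (S : Set G) with hS'def
      have hSS' : S ≤ S' := le_inf hSO Subgroup.le_normalizer
      have hlt : S < S' := lt_of_le_not_ge hSS' fun hle => hyS (hle ⟨hyO, hyN⟩)
      have conjS : ∀ c ∈ L, ∀ s ∈ S, c * s * c⁻¹ ∈ S := fun c hc s hs =>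
        (Subgroup.mem_normalizer_iff.1 (hLS hc) s).1 hs
      have hLS' : L ≤ normalizer (S' : Set G) := by
        have key : ∀ c ∈ L, ∀ s ∈ S', c * s * c⁻¹ ∈ S' := fun c hc s hs =>
          Subgroup.mem_inf.2 ⟨hn.conj_mem s hs.1 c, mul_mem (mul_mem (hLS hc) hs.2) (inv_mem (hLS hc))⟩
        intro c hc
        rw [Subgroup.mem_normalizer_iff]
        exact fun s => ⟨key c hc s, fun hs => by simpa [mul_assoc] using key c⁻¹ (inv_mem hc) _ hs⟩
      have conjS' : ∀ c ∈ L, ∀ s ∈ S', c * s * c⁻¹ ∈ S' := fun c hc s hs =>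
        (Subgroup.mem_normalizer_iff.1 (hLS' hc) s).1 hs
      -- the kernel of the action on `S'/S`
      let Ker : Subgroup G :=
        { carrier := {w | w ∈ L ∧ ∀ s ∈ S', w * s * w⁻¹ * s⁻¹ ∈ S}
          one_mem' := ⟨one_mem L, fun s _ => by simp⟩
          mul_mem' := by
            rintro a b ⟨ha, ha'⟩ ⟨hb, hb'⟩
            refine ⟨mul_mem ha hb, fun s hs => ?_⟩
            rw [show a * b * s * (a * b)⁻¹ * s⁻¹ =
              a * (b * s * b⁻¹ * s⁻¹) * a⁻¹ * (a * s * a⁻¹ * s⁻¹) by group]
            exact mul_mem (conjS a ha _ (hb' s hs)) (ha' s hs)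
          inv_mem' := by
            rintro a ⟨ha, ha'⟩
            refine ⟨inv_mem ha, fun s hs => ?_⟩
            have ht : a⁻¹ * s * a ∈ S' := by simpa using conjS' a⁻¹ (inv_mem ha) s hs
            have := inv_mem (ha' _ ht)
            convert this using 1
            group }
      have hQKer : ∀ q ∈ Q, q ∈ Ker := by
        intro q hq
        refine ⟨hQL hq, fun s hs => hS0 (Subgroup.mem_inf.2 ⟨?_, ?_⟩)⟩
        · refine hQL ?_
          rw [show q * s * q⁻¹ * s⁻¹ = q * (s * q⁻¹ * s⁻¹) by group]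
          exact mul_mem hq ((Subgroup.mem_normalizer_iff.1 (hQn (pCore_le_sylow (p := p) T hs.1)) _).1
            (inv_mem hq))
        · exact mul_mem (hn.conj_mem s hs.1 q) (inv_mem hs.1)
      have hKerconj : ∀ c ∈ L, ∀ w ∈ Ker, c * w * c⁻¹ ∈ Ker := by
        rintro c hc w ⟨hw, hw'⟩
        refine ⟨mul_mem (mul_mem hc hw) (inv_mem hc), fun s hs => ?_⟩
        have h1 : c⁻¹ * s * c ∈ S' := by simpa using conjS' c⁻¹ (inv_mem hc) s hs
        convert conjS c hc _ (hw' _ h1) using 1
        group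
      have hWKer : W ≤ Ker := by
        refine Subgroup.commutator_le.2 fun q hq c hc => ?_
        rw [commutatorElement_def, show q * c * q⁻¹ * c⁻¹ = q * (c * q⁻¹ * c⁻¹) by group]
        exact mul_mem (hQKer q hq) (hKerconj c hc.1 _ (inv_mem (hQKer q hq)))
      exact ih S' hlt (hS0.trans hSS') inf_le_left hLS' x hx hxp
        (centralizes_of_stabilizes hSS' (isPGroup_pCore.to_le inf_le_left) hxp hxS (hWKer hx).2)
  have hWp : IsPGroup p W := CfsgLib.PLocal.isPGroup_of_forall_coprime fun x hx hxp =>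
    eq_one_of_coprime_of_mem isPGroup_pCore hxp (h (step _ le_rfl inf_le_right
      ((le_inf Subgroup.le_normalizer (by rw [Subgroup.normalizer_eq_top]; exact le_top)).trans
        Subgroup.inf_normalizer_le_normalizer_inf) x hx hxp
      (Subgroup.centralizer_le hS0R (hWC hx).2)))
  have hCconj : L ≤ normalizer (pCoreOf p C : Set G) := by
    intro l hl
    apply CfsgLib.Comp.map_conj_eq_iff.1
    rw [← pCoreOf_map _ (MulAut.conj l).injective, CfsgLib.Comp.map_conj_eq_iff.2 (hLC hl)]
  have hWR : W ≤ R := (le_pCoreOf hWC (Subgroup.normalizer_commutator_ge_right Q C) hWp).trans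
    (le_pCoreOf ((pCoreOf_le C).trans inf_le_left) hCconj (isPGroup_pCoreOf C))
  intro x hxL hxp hxc
  refine eq_one_of_coprime_of_mem (T.isPGroup'.to_le hQT) hxp (hCQ fun q hq => ?_)
  have hw : ⁅q, x⁆ ∈ W := Subgroup.commutator_mem_commutator hq ⟨hxL, hxc⟩
  have hcomm : Commute ⁅q, x⁆ x := hxc _ (hWR hw)
  have h1 : q * x * q⁻¹ = ⁅q, x⁆ * x := by rw [commutatorElement_def]; group
  have h2 : ⁅q, x⁆ ^ orderOf x = 1 := by
    have := hcomm.mul_pow (orderOf x)
    rw [← h1, conj_pow, pow_orderOf_eq_one, mul_one, mul_inv_cancel, mul_one] at this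
    exact this.symm
  have h3 : ⁅q, x⁆ = 1 := by
    obtain ⟨k, hk⟩ := hWp.exists_card_eq
    exact orderOf_eq_one_iff.1 (Nat.eq_one_of_dvd_coprimes (hxp.pow_right k)
      (orderOf_dvd_of_pow_eq_one h2) (hk ▸ Subgroup.orderOf_dvd_natCard W hw))
  exact commutatorElement_eq_one_iff_mul_comm.1 h3

/-- A normal subgroup centralizing the factors of a normal series of `O_p` lies in `O_p`. -/
theorem le_pCore_of_centralizes_series (h : centralizer (pCore p G : Set G) ≤ pCore p G)
    (L : Subgroup G) (n : ℕ) (A : Fin (n + 1) → Subgroup G) (h0 : A 0 = ⊥)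
    (hn : A (Fin.last n) = pCore p G) (hmono : Monotone A) (hnorm : ∀ i, (A i).Normal)
    (hcent : ∀ i : Fin n, ⁅A i.succ, L⁆ ≤ A i.castSucc) : L ≤ pCore p G := by
  let K : Subgroup G :=
    ⨅ i : Fin n, have := hnorm i.castSucc
      (centralizer (((A i.succ).map (QuotientGroup.mk' (A i.castSucc))) : Set (G ⧸ A i.castSucc))).comap
        (QuotientGroup.mk' (A i.castSucc))
  have hK : ∀ (x : G), x ∈ K ↔ ∀ i : Fin n, ∀ a ∈ A i.succ, x⁻¹ * a⁻¹ * x * a ∈ A i.castSucc := by
    intro x
    simp only [K, Subgroup.mem_iInf]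
    refine forall_congr' fun i => ?_
    have := hnorm i.castSucc
    constructor
    · intro hx a ha
      have h1 := hx _ ⟨a, ha, rfl⟩
      simp only [QuotientGroup.mk'_apply, ← QuotientGroup.mk_mul] at h1
      have := QuotientGroup.eq.1 h1
      simpa [mul_assoc] using this
    · rintro hx _ ⟨a, ha, rfl⟩
      simp only [QuotientGroup.mk'_apply, ← QuotientGroup.mk_mul]
      refine QuotientGroup.eq.2 ?_
      simpa [mul_assoc] using hx a ha
  have hKn : K.Normal := Subgroup.normal_iInf_normal fun i => by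
    have := hnorm i.castSucc
    have := (hnorm i.succ).map (QuotientGroup.mk' (A i.castSucc)) (QuotientGroup.mk'_surjective _)
    infer_instance
  have hLK : L ≤ K := fun x hx => (hK x).2 fun i a ha => by
    have h1 := Subgroup.inv_mem _ (hcent i (Subgroup.commutator_mem_commutator ha hx))
    have h2 := (hnorm i.castSucc).conj_mem _ h1 (x⁻¹ * a⁻¹)
    convert h2 using 1
    rw [commutatorElement_def]; group
  refine hLK.trans (le_pCore hKn (CfsgLib.PLocal.isPGroup_of_forall_coprime fun x hx hxp => ?_))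
  refine eq_one_of_coprime_of_mem isPGroup_pCore hxp (h ?_)
  rw [← hn]
  suffices ∀ i : Fin (n + 1), x ∈ centralizer (A i : Set G) from this _
  intro i
  induction i using Fin.induction with
  | zero => rw [h0]; intro y hy; rw [Subgroup.mem_bot.1 hy, one_mul, mul_one]
  | succ j ih =>
    refine centralizes_of_stabilizes (hmono (Fin.castSucc_le_succ j))
      (isPGroup_pCore.to_le (hn ▸ hmono (Fin.le_last _))) hxp ih fun a ha => ?_
    have h1 := (hK x).1 hx j a⁻¹ (inv_mem ha)
    rw [inv_inv] at h1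
    have h2 := inv_mem ((hnorm j.castSucc).conj_mem _ h1 x)
    convert h2 using 1
    group

/-- If `[K, Y, Y] = 1` for a `p`-group `Y` normalizing `K`, then `[K, Y]` lies in `O_p(K)`. -/
theorem commutator_le_pCoreOf {K Y : Subgroup G} (hY : IsPGroup p Y)
    (hYK : Y ≤ normalizer (K : Set G)) (hq : ⁅⁅K, Y⁆, Y⁆ = ⊥) : ⁅K, Y⁆ ≤ pCoreOf p K := by
  set M := ⁅K, Y⁆ with hM
  have hMY : M ≤ centralizer (Y : Set G) := Subgroup.commutator_eq_bot_iff_le_centralizer.1 hq
  let conjY : G → Subgroup G := fun k => Y.map (MulAut.conj k).toMonoidHom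
  -- conjugates normalize `Y`, hence each other
  have hnorm : ∀ a ∈ K, ∀ b ∈ K, conjY a ≤ normalizer (conjY b : Set G) := by
    intro a ha b hb
    have h0 : conjY (b⁻¹ * a) ≤ normalizer (Y : Set G) := by
      rintro _ ⟨y, hy, rfl⟩
      show MulAut.conj (b⁻¹ * a) y ∈ _
      rw [show MulAut.conj (b⁻¹ * a) y = ⁅b⁻¹ * a, y⁆ * y by simp [commutatorElement_def, mul_assoc]]
      exact mul_mem (Subgroup.centralizer_le_normalizer _ (hMY
        (Subgroup.commutator_mem_commutator (mul_mem (inv_mem hb) ha) hy))) (Subgroup.le_normalizer hy)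
    have h1 := Subgroup.map_mono (f := (MulAut.conj b).toMonoidHom) h0
    simp only [conjY] at h1 ⊢
    rw [CfsgLib.Coprime.map_conj_conj, mul_inv_cancel_left] at h1
    exact h1.trans (Subgroup.le_normalizer_map _)
  have key : ∀ s : Set G, s ⊆ (K : Set G) → IsPGroup p (⨆ k ∈ s, conjY k : Subgroup G) := by
    intro s
    have hf : s.Finite := Set.toFinite s
    induction s, hf using Set.Finite.induction_on with
    | empty => intro; rw [show (⨆ k ∈ (∅ : Set G), conjY k) = ⊥ by simp]; exact IsPGroup.of_bot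
    | @insert a t _ _ ih =>
      intro hs
      rw [iSup_insert]
      have ht : t ⊆ (K : Set G) := (Set.subset_insert a t).trans hs
      refine (hY.map _).to_sup_of_normal_right' (ih ht) ?_
      exact CfsgLib.Comp.le_normalizer_iSup _ fun k => CfsgLib.Comp.le_normalizer_iSup _ fun hk =>
        hnorm a (hs (Set.mem_insert a t)) k (ht hk)
  have hMle : M ≤ ⨆ k ∈ (K : Set G), conjY k := by
    refine Subgroup.commutator_le.2 fun k hk y hy => ?_
    rw [commutatorElement_def, show k * y * k⁻¹ * y⁻¹ = MulAut.conj k y * y⁻¹ by simp]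
    refine mul_mem (Subgroup.mem_iSup_of_mem k (Subgroup.mem_iSup_of_mem hk ⟨y, hy, rfl⟩)) (inv_mem ?_)
    exact Subgroup.mem_iSup_of_mem 1 (Subgroup.mem_iSup_of_mem K.one_mem ⟨y, hy, by simp⟩)
  exact le_pCoreOf (CfsgLib.Comp.commutator_le_of_le_normalizer hYK)
    (Subgroup.normalizer_commutator_ge_left K Y) ((key _ subset_rfl).to_le hMle)

end CfsgLib.Amalgam
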