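import Cfsg.Agent.Lib.Amalgam.WeakClosure
import Cfsg.Agent.Lib.Amalgam.CharP
import Cfsg.Agent.Lib.Solvable.PCore
import Cfsg.Agent.Lib.Comp.Normalize
import Cfsg.Agent.Lib.Solvable.Nilpotent

/-!
Weakly closed subgroups and large subgroups.
-/

set_option autoImplicit false
set_option linter.unusedSectionVars false

namespace CfsgLib.Amalgam

open Cfsg Subgroup
open scoped commutatorElement

variable {G : Type*} [Group G] [Finite G] {p : ℕ} [Fact p.Prime]

theorem map_conj_one' (Q : Subgroup G) : Q.map (MulAut.conj (1 : G)).toMonoidHom = Q := by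
  ext y
  rw [CfsgLib.Coprime.mem_map_conj]; simp

theorem map_conj_inv_cancel (Q : Subgroup G) (g : G) :
    (Q.map (MulAut.conj g).toMonoidHom).map (MulAut.conj g⁻¹).toMonoidHom = Q := by
  rw [CfsgLib.Coprime.map_conj_conj, inv_mul_cancel, map_conj_one']

/-- `Q` is the only conjugate of itself in every `p`-group containing it. -/
theorem eq_conj_of_le_of_isPGroup {Q : Subgroup G} (h : IsWeaklyClosedSubgroup p Q) {R : Subgroup G}
    (hR : IsPGroup p R) (hQR : Q ≤ R) {g : G} (hg : Q.map (MulAut.conj g).toMonoidHom ≤ R) :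
    Q.map (MulAut.conj g).toMonoidHom = Q := by
  obtain ⟨T, hQT, hT⟩ := h
  obtain ⟨h', -, hh⟩ := (exists_isSylIn_ge hR (le_top (a := R))).choose_spec.1.exists_conj (isSylIn_top T)
  have hRT : R.map (MulAut.conj h').toMonoidHom ≤ T :=
    (map_mono (exists_isSylIn_ge hR (le_top (a := R))).choose_spec.2).trans hh.le
  have h1 := hT h' ((map_mono hQR).trans hRT)
  have h2 := hT (h' * g) (by rw [← CfsgLib.Coprime.map_conj_conj]; exact (map_mono hg).trans hRT)
  rw [← CfsgLib.Coprime.map_conj_conj] at h2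
  have := congrArg (Subgroup.map (MulAut.conj h'⁻¹).toMonoidHom) (h2.trans h1.symm)
  rwa [map_conj_inv_cancel, map_conj_inv_cancel] at this

theorem normalizer_le_of_weaklyClosed {Q : Subgroup G} (h : IsWeaklyClosedSubgroup p Q)
    {R : Subgroup G} (hR : IsPGroup p R) (hQR : Q ≤ R) :
    normalizer (R : Set G) ≤ normalizer (Q : Set G) := fun n hn =>
  CfsgLib.PLocal.mem_normalizer_map_conj.2 (eq_conj_of_le_of_isPGroup h hR hQR
    ((map_mono hQR).trans (CfsgLib.Coprime.map_conj_of_mem_normalizer hn).le))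

/-- Two mutually normalizing conjugates coincide. -/
theorem eq_conj_of_le_normalizer {Q : Subgroup G} (h : IsWeaklyClosedSubgroup p Q)
    (hQp : IsPGroup p Q) {g : G}
    (hg : Q.map (MulAut.conj g).toMonoidHom ≤ normalizer (Q : Set G)) :
    Q.map (MulAut.conj g).toMonoidHom = Q :=
  eq_conj_of_le_of_isPGroup h ((hQp.map _).to_sup_of_normal_right' hQp hg) le_sup_right le_sup_left

/-- Conjugates of `Q` inside an overgroup `K` are conjugate in `K`. -/
theorem exists_conj_eq_of_le {Q : Subgroup G} (h : IsWeaklyClosedSubgroup p Q) (hQp : IsPGroup p Q)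
    {K : Subgroup G} (hQK : Q ≤ K) {g : G} (hg : Q.map (MulAut.conj g).toMonoidHom ≤ K) :
    ∃ k ∈ K, Q.map (MulAut.conj g).toMonoidHom = Q.map (MulAut.conj k).toMonoidHom := by
  obtain ⟨S, hS, hQS⟩ := exists_isSylIn_ge hQp hQK
  obtain ⟨S', hS', hQS'⟩ := exists_isSylIn_ge (hQp.map _) hg
  obtain ⟨k, hk, hkS⟩ := hS'.exists_conj hS
  refine ⟨k⁻¹, inv_mem hk, ?_⟩
  have h1 := eq_conj_of_le_of_isPGroup h hS.2.1 hQS (g := k * g)
    (by rw [← CfsgLib.Coprime.map_conj_conj]; exact (map_mono hQS').trans hkS.le)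
  rw [← CfsgLib.Coprime.map_conj_conj] at h1
  conv_rhs => rw [← h1]
  rw [map_conj_inv_cancel]

/-- The criterion: a Sylow subgroup `T` over `Q` normalizing `Q`, with `N(T) ≤ N(Q)` and normalizing
the conjugates of `Q` in it. -/
theorem weaklyClosed_of_normalizer {Q : Subgroup G} (T : Sylow p G) (hQT : Q ≤ (T : Subgroup G))
    (hN : normalizer ((T : Subgroup G) : Set G) ≤ normalizer (Q : Set G))
    (hP : ∀ g : G, Q.map (MulAut.conj g).toMonoidHom ≤ (T : Subgroup G) →
      (T : Subgroup G) ≤ normalizer ((Q.map (MulAut.conj g).toMonoidHom : Subgroup G) : Set G)) :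
    IsWeaklyClosedSubgroup p Q := by
  refine ⟨T, hQT, fun g hg => ?_⟩
  set P := Q.map (MulAut.conj g).toMonoidHom with hPdef
  have h1 : (T : Subgroup G).map (MulAut.conj g).toMonoidHom ≤ normalizer (P : Set G) :=
    (map_mono (le_normalizer.trans hN)).trans (Subgroup.le_normalizer_map _)
  have hTN : IsSylIn p (normalizer (P : Set G)) (T : Subgroup G) :=
    (isSylIn_top T).mono (hP g hg) le_top
  have hTg : IsSylIn p (normalizer (P : Set G)) ((T : Subgroup G).map (MulAut.conj g).toMonoidHom) :=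
    ⟨h1, T.isPGroup'.map _, by rw [CfsgLib.Coprime.card_map_conj, hTN.2.2]⟩
  obtain ⟨n, hn, hnT⟩ := hTg.exists_conj hTN
  rw [CfsgLib.Coprime.map_conj_conj] at hnT
  have h2 := CfsgLib.Coprime.map_conj_of_mem_normalizer (hN (CfsgLib.PLocal.mem_normalizer_map_conj.2 hnT))
  rw [← CfsgLib.Coprime.map_conj_conj, ← hPdef, CfsgLib.Coprime.map_conj_of_mem_normalizer hn] at h2
  exact h2

/-- a nontrivial `p`-group acting on a nontrivial `p`-group fixes a nontrivial element. -/
theorem inf_centralizer_ne_bot {Q Y : Subgroup G} (hQ : IsPGroup p Q) (hY : IsPGroup p Y) (hY1 : Y ≠ ⊥)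
    (hQY : Q ≤ normalizer (Y : Set G)) : Y ⊓ centralizer (Q : Set G) ≠ ⊥ := by
  set P := Y ⊔ Q
  have hPp : IsPGroup p P := hY.to_sup_of_normal_left' hQ hQY
  have hYn : (Y.subgroupOf P).Normal := normal_subgroupOf_of_le_normalizer (sup_le le_normalizer hQY)
  have := hPp.isNilpotent
  have hne : Y.subgroupOf P ≠ ⊥ := by
    rw [Ne, subgroupOf_eq_bot, disjoint_iff, inf_eq_left.2 (le_sup_left : Y ≤ P)]
    exact hY1
  have h := CfsgLib.Solvable.normal_inf_center_ne_bot (Y.subgroupOf P) hne
  intro hb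
  refine h ((Subgroup.eq_bot_iff_forall _).2 fun y hy => ?_)
  refine Subtype.ext (mem_bot.1 (hb.le (mem_inf.2 ⟨(mem_inf.1 hy).1, fun q hq => ?_⟩)))
  exact congrArg Subtype.val (mem_center_iff.1 (mem_inf.1 hy).2 ⟨q, mem_sup_right hq⟩)

theorem isLarge_map_conj {Q : Subgroup G} (h : IsLarge Q) (g : G) :
    IsLarge (Q.map (MulAut.conj g).toMonoidHom) := by
  have hc : ∀ (U : Subgroup G) (g : G), (centralizer (U : Set G)).map (MulAut.conj g).toMonoidHom =
      centralizer ((U.map (MulAut.conj g).toMonoidHom : Subgroup G) : Set G) := fun U g => by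
    ext x
    rw [CfsgLib.Coprime.mem_map_conj, mem_centralizer_iff, mem_centralizer_iff]
    constructor
    · rintro hx _ ⟨u, hu, rfl⟩
      show g * u * g⁻¹ * x = x * (g * u * g⁻¹)
      calc g * u * g⁻¹ * x = g * (u * (g⁻¹ * x * g)) * g⁻¹ := by group
        _ = _ := by rw [hx u hu]; group
    · intro hx u hu
      have h1 : g * u * g⁻¹ * x = x * (g * u * g⁻¹) := hx _ ⟨u, hu, rfl⟩
      calc u * (g⁻¹ * x * g) = g⁻¹ * (g * u * g⁻¹ * x) * g := by group
        _ = _ := by rw [h1]; group
  constructor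
  · rw [← hc]; exact map_mono h.1
  · intro U hU hU1
    have hU' : U.map (MulAut.conj g⁻¹).toMonoidHom ≤ centralizer (Q : Set G) := by
      refine (map_mono hU).trans ?_
      rw [hc, map_conj_inv_cancel]
    have h1 := map_mono (f := (MulAut.conj g).toMonoidHom) (h.2 _ hU'
      (by rwa [Ne, map_eq_bot_iff_of_injective _ (MulAut.conj g⁻¹).injective]))
    rw [Subgroup.map_normalizer_eq_of_bijective _ (MulAut.conj g).bijective,
      Subgroup.map_normalizer_eq_of_bijective _ (MulAut.conj g).bijective,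
      CfsgLib.Coprime.map_conj_conj, mul_inv_cancel, map_conj_one'] at h1
    exact h1

/-- Large subgroups are weakly closed. -/
theorem weaklyClosed_of_large {Q : Subgroup G} (hQp : IsPGroup p Q) (hQ1 : Q ≠ ⊥) (h : IsLarge Q) :
    IsWeaklyClosedSubgroup p Q := by
  obtain ⟨T, hQT⟩ := hQp.exists_le_sylow
  set Z := (T : Subgroup G) ⊓ centralizer ((T : Subgroup G) : Set G)
  have hZ1 : Z ≠ ⊥ := inf_centralizer_ne_bot T.isPGroup' T.isPGroup'
    (fun hb => hQ1 (le_bot_iff.1 (hb ▸ hQT))) le_normalizer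
  have hZN : normalizer ((T : Subgroup G) : Set G) ≤ normalizer (Z : Set G) :=
    (le_inf le_rfl (CfsgLib.Comp.normalizer_le_normalizer_centralizer _)).trans inf_normalizer_le_normalizer_inf
  refine weaklyClosed_of_normalizer T hQT (hZN.trans (h.2 Z (inf_le_right.trans (centralizer_le hQT)) hZ1))
    fun g hg => ?_
  exact (le_normalizer.trans hZN).trans
    ((isLarge_map_conj h g).2 Z (inf_le_right.trans (centralizer_le hg)) hZ1)

/-- The centralizer of a nontrivial `p`-group normalized by a large `Q` normalizes `Q`. -/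
theorem centralizer_le_normalizer_of_large {Q Y : Subgroup G} (h : IsLarge Q) (hQp : IsPGroup p Q)
    (hY : IsPGroup p Y) (hY1 : Y ≠ ⊥) (hQY : Q ≤ normalizer (Y : Set G)) :
    centralizer (Y : Set G) ≤ normalizer (Q : Set G) :=
  (centralizer_le fun _ hx => (mem_inf.1 hx).1).trans
    ((Subgroup.centralizer_le_normalizer _).trans
      (h.2 _ inf_le_right (inf_centralizer_ne_bot hQp hY hY1 hQY)))

/-- Distinct conjugates of a large subgroup have disjoint centralizers. -/
theorem centralizer_inf_centralizer_eq_bot {Q : Subgroup G} (hQp : IsPGroup p Q) (hQ1 : Q ≠ ⊥)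
    (h : IsLarge Q) {g : G} (hne : Q.map (MulAut.conj g).toMonoidHom ≠ Q) :
    centralizer (Q : Set G) ⊓ centralizer ((Q.map (MulAut.conj g).toMonoidHom : Subgroup G) : Set G) = ⊥ := by
  by_contra hU
  refine hne (eq_conj_of_le_normalizer (weaklyClosed_of_large hQp hQ1 h) hQp
    (le_trans ?_ ((Subgroup.centralizer_le_normalizer _).trans (h.2 _ inf_le_left hU))))
  exact le_centralizer_iff.1 inf_le_right

/-- Centralizers of `p`-groups normalizing a subgroup of characteristic `p` have characteristic `p`. -/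
theorem charPElements_inf_centralizer {A V : Subgroup G} (hA : CharPElements p A) (hV : IsPGroup p V)
    (hVA : V ≤ normalizer (A : Set G)) : CharPElements p (A ⊓ centralizer (V : Set G)) := by
  set K := A ⊔ V
  have hAK : K ≤ normalizer (A : Set G) := sup_le le_normalizer hVA
  have hmemA : ∀ x ∈ K, (orderOf x).Coprime p → x ∈ A := by
    intro x hx hxp
    have hn : (A.subgroupOf K).Normal := normal_subgroupOf_of_le_normalizer hAK
    have htop : A.subgroupOf K ⊔ V.subgroupOf K = ⊤ := by
      rw [← Subgroup.subgroupOf_sup le_sup_left le_sup_right, subgroupOf_self]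
    set π := QuotientGroup.mk' (A.subgroupOf K)
    have hq : IsPGroup p (K ⧸ A.subgroupOf K) := by
      have h := congrArg (Subgroup.map π) htop
      rw [Subgroup.map_sup, QuotientGroup.map_mk'_self, bot_sup_eq,
        Subgroup.map_top_of_surjective _ (QuotientGroup.mk'_surjective _)] at h
      exact (h ▸ (hV.comap_of_injective _ K.subtype_injective).map π).of_equiv Subgroup.topEquiv
    have h1 : π ⟨x, hx⟩ = 1 := by
      obtain ⟨k, hk⟩ := IsPGroup.iff_card.1 hq
      refine orderOf_eq_one_iff.1 (Nat.eq_one_of_dvd_coprimes (hxp.pow_right k) ?_ (hk ▸ orderOf_dvd_natCard _))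
      exact (orderOf_map_dvd π (⟨x, hx⟩ : K)).trans (dvd_of_eq (Subgroup.orderOf_coe (⟨x, hx⟩ : K)).symm)
    exact (QuotientGroup.eq_one_iff (N := A.subgroupOf K) (⟨x, hx⟩ : K)).1 h1
  have hK : CharPElements p K := fun x hx hxp hxc =>
    hA x (hmemA x hx hxp) hxp (centralizer_le (le_pCoreOf ((pCoreOf_le A).trans le_sup_left) (fun k hk => by
      apply CfsgLib.Comp.map_conj_eq_iff.1
      rw [← pCoreOf_map _ (MulAut.conj k).injective, CfsgLib.Comp.map_conj_eq_iff.2 (hAK hk)])
      (isPGroup_pCoreOf A)) hxc)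
  have hN : CharPElements p (K ⊓ normalizer (V : Set G)) := by
    intro x hx hxp hxc
    obtain ⟨hxK, hxV⟩ := mem_inf.1 hx
    set N := K ⊓ normalizer (V : Set G)
    set R := pCoreOf p K
    have hVN : V ≤ pCoreOf p N := le_pCoreOf (le_inf le_sup_right le_normalizer) inf_le_right hV
    have hRN : R ⊓ centralizer (V : Set G) ≤ pCoreOf p N := by
      refine le_trans (inf_le_inf_left R (Subgroup.centralizer_le_normalizer (V : Set G))) (le_pCoreOf
        (inf_le_inf_right _ (pCoreOf_le K)) ?_ ((isPGroup_pCoreOf K).to_le inf_le_left))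
      exact (le_inf (inf_le_left.trans (le_normalizer_pCoreOf K)) (inf_le_right.trans le_normalizer)).trans
        inf_normalizer_le_normalizer_inf
    refine hK x hxK hxp ?_
    exact CfsgLib.Comp.le_centralizer_of_centralizes_fixed (Q := zpowers x) (isPGroup_pCoreOf K) hV
      (by rw [Nat.card_zpowers]; exact hxp) (le_trans (le_sup_right : V ≤ K) (le_normalizer_pCoreOf K))
      (zpowers_le.2 (le_normalizer_pCoreOf K hxK)) (zpowers_le.2 (centralizer_le hVN hxc))
      (zpowers_le.2 (centralizer_le hRN hxc)) (mem_zpowers x)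
  refine charPElements_of_normalized hN (le_inf (inf_le_left.trans le_sup_left)
    (inf_le_right.trans (Subgroup.centralizer_le_normalizer (V : Set G)))) ?_
  exact ((pCoreOf_le _).trans (le_inf (inf_le_left.trans hAK)
    (inf_le_right.trans (CfsgLib.Comp.normalizer_le_normalizer_centralizer V)))).trans
    inf_normalizer_le_normalizer_inf

end CfsgLib.Amalgam
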