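import Cfsg.Agent.Lib.Amalgam.FrakM
import Cfsg.Agent.Lib.Comp.FStar
import Cfsg.Agent.Lib.Comp.Subnormal
import Cfsg.Agent.S2838
import Cfsg.Agent.S2839
import Cfsg.Agent.S2842

/-!
Asymmetric `Y_M` for `M ∈ 𝔐`: `O_p(M)` is weakly closed; the families `ℌ`.
-/

set_option autoImplicit false
set_option linter.unusedSectionVars false

namespace CfsgLib.Amalgam

open Cfsg Subgroup
open scoped commutatorElement

variable {G : Type*} [Group G] [Finite G] {p : ℕ} [Fact p.Prime]

/-- If `Y_M` is asymmetric, mutually normalizing conjugates of `O_p(M)` coincide. -/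
theorem core_eq_of_mutual (hG : IsOfParabolicCharacteristic p G) (T : Sylow p G) {M : Subgroup G}
    (hTM : (T : Subgroup G) ≤ M) (hM : IsInFrakM p M)
    (hasym : ¬ IsSymmetricIn (largestPReducedOf p M)) {g : G}
    (h1 : (pCoreOf p M).map (MulAut.conj g).toMonoidHom ≤ normalizer (pCoreOf p M : Set G))
    (h2 : pCoreOf p M ≤
      normalizer (((pCoreOf p M).map (MulAut.conj g).toMonoidHom : Subgroup G) : Set G)) :
    (pCoreOf p M).map (MulAut.conj g).toMonoidHom = pCoreOf p M := by
  set O := pCoreOf p M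
  set Y := largestPReducedOf p M
  obtain ⟨hY, -⟩ := pRedIn_largest (p := p) M
  have hOp : IsPGroup p O := isPGroup_pCoreOf M
  have hYp : IsPGroup p Y := CfsgLib.PLocal.elemAb_isPGroup hY.2.2.1
  have hNY := normalizer_pCoreOf_le_normalizer_largest T hTM hM
  set Ks : Set G := (M : Set G) ∪ {g, g⁻¹}
  have hKinv : ∀ y ∈ Ks, y⁻¹ ∈ Ks := by
    rintro y (hy | rfl | rfl)
    · exact Or.inl (inv_mem hy)
    · exact Or.inr (Or.inr rfl)
    · exact Or.inr (Or.inl (inv_inv g))
  have hgen : ∀ y ∈ Ks, O.map (MulAut.conj y).toMonoidHom ≤ normalizer (O : Set G) := by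
    rintro y (hy | rfl | rfl)
    · exact (CfsgLib.Coprime.map_conj_of_mem_normalizer (le_normalizer_pCoreOf M hy)).le.trans le_normalizer
    · exact h1
    · refine (map_mono h2).trans ?_
      rw [Subgroup.map_normalizer_eq_of_bijective _ (MulAut.conj g⁻¹).bijective, map_conj_inv_cancel]
  have key : ∀ n, ∀ l : List G, (∀ x ∈ l, x ∈ Ks) → l.length ≤ n →
      Y.map (MulAut.conj l.prod).toMonoidHom ≤ O := by
    intro n
    induction n with
    | zero =>
      intro l _ hlen
      rw [List.length_eq_zero_iff.1 (Nat.le_zero.1 hlen), List.prod_nil, map_conj_one']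
      exact hY.le_pCoreOf
    | succ n ih =>
      have hnorm : ∀ l : List G, (∀ x ∈ l, x ∈ Ks) → l.length ≤ n + 1 →
          Y.map (MulAut.conj l.prod).toMonoidHom ≤ normalizer (O : Set G) := by
        intro l hl hlen
        rcases l with _ | ⟨y, t⟩
        · rw [List.prod_nil, map_conj_one']; exact hY.le_pCoreOf.trans le_normalizer
        · rw [List.prod_cons, ← CfsgLib.Coprime.map_conj_conj]
          exact (map_mono (ih t (fun x hx => hl x (List.mem_cons_of_mem y hx))
            (Nat.le_of_succ_le_succ hlen))).trans (hgen y (hl y List.mem_cons_self))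
      intro l hl hlen
      set k := l.prod
      have hk : Y.map (MulAut.conj k).toMonoidHom ≤ normalizer (O : Set G) := hnorm l hl hlen
      have hk' : Y.map (MulAut.conj k⁻¹).toMonoidHom ≤ normalizer (O : Set G) := by
        have h := hnorm (l.map fun x => x⁻¹).reverse (fun x hx => by
          obtain ⟨y, hy, rfl⟩ := List.mem_map.1 (List.mem_reverse.1 hx)
          exact hKinv y (hl y hy)) (by simpa using hlen)
        rwa [← List.prod_inv_reverse] at h
      have hc1 : Y.map (MulAut.conj k).toMonoidHom ≤ normalizer (Y : Set G) := hk.trans hNY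
      have hc2 : Y ≤ normalizer ((Y.map (MulAut.conj k).toMonoidHom : Subgroup G) : Set G) := by
        have h := map_mono (f := (MulAut.conj k).toMonoidHom) (hk'.trans hNY)
        rwa [Subgroup.map_normalizer_eq_of_bijective _ (MulAut.conj k).bijective,
          CfsgLib.Coprime.map_conj_conj, mul_inv_cancel, map_conj_one'] at h
      have hc : ⁅Y, Y.map (MulAut.conj k).toMonoidHom⁆ = ⊥ := by
        by_contra hne
        exact hasym ⟨k, hne, le_inf (CfsgLib.Comp.commutator_le_of_le_normalizer hc1)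
          (by rw [Subgroup.commutator_comm]; exact CfsgLib.Comp.commutator_le_of_le_normalizer hc2)⟩
      refine le_pCoreOf_of_le_centralizer T hTM hM (hYp.map _) ?_ hk
      exact Subgroup.commutator_eq_bot_iff_le_centralizer.1 (by rwa [Subgroup.commutator_comm])
  set W := ⨆ l : {l : List G // ∀ x ∈ l, x ∈ Ks}, Y.map (MulAut.conj (l : List G).prod).toMonoidHom
  have hWO : W ≤ O := iSup_le fun l => key _ l l.2 le_rfl
  have hKW : ∀ y ∈ Ks, y ∈ normalizer (W : Set G) := by
    intro y hy
    apply CfsgLib.PLocal.mem_normalizer_map_conj.2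
    refine eq_of_le_of_card_ge ?_ (CfsgLib.Coprime.card_map_conj y W).ge
    rw [Subgroup.map_iSup]
    refine iSup_le fun l => ?_
    rw [CfsgLib.Coprime.map_conj_conj]
    refine le_iSup_of_le (⟨y :: (l : List G), ?_⟩ : {l : List G // ∀ x ∈ l, x ∈ Ks}) (by simp)
    intro x hx
    rcases List.mem_cons.1 hx with rfl | hx
    · exact hy
    · exact l.2 x hx
  have hW1 : W ≠ ⊥ := by
    intro hb
    refine largest_ne_bot T hTM hM.1 (le_bot_iff.1 (hb ▸ ?_))
    exact le_iSup_of_le (⟨[], by simp⟩ : {l : List G // ∀ x ∈ l, x ∈ Ks}) (by rw [List.prod_nil, map_conj_one'])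
  have hg : g ∈ normalizer (Y : Set G) :=
    dagger_le_normalizer M (normalizer_le_dagger T hG hTM hM (hOp.to_le hWO) hW1
      (fun m hm => hKW m (Or.inl hm)) (hKW g (Or.inr (Or.inl rfl))))
  refine eq_of_le_of_card_ge ?_ (CfsgLib.Coprime.card_map_conj g O).ge
  refine le_pCoreOf_of_le_centralizer T hTM hM (hOp.map _) ?_ h1
  have h3 : O ≤ centralizer (Y : Set G) := hY.pCoreOf_le_centralizer
  have h4 := CfsgLib.Coprime.map_conj_of_mem_normalizer
    (CfsgLib.Comp.normalizer_le_normalizer_centralizer Y hg)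
  exact (map_mono h3).trans h4.le

/-- If `Y_M` is asymmetric, `O_p(M)` is weakly closed. -/
theorem weaklyClosed_core (hG : IsOfParabolicCharacteristic p G) (T : Sylow p G) {M : Subgroup G}
    (hTM : (T : Subgroup G) ≤ M) (hM : IsInFrakM p M)
    (hasym : ¬ IsSymmetricIn (largestPReducedOf p M)) : IsWeaklyClosedSubgroup p (pCoreOf p M) := by
  refine (Cfsg.Agent.S2838.result (pCoreOf p M) (isPGroup_pCoreOf M) (mem_charPSubgroups_iff.1 hM.1).1).1.2
    fun g hg => core_eq_of_mutual hG T hTM hM hasym ?_ ?_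
  · exact Subgroup.le_normalizer_iff_commutator_le_left.2 (hg.trans inf_le_left)
  · exact Subgroup.le_normalizer_iff_commutator_le_left.2
      (by rw [Subgroup.commutator_comm]; exact hg.trans inf_le_right)

/-- The elements of a join `N P`, `P` a `p`-group normalizing `N`, of order prime to `p` lie in `N`. -/
theorem mem_of_coprime_sup {N P : Subgroup G} (hn : P ≤ normalizer (N : Set G)) (hP : IsPGroup p P)
    {x : G} (hx : x ∈ N ⊔ P) (hxp : (orderOf x).Coprime p) : x ∈ N := by
  set J := N ⊔ P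
  have hJ : J ≤ normalizer (N : Set G) := sup_le le_normalizer hn
  refine PMod.mem_of_coprime (D := J) ?_ hx hxp
  intro y hy
  obtain ⟨a, ha, b, hb, rfl⟩ := CfsgLib.Comp.exists_mul_of_mem_sup hn hy
  obtain ⟨k, hk⟩ := hP ⟨b, hb⟩
  have : (N.subgroupOf J).Normal := normal_subgroupOf_of_le_normalizer hJ
  set π := QuotientGroup.mk' (N.subgroupOf J)
  have e : π ((⟨a * b, hy⟩ : J) ^ p ^ k) = 1 := by
    rw [map_pow, show (⟨a * b, hy⟩ : J) = ⟨a, mem_sup_left ha⟩ * ⟨b, mem_sup_right hb⟩ from rfl,
      map_mul, show π ⟨a, mem_sup_left ha⟩ = 1 from (QuotientGroup.eq_one_iff _).2 ha, one_mul,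
      ← map_pow, show (⟨b, mem_sup_right hb⟩ : J) ^ p ^ k = 1 from Subtype.ext (congrArg Subtype.val hk :),
      map_one]
  exact ⟨k, (QuotientGroup.eq_one_iff (N := N.subgroupOf J) _).1 e⟩

/-- A `p`-subgroup normalized by `F*(X)` is trivial when `O_p(X) = 1`. -/
theorem eq_bot_of_fstar_normalizes {X : Type*} [Group X] [Finite X] (hO : pCore p X = ⊥)
    {D : Subgroup X} (hD : IsPGroup p D)
    (hn : generalizedFittingSubgroup X ≤ normalizer (D : Set X)) : D = ⊥ := by
  set F := generalizedFittingSubgroup X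
  have hFn : F.Normal := CfsgLib.Comp.generalizedFittingSubgroup_normal X
  have hb : D ⊓ F = ⊥ := by
    refine le_bot_iff.1 (le_trans ?_ hO.le)
    refine CfsgLib.Comp.le_pCore_of_isSubnormal ?_ (hD.to_le inf_le_left)
    refine Subgroup.IsSubnormal.trans inf_le_right ?_ hFn.isSubnormal
    refine Subgroup.Normal.isSubnormal (normal_subgroupOf_of_le_normalizer ?_)
    exact (le_inf hn le_normalizer).trans inf_normalizer_le_normalizer_inf
  have hc : D ≤ centralizer (F : Set X) := by
    rw [← Subgroup.commutator_eq_bot_iff_le_centralizer, eq_bot_iff, ← hb]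
    exact le_inf (CfsgLib.Comp.commutator_le_of_le_normalizer hn)
      (by rw [Subgroup.commutator_comm]
          exact CfsgLib.Comp.commutator_le_of_le_normalizer (CfsgLib.Comp.le_normalizer_of_normal' F D))
  exact le_bot_iff.1 (hb ▸ le_inf le_rfl (hc.trans (CfsgLib.Comp.centralizer_generalizedFitting_le X)))

/-- A `p`-subgroup of a group of characteristic `p` with weakly closed self-centralizing subgroup:
overgroups have characteristic `p`. -/
theorem charPElements_of_weaklyClosed {Q H P : Subgroup G} (hQp : IsPGroup p Q) (hQ1 : Q ≠ ⊥)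
    (hwc : IsWeaklyClosedSubgroup p Q) (hCQ : centralizer (Q : Set G) ≤ Q) (hH : CharPElements p H)
    (hQP : Q ≤ P) (hPH : P ≤ H) : CharPElements p P := by
  have hwc' : IsWeaklyClosedSubgroup p (Q.subgroupOf H) :=
    (Cfsg.Agent.S2839.result Q hQp hQ1 hwc H (hQP.trans hPH) (⊥ : Subgroup G)).1
  have hQ1' : Q.subgroupOf H ≠ ⊥ := by
    rw [Ne, subgroupOf_eq_bot, disjoint_iff, inf_eq_left.2 (hQP.trans hPH)]; exact hQ1
  have hCQ' : centralizer ((Q.subgroupOf H : Subgroup H) : Set H) ≤ Q.subgroupOf H := fun x hx =>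
    hCQ fun q hq => congrArg Subtype.val (hx ⟨q, hPH (hQP hq)⟩ hq)
  have h := (Cfsg.Agent.S2842.result (Q.subgroupOf H) (hQp.comap_of_injective _ H.subtype_injective) hQ1'
    hwc' hCQ' (P.subgroupOf H) (comap_mono hQP) (Or.inl (charPElements_iff.1 hH))).2.2
  have := (charPElements_map H.subtype H.subtype_injective).2 (charPElements_iff.2 h)
  rwa [subgroupOf_map_subtype, inf_eq_left.2 hPH] at this

end CfsgLib.Amalgam
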