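import Cfsg.Agent.Lib.Amalgam.Asymmetric

/-!
The module-theoretic core of the asymmetric `L`-lemma: a chief factor `V` of `H = ⟨Yˡ, O⟩ = ⟨Y, Oˡ⟩`
on which `[V, Y]` is centralized by `O`.
-/

set_option autoImplicit false
set_option linter.unusedSectionVars false

namespace CfsgLib.Amalgam.AsymL

open Cfsg Subgroup
open scoped commutatorElement

variable {Γ : Type*} [Group Γ] [Finite Γ] {p : ℕ} [Fact p.Prime]

theorem mem_normalizer_of_conj' {X : Subgroup Γ} {d : Γ} (h : ∀ y ∈ X, d * y * d⁻¹ ∈ X) :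
    d ∈ normalizer (X : Set Γ) :=
  CfsgLib.PLocal.mem_normalizer_map_conj.2 (Subgroup.eq_of_le_of_card_ge
    (by rintro _ ⟨y, hy, rfl⟩; exact h y hy) (CfsgLib.Coprime.card_map_conj d X).ge)

/-- The elements normalizing `V` and `X` and centralizing `V` modulo `X`. -/
def stab (V X : Subgroup Γ) : Subgroup Γ where
  carrier := {x | x ∈ normalizer (V : Set Γ) ∧ x ∈ normalizer (X : Set Γ) ∧ ∀ v ∈ V, ⁅x, v⁆ ∈ X}
  one_mem' := ⟨one_mem _, one_mem _, fun v _ => by simp⟩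
  mul_mem' := by
    rintro x y ⟨hx1, hx2, hx3⟩ ⟨hy1, hy2, hy3⟩
    refine ⟨mul_mem hx1 hy1, mul_mem hx2 hy2, fun v hv => ?_⟩
    rw [show ⁅x * y, v⁆ = x * ⁅y, v⁆ * x⁻¹ * ⁅x, v⁆ by simp only [commutatorElement_def]; group]
    exact mul_mem ((mem_normalizer_iff.1 hx2 _).1 (hy3 v hv)) (hx3 v hv)
  inv_mem' := by
    rintro x ⟨hx1, hx2, hx3⟩
    refine ⟨inv_mem hx1, inv_mem hx2, fun v hv => ?_⟩
    rw [show ⁅x⁻¹, v⁆ = (x⁻¹ * ⁅x, v⁆ * x⁻¹⁻¹)⁻¹ by simp only [commutatorElement_def]; group]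
    exact inv_mem ((mem_normalizer_iff.1 (inv_mem hx2) _).1 (hx3 v hv))

theorem le_stab {V X A : Subgroup Γ} (h1 : A ≤ normalizer (V : Set Γ))
    (h2 : A ≤ normalizer (X : Set Γ)) (h3 : ⁅V, A⁆ ≤ X) : A ≤ stab V X := fun a ha =>
  ⟨h1 ha, h2 ha, fun v hv => by
    rw [← commutatorElement_inv]; exact inv_mem (h3 (commutator_mem_commutator hv ha))⟩

theorem commutator_le_of_le_stab {V X A : Subgroup Γ} (h : A ≤ stab V X) : ⁅V, A⁆ ≤ X :=
  commutator_le.2 fun v hv a ha => by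
    rw [← commutatorElement_inv]; exact inv_mem ((h ha).2.2 v hv)

theorem le_normalizer_stab {V X A : Subgroup Γ} (h1 : A ≤ normalizer (V : Set Γ))
    (h2 : A ≤ normalizer (X : Set Γ)) : A ≤ normalizer ((stab V X : Subgroup Γ) : Set Γ) := by
  intro a ha
  refine mem_normalizer_of_conj' fun x hx => ⟨mul_mem (mul_mem (h1 ha) hx.1) (inv_mem (h1 ha)),
    mul_mem (mul_mem (h2 ha) hx.2.1) (inv_mem (h2 ha)), fun v hv => ?_⟩
  rw [show ⁅a * x * a⁻¹, v⁆ = a * ⁅x, a⁻¹ * v * a⁆ * a⁻¹ by simp only [commutatorElement_def]; group]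
  exact (mem_normalizer_iff.1 (h2 ha) _).1 (hx.2.2 _ ((mem_normalizer_iff''.1 (h1 ha) _).1 hv))

theorem normalize_of_comm_le {V X A : Subgroup Γ} (hXV : X ≤ V) (h : ⁅V, A⁆ ≤ X) :
    A ≤ normalizer (X : Set Γ) := fun a ha => mem_normalizer_of_conj' fun x hx => by
  rw [show a * x * a⁻¹ = ⁅x, a⁆⁻¹ * x by simp only [commutatorElement_def]; group]
  exact mul_mem (inv_mem (h (commutator_mem_commutator (hXV hx) ha))) hx

theorem commutator_eq_bot_map {Δ : Type*} [Group Δ] (f : Γ →* Δ) {A B : Subgroup Γ}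
    (h : A ≤ centralizer (B : Set Γ)) : A.map f ≤ centralizer ((B.map f : Subgroup Δ) : Set Δ) := by
  rw [← commutator_eq_bot_iff_le_centralizer] at h ⊢
  rw [← Subgroup.map_commutator, h, Subgroup.map_bot]

/-- The image of `X` under conjugation by `g`. -/
abbrev cj (X : Subgroup Γ) (g : Γ) : Subgroup Γ := X.map (MulAut.conj g).toMonoidHom

theorem cj_le_normalizer {X Z : Subgroup Γ} (g : Γ) (h : X ≤ normalizer (Z : Set Γ)) :
    cj X g ≤ normalizer ((cj Z g : Subgroup Γ) : Set Γ) := by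
  have h' := map_mono (f := (MulAut.conj g).toMonoidHom) h
  rwa [Subgroup.map_normalizer_eq_of_bijective _ (MulAut.conj g).bijective] at h'

/-- A chief factor of `H` for the asymmetric configuration. -/
structure Ctx (p : ℕ) (H Y O V : Subgroup Γ) (l : Γ) : Prop where
  isP : IsPGroup p V
  hO : IsPGroup p O
  comm : ∀ a ∈ V, ∀ b ∈ V, a * b = b * a
  hV : H ≤ normalizer (V : Set Γ)
  irr : ∀ X : Subgroup Γ, X ≤ V → H ≤ normalizer (X : Set Γ) → X = ⊥ ∨ X = V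
  nc : ¬ ⁅V, H⁆ = ⊥
  hYO : Y ≤ O
  hOY : O ≤ centralizer (Y : Set Γ)
  hOH : O ≤ H
  lmem : l ∈ Y ⊔ cj Y l
  gen1 : cj Y l ⊔ O = H
  gen2 : Y ⊔ cj O l = H
  quad : ⁅⁅V, Y⁆, O⁆ = ⊥

variable {H Y O V : Subgroup Γ} {l : Γ}

namespace Ctx

variable (c : Ctx p H Y O V l)
include c

theorem YH : Y ≤ H := c.hYO.trans c.hOH
theorem YlH : cj Y l ≤ H := le_sup_left.trans c.gen1.le
theorem LH : Y ⊔ cj Y l ≤ H := sup_le c.YH c.YlH
theorem lH : l ∈ H := c.LH c.lmem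
theorem LV : Y ⊔ cj Y l ≤ normalizer (V : Set Γ) := c.LH.trans c.hV
theorem OlH : cj O l ≤ H := le_sup_right.trans c.gen2.le
theorem YlOl : cj Y l ≤ cj O l := map_mono c.hYO

theorem cjV {g : Γ} (hg : g ∈ H) : cj V g = V :=
  CfsgLib.Coprime.map_conj_of_mem_normalizer (c.hV hg)

theorem U_le : ⁅V, Y⁆ ≤ V := CfsgLib.Comp.commutator_le_of_le_normalizer (c.YH.trans c.hV)

theorem Ul_eq : cj ⁅V, Y⁆ l = ⁅V, cj Y l⁆ := by
  rw [cj, Subgroup.map_commutator, show V.map (MulAut.conj l).toMonoidHom = V from c.cjV c.lH]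

theorem Ul_le : cj ⁅V, Y⁆ l ≤ V := (map_mono c.U_le).trans (c.cjV c.lH).le

theorem O_centralizes_U : O ≤ centralizer ((⁅V, Y⁆ : Subgroup Γ) : Set Γ) :=
  commutator_eq_bot_iff_le_centralizer.1 (by rw [Subgroup.commutator_comm]; exact c.quad)

theorem Ol_centralizes_Ul : cj O l ≤ centralizer ((cj ⁅V, Y⁆ l : Subgroup Γ) : Set Γ) :=
  commutator_eq_bot_map _ c.O_centralizes_U

theorem VO_centralized : ⁅V, O⁆ ≤ centralizer (Y : Set Γ) := by
  refine commutator_eq_bot_iff_le_centralizer.1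
    (Subgroup.commutator_commutator_eq_bot_of_rotate ?_ ?_)
  · rw [commutator_eq_bot_iff_le_centralizer.2 c.hOY, Subgroup.commutator_bot_left]
  · rw [Subgroup.commutator_comm Y V]; exact c.quad

theorem fix_eq_bot {A B X : Subgroup Γ} (hAB : A ⊔ B = H) (hX : X ≤ V)
    (h1 : X ≤ centralizer (A : Set Γ)) (h2 : X ≤ centralizer (B : Set Γ)) : X = ⊥ := by
  set X0 := V ⊓ centralizer (A : Set Γ) ⊓ centralizer (B : Set Γ)
  have hc : H ≤ centralizer (X0 : Set Γ) := hAB.ge.trans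
    (sup_le (le_centralizer_iff.1 (inf_le_left.trans inf_le_right)) (le_centralizer_iff.1 inf_le_right))
  rcases c.irr X0 (inf_le_left.trans inf_le_left) (hc.trans (centralizer_le_normalizer _)) with h | h
  · exact le_bot_iff.1 ((le_inf (le_inf hX h1) h2).trans h.le)
  · exfalso
    refine c.nc (commutator_eq_bot_iff_le_centralizer.2 ?_)
    rw [h] at hc
    exact le_centralizer_iff.1 hc

theorem U_inf_centralizer : ⁅V, Y⁆ ⊓ centralizer ((cj Y l : Subgroup Γ) : Set Γ) = ⊥ :=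
  c.fix_eq_bot c.gen1 (inf_le_left.trans c.U_le) inf_le_right
    (inf_le_left.trans (le_centralizer_iff.1 c.O_centralizes_U))

theorem Ul_inf_centralizer : cj ⁅V, Y⁆ l ⊓ centralizer (Y : Set Γ) = ⊥ :=
  c.fix_eq_bot c.gen2 (inf_le_left.trans c.Ul_le) inf_le_right
    (inf_le_left.trans (le_centralizer_iff.1 c.Ol_centralizes_Ul))

theorem U_le_centralizer : ⁅V, Y⁆ ≤ centralizer (Y : Set Γ) :=
  le_centralizer_iff.1 (c.hYO.trans c.O_centralizes_U)

theorem Ul_le_centralizer : cj ⁅V, Y⁆ l ≤ centralizer ((cj Y l : Subgroup Γ) : Set Γ) :=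
  le_centralizer_iff.1 (c.YlOl.trans c.Ol_centralizes_Ul)

theorem le_normalizer_of_le {A B : Subgroup Γ} (hA : A ≤ V) (hB : B ≤ V) :
    B ≤ normalizer (A : Set Γ) := fun b hb =>
  centralizer_le_normalizer _ fun a ha => c.comm a (hA ha) b (hB hb)

theorem L_le_stab : Y ⊔ cj Y l ≤ stab V (⁅V, Y⁆ ⊔ cj ⁅V, Y⁆ l) := by
  have hW := sup_le c.U_le c.Ul_le
  refine sup_le (le_stab (c.YH.trans c.hV) (normalize_of_comm_le hW le_sup_left) le_sup_left)
    (le_stab (c.YlH.trans c.hV) (normalize_of_comm_le hW ?_) ?_) <;>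
  exact c.Ul_eq.ge.trans le_sup_right

theorem mem_W_of_centralized {e : Γ} (he : e ∈ ⁅V, Y⁆ ⊔ cj ⁅V, Y⁆ l)
    (hY : e ∈ centralizer (Y : Set Γ)) : e ∈ ⁅V, Y⁆ := by
  obtain ⟨u, hu, u', hu', rfl⟩ := CfsgLib.Comp.exists_mul_of_mem_sup
    (c.le_normalizer_of_le c.U_le c.Ul_le) he
  have h1 : u' ∈ cj ⁅V, Y⁆ l ⊓ centralizer (Y : Set Γ) := mem_inf.2 ⟨hu', by
    rw [show u' = u⁻¹ * (u * u') by group]
    exact mul_mem (inv_mem (c.U_le_centralizer hu)) hY⟩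
  rw [c.Ul_inf_centralizer, mem_bot] at h1
  rwa [h1, mul_one]

/-- `V = [V, Y] C_V(Yˡ)`. -/
theorem V_le_sup : V ≤ ⁅V, Y⁆ ⊔ (V ⊓ centralizer ((cj Y l : Subgroup Γ) : Set Γ)) := by
  have h0 : ⁅V, cj O l⁆ ≤ centralizer ((cj Y l : Subgroup Γ) : Set Γ) := by
    have := commutator_eq_bot_map (MulAut.conj l).toMonoidHom c.VO_centralized
    rwa [Subgroup.map_commutator, show V.map (MulAut.conj l).toMonoidHom = V from c.cjV c.lH] at this
  have hle : ⁅V, cj O l⁆ ≤ V := CfsgLib.Comp.commutator_le_of_le_normalizer (c.OlH.trans c.hV)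
  set X := ⁅V, Y⁆ ⊔ ⁅V, cj O l⁆
  have hXV : X ≤ V := sup_le c.U_le hle
  have hn : H ≤ normalizer (X : Set Γ) := c.gen2.ge.trans
    (sup_le (normalize_of_comm_le hXV le_sup_left) (normalize_of_comm_le hXV le_sup_right))
  rcases c.irr X hXV hn with h | h
  · exfalso
    refine c.nc (commutator_eq_bot_iff_le_centralizer.2 (le_centralizer_iff.1 ?_))
    rw [← c.gen2]
    have h1 := le_bot_iff.1 (le_sup_left.trans h.le : ⁅V, Y⁆ ≤ ⊥)
    have h2 := le_bot_iff.1 (le_sup_right.trans h.le : ⁅V, cj O l⁆ ≤ ⊥)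
    exact sup_le (le_centralizer_iff.1 (commutator_eq_bot_iff_le_centralizer.1 h1))
      (le_centralizer_iff.1 (commutator_eq_bot_iff_le_centralizer.1 h2))
  · conv_lhs => rw [← h]
    exact sup_le le_sup_left ((le_inf hle h0).trans le_sup_right)

/-- `C_V(Y) = [V, Y] C_V(L)`. -/
theorem C_le_sup : V ⊓ centralizer (Y : Set Γ) ≤ ⁅V, Y⁆ ⊔
    (V ⊓ centralizer (Y : Set Γ) ⊓ centralizer ((cj Y l : Subgroup Γ) : Set Γ)) := by
  intro v hv
  obtain ⟨u, hu, c0, hc0, rfl⟩ := CfsgLib.Comp.exists_mul_of_mem_sup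
    (c.le_normalizer_of_le c.U_le inf_le_left) (c.V_le_sup (mem_inf.1 hv).1)
  refine mul_mem (mem_sup_left hu) (mem_sup_right (mem_inf.2 ⟨mem_inf.2 ⟨(mem_inf.1 hc0).1, ?_⟩,
    (mem_inf.1 hc0).2⟩))
  rw [show c0 = u⁻¹ * (u * c0) by group]
  exact mul_mem (inv_mem (c.U_le_centralizer hu)) (mem_inf.1 hv).2

theorem L_centralizes : Y ⊔ cj Y l ≤ centralizer ((V ⊓ centralizer (Y : Set Γ) ⊓
    centralizer ((cj Y l : Subgroup Γ) : Set Γ) : Subgroup Γ) : Set Γ) :=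
  sup_le (le_centralizer_iff.1 (inf_le_left.trans inf_le_right)) (le_centralizer_iff.1 inf_le_right)

/-- A conjugate in `L` of `[V, Y]` centralized by `Y` is `[V, Y]`. -/
theorem U_conj_eq {g : Γ} (hg : g ∈ Y ⊔ cj Y l)
    (hfix : Y ≤ centralizer ((cj ⁅V, Y⁆ g : Subgroup Γ) : Set Γ)) : cj ⁅V, Y⁆ g = ⁅V, Y⁆ := by
  refine Subgroup.eq_of_le_of_card_ge (fun e he => ?_) (CfsgLib.Coprime.card_map_conj g _).ge
  refine c.mem_W_of_centralized ?_ (le_centralizer_iff.1 hfix he)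
  exact ((map_mono le_sup_left).trans
    (CfsgLib.Coprime.map_conj_of_mem_normalizer (c.L_le_stab hg).2.1).le) he

theorem conj_mem_U {g : Γ} (hU : cj ⁅V, Y⁆ g = ⁅V, Y⁆) {u : Γ} (hu : u ∈ ⁅V, Y⁆) :
    g * u * g⁻¹ ∈ ⁅V, Y⁆ := hU.le ⟨u, hu, rfl⟩

/-- If `g ∈ L` fixes `[V, Y]`, the elements of order prime to `p` of `⟨O, Oᵍ⟩` centralize `V`. -/
theorem coprime_mem_centralizer {g : Γ} (hg : g ∈ Y ⊔ cj Y l) (hU : cj ⁅V, Y⁆ g = ⁅V, Y⁆)
    {x : Γ} (hx : x ∈ O ⊔ cj O g) (hxp : (orderOf x).Coprime p) : x ∈ centralizer (V : Set Γ) := by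
  set U := ⁅V, Y⁆ with hUdef
  set C := V ⊓ centralizer (Y : Set Γ) with hCdef
  set CL := C ⊓ centralizer ((cj Y l : Subgroup Γ) : Set Γ) with hCLdef
  have hUC : U ≤ C := le_inf c.U_le c.U_le_centralizer
  have hC : C ≤ U ⊔ CL := c.C_le_sup
  have hgCL : ∀ w ∈ CL, g * w * g⁻¹ = w := fun w hw =>
    mul_inv_eq_iff_eq_mul.2 (c.L_centralizes hg w hw).symm
  have hCg : cj C g = C := Subgroup.eq_of_le_of_card_ge (by
    refine (map_mono hC).trans ?_
    rw [Subgroup.map_sup]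
    refine sup_le (hU.le.trans hUC) ?_
    rintro _ ⟨w, hw, rfl⟩
    show g * w * g⁻¹ ∈ C
    rw [hgCL w hw]
    exact (mem_inf.1 hw).1) (CfsgLib.Coprime.card_map_conj g C).ge
  have hOC : O ≤ normalizer (C : Set Γ) :=
    (le_inf (c.hOH.trans c.hV) ((c.hOY.trans (centralizer_le_normalizer _)).trans
      (CfsgLib.Comp.normalizer_le_normalizer_centralizer Y))).trans inf_normalizer_le_normalizer_inf
  have hOU : O ≤ normalizer (U : Set Γ) := c.O_centralizes_U.trans (centralizer_le_normalizer _)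
  have hgV : cj V g = V := c.cjV (c.LH hg)
  have hO'C : cj O g ≤ normalizer (C : Set Γ) := by
    have := cj_le_normalizer g hOC; rwa [hCg] at this
  have hO'V : cj O g ≤ normalizer (V : Set Γ) := by
    have := cj_le_normalizer g (c.hOH.trans c.hV); rwa [hgV] at this
  have hO'cU : cj O g ≤ centralizer (U : Set Γ) := by
    have := commutator_eq_bot_map (MulAut.conj g).toMonoidHom c.O_centralizes_U
    rwa [show U.map (MulAut.conj g).toMonoidHom = U from hU] at this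
  have hO'U : cj O g ≤ normalizer (U : Set Γ) := hO'cU.trans (centralizer_le_normalizer _)
  have hVC : ∀ {A : Subgroup Γ}, A = O ∨ A = cj O g → ⁅V, A⁆ ≤ C := by
    rintro A (rfl | rfl)
    · exact le_inf (CfsgLib.Comp.commutator_le_of_le_normalizer (c.hOH.trans c.hV)) c.VO_centralized
    · have h1 : ⁅V, O⁆ ≤ C :=
        le_inf (CfsgLib.Comp.commutator_le_of_le_normalizer (c.hOH.trans c.hV)) c.VO_centralized
      have := map_mono (f := (MulAut.conj g).toMonoidHom) h1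
      rw [Subgroup.map_commutator, show V.map (MulAut.conj g).toMonoidHom = V from hgV] at this
      exact this.trans hCg.le
  have htop : O ⊔ cj O g ≤ stab V C := sup_le (le_stab (c.hOH.trans c.hV) hOC (hVC (Or.inl rfl)))
    (le_stab hO'V hO'C (hVC (Or.inr rfl)))
  have hKm : cj O g ≤ stab C U ⊔ O := by
    rintro _ ⟨o, ho, rfl⟩
    show g * o * g⁻¹ ∈ _
    suffices hs : o⁻¹ * (g * o * g⁻¹) ∈ stab C U by
      rw [sup_comm, show g * o * g⁻¹ = o * (o⁻¹ * (g * o * g⁻¹)) by group]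
      exact mul_mem (mem_sup_left ho) (mem_sup_right hs)
    have ho' : g * o * g⁻¹ ∈ cj O g := ⟨o, ho, rfl⟩
    refine ⟨mul_mem (inv_mem (hOC ho)) (hO'C ho'), mul_mem (inv_mem (hOU ho)) (hO'U ho'), fun v hv => ?_⟩
    obtain ⟨u, hu, w, hw, rfl⟩ := CfsgLib.Comp.exists_mul_of_mem_sup
      (c.le_normalizer_of_le c.U_le (inf_le_left.trans inf_le_left)) (hC hv)
    -- `d = o w o⁻¹`
    have hd : o * w * o⁻¹ ∈ C := (mem_normalizer_iff.1 (hOC ho) _).1 (mem_inf.1 hw).1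
    obtain ⟨u1, hu1, w1, hw1, hd'⟩ := CfsgLib.Comp.exists_mul_of_mem_sup
      (c.le_normalizer_of_le c.U_le (inf_le_left.trans inf_le_left)) (hC hd)
    have hu2 : g * u1 * g⁻¹ * u1⁻¹ ∈ U := mul_mem (c.conj_mem_U hU hu1) (inv_mem hu1)
    have hvV : u * (o * w * o⁻¹) ∈ V := mul_mem (c.U_le hu) (mem_inf.1 hd).1
    have e1 : g * o * g⁻¹ * u * (g * o * g⁻¹)⁻¹ = u :=
      mul_inv_eq_iff_eq_mul.2 (hO'cU ho' u hu).symm
    have e1' : o * u * o⁻¹ = u := mul_inv_eq_iff_eq_mul.2 (c.O_centralizes_U ho u hu).symm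
    have e2 : g * o * g⁻¹ * w * (g * o * g⁻¹)⁻¹ = g * u1 * g⁻¹ * u1⁻¹ * (o * w * o⁻¹) := by
      calc g * o * g⁻¹ * w * (g * o * g⁻¹)⁻¹
          = g * o * (g⁻¹ * (g * w * g⁻¹) * g) * o⁻¹ * g⁻¹ := by rw [hgCL w hw]; group
        _ = g * (o * w * o⁻¹) * g⁻¹ := by group
        _ = g * (u1 * w1) * g⁻¹ := by rw [hd']
        _ = g * u1 * g⁻¹ * (g * w1 * g⁻¹) := by group
        _ = g * u1 * g⁻¹ * u1⁻¹ * (u1 * w1) := by rw [hgCL w1 hw1]; group
        _ = _ := by rw [hd']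
    have e3 : o⁻¹ * (g * u1 * g⁻¹ * u1⁻¹) * o = g * u1 * g⁻¹ * u1⁻¹ := by
      rw [mul_assoc, c.O_centralizes_U ho _ hu2, inv_mul_cancel_left]
    have e4 : g * o * g⁻¹ * (u * w) * (g * o * g⁻¹)⁻¹ =
        g * u1 * g⁻¹ * u1⁻¹ * (o * (u * w) * o⁻¹) := by
      calc g * o * g⁻¹ * (u * w) * (g * o * g⁻¹)⁻¹
          = (g * o * g⁻¹ * u * (g * o * g⁻¹)⁻¹) * (g * o * g⁻¹ * w * (g * o * g⁻¹)⁻¹) := by group
        _ = u * (g * u1 * g⁻¹ * u1⁻¹ * (o * w * o⁻¹)) := by rw [e1, e2]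
        _ = (u * (g * u1 * g⁻¹ * u1⁻¹)) * (o * w * o⁻¹) := by group
        _ = ((g * u1 * g⁻¹ * u1⁻¹) * u) * (o * w * o⁻¹) := by
              rw [c.comm u (c.U_le hu) _ (c.U_le hu2)]
        _ = g * u1 * g⁻¹ * u1⁻¹ * (o * u * o⁻¹ * (o * w * o⁻¹)) := by rw [e1']; group
        _ = _ := by group
    have e5 : ⁅o⁻¹ * (g * o * g⁻¹), u * w⁆ = g * u1 * g⁻¹ * u1⁻¹ := by
      calc ⁅o⁻¹ * (g * o * g⁻¹), u * w⁆
          = o⁻¹ * (g * o * g⁻¹ * (u * w) * (g * o * g⁻¹)⁻¹) * o * (u * w)⁻¹ := by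
            rw [commutatorElement_def]; group
        _ = o⁻¹ * (g * u1 * g⁻¹ * u1⁻¹) * o := by rw [e4]; group
        _ = _ := e3
    rw [e5]; exact hu2
  have hxC : x ∈ stab C U := mem_of_coprime_sup (le_normalizer_stab hOC hOU) c.hO
    ((sup_le le_sup_right hKm) hx) hxp
  have hxU : x ∈ centralizer (U : Set Γ) := (sup_le c.O_centralizes_U hO'cU) hx
  exact centralizes_of_stabilizes inf_le_left c.isP hxp
    (centralizes_of_stabilizes hUC (c.isP.to_le inf_le_left) hxp hxU hxC.2.2) (htop hx).2.2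

theorem U_ne_bot : ⁅V, Y⁆ ≠ ⊥ := by
  intro h
  have h1 : V ≤ centralizer (Y : Set Γ) := commutator_eq_bot_iff_le_centralizer.1 h
  have h2 : V ≤ centralizer ((cj Y l : Subgroup Γ) : Set Γ) := by
    have := commutator_eq_bot_map (MulAut.conj l).toMonoidHom h1
    rwa [show V.map (MulAut.conj l).toMonoidHom = V from c.cjV c.lH] at this
  by_cases hV1 : V = ⊥
  · exact c.nc (by rw [hV1, Subgroup.commutator_bot_left])
  refine inf_centralizer_ne_bot c.hO c.isP hV1 (c.hOH.trans c.hV) ?_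
  exact c.fix_eq_bot c.gen1 inf_le_left (inf_le_left.trans h2) inf_le_right

/-- A subgroup `A` of `Y` with `[Y, Aˡ] ≤ A` centralizes `V`. -/
theorem le_centralizer_of_commutator_le {A : Subgroup Γ} (hAY : A ≤ Y)
    (hA : ⁅Y, cj A l⁆ ≤ A) : A ≤ centralizer (V : Set Γ) := by
  set U := ⁅V, Y⁆
  have hAlY : cj A l ≤ normalizer (Y : Set Γ) := normalize_of_comm_le le_rfl (hA.trans hAY)
  have hAlH : cj A l ≤ H := (map_mono hAY).trans c.YlH
  have hUAl : cj A l ≤ normalizer (U : Set Γ) := by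
    intro a ha
    apply CfsgLib.PLocal.mem_normalizer_map_conj.2
    rw [Subgroup.map_commutator, CfsgLib.Coprime.map_conj_of_mem_normalizer (c.hV (hAlH ha)),
      CfsgLib.Coprime.map_conj_of_mem_normalizer (hAlY ha)]
  set CA := V ⊓ centralizer (A : Set Γ)
  have hUA : U ≤ centralizer (A : Set Γ) := c.U_le_centralizer.trans (centralizer_le hAY)
  have key : CA ≤ centralizer ((cj A l : Subgroup Γ) : Set Γ) := by
    intro x hx
    obtain ⟨hxV, hxA⟩ := mem_inf.1 hx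
    intro a ha
    have he : ⁅x, a⁆ ∈ cj U l := by
      rw [c.Ul_eq]; exact commutator_mem_commutator hxV (map_mono hAY ha)
    have hfix : ∀ y ∈ Y, y * ⁅x, a⁆ = ⁅x, a⁆ * y := by
      intro y hy
      have hu : ⁅y, x⁆ ∈ U := by
        rw [← commutatorElement_inv]; exact inv_mem (commutator_mem_commutator hxV hy)
      have hcA : a⁻¹ * y * a * y⁻¹ ∈ A := by
        have h1 := hA (commutator_mem_commutator hy (inv_mem ha))
        rw [show a⁻¹ * y * a * y⁻¹ = ⁅y, a⁻¹⁆⁻¹ by rw [commutatorElement_def]; group]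
        exact inv_mem h1
      have hua : ⁅⁅y, x⁆, a⁆ = 1 := by
        rw [← mem_bot, ← c.U_inf_centralizer, mem_inf]
        refine ⟨?_, c.Ul_le_centralizer (c.Ul_eq.ge (commutator_mem_commutator (c.U_le hu) (map_mono hAY ha)))⟩
        rw [commutatorElement_def, mul_assoc, mul_assoc]
        exact mul_mem hu (by rw [← mul_assoc]; exact (mem_normalizer_iff.1 (hUAl ha) _).1 (inv_mem hu))
      have hcomm : ∀ z ∈ A, ⁅⁅y, x⁆ * x, z⁆ = 1 := fun z hz =>
        commutatorElement_eq_one_iff_mul_comm.2 (mul_mem (hUA hu) hxA z hz).symm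
      have e : y * ⁅x, a⁆ * y⁻¹ = ⁅x, a⁆ := by
        calc y * ⁅x, a⁆ * y⁻¹ = ⁅⁅y, x⁆ * x, a * (a⁻¹ * y * a * y⁻¹)⁆ := by
              simp only [commutatorElement_def]; group
          _ = ⁅⁅y, x⁆ * x, a⁆ * (a * ⁅⁅y, x⁆ * x, a⁻¹ * y * a * y⁻¹⁆ * a⁻¹) := by
              simp only [commutatorElement_def]; group
          _ = ⁅⁅y, x⁆ * x, a⁆ := by rw [hcomm _ hcA]; group
          _ = ⁅y, x⁆ * ⁅x, a⁆ * ⁅y, x⁆⁻¹ * ⁅⁅y, x⁆, a⁆ := by
              simp only [commutatorElement_def]; group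
          _ = ⁅x, a⁆ := by
              rw [hua, mul_one, c.comm _ (c.U_le hu) _ (c.Ul_le he)]; group
      exact mul_inv_eq_iff_eq_mul.1 e
    have : ⁅x, a⁆ = 1 := by
      rw [← mem_bot, ← c.Ul_inf_centralizer, mem_inf]; exact ⟨he, hfix⟩
    exact (commutatorElement_eq_one_iff_mul_comm.1 this).symm
  have hCAl : cj CA l = CA := by
    refine (Subgroup.eq_of_le_of_card_ge ?_ (CfsgLib.Coprime.card_map_conj l CA).le).symm
    intro x hx
    have hx' : l⁻¹ * x * l ∈ CA := by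
      refine mem_inf.2 ⟨(mem_normalizer_iff''.1 (c.hV c.lH) _).1 (mem_inf.1 hx).1, fun a ha => ?_⟩
      have h1 : l * a * l⁻¹ * x = x * (l * a * l⁻¹) := key hx _ ⟨a, ha, rfl⟩
      calc a * (l⁻¹ * x * l) = l⁻¹ * (l * a * l⁻¹ * x) * l := by group
        _ = l⁻¹ * (x * (l * a * l⁻¹)) * l := by rw [h1]
        _ = _ := by group
    refine ⟨_, hx', ?_⟩
    show l * (l⁻¹ * x * l) * l⁻¹ = x
    group
  have hOn : O ≤ normalizer (CA : Set Γ) :=
    (le_inf (c.hOH.trans c.hV) (((c.hOY.trans (centralizer_le hAY)).trans (centralizer_le_normalizer _)).trans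
      (CfsgLib.Comp.normalizer_le_normalizer_centralizer A))).trans inf_normalizer_le_normalizer_inf
  have hYn : cj Y l ≤ normalizer (CA : Set Γ) := by
    have := cj_le_normalizer l (c.hYO.trans hOn); rwa [hCAl] at this
  rcases c.irr CA inf_le_left (c.gen1.ge.trans (sup_le hYn hOn)) with h | h
  · exact absurd (le_bot_iff.1 ((le_inf c.U_le hUA).trans h.le)) c.U_ne_bot
  · exact le_centralizer_iff.1 (h.ge.trans inf_le_right)

/-- An element of `L` of order prime to `p` centralizing `[V, Y]` and `[V, Yˡ]` centralizes `V`. -/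
theorem mem_centralizer_of_centralizes {x : Γ} (hx : x ∈ Y ⊔ cj Y l) (hxp : (orderOf x).Coprime p)
    (h1 : x ∈ centralizer ((⁅V, Y⁆ : Subgroup Γ) : Set Γ))
    (h2 : x ∈ centralizer ((cj ⁅V, Y⁆ l : Subgroup Γ) : Set Γ)) : x ∈ centralizer (V : Set Γ) := by
  refine centralizes_of_stabilizes (sup_le c.U_le c.Ul_le) c.isP hxp ?_ (c.L_le_stab hx).2.2
  have h3 : zpowers x ≤ centralizer ((⁅V, Y⁆ ⊔ cj ⁅V, Y⁆ l : Subgroup Γ) : Set Γ) :=
    le_centralizer_iff.1 (sup_le (le_centralizer_iff.1 (zpowers_le.2 h1))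
      (le_centralizer_iff.1 (zpowers_le.2 h2)))
  exact h3 (mem_zpowers x)

/-- `L` does not act on `V` as a `p`-group. -/
theorem not_forall_coprime_centralizes
    (h : ∀ x ∈ Y ⊔ cj Y l, (orderOf x).Coprime p → x ∈ centralizer (V : Set Γ)) : False := by
  set L := Y ⊔ cj Y l
  set W := ⁅V, Y⁆ ⊔ cj ⁅V, Y⁆ l
  set D := L ⊓ centralizer (V : Set Γ)
  have hD : L ≤ normalizer (D : Set Γ) :=
    (le_inf le_normalizer (c.LV.trans (CfsgLib.Comp.normalizer_le_normalizer_centralizer V))).trans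
      inf_normalizer_le_normalizer_inf
  have hmod : PMod p D L := by
    intro x hx
    obtain ⟨k, m, hm, hkm⟩ := Nat.exists_eq_pow_mul_and_not_dvd (orderOf_pos x).ne' p (Fact.out : p.Prime).ne_one
    refine ⟨k, mem_inf.2 ⟨pow_mem hx _, h _ (pow_mem hx _) ?_⟩⟩
    rw [orderOf_pow, hkm, Nat.gcd_eq_right (Dvd.intro m rfl), Nat.mul_div_cancel_left _ (pow_pos (Fact.out : p.Prime).pos _)]
    exact ((Fact.out : p.Prime).coprime_iff_not_dvd.2 hm).symm
  obtain ⟨P, hP⟩ := exists_isSylIn (p := p) L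
  have hcov := pMod_cover hD hmod hP
  have hWV : W ≤ V := sup_le c.U_le c.Ul_le
  have hW1 : W ≠ ⊥ := fun h0 => c.U_ne_bot (le_bot_iff.1 (le_sup_left.trans h0.le))
  refine inf_centralizer_ne_bot hP.2.1 (c.isP.to_le hWV) hW1
    (fun g hg => (c.L_le_stab (hP.1 hg)).2.1) ((Subgroup.eq_bot_iff_forall _).2 fun e he => ?_)
  obtain ⟨heW, heP⟩ := mem_inf.1 he
  have hL : L ≤ centralizer ((zpowers e : Subgroup Γ) : Set Γ) := by
    refine hcov.trans (sup_le ?_ (le_centralizer_iff.1 (zpowers_le.2 heP)))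
    exact le_centralizer_iff.1 (zpowers_le.2 (mem_centralizer_iff.2 fun d (hd : d ∈ D ⊓ L) => (mem_centralizer_iff.1 (mem_inf.1 (mem_inf.1 hd).1).2 e (hWV heW)).symm))
  have heL : e ∈ centralizer (L : Set Γ) := le_centralizer_iff.1 hL (mem_zpowers e)
  have heU := c.mem_W_of_centralized heW (centralizer_le (le_sup_left : Y ≤ L) heL)
  rw [← mem_bot, ← c.U_inf_centralizer, mem_inf]
  exact ⟨heU, centralizer_le (le_sup_right : cj Y l ≤ L) heL⟩

end Ctx

end CfsgLib.Amalgam.AsymL
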