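import Cfsg.Agent.Lib.Amalgam.AsymmetricL

/-!
The chief factors of `H` in the asymmetric configuration, and their consequences for `L = ⟨Y, Yˡ⟩`.
-/

set_option autoImplicit false
set_option linter.unusedSectionVars false

namespace CfsgLib.Amalgam.AsymL

open Cfsg Subgroup
open scoped commutatorElement

variable {G : Type*} [Group G] [Finite G] {p : ℕ} [Fact p.Prime]

/-- A noncentral chief factor `V / W` of `H` inside `O_p(H)`. -/
def IsNCFactor (p : ℕ) (H V W : Subgroup G) : Prop :=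
  V ≤ pCoreOf p H ∧ H ≤ normalizer (V : Set G) ∧ H ≤ normalizer (W : Set G) ∧ W < V ∧
    (∀ X : Subgroup G, H ≤ normalizer (X : Set G) → W ≤ X → X ≤ V → X = W ∨ X = V) ∧ ¬ ⁅V, H⁆ ≤ W

/-- An element of order prime to `p` acting trivially on the noncentral chief factors in `O_p(H)` is trivial. -/
theorem eq_one_of_trivial_factors {H : Subgroup G} (hH : CharPElements p H) {x : G} (hx : x ∈ H)
    (hxp : (orderOf x).Coprime p)
    (h : ∀ V W, IsNCFactor p H V W → ∀ v ∈ V, ⁅x, v⁆ ∈ W) : x = 1 := by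
  refine hH x hx hxp ?_
  suffices key : ∀ n, ∀ V : Subgroup G, Nat.card V = n → V ≤ pCoreOf p H →
      H ≤ normalizer (V : Set G) → x ∈ centralizer (V : Set G) from
    key _ _ rfl le_rfl (le_normalizer_pCoreOf H)
  intro n
  induction n using Nat.strong_induction_on with
  | _ n ih =>
    intro V hn hV hHV
    by_cases hV1 : V = ⊥
    · subst hV1
      intro v hv
      rw [mem_bot.1 hv, one_mul, mul_one]
    obtain ⟨W, ⟨hWV, hHW⟩, hWmax⟩ := Set.Finite.exists_maximalFor id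
      {W : Subgroup G | W < V ∧ H ≤ normalizer (W : Set G)} (Set.toFinite _)
      ⟨⊥, bot_lt_iff_ne_bot.2 hV1, fun a _ => mem_normalizer_of_conj' fun y hy => by simp [mem_bot.1 hy]⟩
    have hWc := ih (Nat.card W) (hn ▸ Set.Finite.card_lt_card (Set.toFinite _) hWV) W rfl (hWV.le.trans hV) hHW
    have hirr : ∀ X : Subgroup G, H ≤ normalizer (X : Set G) → W ≤ X → X ≤ V → X = W ∨ X = V := by
      intro X hX hWX hXV
      by_cases hXe : X = V
      · exact Or.inr hXe
      · exact Or.inl (le_antisymm (hWmax ⟨lt_of_le_of_ne hXV hXe, hX⟩ hWX) hWX)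
    refine centralizes_of_stabilizes hWV.le ((isPGroup_pCoreOf H).to_le hV) hxp hWc fun v hv => ?_
    show ⁅x, v⁆ ∈ W
    by_cases hc : ⁅V, H⁆ ≤ W
    · rw [← commutatorElement_inv]; exact inv_mem (hc (commutator_mem_commutator hv hx))
    · exact h V W ⟨hV, hHV, hHW, hWV, hirr, hc⟩ v hv

/-- The asymmetric configuration. -/
structure Glob (p : ℕ) (H Y O : Subgroup G) (l : G) : Prop where
  charP : CharPElements p H
  hO : IsPGroup p O
  hOH : O ≤ H
  hYO : Y ≤ O
  hOY : O ≤ centralizer (Y : Set G)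
  hZY : pCoreOf p H ≤ normalizer (Y : Set G)
  lmem : l ∈ Y ⊔ cj Y l
  gen1 : cj Y l ⊔ O = H
  gen2 : cj Y l⁻¹ ⊔ O = H

variable {H Y O : Subgroup G} {l : G}

/-- The image of `X` in `H / W`. -/
abbrev im (H W X : Subgroup G) [(W.subgroupOf H).Normal] : Subgroup (↥H ⧸ W.subgroupOf H) :=
  (X.subgroupOf H).map (QuotientGroup.mk' (W.subgroupOf H))

variable {V W : Subgroup G}

theorem im_commutator [(W.subgroupOf H).Normal] {A B : Subgroup G} (hA : A ≤ H) (hB : B ≤ H) :
    ⁅im H W A, im H W B⁆ = im H W ⁅A, B⁆ := by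
  rw [← Subgroup.map_commutator]
  congr 1
  refine Subgroup.map_injective H.subtype_injective ?_
  rw [Subgroup.map_commutator, subgroupOf_map_subtype, subgroupOf_map_subtype, subgroupOf_map_subtype,
    inf_eq_left.2 hA, inf_eq_left.2 hB,
    inf_eq_left.2 ((commutator_mono hA hB).trans (commutator_le.2 fun a ha b hb => by
      rw [commutatorElement_def]
      exact mul_mem (mul_mem (mul_mem ha hb) (inv_mem ha)) (inv_mem hb)))]

theorem im_eq_bot [(W.subgroupOf H).Normal] {A : Subgroup G} (h : A ≤ W) : im H W A = ⊥ := by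
  rw [Subgroup.map_eq_bot_iff, QuotientGroup.ker_mk']
  exact comap_mono h

theorem le_of_im_eq_bot [(W.subgroupOf H).Normal] {A : Subgroup G} (hA : A ≤ H) (h : im H W A = ⊥) :
    A ≤ W := by
  rw [Subgroup.map_eq_bot_iff, QuotientGroup.ker_mk'] at h
  exact fun a ha => mem_subgroupOf.1 (h (x := (⟨a, hA ha⟩ : H)) (mem_subgroupOf.2 ha))

theorem im_cj [(W.subgroupOf H).Normal] {A : Subgroup G} (hA : A ≤ H) {g : G} (hg : g ∈ H) :
    im H W (cj A g) = cj (im H W A) (QuotientGroup.mk' (W.subgroupOf H) ⟨g, hg⟩) := by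
  show _ = ((A.subgroupOf H).map _).map _
  rw [← CfsgLib.Coprime.map_conj_map]
  refine congrArg (Subgroup.map _) ?_
  refine Subgroup.map_injective H.subtype_injective ?_
  rw [CfsgLib.Coprime.map_conj_map, subgroupOf_map_subtype, subgroupOf_map_subtype, inf_eq_left.2 hA,
    inf_eq_left.2 ((map_mono hA).trans (CfsgLib.Coprime.map_conj_of_mem_normalizer (le_normalizer hg)).le)]
  rfl

theorem im_sup [(W.subgroupOf H).Normal] {A B : Subgroup G} (hA : A ≤ H) (hB : B ≤ H) :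
    im H W (A ⊔ B) = im H W A ⊔ im H W B := by
  rw [← Subgroup.map_sup]
  exact congrArg (Subgroup.map _) (Subgroup.subgroupOf_sup hA hB)

theorem mem_centralizer_im [(W.subgroupOf H).Normal] (hV : V ≤ H) {x : G} (hx : x ∈ H)
    (h : QuotientGroup.mk' (W.subgroupOf H) ⟨x, hx⟩ ∈ centralizer ((im H W V : Subgroup _) : Set _)) :
    ∀ v ∈ V, ⁅x, v⁆ ∈ W := by
  intro v hv
  have h1 := h (QuotientGroup.mk' (W.subgroupOf H) ⟨v, hV hv⟩) ⟨_, mem_subgroupOf.2 hv, rfl⟩
  have h2 : QuotientGroup.mk' (W.subgroupOf H) ⁅(⟨x, hx⟩ : H), ⟨v, hV hv⟩⁆ = 1 := by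
    rw [map_commutatorElement]
    exact commutatorElement_eq_one_iff_mul_comm.2 h1.symm
  exact mem_subgroupOf.1 ((QuotientGroup.eq_one_iff _).1 h2)

theorem mem_im_centralizer [(W.subgroupOf H).Normal] {A : Subgroup G} {x : G} (hx : x ∈ H)
    (h : ∀ v ∈ A, ⁅x, v⁆ ∈ W) :
    QuotientGroup.mk' (W.subgroupOf H) ⟨x, hx⟩ ∈ centralizer ((im H W A : Subgroup _) : Set _) := by
  rintro _ ⟨⟨v, hvH⟩, hv, rfl⟩
  refine (commutatorElement_eq_one_iff_mul_comm.1 ?_).symm
  rw [← map_commutatorElement]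
  exact (QuotientGroup.eq_one_iff _).2 (mem_subgroupOf.2 (h v (mem_subgroupOf.1 hv)))

theorem orderOf_im [(W.subgroupOf H).Normal] {x : G} (hx : x ∈ H) (hxp : (orderOf x).Coprime p) :
    (orderOf (QuotientGroup.mk' (W.subgroupOf H) ⟨x, hx⟩)).Coprime p := by
  refine Nat.Coprime.coprime_dvd_left ?_ hxp
  have := orderOf_map_dvd (QuotientGroup.mk' (W.subgroupOf H)) (⟨x, hx⟩ : H)
  rwa [← Subgroup.orderOf_coe] at this

namespace Glob

variable (d : Glob p H Y O l)
include d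

theorem YH : Y ≤ H := d.hYO.trans d.hOH
theorem YlH : cj Y l ≤ H := le_sup_left.trans d.gen1.le
theorem lH : l ∈ H := (sup_le d.YH d.YlH) d.lmem

theorem quad {V : Subgroup G} (hV : V ≤ pCoreOf p H) : ⁅⁅V, Y⁆, O⁆ = ⊥ := by
  have h1 : ⁅V, Y⁆ ≤ Y := by
    rw [Subgroup.commutator_comm]
    exact CfsgLib.Comp.commutator_le_of_le_normalizer (hV.trans d.hZY)
  refine le_bot_iff.1 ((commutator_mono h1 le_rfl).trans ?_)
  rw [Subgroup.commutator_comm, commutator_eq_bot_iff_le_centralizer.2 d.hOY]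

theorem normal_sub (hF : IsNCFactor p H V W) : (W.subgroupOf H).Normal :=
  normal_subgroupOf_of_le_normalizer hF.2.2.1

theorem ctx (hF : IsNCFactor p H V W) [(W.subgroupOf H).Normal] :
    Ctx p (⊤ : Subgroup (↥H ⧸ W.subgroupOf H)) (im H W Y) (im H W O) (im H W V)
      (QuotientGroup.mk' (W.subgroupOf H) ⟨l, d.lH⟩) := by
  obtain ⟨hVZ, hHV, hHW, hWV, hirr, hnc⟩ := hF
  have hVH : V ≤ H := hVZ.trans (pCoreOf_le H)
  have hWH : W ≤ H := hWV.le.trans hVH
  have hVn : ((im H W V).Normal) :=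
    (normal_subgroupOf_of_le_normalizer hHV).map _ (QuotientGroup.mk'_surjective _)
  have hp : IsPGroup p (im H W V) :=
    ((((isPGroup_pCoreOf H).to_le hVZ).comap_of_injective _ H.subtype_injective) : IsPGroup p (V.subgroupOf H)).map _
  have irr : ∀ X : Subgroup (↥H ⧸ W.subgroupOf H), X ≤ im H W V →
      (⊤ : Subgroup (↥H ⧸ W.subgroupOf H)) ≤ normalizer (X : Set _) → X = ⊥ ∨ X = im H W V := by
    intro X hXV hXn
    have hXN : X.Normal := normalizer_eq_top_iff.1 (eq_top_iff.2 hXn)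
    set X' := (X.comap (QuotientGroup.mk' (W.subgroupOf H))).map H.subtype
    have hX'n : H ≤ normalizer (X' : Set G) := by
      intro h hh
      refine mem_normalizer_of_conj' ?_
      rintro _ ⟨y, hy, rfl⟩
      exact ⟨⟨h, hh⟩ * y * ⟨h, hh⟩⁻¹, (hXN.comap _).conj_mem y hy _, rfl⟩
    have hWX' : W ≤ X' := fun w hw => ⟨⟨w, hWH hw⟩, by
      show QuotientGroup.mk' _ _ ∈ X
      rw [QuotientGroup.mk'_apply, (QuotientGroup.eq_one_iff _).2 (mem_subgroupOf.2 hw)]
      exact one_mem X, rfl⟩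
    have hX'V : X' ≤ V := by
      rintro _ ⟨y, hy, rfl⟩
      obtain ⟨v, hv, hvy⟩ := hXV hy
      rw [QuotientGroup.mk'_apply, QuotientGroup.mk'_apply, QuotientGroup.eq] at hvy
      have : (y : G) = v * ((v⁻¹ * y : H) : G) := by simp
      show (y : G) ∈ V
      rw [this]
      exact mul_mem hv (hWV.le (mem_subgroupOf.1 hvy))
    have hback : X = im H W X' := by
      refine le_antisymm (fun z hz => ?_) ?_
      · obtain ⟨y, rfl⟩ := QuotientGroup.mk'_surjective _ z
        exact ⟨y, mem_subgroupOf.2 ⟨y, hz, rfl⟩, rfl⟩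
      · rintro _ ⟨y, hy, rfl⟩
        obtain ⟨y', hy', e⟩ := mem_subgroupOf.1 hy
        exact H.subtype_injective e ▸ hy'
    rcases hirr X' hX'n hWX' hX'V with h | h
    · exact Or.inl (by rw [hback, im_eq_bot h.le])
    · exact Or.inr (by rw [hback, h])
  refine ⟨hp, (d.hO.comap_of_injective _ H.subtype_injective : IsPGroup p (O.subgroupOf H)).map _, ?_,
    by rw [normalizer_eq_top_iff.2 hVn], irr, ?_, map_mono (comap_mono d.hYO), ?_, le_top, ?_, ?_, ?_, ?_⟩
  · intro a ha b hb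
    have hne : im H W V ≠ ⊥ := fun h => not_le_of_gt hWV (le_of_im_eq_bot hVH h)
    have hc := inf_centralizer_ne_bot hp hp hne le_normalizer
    rcases irr _ inf_le_left (le_trans (le_inf (by rw [normalizer_eq_top_iff.2 hVn])
      (le_trans (by rw [normalizer_eq_top_iff.2 hVn]) (CfsgLib.Comp.normalizer_le_normalizer_centralizer _)))
      inf_normalizer_le_normalizer_inf) with h | h
    · exact absurd h hc
    · exact ((mem_inf.1 (h.ge ha)).2 b hb).symm
  · intro h
    apply hnc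
    refine le_of_im_eq_bot ((CfsgLib.Comp.commutator_le_of_le_normalizer hHV).trans hVH) ?_
    rw [← im_commutator hVH le_rfl]
    refine le_bot_iff.1 (le_trans (commutator_mono le_rfl le_top) h.le)
  · rw [← commutator_eq_bot_iff_le_centralizer, im_commutator d.hOH d.YH, im_eq_bot]
    rw [commutator_eq_bot_iff_le_centralizer.2 d.hOY]; exact bot_le
  · have : l ∈ Y ⊔ cj Y l := d.lmem
    rw [← im_cj d.YH d.lH, ← im_sup d.YH d.YlH]
    exact ⟨_, mem_subgroupOf.2 this, rfl⟩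
  · rw [← im_cj d.YH d.lH, ← im_sup d.YlH d.hOH, d.gen1]
    show (H.subgroupOf H).map _ = ⊤
    rw [subgroupOf_self, ← MonoidHom.range_eq_map, MonoidHom.range_eq_top]
    exact QuotientGroup.mk'_surjective _
  · have h2 : Y ⊔ cj O l = H := by
      have := congrArg (Subgroup.map (MulAut.conj l).toMonoidHom) d.gen2
      rw [Subgroup.map_sup, CfsgLib.Coprime.map_conj_conj, mul_inv_cancel, map_conj_one',
        CfsgLib.Coprime.map_conj_of_mem_normalizer (le_normalizer d.lH)] at this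
      exact this
    rw [← im_cj d.hOH d.lH, ← im_sup d.YH
      ((map_mono d.hOH).trans (CfsgLib.Coprime.map_conj_of_mem_normalizer (le_normalizer d.lH)).le), h2]
    show (H.subgroupOf H).map _ = ⊤
    rw [subgroupOf_self, ← MonoidHom.range_eq_map, MonoidHom.range_eq_top]
    exact QuotientGroup.mk'_surjective _
  · rw [im_commutator hVH d.YH, im_commutator ?_ d.hOH, d.quad hVZ, im_eq_bot bot_le]
    exact (CfsgLib.Comp.commutator_le_of_le_normalizer (d.YH.trans hHV)).trans hVH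

theorem im_L (hF : IsNCFactor p H V W) [(W.subgroupOf H).Normal] {g : G} (hg : g ∈ Y ⊔ cj Y l) :
    QuotientGroup.mk' (W.subgroupOf H) ⟨g, sup_le d.YH d.YlH hg⟩ ∈
      im H W Y ⊔ cj (im H W Y) (QuotientGroup.mk' (W.subgroupOf H) ⟨l, d.lH⟩) := by
  rw [← im_cj d.YH d.lH, ← im_sup d.YH d.YlH]
  exact ⟨_, mem_subgroupOf.2 hg, rfl⟩

/-- If `g ∈ L` and `Y` commutes with `Yᵍ`, then `⟨O, Oᵍ⟩` is a `p`-group. -/
theorem isPGroup_sup_conj {g : G} (hg : g ∈ Y ⊔ cj Y l)
    (hc : Y ≤ centralizer ((cj Y g : Subgroup G) : Set G)) : IsPGroup p (O ⊔ cj O g : Subgroup G) := by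
  have hgH : g ∈ H := sup_le d.YH d.YlH hg
  have hOg : cj O g ≤ H :=
    (map_mono d.hOH).trans (CfsgLib.Coprime.map_conj_of_mem_normalizer (le_normalizer hgH)).le
  refine CfsgLib.PLocal.isPGroup_of_forall_coprime fun x hx hxp => ?_
  have hxH : x ∈ H := (sup_le d.hOH hOg) hx
  refine eq_one_of_trivial_factors d.charP hxH hxp fun V W hF => ?_
  haveI := d.normal_sub hF
  have c := d.ctx hF
  have hVH : V ≤ H := hF.1.trans (pCoreOf_le H)
  refine mem_centralizer_im hVH hxH (c.coprime_mem_centralizer (d.im_L hF hg) ?_ ?_ (orderOf_im hxH hxp))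
  · refine c.U_conj_eq (d.im_L hF hg) ?_
    have hVY : ⁅V, Y⁆ ≤ H := (CfsgLib.Comp.commutator_le_of_le_normalizer (d.YH.trans hF.2.1)).trans hVH
    rw [im_commutator hVH d.YH, ← im_cj hVY hgH, ← commutator_eq_bot_iff_le_centralizer,
      im_commutator d.YH ((map_mono hVY).trans
        (CfsgLib.Coprime.map_conj_of_mem_normalizer (le_normalizer hgH)).le), im_eq_bot]
    refine le_trans ?_ bot_le
    rw [le_bot_iff, commutator_eq_bot_iff_le_centralizer]
    refine hc.trans (centralizer_le (map_mono ?_))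
    rw [Subgroup.commutator_comm]
    exact CfsgLib.Comp.commutator_le_of_le_normalizer (hF.1.trans d.hZY)
  · rw [← im_cj d.hOH hgH, ← im_sup d.hOH hOg]
    exact ⟨_, mem_subgroupOf.2 hx, rfl⟩

/-- A subgroup `A` of `Y` with `[Y, Aˡ] ≤ A` lies in `O_p(H)`. -/
theorem le_pCoreOf_of_commutator_le {A : Subgroup G} (hAY : A ≤ Y) (hA : ⁅Y, cj A l⁆ ≤ A) :
    A ≤ pCoreOf p H := by
  set K : Subgroup G := H ⊓ ⨅ F : {F : Subgroup G × Subgroup G // IsNCFactor p H F.1 F.2},
    stab F.1.1 F.1.2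
  have hKH : K ≤ H := inf_le_left
  have hKp : IsPGroup p K := CfsgLib.PLocal.isPGroup_of_forall_coprime fun x hx hxp =>
    eq_one_of_trivial_factors d.charP (hKH hx) hxp fun V W hF =>
      ((mem_iInf.1 (mem_inf.1 hx).2) ⟨(V, W), hF⟩).2.2
  have hKn : H ≤ normalizer (K : Set G) := fun h hh => mem_normalizer_of_conj' fun x hx =>
    mem_inf.2 ⟨mul_mem (mul_mem hh (hKH hx)) (inv_mem hh), mem_iInf.2 fun F =>
      (mem_normalizer_iff.1 (le_normalizer_stab F.2.2.1 F.2.2.2.1 hh) x).1 (mem_iInf.1 (mem_inf.1 hx).2 F)⟩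
  refine le_trans ?_ (le_pCoreOf hKH hKn hKp)
  have hAH : A ≤ H := hAY.trans d.YH
  refine le_inf hAH (le_iInf fun F => ?_)
  obtain ⟨⟨V, W⟩, hF⟩ := F
  haveI := d.normal_sub hF
  have hVH : V ≤ H := hF.1.trans (pCoreOf_le H)
  have hAl : cj A l ≤ H := (map_mono hAY).trans d.YlH
  have h1 := (d.ctx hF).le_centralizer_of_commutator_le (A := im H W A) (map_mono (comap_mono hAY)) (by
    rw [← im_cj hAH d.lH, im_commutator d.YH hAl]
    exact map_mono (comap_mono hA))
  intro a ha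
  exact ⟨hF.2.1 (hAH ha), hF.2.2.1 (hAH ha),
    mem_centralizer_im hVH (hAH ha) (h1 ⟨_, mem_subgroupOf.2 ha, rfl⟩)⟩

/-- `L` has characteristic `p`. -/
theorem charP_L : CharPElements p (Y ⊔ cj Y l) := by
  intro x hx hxp hxc
  have hxH : x ∈ H := sup_le d.YH d.YlH hx
  have hcap : (Y ⊔ cj Y l) ⊓ pCoreOf p H ≤ pCoreOf p (Y ⊔ cj Y l) :=
    le_pCoreOf inf_le_left ((le_inf le_normalizer ((sup_le d.YH d.YlH).trans (le_normalizer_pCoreOf H))).trans
      inf_normalizer_le_normalizer_inf) ((isPGroup_pCoreOf H).to_le inf_le_right)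
  refine eq_one_of_trivial_factors d.charP hxH hxp fun V W hF => ?_
  haveI := d.normal_sub hF
  have c := d.ctx hF
  have hVH : V ≤ H := hF.1.trans (pCoreOf_le H)
  have hVY : ⁅V, Y⁆ ≤ (Y ⊔ cj Y l) ⊓ pCoreOf p H := by
    refine le_inf (le_trans ?_ le_sup_left) (le_trans ?_ hF.1)
    · rw [Subgroup.commutator_comm]
      exact CfsgLib.Comp.commutator_le_of_le_normalizer (hF.1.trans d.hZY)
    · exact CfsgLib.Comp.commutator_le_of_le_normalizer (d.YH.trans hF.2.1)
  have hVYl : cj ⁅V, Y⁆ l ≤ (Y ⊔ cj Y l) ⊓ pCoreOf p H :=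
    (map_mono hVY).trans (CfsgLib.Coprime.map_conj_of_mem_normalizer
      (((le_inf le_normalizer ((sup_le d.YH d.YlH).trans (le_normalizer_pCoreOf H))).trans
        inf_normalizer_le_normalizer_inf) d.lmem)).le
  have hcen : ∀ {A : Subgroup G}, A ≤ (Y ⊔ cj Y l) ⊓ pCoreOf p H → ∀ v ∈ A, ⁅x, v⁆ ∈ W := fun hA v hv => by
    rw [commutatorElement_eq_one_iff_mul_comm.2 (hxc v (hcap (hA hv))).symm]; exact one_mem W
  refine mem_centralizer_im hVH hxH
    (c.mem_centralizer_of_centralizes (d.im_L hF hx) (orderOf_im hxH hxp) ?_ ?_)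
  · rw [im_commutator hVH d.YH]; exact mem_im_centralizer hxH (hcen hVY)
  · rw [im_commutator hVH d.YH, ← im_cj (hVY.trans (inf_le_right.trans (pCoreOf_le H))) d.lH]
    exact mem_im_centralizer hxH (hcen hVYl)

/-- Some element of `L` of order prime to `p` acts nontrivially on every noncentral chief factor. -/
theorem exists_moving (hF : IsNCFactor p H V W) :
    ∃ x ∈ Y ⊔ cj Y l, (orderOf x).Coprime p ∧ ∃ v ∈ V, ⁅x, v⁆ ∉ W := by
  by_contra hcon
  push Not at hcon
  haveI := d.normal_sub hF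
  refine (d.ctx hF).not_forall_coprime_centralizes fun z hz hzp => ?_
  rw [← im_cj d.YH d.lH, ← im_sup d.YH d.YlH] at hz
  obtain ⟨⟨y, hyH⟩, hy, rfl⟩ := hz
  -- replace `y` by its `p'`-part
  obtain ⟨k, m, hm, hkm⟩ :=
    Nat.exists_eq_pow_mul_and_not_dvd (orderOf_pos y).ne' p (Fact.out : p.Prime).ne_one
  obtain ⟨j, hj⟩ := exists_pow_eq_self_of_coprime (Nat.Coprime.pow_left k hzp.symm)
  rw [← hj, ← map_pow]
  refine pow_mem (mem_im_centralizer (pow_mem hyH _) (hcon (y ^ p ^ k) (pow_mem (mem_subgroupOf.1 hy) _) ?_)) j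
  rw [orderOf_pow, hkm, Nat.gcd_eq_right (Dvd.intro m rfl),
    Nat.mul_div_cancel_left _ (pow_pos (Fact.out : p.Prime).pos _)]
  exact ((Fact.out : p.Prime).coprime_iff_not_dvd.2 hm).symm

end Glob

end CfsgLib.Amalgam.AsymL
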