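import Mathlib

/-!
Irreducibility of the natural module of the derived group of `SL₂(F)` and of the even-weight module
of an alternating group of odd degree, as groups.
-/

set_option autoImplicit false
set_option linter.unusedSectionVars false

namespace CfsgLib.Amalgam.BlockIrred

open Matrix
open scoped MatrixGroups commutatorElement

variable {F : Type*} [Field F] [Fintype F]

/-- Invariant subgroups of `F²` under the derived group of `SL₂(F)` are trivial. -/
theorem sl_irred (X : AddSubgroup (Fin 2 → F))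
    (hX : ∀ g ∈ commutator SL(2, F), ∀ v ∈ X, (g : Matrix (Fin 2) (Fin 2) F).mulVec v ∈ X) :
    X = ⊥ ∨ X = ⊤ := by
  by_cases hbot : X = ⊥
  · exact Or.inl hbot
  right
  obtain ⟨v, hv, hv0⟩ : ∃ v ∈ X, v ≠ 0 := by
    by_contra hc
    push Not at hc
    exact hbot (eq_bot_iff.2 fun v hv => (hc v hv).symm ▸ zero_mem _)
  let u : F → SL(2, F) := fun b => ⟨!![1, b; 0, 1], by simp [Matrix.det_fin_two_of]⟩
  let l : F → SL(2, F) := fun b => ⟨!![1, 0; b, 1], by simp [Matrix.det_fin_two_of]⟩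
  have hcm : ∀ a b : SL(2, F), a * b * a⁻¹ * b⁻¹ ∈ commutator SL(2, F) := fun a b => by
    rw [← commutatorElement_def, commutator_def]
    exact Subgroup.commutator_mem_commutator (Subgroup.mem_top a) (Subgroup.mem_top b)
  by_cases hF : ∃ a : F, a ≠ 0 ∧ a ^ 2 ≠ 1
  · obtain ⟨a, ha, ha2⟩ := hF
    let d : SL(2, F) := ⟨!![a, 0; 0, a⁻¹], by simp [Matrix.det_fin_two_of, ha]⟩
    have hu : ∀ b, u b ∈ commutator SL(2, F) := by
      intro b
      have e : d * u (b / (a ^ 2 - 1)) * d⁻¹ * (u (b / (a ^ 2 - 1)))⁻¹ = u b := by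
        rw [mul_inv_eq_iff_eq_mul, mul_inv_eq_iff_eq_mul]
        refine Subtype.ext ?_
        show (d : Matrix (Fin 2) (Fin 2) F) * (u (b / (a ^ 2 - 1)) : Matrix (Fin 2) (Fin 2) F) =
          (u b : Matrix (Fin 2) (Fin 2) F) * (u (b / (a ^ 2 - 1)) : Matrix (Fin 2) (Fin 2) F) * d
        have h1 : a ^ 2 - 1 ≠ 0 := sub_ne_zero.2 ha2
        ext i j
        fin_cases i <;> fin_cases j <;> simp [u, d, Matrix.mul_apply, Fin.sum_univ_two]
        field_simp
        ring
      exact e ▸ hcm _ _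
    have hl : ∀ b, l b ∈ commutator SL(2, F) := by
      intro b
      have e : d⁻¹ * l (b / (a ^ 2 - 1)) * d⁻¹⁻¹ * (l (b / (a ^ 2 - 1)))⁻¹ = l b := by
        rw [inv_inv, mul_inv_eq_iff_eq_mul, mul_assoc, inv_mul_eq_iff_eq_mul]
        refine Subtype.ext ?_
        show (l (b / (a ^ 2 - 1)) : Matrix (Fin 2) (Fin 2) F) * d =
          (d : Matrix (Fin 2) (Fin 2) F) *
            ((l b : Matrix (Fin 2) (Fin 2) F) * (l (b / (a ^ 2 - 1)) : Matrix (Fin 2) (Fin 2) F))
        have h1 : a ^ 2 - 1 ≠ 0 := sub_ne_zero.2 ha2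
        ext i j
        fin_cases i <;> fin_cases j <;> simp [l, d, Matrix.mul_apply, Fin.sum_univ_two]
        field_simp
        ring
      exact e ▸ hcm _ _
    have h0 : ∀ w ∈ X, ∀ b, ![b * w 1, 0] ∈ X := by
      intro w hw b
      have e : ![b * w 1, 0] = (u b : Matrix (Fin 2) (Fin 2) F).mulVec w - w := by
        ext i; fin_cases i <;> simp [u, Matrix.mulVec, dotProduct, Fin.sum_univ_two]
      rw [e]; exact sub_mem (hX _ (hu b) w hw) hw
    have h1 : ∀ w ∈ X, ∀ b, ![0, b * w 0] ∈ X := by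
      intro w hw b
      have e : ![0, b * w 0] = (l b : Matrix (Fin 2) (Fin 2) F).mulVec w - w := by
        ext i; fin_cases i <;> simp [l, Matrix.mulVec, dotProduct, Fin.sum_univ_two]
      rw [e]; exact sub_mem (hX _ (hl b) w hw) hw
    have key : (∀ b, ![b, 0] ∈ X) ∧ ∀ b, ![0, b] ∈ X := by
      by_cases hv1 : v 1 = 0
      · have hv0' : v 0 ≠ 0 := fun h => hv0 (by ext i; fin_cases i <;> simpa)
        have k1 : ∀ b, ![0, b] ∈ X := fun b => by
          have := h1 v hv (b / v 0); rwa [div_mul_cancel₀ _ hv0'] at this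
        exact ⟨fun b => by have := h0 _ (k1 1) b; simpa using this, k1⟩
      · have k0 : ∀ b, ![b, 0] ∈ X := fun b => by
          have := h0 v hv (b / v 1); rwa [div_mul_cancel₀ _ hv1] at this
        exact ⟨k0, fun b => by have := h1 _ (k0 1) b; simpa using this⟩
    refine eq_top_iff.2 fun w _ => ?_
    have e : w = ![w 0, 0] + ![0, w 1] := by ext i; fin_cases i <;> simp
    rw [e]; exact add_mem (key.1 _) (key.2 _)
  push Not at hF
  -- all scalars are `0` and `±1`
  have hsc : ∀ c : F, c = 0 ∨ c = 1 ∨ c = -1 := fun c => by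
    rcases eq_or_ne c 0 with h | h
    · exact Or.inl h
    · exact Or.inr (sq_eq_one_iff.1 (hF c h))
  have hsmul : ∀ w ∈ X, ∀ c : F, c • w ∈ X := by
    intro w hw c
    rcases hsc c with rfl | rfl | rfl
    · rw [zero_smul]; exact zero_mem _
    · rw [one_smul]; exact hw
    · rw [neg_smul, one_smul]; exact neg_mem hw
  -- some `g` carries `![1, 0]` to `v`
  obtain ⟨g, hg⟩ : ∃ g : SL(2, F), (g : Matrix (Fin 2) (Fin 2) F).mulVec ![1, 0] = v := by
    by_cases hv1 : v 1 = 0
    · have hv0' : v 0 ≠ 0 := fun h => hv0 (by ext i; fin_cases i <;> simpa)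
      refine ⟨⟨!![v 0, 0; 0, (v 0)⁻¹], by simp [Matrix.det_fin_two_of, hv0']⟩, ?_⟩
      ext i; fin_cases i <;> simp [Matrix.mulVec, dotProduct, Fin.sum_univ_two, hv1]
    · refine ⟨⟨!![v 0, -(v 1)⁻¹; v 1, 0], by simp [Matrix.det_fin_two_of, hv1]⟩, ?_⟩
      ext i; fin_cases i <;> simp [Matrix.mulVec, dotProduct, Fin.sum_univ_two]
  let w : SL(2, F) := ⟨!![0, -1; 1, 0], by simp [Matrix.det_fin_two_of]⟩
  set c := w * u 1 * w⁻¹ * (u 1)⁻¹ with hc
  have hcv : (c : Matrix (Fin 2) (Fin 2) F) = !![1, -1; -1, 2] := by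
    have hh : c * u 1 * w = w * u 1 := by rw [hc]; group
    obtain ⟨c', hc'⟩ : ∃ c' : SL(2, F), (c' : Matrix (Fin 2) (Fin 2) F) = !![1, -1; -1, 2] :=
      ⟨⟨!![1, -1; -1, 2], by simp [Matrix.det_fin_two_of]; norm_num⟩, rfl⟩
    have e : c = c' := by
      refine mul_right_cancel (b := u 1) (mul_right_cancel (b := w) (hh.trans ?_))
      refine Subtype.ext ?_
      show (w : Matrix (Fin 2) (Fin 2) F) * (u 1 : Matrix (Fin 2) (Fin 2) F) =
        (c' : Matrix (Fin 2) (Fin 2) F) * (u 1 : Matrix (Fin 2) (Fin 2) F) * (w : Matrix (Fin 2) (Fin 2) F)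
      rw [hc']
      ext i j
      fin_cases i <;> fin_cases j <;> simp [u, w, Matrix.mul_apply, Fin.sum_univ_two] <;> ring
    rw [e, hc']
  have hg' : (g⁻¹ : SL(2, F)).1.mulVec v = ![1, 0] := by
    rw [← hg, Matrix.mulVec_mulVec, ← Matrix.SpecialLinearGroup.coe_mul, inv_mul_cancel,
      Matrix.SpecialLinearGroup.coe_one, Matrix.one_mulVec]
  have hmem : g * c * g⁻¹ ∈ commutator SL(2, F) :=
    (Subgroup.Normal.conj_mem inferInstance c (hcm _ _) g)
  have h2 : (g : Matrix (Fin 2) (Fin 2) F).mulVec ![1, -1] ∈ X := by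
    have := hX _ hmem v hv
    rw [Matrix.SpecialLinearGroup.coe_mul, Matrix.SpecialLinearGroup.coe_mul, ← Matrix.mulVec_mulVec,
      ← Matrix.mulVec_mulVec, hg', hcv] at this
    have e : (!![1, -1; -1, 2] : Matrix (Fin 2) (Fin 2) F).mulVec ![1, 0] = ![1, -1] := by
      ext i; fin_cases i <;> simp [Matrix.mulVec, dotProduct, Fin.sum_univ_two]
    rwa [e] at this
  refine eq_top_iff.2 fun x _ => ?_
  obtain ⟨y, hy⟩ : ∃ y, y = (g⁻¹ : SL(2, F)).1.mulVec x := ⟨_, rfl⟩
  have e : x = (y 0 + y 1) • v + (-(y 1)) • (g : Matrix (Fin 2) (Fin 2) F).mulVec ![1, -1] := by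
    rw [← hg, ← Matrix.mulVec_smul, ← Matrix.mulVec_smul, ← Matrix.mulVec_add]
    have e2 : (y 0 + y 1) • ![1, 0] + (-(y 1)) • ![1, -1] = y := by
      ext i; fin_cases i <;> simp
    rw [e2, hy, Matrix.mulVec_mulVec, ← Matrix.SpecialLinearGroup.coe_mul, mul_inv_cancel,
      Matrix.SpecialLinearGroup.coe_one, Matrix.one_mulVec]
  rw [e]
  exact add_mem (hsmul v hv _) (hsmul _ h2 _)

/-- Invariant subgroups of the even-weight module of odd degree. -/
theorem perm_irred {n : ℕ} (hn : Odd n) (X : AddSubgroup (Fin n → ZMod 2))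
    (h0 : ∀ v ∈ X, ∑ i, v i = 0)
    (hX : ∀ g ∈ alternatingGroup (Fin n), ∀ v ∈ X, (fun i => v (g⁻¹ i)) ∈ X) :
    X = ⊥ ∨ ∀ v : Fin n → ZMod 2, ∑ i, v i = 0 → v ∈ X := by
  classical
  by_cases hbot : X = ⊥
  · exact Or.inl hbot
  right
  obtain ⟨v, hv, hv0⟩ : ∃ v ∈ X, v ≠ 0 := by
    by_contra hc
    push Not at hc
    exact hbot (eq_bot_iff.2 fun v hv => (hc v hv).symm ▸ zero_mem _)
  have h01 : ∀ x : ZMod 2, x = 0 ∨ x = 1 := by decide
  obtain ⟨i, hi⟩ : ∃ i, v i = 1 := by
    obtain ⟨i, hi⟩ := Function.ne_iff.1 hv0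
    exact ⟨i, (h01 _).resolve_left hi⟩
  obtain ⟨j, hj⟩ : ∃ j, v j = 0 := by
    by_contra hc
    push Not at hc
    have h1 : ∑ i, v i = ((n : ℕ) : ZMod 2) := by
      rw [Finset.sum_congr rfl fun i _ => (h01 (v i)).resolve_left (hc i)]; simp
    rw [h0 v hv, (ZMod.natCast_eq_one_iff_odd).2 hn] at h1
    exact zero_ne_one h1
  have hij : i ≠ j := fun e => by rw [e, hj] at hi; exact zero_ne_one hi
  have hn3 : 3 ≤ n := by
    have h1 : ({i, j} : Finset (Fin n)).card ≤ n := (Finset.card_le_univ _).trans (le_of_eq (by simp))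
    rw [Finset.card_pair hij] at h1
    obtain ⟨k, rfl⟩ := hn
    omega
  -- three-cycles
  let e : Fin n → Fin n → (Fin n → ZMod 2) := fun a b => Pi.single a 1 + Pi.single b 1
  have hcyc : ∀ a b c : Fin n, a ≠ b → b ≠ c → c ≠ a →
      Equiv.swap a c * Equiv.swap a b ∈ alternatingGroup (Fin n) := by
    intro a b c hab hbc hca
    rw [Equiv.Perm.mem_alternatingGroup, map_mul, Equiv.Perm.sign_swap hca.symm,
      Equiv.Perm.sign_swap hab]
    rfl
  -- the sum of a vector and its image under the three-cycle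
  have hdiff : ∀ a b c : Fin n, a ≠ b → b ≠ c → c ≠ a → ∀ w ∈ X,
      Pi.single a (w a + w c) + Pi.single b (w a + w b) + Pi.single c (w b + w c) ∈ X := by
    intro a b c hab hbc hca w hw
    have h := add_mem hw (hX _ (hcyc a b c hab hbc hca) w hw)
    convert h using 1
    funext t
    simp only [Pi.add_apply, _root_.mul_inv_rev, Equiv.swap_inv, Equiv.Perm.mul_apply]
    rcases eq_or_ne t a with rfl | hta
    · rw [Pi.single_eq_same, Pi.single_eq_of_ne hab, Pi.single_eq_of_ne hca.symm, Equiv.swap_apply_left,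
        Equiv.swap_apply_of_ne_of_ne hca hbc.symm]
      simp
    rcases eq_or_ne t b with rfl | htb
    · rw [Pi.single_eq_same, Pi.single_eq_of_ne hta, Pi.single_eq_of_ne hbc,
        Equiv.swap_apply_of_ne_of_ne hta hbc, Equiv.swap_apply_right]
      simp [add_comm]
    rcases eq_or_ne t c with rfl | htc
    · rw [Pi.single_eq_same, Pi.single_eq_of_ne hta, Pi.single_eq_of_ne htb, Equiv.swap_apply_right,
        Equiv.swap_apply_left]
      simp [add_comm]
    · rw [Pi.single_eq_of_ne hta, Pi.single_eq_of_ne htb, Pi.single_eq_of_ne htc,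
        Equiv.swap_apply_of_ne_of_ne hta htc, Equiv.swap_apply_of_ne_of_ne hta htb]
      rcases h01 (w t) with h | h <;> rw [h] <;> rfl
  have hthird : ∀ a b : Fin n, ∃ c, c ≠ a ∧ c ≠ b := by
    intro a b
    have h1 : ({a, b} : Finset (Fin n)).card < (Finset.univ : Finset (Fin n)).card := by
      refine lt_of_le_of_lt (Finset.card_le_two) ?_
      rw [Finset.card_univ, Fintype.card_fin]; omega
    obtain ⟨c, -, hc⟩ := Finset.exists_mem_notMem_of_card_lt_card h1
    simp only [Finset.mem_insert, Finset.mem_singleton, not_or] at hc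
    exact ⟨c, hc⟩
  -- a weight two vector
  obtain ⟨a, b, hab, hX2⟩ : ∃ a b, a ≠ b ∧ e a b ∈ X := by
    obtain ⟨k, hki, hkj⟩ := hthird i j
    have h := hdiff i j k hij hkj.symm hki v hv
    rw [hi, hj] at h
    rcases h01 (v k) with hk | hk
    · refine ⟨i, j, hij, ?_⟩
      rw [hk] at h
      simpa [e] using h
    · refine ⟨j, k, hkj.symm, ?_⟩
      rw [hk] at h
      rw [show (1 : ZMod 2) + 1 = 0 by rfl] at h
      simpa [e] using h
  -- replace one of the two points
  have hstep : ∀ a b c, a ≠ b → c ≠ a → c ≠ b → e a b ∈ X → e a c ∈ X := by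
    intro a b c hab hca hcb hm
    have h := hdiff a b c hab hcb.symm hca _ hm
    have ea : e a b a = 1 := by simp [e, Pi.single_eq_of_ne hab]
    have eb : e a b b = 1 := by simp [e, Pi.single_eq_of_ne hab.symm]
    have ec : e a b c = 0 := by simp [e, Pi.single_eq_of_ne hca, Pi.single_eq_of_ne hcb]
    rw [ea, eb, ec, show (1 : ZMod 2) + 1 = 0 by rfl] at h
    simpa [e] using h
  have hall : ∀ c, c ≠ a → e a c ∈ X := fun c hca => by
    rcases eq_or_ne c b with rfl | hcb
    · exact hX2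
    · exact hstep a b c hab hca hcb hX2
  intro w hw
  have hwa : w = ∑ c ∈ Finset.univ.erase a, (if w c = 1 then e a c else 0) := by
    funext t
    rw [Finset.sum_apply]
    rcases eq_or_ne t a with rfl | hta
    · have hsum : ∀ c ∈ Finset.univ.erase t, (if w c = 1 then e t c else 0) t = w c := by
        intro c hc
        have hct : t ≠ c := (Finset.ne_of_mem_erase hc).symm
        rcases h01 (w c) with h | h
        · rw [h, if_neg (by exact zero_ne_one), Pi.zero_apply]
        · rw [if_pos h, h]; simp [e, Pi.single_eq_of_ne hct]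
      rw [Finset.sum_congr rfl hsum, ← add_left_cancel_iff (a := w t),
        Finset.add_sum_erase _ _ (Finset.mem_univ t), hw]
      rcases h01 (w t) with h | h <;> rw [h] <;> rfl
    · rw [Finset.sum_eq_single t]
      · rcases h01 (w t) with h | h
        · rw [h, if_neg (by exact zero_ne_one), Pi.zero_apply]
        · rw [if_pos h, h]; simp [e, Pi.single_eq_of_ne hta]
      · intro c hc hct
        split_ifs
        · simp [e, Pi.single_eq_of_ne hta, Pi.single_eq_of_ne hct.symm]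
        · rfl
      · intro h; exact absurd (Finset.mem_erase.2 ⟨hta, Finset.mem_univ t⟩) h
  rw [hwa]
  exact sum_mem fun c hc => by
    split_ifs
    · exact hall c (Finset.ne_of_mem_erase hc)
    · exact zero_mem _

end CfsgLib.Amalgam.BlockIrred
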