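import Cfsg.Prelude.Def_BaumannBlocks
import Cfsg.Agent.Lib.Amalgam.PCoreOf
import Cfsg.Agent.Lib.Amalgam.BlockIrred
import Cfsg.Agent.Lib.PLocal.Thompson
import Cfsg.Agent.Lib.Transfer.Basic

/-!
Blocks relative to a Baumann subgroup: they are normalized by the `p`-subgroups they normalize
together with the Baumann subgroup, and their module lies in `Ω₁(Z(O_p(G)))`.
-/

set_option autoImplicit false
set_option linter.unusedSectionVars false
set_option linter.unusedVariables false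
set_option linter.style.haveILetI false

namespace CfsgLib.Amalgam.BlockB

open Subgroup CfsgLib.PLocal
open scoped commutatorElement

variable {G : Type*} [Group G] [Finite G] {p : ℕ} [hp : Fact p.Prime]

theorem closure_coprime {E : Subgroup G} (h : Cfsg.pResidualOf p E = E) :
    closure {x : G | x ∈ E ∧ (orderOf x).Coprime p} = E := by
  conv_rhs => rw [← h, Cfsg.pResidualOf, Cfsg.pResidual, MonoidHom.map_closure]
  congr 1
  ext x
  constructor
  · rintro ⟨hx, hc⟩
    exact ⟨⟨x, hx⟩, by rwa [Set.mem_setOf_eq, Subgroup.orderOf_mk], rfl⟩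
  · rintro ⟨⟨y, hy⟩, hc, rfl⟩
    exact ⟨hy, by rw [Set.mem_setOf_eq, Subgroup.orderOf_mk] at hc; exact hc⟩

theorem mem_of_coprime {E B : Subgroup G} (hB : IsPGroup p B) (hBE : B ≤ normalizer (E : Set G))
    {x : G} (hx : x ∈ E ⊔ B) (hc : (orderOf x).Coprime p) : x ∈ E := by
  have hEX : E ⊔ B ≤ normalizer (E : Set G) := sup_le le_normalizer hBE
  haveI hn : (E.subgroupOf (E ⊔ B)).Normal := (normal_subgroupOf_iff_le_normalizer le_sup_left).2 hEX
  set π := QuotientGroup.mk' (E.subgroupOf (E ⊔ B))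
  have hpg : IsPGroup p ((E ⊔ B : Subgroup G) ⧸ E.subgroupOf (E ⊔ B)) := by
    refine hB.of_surjective (π.comp (inclusion le_sup_right)) ?_
    intro y
    obtain ⟨⟨y, hy⟩, rfl⟩ := QuotientGroup.mk'_surjective _ y
    rw [sup_comm] at hy
    rw [← SetLike.mem_coe, coe_mul_of_left_le_normalizer_right _ _ hBE] at hy
    obtain ⟨b, hb, e, he, rfl⟩ := hy
    refine ⟨⟨b, hb⟩, (QuotientGroup.eq).2 ?_⟩
    rw [mem_subgroupOf]
    simpa using he
  obtain ⟨k, hk⟩ := IsPGroup.iff_orderOf.1 hpg (π ⟨x, hx⟩)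
  have h1 : orderOf (π ⟨x, hx⟩) ∣ orderOf x := by
    rw [← Subgroup.orderOf_mk x hx]; exact orderOf_map_dvd _ _
  have h2 : orderOf (π ⟨x, hx⟩) = 1 :=
    Nat.eq_one_of_dvd_coprimes (hc.pow_right k) h1 (hk ▸ dvd_rfl)
  exact (QuotientGroup.eq_one_iff (⟨x, hx⟩ : ↥(E ⊔ B))).1 (orderOf_eq_one_iff.1 h2)

/-- A subgroup normalising `E ⊔ B` normalises `E = O^p(E)`. -/
theorem le_normalizer_of_sup {E B : Subgroup G} (hE : Cfsg.pResidualOf p E = E) (hB : IsPGroup p B)
    (hBE : B ≤ normalizer (E : Set G)) {r : G}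
    (hr : r ∈ normalizer ((E ⊔ B : Subgroup G) : Set G)) : r ∈ normalizer (E : Set G) := by
  refine mem_normalizer_iff_map_conj_eq.2 (eq_of_le_of_card_ge ?_
    (card_map_of_injective (MulAut.conj r).injective).ge)
  conv_lhs => rw [← closure_coprime hE, MonoidHom.map_closure]
  refine (closure_le _).2 ?_
  rintro _ ⟨x, ⟨hx, hc⟩, rfl⟩
  refine mem_of_coprime hB hBE ((mem_normalizer_iff.1 hr x).1 (mem_sup_left hx)) ?_
  have : orderOf ((MulAut.conj r).toMonoidHom x) = orderOf x :=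
    orderOf_injective _ (MulAut.conj r).injective x
  exact this.symm ▸ hc

theorem map_baumann (g : G) (U : Subgroup G) :
    (Cfsg.baumannSubgroupOf p U).map (MulAut.conj g).toMonoidHom =
      Cfsg.baumannSubgroupOf p (U.map (MulAut.conj g).toMonoidHom) := by
  have hJ := thompsonOf_map_conj (p := p) g U
  have hZ : (Cfsg.omegaOne p (Cfsg.centerThompsonOf p U)).map (MulAut.conj g).toMonoidHom =
      Cfsg.omegaOne p (Cfsg.centerThompsonOf p (U.map (MulAut.conj g).toMonoidHom)) := by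
    rw [omegaOne_map_equiv]
    unfold Cfsg.centerThompsonOf
    rw [← hJ]
    congr 1
    ext y
    constructor
    · rintro ⟨x, ⟨hx, hc⟩, rfl⟩
      refine ⟨mem_map_of_mem _ hx, ?_⟩
      rintro _ ⟨z, hz, rfl⟩
      rw [← map_mul, ← map_mul, hc z hz]
    · rintro ⟨⟨x, hx, rfl⟩, hc⟩
      exact ⟨x, ⟨hx, fun z hz => (MulAut.conj g).injective
        (by rw [map_mul, map_mul]; exact hc _ (mem_map_of_mem _ hz))⟩, rfl⟩
  unfold Cfsg.baumannSubgroupOf
  rw [← hZ, Subgroup.map_inf _ _ _ (MulAut.conj g).injective]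
  congr 1
  ext y
  constructor
  · rintro ⟨x, hc, rfl⟩
    rintro _ ⟨z, hz, rfl⟩
    rw [← map_mul, ← map_mul, hc z hz]
  · intro hc
    refine ⟨(MulAut.conj g).symm y, fun z hz => (MulAut.conj g).injective ?_, (MulAut.conj g).apply_symm_apply y⟩
    rw [map_mul, map_mul, (MulAut.conj g).apply_symm_apply]
    exact hc _ (mem_map_of_mem _ hz)

theorem thompson_le_baumann (U : Subgroup G) :
    Cfsg.thompsonSubgroupOf p U ≤ Cfsg.baumannSubgroupOf p U := by
  refine le_inf (thompsonOf_le U) (le_centralizer_iff.1 ?_)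
  exact (omegaOne_le p _).trans inf_le_right

/-- Every Sylow subgroup containing `B(T)` has Baumann subgroup `B(T)`. -/
theorem baumann_eq_of_le (T T' : Sylow p G)
    (h : Cfsg.baumannSubgroupOf p (T : Subgroup G) ≤ (T' : Subgroup G)) :
    Cfsg.baumannSubgroupOf p (T' : Subgroup G) = Cfsg.baumannSubgroupOf p (T : Subgroup G) := by
  obtain ⟨g, hg⟩ := MulAction.exists_smul_eq G T T'
  have hT' : (T' : Subgroup G) = (T : Subgroup G).map (MulAut.conj g).toMonoidHom := by
    rw [← hg]; rfl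
  set J := Cfsg.thompsonSubgroupOf p (T : Subgroup G)
  have hJle : J ≤ (T' : Subgroup G) := (thompson_le_baumann _).trans h
  have hJ : Cfsg.thompsonSubgroupOf p (T' : Subgroup G) = J := by
    refine (eq_of_le_of_card_ge ?_ ?_).symm
    · rw [show J = sSup (maxElemIn p (T : Subgroup G)) from thompsonOf_eq _]
      refine sSup_le fun A hA => le_thompsonOf ⟨(le_thompsonOf hA).trans hJle, hA.2.1, fun C hC hCe => ?_⟩
      have h1 := hA.2.2 (C.map (MulAut.conj g⁻¹).toMonoidHom) ?_ (elemAb_map _ hCe)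
      · rwa [card_map_of_injective (MulAut.conj g⁻¹).injective] at h1
      · rintro _ ⟨c, hc, rfl⟩
        obtain ⟨t, ht, e⟩ := (hT' ▸ hC hc : c ∈ (T : Subgroup G).map (MulAut.conj g).toMonoidHom)
        rw [← e]
        show (MulAut.conj g⁻¹) ((MulAut.conj g) t) ∈ (T : Subgroup G)
        rw [← MulAut.mul_apply, ← map_mul, inv_mul_cancel, map_one]
        exact ht
    · rw [hT', ← thompsonOf_map_conj, card_map_of_injective (MulAut.conj g).injective]
  refine (eq_of_le_of_card_ge ?_ ?_).symm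
  · refine le_inf h (inf_le_right.trans (centralizer_le ?_))
    unfold Cfsg.centerThompsonOf
    rw [hJ]
  · rw [hT', ← map_baumann, card_map_of_injective (MulAut.conj g).injective]

/-- A `p`-subgroup normalised by `B(T)` and by a block normalises the block. -/
theorem le_normalizer_block (T : Sylow p G) {E Q : Subgroup G} (hE : Cfsg.pResidualOf p E = E)
    (hEB : ⁅E, Cfsg.baumannSubgroupOf p (T : Subgroup G)⁆ = E) (hQ : IsPGroup p Q)
    (hBQ : Cfsg.baumannSubgroupOf p (T : Subgroup G) ≤ normalizer (Q : Set G))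
    (hEQ : E ≤ normalizer (Q : Set G)) : Q ≤ normalizer (E : Set G) := by
  set B := Cfsg.baumannSubgroupOf p (T : Subgroup G) with hB
  have hBp : IsPGroup p B := T.isPGroup'.to_le inf_le_left
  have hBE : B ≤ normalizer (E : Set G) := le_normalizer_iff_commutator_le_left.2 hEB.le
  -- `Q` normalises `B`
  obtain ⟨T', hT'⟩ := (hBp.to_sup_of_normal_right' hQ hBQ).exists_le_sylow
  have hTN : (T' : Subgroup G) ≤ normalizer (B : Set G) := by
    intro t ht
    rw [mem_normalizer_iff_map_conj_eq]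
    show B.map (MulAut.conj t).toMonoidHom = B
    have h1 := baumann_eq_of_le T T' (le_sup_left.trans hT')
    rw [← hB] at h1
    rw [← h1, map_baumann]
    congr 1
    exact (mem_normalizer_iff_map_conj_eq.1 (le_normalizer ht) :)
  have hQB : Q ≤ normalizer (B : Set G) := (le_sup_right.trans hT').trans hTN
  intro q hq
  refine le_normalizer_of_sup hE hBp hBE ?_
  set S : Subgroup G := ⨆ e : E, B.map (MulAut.conj (e : G)).toMonoidHom with hS
  have hBS : B ≤ S := by
    refine le_trans ?_ (le_iSup _ (1 : E))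
    intro b hb
    exact ⟨b, hb, by simp⟩
  have hES : E ≤ S := by
    conv_lhs => rw [← hEB]
    rw [commutator_le]
    intro e he b hb
    rw [commutatorElement_def]
    refine mul_mem ?_ (inv_mem (hBS hb))
    exact (le_iSup (fun e : E => B.map (MulAut.conj (e : G)).toMonoidHom) ⟨e, he⟩) ⟨b, hb, rfl⟩
  have hSle : S ≤ E ⊔ B := by
    refine iSup_le fun e => ?_
    rintro _ ⟨b, hb, rfl⟩
    exact mul_mem (mul_mem (mem_sup_left e.2) (mem_sup_right hb)) (inv_mem (mem_sup_left e.2))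
  rw [← le_antisymm hSle (sup_le hES hBS)]
  refine mem_normalizer_iff_map_conj_eq.2 (eq_of_le_of_card_ge ?_
    (card_map_of_injective (MulAut.conj q).injective).ge)
  rw [hS, Subgroup.map_iSup]
  refine iSup_le fun e => le_trans ?_ (le_iSup _ e)
  rintro _ ⟨_, ⟨b, hb, rfl⟩, rfl⟩
  have hq' : (e : G)⁻¹ * q * e ∈ Q := (mem_normalizer_iff''.1 (hEQ e.2) q).1 hq
  refine ⟨((e : G)⁻¹ * q * e) * b * ((e : G)⁻¹ * q * e)⁻¹,
    (mem_normalizer_iff.1 (hQB hq') b).1 hb, ?_⟩
  simp [mul_assoc]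

/-- A `p`-group acting on a `p`-group fixes something outside an invariant normal subgroup. -/
theorem exists_fixed {R W Z : Subgroup G} (hR : IsPGroup p R) (hW : IsPGroup p W) (hZW : Z ≤ W)
    (hne : Z ≠ W) (hRW : R ≤ normalizer (W : Set G)) (hRZ : R ≤ normalizer (Z : Set G))
    (hWZ : W ≤ normalizer (Z : Set G)) :
    ∃ w ∈ W, w ∉ Z ∧ ∀ r ∈ R, ⁅r, w⁆ ∈ Z := by
  haveI hn : (Z.subgroupOf W).Normal := (normal_subgroupOf_iff_le_normalizer hZW).2 hWZ
  letI : MulAction R (W ⧸ Z.subgroupOf W) :=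
    { smul := fun r => Quotient.map'
        (fun w => ⟨(r : G) * w * (r : G)⁻¹, (mem_normalizer_iff.1 (hRW r.2) w).1 w.2⟩) fun a b h => by
          rw [QuotientGroup.leftRel_apply, mem_subgroupOf] at h ⊢
          have := (mem_normalizer_iff.1 (hRZ r.2) _).1 h
          simpa [mul_assoc] using this
      one_smul := fun x => by
        induction x using Quotient.inductionOn' with
        | h a => exact congrArg _ (Subtype.ext (by simp))
      mul_smul := fun r s x => by
        induction x using Quotient.inductionOn' with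
        | h a => exact congrArg _ (Subtype.ext (by simp [mul_assoc])) }
  have hpd : p ∣ Nat.card (W ⧸ Z.subgroupOf W) := by
    obtain ⟨k, hk⟩ := (hW.to_quotient (Z.subgroupOf W)).exists_card_eq
    rw [hk]
    refine dvd_pow_self p ?_
    rintro rfl
    rw [pow_zero, ← index_eq_card, index_eq_one, subgroupOf_eq_top] at hk
    exact hne (le_antisymm hZW hk)
  have h1 : (QuotientGroup.mk (1 : W) : W ⧸ Z.subgroupOf W) ∈
      MulAction.fixedPoints R (W ⧸ Z.subgroupOf W) := fun r =>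
    congrArg QuotientGroup.mk (Subtype.ext (by simp))
  obtain ⟨x, hx, hne1⟩ := hR.exists_fixed_point_of_prime_dvd_card_of_fixed_point _ hpd h1
  obtain ⟨w, rfl⟩ := QuotientGroup.mk_surjective x
  refine ⟨w, w.2, fun hw => hne1 ((QuotientGroup.eq).2 (by simpa [mem_subgroupOf] using hw)), fun r hr => ?_⟩
  have h2 : (QuotientGroup.mk (⟨r * w * r⁻¹, (mem_normalizer_iff.1 (hRW hr) w).1 w.2⟩ : W) :
      W ⧸ Z.subgroupOf W) = QuotientGroup.mk w := hx ⟨r, hr⟩
  rw [QuotientGroup.eq, mem_subgroupOf] at h2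
  have h3 : r * (w : G)⁻¹ * r⁻¹ * w ∈ Z := by simpa [mul_assoc] using h2
  have h4 := inv_mem ((mem_normalizer_iff.1 (hWZ w.2) _).1 h3)
  rwa [show ((w : G) * (r * (w : G)⁻¹ * r⁻¹ * w) * (w : G)⁻¹)⁻¹ = ⁅r, (w : G)⁆ by
    rw [commutatorElement_def]; group] at h4

/-- In a block, invariant subgroups between `C_W(E)` and `W` are trivial. -/
theorem irred (T : Subgroup G) {E : Subgroup G} (hE : Cfsg.IsBaumannBlock p T E) :
    let W := Cfsg.omegaOneCenter p (Cfsg.pCoreOf p E)
    ∀ U : Subgroup G, W ⊓ centralizer (E : Set G) ≤ U → U ≤ W → E ≤ normalizer (U : Set G) →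
      U = W ⊓ centralizer (E : Set G) ∨ U = W := by
  intro W U hZU hUW hEU
  obtain ⟨h1, h2, h3, h4, ⟨F, iF, iFF, n, hF, -, ⟨hEW, hle, ρ, ψ, hρ, hψ, hker, hact⟩, -⟩ |
    ⟨hp2, m, ⟨φ⟩, ⟨hEW, hle, ρ, ψ, hρ, hsum, hsurj, hker, hact⟩, -⟩⟩ := hE
  · let X : AddSubgroup (Fin 2 → F) :=
      { carrier := {v | ∃ u : W, (u : G) ∈ U ∧ Multiplicative.toAdd (ψ u) = v}
        zero_mem' := ⟨1, one_mem U, by rw [map_one]; rfl⟩
        add_mem' := by
          rintro _ _ ⟨a, ha, rfl⟩ ⟨b, hb, rfl⟩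
          exact ⟨a * b, mul_mem ha hb, by rw [map_mul]; rfl⟩
        neg_mem' := by
          rintro _ ⟨a, ha, rfl⟩
          exact ⟨a⁻¹, inv_mem ha, by rw [map_inv]; rfl⟩ }
    have hX : ∀ g ∈ commutator (Matrix.SpecialLinearGroup (Fin 2) F), ∀ v ∈ X,
        (g : Matrix (Fin 2) (Fin 2) F).mulVec v ∈ X := by
      intro g hg v hv
      obtain ⟨a, ha, rfl⟩ := hv
      rw [← hρ] at hg
      obtain ⟨e, rfl⟩ := hg
      obtain ⟨w, hw, hw'⟩ := hact e a
      exact ⟨w, hw ▸ (mem_normalizer_iff.1 (hEU e.2) _).1 ha, hw'⟩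
    rcases BlockIrred.sl_irred X hX with h | h
    · refine Or.inl (le_antisymm (fun u hu => ?_) hZU)
      have h5 : Multiplicative.toAdd (ψ ⟨u, hUW hu⟩) = 0 :=
        (AddSubgroup.mem_bot).1 (h ▸ (show _ ∈ X from ⟨⟨u, hUW hu⟩, hu, rfl⟩))
      exact (hker ⟨u, hUW hu⟩).1 (Multiplicative.toAdd.injective h5)
    · refine Or.inr (le_antisymm hUW fun w hw => ?_)
      obtain ⟨a, ha, he⟩ : Multiplicative.toAdd (ψ ⟨w, hw⟩) ∈ X := h ▸ AddSubgroup.mem_top _
      have h5 : ((a⁻¹ * ⟨w, hw⟩ : W) : G) ∈ U := hZU ((hker _).1 (by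
        rw [map_mul, map_inv, Multiplicative.toAdd.injective he, inv_mul_cancel]))
      have := mul_mem ha h5
      simpa using this
  · subst hp2
    let X : AddSubgroup (Fin (2 * m + 1) → ZMod 2) :=
      { carrier := {v | ∃ u : W, (u : G) ∈ U ∧ Multiplicative.toAdd (ψ u) = v}
        zero_mem' := ⟨1, one_mem U, by rw [map_one]; rfl⟩
        add_mem' := by
          rintro _ _ ⟨a, ha, rfl⟩ ⟨b, hb, rfl⟩
          exact ⟨a * b, mul_mem ha hb, by rw [map_mul]; rfl⟩
        neg_mem' := by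
          rintro _ ⟨a, ha, rfl⟩
          exact ⟨a⁻¹, inv_mem ha, by rw [map_inv]; rfl⟩ }
    have h0 : ∀ v ∈ X, ∑ i, v i = 0 := by rintro _ ⟨a, ha, rfl⟩; exact hsum a
    have hX : ∀ g ∈ alternatingGroup (Fin (2 * m + 1)), ∀ v ∈ X, (fun i => v (g⁻¹ i)) ∈ X := by
      intro g hg v hv
      obtain ⟨a, ha, rfl⟩ := hv
      rw [← hρ] at hg
      obtain ⟨e, rfl⟩ := hg
      obtain ⟨w, hw, hw'⟩ := hact e a
      exact ⟨w, hw ▸ (mem_normalizer_iff.1 (hEU e.2) _).1 ha, funext hw'⟩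
    rcases BlockIrred.perm_irred ⟨m, rfl⟩ X h0 hX with h | h
    · refine Or.inl (le_antisymm (fun u hu => ?_) hZU)
      have h5 : Multiplicative.toAdd (ψ ⟨u, hUW hu⟩) = 0 :=
        (AddSubgroup.mem_bot).1 (h ▸ (show _ ∈ X from ⟨⟨u, hUW hu⟩, hu, rfl⟩))
      exact (hker ⟨u, hUW hu⟩).1 (Multiplicative.toAdd.injective h5)
    · refine Or.inr (le_antisymm hUW fun w hw => ?_)
      obtain ⟨a, ha, he⟩ := h _ (hsum ⟨w, hw⟩)
      have h5 : ((a⁻¹ * ⟨w, hw⟩ : W) : G) ∈ U := hZU ((hker _).1 (by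
        rw [map_mul, map_inv, Multiplicative.toAdd.injective he, inv_mul_cancel]))
      have := mul_mem ha h5
      simpa using this

/-- A block does not centralise its module. -/
theorem not_centralized (T : Subgroup G) {E : Subgroup G} (hE : Cfsg.IsBaumannBlock p T E) :
    ¬ Cfsg.omegaOneCenter p (Cfsg.pCoreOf p E) ≤ centralizer (E : Set G) := by
  obtain ⟨h1, h2, h3, h4, ⟨F, iF, iFF, n, hF, -, ⟨hEW, hle, ρ, ψ, hρ, hψ, hker, hact⟩, -⟩ |
    ⟨hp2, m, ⟨φ⟩, ⟨hEW, hle, ρ, ψ, hρ, hsum, hsurj, hker, hact⟩, -⟩⟩ := hE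
  · intro hle'
    obtain ⟨u, hu⟩ := hψ (Multiplicative.ofAdd ![1, 0])
    rw [(hker u).2 ⟨u.2, hle' u.2⟩] at hu
    exact one_ne_zero (congrFun (congrArg Multiplicative.toAdd hu) 0).symm
  · intro hle'
    subst hp2
    rcases Nat.eq_zero_or_pos m with rfl | hm
    · -- `E` would be a `2`-group
      have hQ : Cfsg.pCore 2 ↥E = ⊤ := by
        refine eq_top_iff.2 fun x _ => (QuotientGroup.eq_one_iff x).1 (φ.injective (Subtype.ext ?_))
        exact Equiv.ext fun i => Fin.ext (by omega)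
      have hEp : IsPGroup 2 E := by
        have h5 : IsPGroup 2 (Cfsg.pCore 2 ↥E) := CfsgLib.Amalgam.isPGroup_pCore
        rw [hQ] at h5
        exact h5.of_equiv Subgroup.topEquiv
      have hEb : E = ⊥ := by
        refine eq_bot_iff.2 ((closure_coprime h1).symm.le.trans ((closure_le _).2 ?_))
        rintro x ⟨hx, hc⟩
        obtain ⟨k, hk⟩ := IsPGroup.iff_orderOf.1 hEp ⟨x, hx⟩
        rw [Subgroup.orderOf_mk] at hk
        exact orderOf_eq_one_iff.1 (Nat.eq_one_of_dvd_coprimes (hc.pow_right k) dvd_rfl (hk ▸ dvd_rfl))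
      exact h4 (by rw [hEb, commutator_bot_left])
    · let i : Fin (2 * m + 1) := ⟨0, by omega⟩
      let j : Fin (2 * m + 1) := ⟨1, by omega⟩
      have hij : i ≠ j := fun h => by simp [i, j, Fin.ext_iff] at h
      obtain ⟨u, hu⟩ := hsurj (Pi.single i 1 + Pi.single j 1) (by
        simp [Finset.sum_add_distrib]; rfl)
      rw [(hker u).2 ⟨u.2, hle' u.2⟩] at hu
      have := congrFun hu i
      rw [Pi.add_apply, Pi.single_eq_same, Pi.single_eq_of_ne hij, add_zero] at this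
      exact one_ne_zero this.symm

end CfsgLib.Amalgam.BlockB
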