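import Cfsg.Agent.Lib.Amalgam.BaumannBlock
import Cfsg.Agent.Lib.PLocal.OmegaJoin

/-!
The module of a block in a group of characteristic `p`. The block may be taken relative to any
subgroup `T₀` with the same Baumann subgroup as the Sylow subgroup `T` (for example `B(T)` itself).
-/

set_option autoImplicit false
set_option linter.unusedSectionVars false
set_option linter.unusedVariables false

namespace CfsgLib.Amalgam.BlockB

open Cfsg Subgroup
open scoped commutatorElement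

theorem module_facts {G : Type*} [Group G] [Finite G] {p : ℕ} [Fact p.Prime]
    (hG : Subgroup.centralizer (Cfsg.pCore p G : Set G) ≤ Cfsg.pCore p G) (T : Sylow p G)
    {T₀ : Subgroup G} (E : Subgroup G) (hE : Cfsg.IsBaumannBlock p T₀ E)
    (hB₀ : Cfsg.baumannSubgroupOf p T₀ = Cfsg.baumannSubgroupOf p (T : Subgroup G)) :
    Cfsg.pResidualOf p (E ⊔ Cfsg.pCore p G) = E ∧ ⁅Cfsg.omegaOneCenter p (Cfsg.pCoreOf p E), E⁆ ≤ Cfsg.omegaOneCenter p (Cfsg.pCore p G) ∧ ⁅⁅Cfsg.omegaOneCenter p (Cfsg.pCoreOf p E), E⁆, Cfsg.thompsonSubgroupOf p (T : Subgroup G)⁆ ≠ ⊥  := by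
  have hE0 := hE
  obtain ⟨h1, h2, h3, h4, -⟩ := hE
  rw [hB₀] at h2
  set R := Cfsg.pCore p G with hR
  set B := Cfsg.baumannSubgroupOf p (T : Subgroup G) with hB
  set Q := Cfsg.pCoreOf p E with hQdef
  set W := Cfsg.omegaOneCenter p Q with hW
  haveI hRn : R.Normal := CfsgLib.Amalgam.normal_pCore
  have hRN : ∀ X : Subgroup G, X ≤ normalizer (R : Set G) := fun X => by
    rw [normalizer_eq_top_iff.2 hRn]; exact le_top
  have hRp : IsPGroup p R := CfsgLib.Amalgam.isPGroup_pCore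
  have hBp : IsPGroup p B := T.isPGroup'.to_le inf_le_left
  have hBE : B ≤ normalizer (E : Set G) := le_normalizer_iff_commutator_le_left.2 h2.le
  have hRE : R ≤ normalizer (E : Set G) :=
    CfsgLib.Amalgam.BlockB.le_normalizer_block T h1 h2 hRp (hRN _) (hRN _)
  have hEQn : E ≤ normalizer (Q : Set G) := CfsgLib.Amalgam.le_normalizer_pCoreOf E
  have hQp : IsPGroup p Q := CfsgLib.Amalgam.isPGroup_pCoreOf E
  -- `E = O^p(E R)`
  have part1 : Cfsg.pResidualOf p (E ⊔ R) = E := by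
    refine le_antisymm ?_ ?_
    · rw [Cfsg.pResidualOf, Cfsg.pResidual, MonoidHom.map_closure, closure_le]
      rintro _ ⟨⟨x, hx⟩, hc, rfl⟩
      exact CfsgLib.Amalgam.BlockB.mem_of_coprime hRp hRE hx
        (by rw [Set.mem_setOf_eq, Subgroup.orderOf_mk] at hc; exact hc)
    · conv_lhs => rw [← CfsgLib.Amalgam.BlockB.closure_coprime h1]
      rw [Cfsg.pResidualOf, Cfsg.pResidual, MonoidHom.map_closure]
      refine closure_mono ?_
      rintro x ⟨hx, hc⟩
      exact ⟨⟨x, mem_sup_left hx⟩, by rwa [Set.mem_setOf_eq, Subgroup.orderOf_mk], rfl⟩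
  -- conjugation invariance
  have hconjQ : ∀ g ∈ normalizer (E : Set G), Q.map (MulAut.conj g).toMonoidHom = Q := fun g hg => by
    rw [hQdef, ← CfsgLib.Amalgam.pCoreOf_map _ (MulAut.conj g).injective]
    congr 1
    exact mem_normalizer_iff_map_conj_eq.1 hg
  have hNW : ∀ g ∈ normalizer (E : Set G), W.map (MulAut.conj g).toMonoidHom = W := fun g hg => by
    rw [hW, Cfsg.omegaOneCenter, CfsgLib.PLocal.omegaOne_map_equiv, CfsgLib.PLocal.inf_centralizer_map,
      hconjQ g hg]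
  have hEW : E ≤ normalizer (W : Set G) := fun g hg =>
    mem_normalizer_iff_map_conj_eq.2 (hNW g (le_normalizer hg))
  have hRW : R ≤ normalizer (W : Set G) := fun g hg =>
    mem_normalizer_iff_map_conj_eq.2 (hNW g (hRE hg))
  have hBW : B ≤ normalizer (W : Set G) := fun g hg =>
    mem_normalizer_iff_map_conj_eq.2 (hNW g (hBE hg))
  have hWel : Cfsg.IsElementaryAbelian p W := CfsgLib.PLocal.omegaCenter_elemAb Q
  have hWQ : W ≤ Q := (CfsgLib.PLocal.omegaOne_le p _).trans inf_le_left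
  have hQW : ⁅Q, W⁆ = ⊥ := commutator_eq_bot_iff_le_centralizer.2 (le_centralizer_iff.1
    ((CfsgLib.PLocal.omegaOne_le p _).trans inf_le_right))
  have hREQ : ⁅R, E⁆ ≤ Q := by
    have hle : ⁅R, E⁆ ≤ R ⊓ E := le_inf (le_normalizer_iff_commutator_le_left.1 (hRN E))
      (le_normalizer_iff_commutator_le_right.1 hRE)
    exact hle.trans (CfsgLib.Amalgam.le_pCoreOf inf_le_right
      (fun e he => mem_normalizer_iff.2 fun x => and_congr (mem_normalizer_iff.1 (hRN E he) x)
        (mem_normalizer_iff.1 (le_normalizer he) x)) (hRp.to_le inf_le_left))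
  -- `R` centralises `W/Z`
  set Z := W ⊓ centralizer (E : Set G) with hZ
  have hZN : ∀ g ∈ normalizer (E : Set G), g ∈ normalizer (Z : Set G) := fun g hg => by
    rw [mem_normalizer_iff]
    intro x
    refine and_congr (mem_normalizer_iff.1 (mem_normalizer_iff_map_conj_eq.2 (hNW g hg)) x) ⟨fun hx e he => ?_, fun hx e he => ?_⟩
    · have h5 := hx (g⁻¹ * e * g) ((mem_normalizer_iff''.1 hg e).1 he)
      calc e * (g * x * g⁻¹) = g * (g⁻¹ * e * g * x) * g⁻¹ := by group
        _ = g * x * g⁻¹ * e := by rw [h5]; group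
    · have h5 := hx (g * e * g⁻¹) ((mem_normalizer_iff.1 hg e).1 he)
      calc e * x = g⁻¹ * (g * e * g⁻¹ * (g * x * g⁻¹)) * g := by group
        _ = x * e := by rw [h5]; group
  have hne : Z ≠ W := fun e =>
    CfsgLib.Amalgam.BlockB.not_centralized T₀ hE0 (e.ge.trans inf_le_right)
  have hWZ : W ≤ normalizer (Z : Set G) := fun g hg => hZN g (le_normalizer (CfsgLib.Amalgam.pCoreOf_le E (hWQ hg)))
  have hWp : IsPGroup p W := hQp.to_le hWQ
  obtain ⟨w, hwW, hwZ, hwR⟩ := CfsgLib.Amalgam.BlockB.exists_fixed hRp hWp inf_le_left hne hRW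
    (fun r hr => hZN r (hRE hr)) hWZ
  have hcW : ∀ {a b : G}, a ∈ W → b ∈ W → a * b = b * a := fun ha hb => CfsgLib.PLocal.elemAb_comm hWel ha hb
  let U : Subgroup G :=
    { carrier := {u | u ∈ W ∧ ∀ r ∈ R, ⁅r, u⁆ ∈ Z}
      one_mem' := ⟨one_mem W, fun r _ => by rw [commutatorElement_one_right]; exact one_mem Z⟩
      mul_mem' := fun {a b} ha hb => ⟨mul_mem ha.1 hb.1, fun r hr => by
        have e : ⁅r, a * b⁆ = ⁅r, a⁆ * (a * ⁅r, b⁆ * a⁻¹) := by simp only [commutatorElement_def]; group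
        rw [e, hcW ha.1 (mem_inf.1 (hb.2 r hr)).1, mul_inv_cancel_right]
        exact mul_mem (ha.2 r hr) (hb.2 r hr)⟩
      inv_mem' := fun {a} ha => ⟨inv_mem ha.1, fun r hr => by
        have e : ⁅r, a⁻¹⁆ = a⁻¹ * ⁅r, a⁆⁻¹ * a := by simp only [commutatorElement_def]; group
        rw [e, hcW (inv_mem ha.1) (inv_mem (mem_inf.1 (ha.2 r hr)).1), inv_mul_cancel_right]
        exact inv_mem (ha.2 r hr)⟩ }
  have hUW : U = W := by
    refine (CfsgLib.Amalgam.BlockB.irred T₀ hE0 U ?_ (fun u hu => hu.1) ?_).resolve_left ?_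
    · intro z hz
      refine ⟨hz.1, fun r hr => ?_⟩
      rw [commutatorElement_def]
      exact mul_mem ((mem_normalizer_iff.1 (hZN r (hRE hr)) z).1 hz) (inv_mem hz)
    · have key : ∀ e ∈ E, ∀ u ∈ U, e * u * e⁻¹ ∈ U := by
        intro e he u hu
        refine ⟨(mem_normalizer_iff.1 (hEW he) u).1 hu.1, fun r hr => ?_⟩
        have hr' : e⁻¹ * r * e ∈ R := by simpa using hRn.conj_mem r hr e⁻¹
        have h5 : e * ⁅e⁻¹ * r * e, u⁆ * e⁻¹ = ⁅r, e * u * e⁻¹⁆ := by
          simp only [commutatorElement_def]; group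
        have h6 := (mem_inf.1 (hu.2 _ hr')).2 e he
        rw [← h5, h6, mul_inv_cancel_right]
        exact hu.2 _ hr'
      intro e he
      rw [mem_normalizer_iff]
      exact fun u => ⟨key e he u, fun h => by simpa [mul_assoc] using key e⁻¹ (inv_mem he) _ h⟩
    · intro e
      exact hwZ (e.le ⟨hwW, hwR⟩)
  have hWR : ⁅W, R⁆ ≤ Z := commutator_le.2 fun u hu r hr => by
    have h5 := inv_mem ((hUW.ge hu).2 r hr)
    rwa [commutatorElement_inv] at h5
  have hWER : ⁅⁅W, E⁆, R⁆ = ⊥ := by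
    refine commutator_commutator_eq_bot_of_rotate ?_ ?_
    · rw [eq_bot_iff, commutator_comm E R]
      exact (commutator_mono hREQ le_rfl).trans hQW.le
    · rw [eq_bot_iff, commutator_comm R W]
      refine (commutator_mono hWR le_rfl).trans ?_
      exact (commutator_eq_bot_iff_le_centralizer.2 inf_le_right).le
  have hWE : ⁅W, E⁆ ≤ W := le_normalizer_iff_commutator_le_left.1 hEW
  have hWEcR : ⁅W, E⁆ ≤ centralizer (R : Set G) := commutator_eq_bot_iff_le_centralizer.1 hWER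
  have part2 : ⁅W, E⁆ ≤ Cfsg.omegaOneCenter p R := fun x hx =>
    Subgroup.subset_closure ⟨⟨hG (hWEcR hx), hWEcR hx⟩, hWel.2 x (hWE hx)⟩
  refine ⟨part1, part2, fun hJ => ?_⟩
  -- `B(T)` would centralise `[W, E]`
  have hRT : R ≤ (T : Subgroup G) := CfsgLib.Amalgam.pCore_le_sylow T
  have hWEB : ⁅⁅W, E⁆, B⁆ = ⊥ := commutator_eq_bot_iff_le_centralizer.2 fun x hx => by
    intro b hb
    refine ((mem_inf.1 hb).2 x ?_).symm
    exact CfsgLib.PLocal.mem_omega_centerThompsonOf (hRT (hG (hWEcR hx))) (hWel.2 x (hWE hx))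
      (commutator_eq_bot_iff_le_centralizer.1 hJ hx)
  have hWEE : ⁅⁅W, E⁆, E⁆ = ⊥ := by
    have hinv : ⁅⁅W, E⁆, E⁆ ≤ ⁅W, E⁆ := commutator_mono hWE le_rfl
    have h5 : ⁅⁅E, B⁆, ⁅W, E⁆⁆ = ⊥ := by
      refine commutator_commutator_eq_bot_of_rotate ?_ ?_
      · rw [commutator_comm B, hWEB, commutator_bot_left]
      · rw [eq_bot_iff]
        exact (commutator_mono hinv le_rfl).trans hWEB.le
    rw [h2] at h5
    rw [commutator_comm, h5]
  refine CfsgLib.Amalgam.BlockB.not_centralized T₀ hE0 ?_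
  rw [← le_centralizer_iff]
  conv_lhs => rw [← CfsgLib.Amalgam.BlockB.closure_coprime h1]
  refine (closure_le _).2 ?_
  rintro e ⟨he, hc⟩ w hw
  set c := ⁅e, w⁆ with hcdef
  have hcWE : c ∈ ⁅W, E⁆ := by rw [commutator_comm]; exact commutator_mem_commutator he hw
  have hce : e * c = c * e := commutator_eq_bot_iff_le_centralizer.1 hWEE hcWE e he
  have hstep : ∀ n : ℕ, e ^ n * w * (e ^ n)⁻¹ = c ^ n * w := by
    intro n
    induction n with
    | zero => simp
    | succ n ih =>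
      have h7 : e * c ^ n * e⁻¹ = c ^ n := mul_inv_eq_iff_eq_mul.2 ((Commute.pow_right hce n).eq)
      calc e ^ (n + 1) * w * (e ^ (n + 1))⁻¹ = e * (e ^ n * w * (e ^ n)⁻¹) * e⁻¹ := by
            rw [pow_succ']; group
        _ = (e * c ^ n * e⁻¹) * (e * w * e⁻¹) := by rw [ih]; group
        _ = c ^ (n + 1) * w := by
            rw [h7, hcdef, commutatorElement_def, pow_succ]; group
  have h6 := hstep (orderOf e)
  rw [pow_orderOf_eq_one, one_mul, inv_one, mul_one, eq_comm, mul_eq_right] at h6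
  have hc1 : c = 1 := orderOf_eq_one_iff.1 (Nat.eq_one_of_dvd_coprimes hc
    (orderOf_dvd_of_pow_eq_one h6) (orderOf_dvd_of_pow_eq_one (hWel.2 c (hWE hcWE))))
  exact (commutatorElement_eq_one_iff_mul_comm.1 hc1).symm


end CfsgLib.Amalgam.BlockB
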