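import Cfsg.Prelude.Def_BaumannBlocks
import Cfsg.Prelude.Def_PLocal
import Cfsg.Agent.Lib.Solvable.Products

/-!
The Chermak-Delgado measure `|H| * |C(H)|`: largest members form a lattice of permutable subgroups;
centrally large subgroups.
-/

set_option autoImplicit false

namespace CfsgLib.Amalgam

open Subgroup Cfsg
open scoped Pointwise commutatorElement

variable {G : Type*} [Group G]

local notation "𝒞" H => Subgroup.centralizer ((H : Subgroup G) : Set G)

theorem card_center_eq (H : Subgroup G) :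
    Nat.card (Subgroup.center H) = Nat.card (H ⊓ 𝒞 H : Subgroup G) := by
  refine Nat.card_congr
    { toFun := fun z => ⟨z.1.1, z.1.2, fun h hh => congrArg Subtype.val (Subgroup.mem_center_iff.1 z.2 ⟨h, hh⟩)⟩
      invFun := fun x => ⟨⟨x.1, x.2.1⟩, Subgroup.mem_center_iff.2 fun h => Subtype.ext (x.2.2 h.1 h.2)⟩
      left_inv := fun _ => rfl
      right_inv := fun _ => rfl }

theorem centralizer_sup (H K : Subgroup G) : (𝒞 (H ⊔ K)) = (𝒞 H) ⊓ 𝒞 K := by
  refine le_antisymm (le_inf (Subgroup.centralizer_le (SetLike.coe_subset_coe.2 le_sup_left))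
    (Subgroup.centralizer_le (SetLike.coe_subset_coe.2 le_sup_right))) ?_
  rintro x ⟨h1, h2⟩
  have h : H ⊔ K ≤ Subgroup.centralizer {x} := sup_le
    (fun y hy => Subgroup.mem_centralizer_singleton_iff.2 (h1 y hy))
    (fun y hy => Subgroup.mem_centralizer_singleton_iff.2 (h2 y hy))
  exact fun y hy => Subgroup.mem_centralizer_singleton_iff.1 (h hy)

theorem sup_le_centralizer_inf (H K : Subgroup G) : ((𝒞 H) ⊔ 𝒞 K) ≤ 𝒞 (H ⊓ K) :=
  sup_le (Subgroup.centralizer_le fun _ h => h.1) (Subgroup.centralizer_le fun _ h => h.2)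

theorem le_centralizer_centralizer (H : Subgroup G) : H ≤ 𝒞 (𝒞 H) :=
  fun h hh x hx => (hx h hh).symm

theorem mul_subset_sup (H K : Subgroup G) :
    (H : Set G) * (K : Set G) ⊆ ((H ⊔ K : Subgroup G) : Set G) := by
  rintro _ ⟨h, hh, k, hk, rfl⟩
  exact mul_mem (Subgroup.mem_sup_left hh) (Subgroup.mem_sup_right hk)

theorem card_mul_set_le_sup [Finite G] (H K : Subgroup G) :
    Nat.card ((H : Set G) * (K : Set G) : Set G) ≤ Nat.card (H ⊔ K : Subgroup G) :=
  Nat.card_mono (Set.toFinite _) (mul_subset_sup H K)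

theorem card_mul_card_le [Finite G] (H K : Subgroup G) :
    Nat.card H * Nat.card K ≤ Nat.card (H ⊔ K : Subgroup G) * Nat.card (H ⊓ K : Subgroup G) := by
  rw [← CfsgLib.Solvable.card_mul_set_mul_card_inf H K]
  exact Nat.mul_le_mul_right _ (card_mul_set_le_sup H K)

theorem sup_eq_mul_of_card [Finite G] {H K : Subgroup G}
    (h : Nat.card (H ⊔ K : Subgroup G) * Nat.card (H ⊓ K : Subgroup G) ≤ Nat.card H * Nat.card K) :
    ((H ⊔ K : Subgroup G) : Set G) = (H : Set G) * (K : Set G) := by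
  rw [← CfsgLib.Solvable.card_mul_set_mul_card_inf H K] at h
  have h' := Nat.le_of_mul_le_mul_right h Nat.card_pos
  rw [Nat.card_coe_set_eq] at h'
  exact (Set.eq_of_subset_of_ncard_le (mul_subset_sup H K)
    (by rwa [← Nat.card_coe_set_eq ((H ⊔ K : Subgroup G) : Set G)]) (Set.toFinite _)).symm

theorem bddAbove_centralizerProduct [Finite G] :
    BddAbove {k : ℕ | ∃ R : Subgroup G, Nat.card R * Nat.card (𝒞 R) = k} := by
  refine ⟨Nat.card G * Nat.card G, ?_⟩
  rintro _ ⟨R, rfl⟩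
  exact Nat.mul_le_mul R.card_le_card_group (Subgroup.card_le_card_group _)

theorem bddAbove_centralProduct [Finite G] :
    BddAbove {k : ℕ | ∃ R : Subgroup G, Nat.card R * Nat.card (Subgroup.center R) = k} := by
  refine ⟨Nat.card G * Nat.card G, ?_⟩
  rintro _ ⟨R, rfl⟩
  exact Nat.mul_le_mul R.card_le_card_group ((Subgroup.card_le_card_group _).trans R.card_le_card_group)

theorem squeeze_nat {a b c d s i t w C M : ℕ} (a1 : a * b ≤ s * i) (a2 : c * d ≤ t * w) (a3 : t ≤ C)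
    (u1 : s * w ≤ M) (u2 : i * C ≤ M) (e1 : a * c = M) (e2 : b * d = M)
    (hc : 0 < c) (hd : 0 < d) (ha : 0 < a) (hb : 0 < b) :
    s * w = M ∧ i * C = M ∧ s * i ≤ a * b ∧ C ≤ t ∧ t * w ≤ c * d := by
  have hM : (a * b) * (c * d) = M * M := by rw [← e1]; nth_rewrite 2 [e1]; rw [← e2]; ring
  have hlo : (a * b) * (c * d) ≤ (s * i) * (t * w) := Nat.mul_le_mul a1 a2
  have hmid : (s * i) * (t * w) ≤ (s * i) * (C * w) :=
    Nat.mul_le_mul_left _ (Nat.mul_le_mul_right _ a3)
  have hhi : (s * i) * (C * w) = (s * w) * (i * C) := by ring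
  have hMpos : 0 < M := e1 ▸ Nat.mul_pos ha hc
  have hsq : (s * w) * (i * C) ≤ M * M := Nat.mul_le_mul u1 u2
  refine ⟨?_, ?_, ?_, ?_, ?_⟩
  · by_contra h
    have : (s * w) * (i * C) < M * M :=
      lt_of_le_of_lt (Nat.mul_le_mul_left _ u2) (Nat.mul_lt_mul_of_pos_right (lt_of_le_of_ne u1 h) hMpos)
    omega
  · by_contra h
    have : (s * w) * (i * C) < M * M :=
      lt_of_le_of_lt (Nat.mul_le_mul_right _ u1) (Nat.mul_lt_mul_of_pos_left (lt_of_le_of_ne u2 h) hMpos)
    omega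
  · by_contra h
    have : (a * b) * (c * d) < (s * i) * (t * w) :=
      lt_of_lt_of_le (Nat.mul_lt_mul_of_pos_right (not_le.1 h) (Nat.mul_pos hc hd)) (Nat.mul_le_mul_left _ a2)
    omega
  · by_contra h
    have hp : 0 < s * i * (t * w) :=
      lt_of_lt_of_le (Nat.mul_pos (Nat.mul_pos ha hb) (Nat.mul_pos hc hd)) hlo
    have hsi : 0 < s * i := Nat.pos_of_mul_pos_right hp
    have htw : 0 < t * w := Nat.pos_of_mul_pos_left hp
    have hw : 0 < w := Nat.pos_of_mul_pos_left htw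
    have : (s * i) * (t * w) < (s * i) * (C * w) :=
      Nat.mul_lt_mul_of_pos_left (Nat.mul_lt_mul_of_pos_right (not_le.1 h) hw) hsi
    omega
  · by_contra h
    have : (a * b) * (c * d) < (s * i) * (t * w) :=
      lt_of_lt_of_le (Nat.mul_lt_mul_of_pos_left (not_le.1 h) (Nat.mul_pos ha hb)) (Nat.mul_le_mul_right _ a1)
    omega

theorem measure_le_max [Finite G] (H : Subgroup G) :
    Nat.card H * Nat.card (𝒞 H) ≤ maxCentralizerProduct G :=
  le_csSup bddAbove_centralizerProduct ⟨H, rfl⟩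

theorem central_le_max [Finite G] (H : Subgroup G) :
    Nat.card H * Nat.card (Subgroup.center H) ≤ maxCentralProduct G :=
  le_csSup bddAbove_centralProduct ⟨H, rfl⟩

variable [Finite G]

theorem exists_isCentralizerLarge : ∃ R : Subgroup G, IsCentralizerLarge R :=
  Nat.sSup_mem (s := {k : ℕ | ∃ R : Subgroup G, Nat.card R * Nat.card (𝒞 R) = k}) ⟨_, ⊥, rfl⟩
    bddAbove_centralizerProduct

theorem exists_isCentrallyLarge : ∃ R : Subgroup G, IsCentrallyLarge R :=
  Nat.sSup_mem (s := {k : ℕ | ∃ R : Subgroup G, Nat.card R * Nat.card (Subgroup.center R) = k})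
    ⟨_, ⊥, rfl⟩ bddAbove_centralProduct

/-- Lattice property of the subgroups of largest Chermak-Delgado measure. -/
theorem large_lattice {H K : Subgroup G} (hH : IsCentralizerLarge H) (hK : IsCentralizerLarge K) :
    IsCentralizerLarge (H ⊔ K) ∧ IsCentralizerLarge (H ⊓ K) ∧
      ((H ⊔ K : Subgroup G) : Set G) = (H : Set G) * (K : Set G) ∧
      (𝒞 (H ⊓ K)) = (𝒞 H) ⊔ (𝒞 K) ∧
      (((𝒞 H) ⊔ 𝒞 K : Subgroup G) : Set G) = ((𝒞 H) : Set G) * ((𝒞 K) : Set G) := by
  have a1 := card_mul_card_le H K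
  have a2 := card_mul_card_le (𝒞 H) (𝒞 K)
  have a3 : Nat.card ((𝒞 H) ⊔ 𝒞 K : Subgroup G) ≤ Nat.card (𝒞 (H ⊓ K)) :=
    Subgroup.card_le_of_le (sup_le_centralizer_inf H K)
  have e1 : Nat.card H * Nat.card (𝒞 H) = maxCentralizerProduct G := hH
  have e2 : Nat.card K * Nat.card (𝒞 K) = maxCentralizerProduct G := hK
  have u1 := measure_le_max (H ⊔ K)
  have u2 := measure_le_max (H ⊓ K)
  rw [centralizer_sup] at u1
  have p1 : 0 < Nat.card H := Nat.card_pos
  have p2 : 0 < Nat.card K := Nat.card_pos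
  have p3 : 0 < Nat.card (𝒞 H) := Nat.card_pos
  have p4 : 0 < Nat.card (𝒞 K) := Nat.card_pos
  obtain ⟨q1, k2, k3, k4, k5⟩ := squeeze_nat a1 a2 a3 u1 u2 e1 e2 p3 p4 p1 p2
  have k1 : IsCentralizerLarge (H ⊔ K) := by unfold IsCentralizerLarge; rw [centralizer_sup]; exact q1
  exact ⟨k1, k2, sup_eq_mul_of_card k3,
    (Subgroup.eq_of_le_of_card_ge (sup_le_centralizer_inf H K) k4).symm, sup_eq_mul_of_card k5⟩

theorem large_centralizer {H : Subgroup G} (hH : IsCentralizerLarge H) :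
    IsCentralizerLarge (𝒞 H) ∧ (𝒞 (𝒞 H)) = H := by
  have e : Nat.card H * Nat.card (𝒞 H) = maxCentralizerProduct G := hH
  have u := measure_le_max (𝒞 H)
  have h : Nat.card (𝒞 (𝒞 H)) ≤ Nat.card H :=
    Nat.le_of_mul_le_mul_right (e ▸ (mul_comm (Nat.card (𝒞 H)) _) ▸ u) Nat.card_pos
  have h' := (Subgroup.eq_of_le_of_card_ge (le_centralizer_centralizer H) h).symm
  refine ⟨?_, h'⟩
  unfold IsCentralizerLarge
  rw [h', mul_comm]; exact e

theorem sSup_large {P : Subgroup G → Prop} (hP : ∀ H K, P H → P K → P (H ⊔ K))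
    {s : Set (Subgroup G)} (hne : s.Nonempty) (hs : ∀ H ∈ s, P H) : P (sSup s) := by
  have hf : s.Finite := Set.toFinite s
  induction s, hf using Set.Finite.induction_on with
  | empty => exact absurd hne Set.not_nonempty_empty
  | @insert a t _ _ ih =>
    rw [sSup_insert]
    rcases t.eq_empty_or_nonempty with rfl | ht
    · simpa using hs a (Set.mem_insert _ _)
    · exact hP _ _ (hs a (Set.mem_insert _ _)) (ih ht fun H h => hs H (Set.mem_insert_of_mem _ h))

theorem maxCentralProduct_eq : maxCentralProduct G = maxCentralizerProduct G := by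
  refine le_antisymm ?_ ?_
  · obtain ⟨R, hR⟩ := exists_isCentrallyLarge (G := G)
    rw [← hR, card_center_eq]
    exact (Nat.mul_le_mul_left _ (Subgroup.card_le_of_le inf_le_right)).trans (measure_le_max R)
  · obtain ⟨Q, hQ⟩ := exists_isCentralizerLarge (G := G)
    obtain ⟨hC, hCC⟩ := large_centralizer hQ
    have hX := (large_lattice hQ hC).1
    have hle : (𝒞 (Q ⊔ 𝒞 Q)) ≤ Q ⊔ 𝒞 Q := by
      rw [centralizer_sup, hCC]; exact inf_le_right.trans le_sup_left
    have := central_le_max (Q ⊔ 𝒞 Q)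
    rw [card_center_eq, inf_eq_right.2 hle] at this
    exact hX ▸ this

theorem isCentrallyLarge_iff {Q : Subgroup G} :
    IsCentrallyLarge Q ↔ IsCentralizerLarge Q ∧ (𝒞 Q) ≤ Q := by
  have u := measure_le_max Q
  have hi : Nat.card (Q ⊓ 𝒞 Q : Subgroup G) ≤ Nat.card (𝒞 Q) := Subgroup.card_le_of_le inf_le_right
  unfold IsCentrallyLarge IsCentralizerLarge
  rw [maxCentralProduct_eq, card_center_eq]
  constructor
  · intro h
    have h1 : Nat.card (𝒞 Q) ≤ Nat.card (Q ⊓ 𝒞 Q : Subgroup G) :=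
      Nat.le_of_mul_le_mul_left (h ▸ u) Nat.card_pos
    refine ⟨le_antisymm u (h ▸ Nat.mul_le_mul_left _ hi), ?_⟩
    exact inf_eq_right.1 (Subgroup.eq_of_le_of_card_ge inf_le_right h1)
  · rintro ⟨h, hle⟩
    rw [inf_eq_right.2 hle]; exact h

theorem centrallyLarge_sup {Q R : Subgroup G} (hQ : IsCentrallyLarge Q) (hR : IsCentrallyLarge R) :
    IsCentrallyLarge (Q ⊔ R) := by
  rw [isCentrallyLarge_iff] at *
  refine ⟨(large_lattice hQ.1 hR.1).1, ?_⟩
  rw [centralizer_sup]
  exact inf_le_left.trans (hQ.2.trans le_sup_left)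

theorem exists_isMinimalCentrallyLarge_le {Q : Subgroup G} (hQ : IsCentrallyLarge Q) :
    ∃ R ≤ Q, IsMinimalCentrallyLarge R := by
  obtain ⟨R, ⟨hRQ, hR⟩, hmin⟩ := Set.Finite.exists_minimalFor id
    {R : Subgroup G | R ≤ Q ∧ IsCentrallyLarge R} (Set.toFinite _) ⟨Q, le_refl _, hQ⟩
  exact ⟨R, hRQ, hR, fun R' h hR' => le_antisymm h (hmin ⟨h.trans hRQ, hR'⟩ h)⟩

theorem isCentrallyLarge_centrallyLargeJoin : IsCentrallyLarge (centrallyLargeJoin G) :=
  sSup_large (G := G) (P := fun X => IsCentrallyLarge X) (fun H K hH hK => centrallyLarge_sup hH hK)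
    (s := {R : Subgroup G | IsCentrallyLarge R}) exists_isCentrallyLarge (fun _ h => h)

theorem isCentrallyLarge_minimalCentrallyLargeJoin :
    IsCentrallyLarge (minimalCentrallyLargeJoin G) := by
  obtain ⟨Q, hQ⟩ := exists_isCentrallyLarge (G := G)
  obtain ⟨R, -, hR⟩ := exists_isMinimalCentrallyLarge_le hQ
  exact sSup_large (G := G) (P := fun X => IsCentrallyLarge X) (fun H K hH hK => centrallyLarge_sup hH hK)
    (s := {R : Subgroup G | IsMinimalCentrallyLarge R}) ⟨R, hR⟩ (fun _ h => h.1)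

theorem le_centralizer_of_commutative {A : Subgroup G} (hA : IsMulCommutative A) : A ≤ 𝒞 A :=
  fun x hx y hy => congrArg Subtype.val (mul_comm' (⟨y, hy⟩ : A) ⟨x, hx⟩)

theorem commutative_of_le_centralizer {A : Subgroup G} (hA : A ≤ 𝒞 A) : IsMulCommutative A :=
  ⟨⟨fun x y => Subtype.ext (hA y.2 x.1 x.2)⟩⟩

theorem centralizer_maxAbelian {A : Subgroup G} (hA : A ∈ maxAbelianSubgroups G) : (𝒞 A) = A := by
  refine le_antisymm (fun x hx => ?_) (le_centralizer_of_commutative hA.1)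
  have hc : A ⊔ Subgroup.zpowers x ≤ 𝒞 (A ⊔ Subgroup.zpowers x) := by
    rw [centralizer_sup]
    refine sup_le (le_inf (le_centralizer_of_commutative hA.1) fun a ha => ?_)
      (le_inf ?_ fun y hy z hz => ?_)
    · rintro _ ⟨k, rfl⟩
      exact ((show Commute a x from hx a ha).zpow_right k).symm
    · rw [Subgroup.zpowers_le]; exact hx
    · obtain ⟨i, rfl⟩ := hy; obtain ⟨j, rfl⟩ := hz; exact (Commute.refl x).zpow_zpow j i
  have h := Subgroup.eq_of_le_of_card_ge (le_sup_left : A ≤ A ⊔ Subgroup.zpowers x)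
    (hA.2 _ (commutative_of_le_centralizer hc))
  rw [h]
  exact Subgroup.mem_sup_right (Subgroup.mem_zpowers x)

/-- The product of a centrally large subgroup and an abelian subgroup of largest order. -/
theorem centrallyLarge_sup_maxAbelian {Q A : Subgroup G} (hQ : IsCentrallyLarge Q)
    (hA : A ∈ maxAbelianSubgroups G) :
    IsCentrallyLarge (Q ⊔ A) ∧ ((Q ⊔ A : Subgroup G) : Set G) = (Q : Set G) * (A : Set G) ∧
      ((Q ⊓ A) ⊔ 𝒞 Q : Subgroup G) ∈ maxAbelianSubgroups G := by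
  obtain ⟨hQL, hCQ⟩ := isCentrallyLarge_iff.1 hQ
  have hAA := centralizer_maxAbelian hA
  have hab : ((Q ⊓ A) ⊔ 𝒞 Q) ≤ 𝒞 ((Q ⊓ A) ⊔ 𝒞 Q) := by
    rw [centralizer_sup]
    refine sup_le (le_inf ?_ ?_) (le_inf ?_ ?_)
    · exact inf_le_right.trans ((le_centralizer_of_commutative hA.1).trans
        (Subgroup.centralizer_le fun _ h => h.2))
    · exact inf_le_left.trans (le_centralizer_centralizer Q)
    · exact Subgroup.centralizer_le fun _ h => h.1
    · exact hCQ.trans (le_centralizer_centralizer Q)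
  have hB := hA.2 _ (commutative_of_le_centralizer hab)
  have a1 := card_mul_card_le Q A
  have a2 := card_mul_card_le (Q ⊓ A) (𝒞 Q)
  have hinf : (Q ⊓ A) ⊓ (𝒞 Q) = (𝒞 Q) ⊓ A := by
    rw [inf_right_comm, inf_eq_right.2 hCQ]
  rw [hinf] at a2
  have e : Nat.card Q * Nat.card (𝒞 Q) = maxCentralizerProduct G := hQL
  have u := measure_le_max (Q ⊔ A)
  rw [centralizer_sup, hAA] at u
  have key : IsCentralizerLarge (Q ⊔ A) ∧
      Nat.card (Q ⊔ A : Subgroup G) * Nat.card (Q ⊓ A : Subgroup G) ≤ Nat.card Q * Nat.card A ∧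
      Nat.card A ≤ Nat.card ((Q ⊓ A) ⊔ 𝒞 Q : Subgroup G) := by
    unfold IsCentralizerLarge
    rw [centralizer_sup, hAA]
    have : 0 < Nat.card ((𝒞 Q) ⊓ A : Subgroup G) := Nat.card_pos
    have : 0 < Nat.card (Q ⊓ A : Subgroup G) := Nat.card_pos
    have : 0 < Nat.card (Q ⊔ A : Subgroup G) := Nat.card_pos
    have : 0 < Nat.card Q := Nat.card_pos
    have : 0 < Nat.card A := Nat.card_pos
    have : 0 < Nat.card (𝒞 Q) := Nat.card_pos
    have : 0 < Nat.card ((Q ⊓ A) ⊔ 𝒞 Q : Subgroup G) := Nat.card_pos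
    refine ⟨?_, ?_, ?_⟩ <;> nlinarith
  refine ⟨isCentrallyLarge_iff.2 ⟨key.1, ?_⟩, sup_eq_mul_of_card key.2.1,
    commutative_of_le_centralizer hab, fun B hB' => (hA.2 B hB').trans key.2.2⟩
  rw [centralizer_sup]
  exact inf_le_left.trans (hCQ.trans le_sup_left)

theorem exists_maxAbelian : ∃ A : Subgroup G, A ∈ maxAbelianSubgroups G := by
  obtain ⟨A, hA, hmax⟩ := Set.Finite.exists_maximalFor (fun A : Subgroup G => Nat.card A)
    {A : Subgroup G | IsMulCommutative A} (Set.toFinite _)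
    ⟨⊥, commutative_of_le_centralizer bot_le⟩
  exact ⟨A, hA, fun B hB => (le_total (Nat.card B) (Nat.card A)).elim id fun h => hmax hB h⟩

theorem centrallyLarge_sup_thompsonA {Q : Subgroup G} (hQ : IsCentrallyLarge Q) :
    IsCentrallyLarge (Q ⊔ thompsonSubgroupA G) := by
  suffices ∀ s : Set (Subgroup G), s ⊆ maxAbelianSubgroups G → IsCentrallyLarge (Q ⊔ sSup s) from
    this _ (subset_refl _)
  intro s
  have hf : s.Finite := Set.toFinite s
  induction s, hf using Set.Finite.induction_on with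
  | empty => intro; simpa using hQ
  | @insert a t _ _ ih =>
    intro h
    rw [sSup_insert, sup_left_comm, sup_comm a]
    exact (centrallyLarge_sup_maxAbelian (ih ((Set.subset_insert a t).trans h))
      (h (Set.mem_insert a t))).1

/-- If a centrally large `X` contains `J`, it contains `C(Z(J))`. -/
theorem centralizer_centerThompsonA_le {X : Subgroup G} (hX : IsCentrallyLarge X)
    (hJ : thompsonSubgroupA G ≤ X) :
    (𝒞 (thompsonSubgroupA G ⊓ 𝒞 (thompsonSubgroupA G))) ≤ X := by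
  obtain ⟨A, hA⟩ := exists_maxAbelian (G := G)
  have hAJ : A ≤ thompsonSubgroupA G := le_sSup hA
  have h1 : (𝒞 X) ≤ thompsonSubgroupA G ⊓ 𝒞 (thompsonSubgroupA G) := by
    refine le_inf ?_ (Subgroup.centralizer_le (SetLike.coe_subset_coe.2 hJ))
    refine le_trans ?_ hAJ
    rw [← centralizer_maxAbelian hA]
    exact Subgroup.centralizer_le (SetLike.coe_subset_coe.2 (hAJ.trans hJ))
  calc _ ≤ 𝒞 (𝒞 X) := Subgroup.centralizer_le (SetLike.coe_subset_coe.2 h1)
    _ = X := (large_centralizer (isCentrallyLarge_iff.1 hX).1).2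

/-- Two minimal centrally large subgroups differ only in their centres. -/
theorem minimalCentrallyLarge_eq {Q R : Subgroup G} (hQ : IsMinimalCentrallyLarge Q)
    (hR : IsMinimalCentrallyLarge R) : (Q ⊓ R) ⊔ (𝒞 Q) = Q := by
  obtain ⟨hQL, hCQ⟩ := isCentrallyLarge_iff.1 hQ.1
  obtain ⟨hRL, hCR⟩ := isCentrallyLarge_iff.1 hR.1
  obtain ⟨-, hD, -, hCD, hmul⟩ := large_lattice hQL hRL
  refine hQ.2 _ (sup_le inf_le_left hCQ) (isCentrallyLarge_iff.2
    ⟨(large_lattice hD (large_centralizer hQL).1).1, ?_⟩)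
  rw [centralizer_sup, hCD, (large_centralizer hQL).2]
  rintro x ⟨hx, hxQ⟩
  obtain ⟨u, hu, v, hv, rfl⟩ := (Set.ext_iff.1 hmul x).1 hx
  have hvQ : v ∈ Q := by simpa using mul_mem (inv_mem (hCQ hu)) hxQ
  exact mul_mem (Subgroup.mem_sup_right hu) (Subgroup.mem_sup_left ⟨hvQ, hCR hv⟩)

/-- Elements of the join of two subgroups centralising each other. -/
theorem exists_mul_of_mem_sup {H K : Subgroup G} (h : K ≤ 𝒞 H) {x : G} (hx : x ∈ H ⊔ K) :
    ∃ a ∈ H, ∃ b ∈ K, x = a * b := by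
  let S : Subgroup G :=
    { carrier := {x | ∃ a ∈ H, ∃ b ∈ K, x = a * b}
      one_mem' := ⟨1, one_mem _, 1, one_mem _, (one_mul 1).symm⟩
      mul_mem' := by
        rintro _ _ ⟨a, ha, b, hb, rfl⟩ ⟨c, hc, d, hd, rfl⟩
        exact ⟨a * c, mul_mem ha hc, b * d, mul_mem hb hd,
          (show Commute b c from (h hb c hc).symm).mul_mul_mul_comm _ _⟩
      inv_mem' := by
        rintro _ ⟨a, ha, b, hb, rfl⟩
        exact ⟨a⁻¹, inv_mem ha, b⁻¹, inv_mem hb,
          by rw [mul_inv_rev]; exact ((show Commute a b from h hb a ha).inv_inv).eq.symm⟩ }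
  exact (sup_le (fun y hy => (⟨y, hy, 1, one_mem _, (mul_one y).symm⟩ : y ∈ S))
    (fun y hy => (⟨1, one_mem _, y, hy, (one_mul y).symm⟩ : y ∈ S)) : H ⊔ K ≤ S) hx

theorem commutator_eq_inf {Q R : Subgroup G} (hQ : IsMinimalCentrallyLarge Q)
    (hR : IsMinimalCentrallyLarge R) : ⁅Q, Q⁆ = ⁅Q ⊓ R, Q ⊓ R⁆ := by
  refine le_antisymm (Subgroup.commutator_le.2 fun x hx y hy => ?_)
    (Subgroup.commutator_mono inf_le_left inf_le_left)
  rw [← minimalCentrallyLarge_eq hQ hR] at hx hy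
  have hc : (𝒞 Q) ≤ 𝒞 (Q ⊓ R) := Subgroup.centralizer_le fun _ h => h.1
  obtain ⟨d, hd, z, hz, rfl⟩ := exists_mul_of_mem_sup hc hx
  obtain ⟨e, he, w, hw, rfl⟩ := exists_mul_of_mem_sup hc hy
  have hwQ : w ∈ Q := (isCentrallyLarge_iff.1 hQ.1).2 hw
  have c1 : Commute d z := hz d hd.1
  have c2 : Commute z e := (hz e he.1).symm
  have c3 : Commute z w := (hz w hwQ).symm
  have c4 : Commute d w := hw d hd.1
  have h1 : d * z * (e * w) * (d * z)⁻¹ = d * e * d⁻¹ * w := by
    rw [mul_assoc d z (e * w), (c2.mul_right c3).eq, mul_inv_rev,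
      show d * (e * w * z) * (z⁻¹ * d⁻¹) = d * e * (w * d⁻¹) by group, ← (c4.inv_left).eq]
    group
  have h2 : ⁅d * z, e * w⁆ = ⁅d, e⁆ := by
    rw [commutatorElement_def, commutatorElement_def, h1]
    group
  rw [h2]
  exact Subgroup.commutator_mem_commutator hd he

theorem card_eq_of_minimalCentrallyLarge {Q R : Subgroup G} (hQ : IsMinimalCentrallyLarge Q)
    (hR : IsMinimalCentrallyLarge R) :
    Nat.card Q = Nat.card R ∧ Nat.card (𝒞 Q) = Nat.card (𝒞 R) := by
  obtain ⟨hQL, hCQ⟩ := isCentrallyLarge_iff.1 hQ.1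
  obtain ⟨hRL, hCR⟩ := isCentrallyLarge_iff.1 hR.1
  have hQe := minimalCentrallyLarge_eq hQ hR
  have hRe : (Q ⊓ R) ⊔ (𝒞 R) = R := by rw [inf_comm]; exact minimalCentrallyLarge_eq hR hQ
  have hW : (Q ⊓ R) ⊓ (𝒞 Q) = (Q ⊓ R) ⊓ 𝒞 R := by
    refine le_antisymm (le_inf inf_le_left ?_) (le_inf inf_le_left ?_)
    · intro x hx
      have h : x ∈ 𝒞 ((Q ⊓ R) ⊔ (𝒞 R)) := by
        rw [centralizer_sup]
        exact ⟨Subgroup.centralizer_le (fun _ h => h.1) hx.2, le_centralizer_centralizer R hx.1.2⟩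
      rwa [hRe] at h
    · intro x hx
      have h : x ∈ 𝒞 ((Q ⊓ R) ⊔ (𝒞 Q)) := by
        rw [centralizer_sup]
        exact ⟨Subgroup.centralizer_le (fun _ h => h.2) hx.2, le_centralizer_centralizer Q hx.1.1⟩
      rwa [hQe] at h
  obtain ⟨-, hD, -⟩ := large_lattice hQL hRL
  have e1 := CfsgLib.Solvable.card_mul_set_mul_card_inf (Q ⊓ R) (𝒞 Q)
  rw [← (large_lattice hD (large_centralizer hQL).1).2.2.1, hQe] at e1
  have e2 := CfsgLib.Solvable.card_mul_set_mul_card_inf (Q ⊓ R) (𝒞 R)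
  rw [← (large_lattice hD (large_centralizer hRL).1).2.2.1, hRe, ← hW] at e2
  have m1 : Nat.card Q * Nat.card (𝒞 Q) = maxCentralizerProduct G := hQL
  have m2 : Nat.card R * Nat.card (𝒞 R) = maxCentralizerProduct G := hRL
  have pW : 0 < Nat.card ((Q ⊓ R) ⊓ 𝒞 Q : Subgroup G) := Nat.card_pos
  have pC : 0 < Nat.card (𝒞 Q) := Nat.card_pos
  have pC' : 0 < Nat.card (𝒞 R) := Nat.card_pos
  simp only [SetLike.coe_sort_coe] at e1 e2
  have h3 : Nat.card Q * Nat.card (𝒞 R) = Nat.card R * Nat.card (𝒞 Q) := by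
    refine Nat.eq_of_mul_eq_mul_right pW ?_
    rw [mul_right_comm, e1, mul_right_comm (Nat.card R), e2, mul_right_comm]
  have h4 : Nat.card Q * Nat.card Q = Nat.card R * Nat.card R := by
    refine Nat.eq_of_mul_eq_mul_right (Nat.mul_pos pC pC') ?_
    calc Nat.card Q * Nat.card Q * (Nat.card (𝒞 Q) * Nat.card (𝒞 R))
        = (Nat.card Q * Nat.card (𝒞 Q)) * (Nat.card Q * Nat.card (𝒞 R)) := by ring
      _ = (Nat.card R * Nat.card (𝒞 R)) * (Nat.card R * Nat.card (𝒞 Q)) := by rw [m1, m2, h3]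
      _ = _ := by ring
  have h5 := Nat.mul_self_inj.1 h4
  exact ⟨h5, Nat.eq_of_mul_eq_mul_left Nat.card_pos (by rw [m1, h5, m2] : Nat.card Q * _ = Nat.card Q * _)⟩

/-- When one minimal centrally large subgroup is abelian. -/
theorem minimalCentrallyLarge_iff_maxAbelian {Q : Subgroup G} (hQ : IsMinimalCentrallyLarge Q)
    (hab : IsMulCommutative Q) (X : Subgroup G) :
    IsMinimalCentrallyLarge X ↔ X ∈ maxAbelianSubgroups G := by
  obtain ⟨hQL, hCQ⟩ := isCentrallyLarge_iff.1 hQ.1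
  have hQQ : (𝒞 Q) = Q := le_antisymm hCQ (le_centralizer_of_commutative hab)
  have m : Nat.card Q * Nat.card Q = maxCentralizerProduct G := by
    have h : Nat.card Q * Nat.card (𝒞 Q) = maxCentralizerProduct G := hQL
    rwa [hQQ] at h
  have hle : ∀ B : Subgroup G, IsMulCommutative B → Nat.card B ≤ Nat.card Q := fun B hB =>
    Nat.mul_self_le_mul_self_iff.1 (m ▸ (Nat.mul_le_mul_left _
      (Subgroup.card_le_of_le (le_centralizer_of_commutative hB))).trans (measure_le_max B))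
  have habA : ∀ B : Subgroup G, IsMulCommutative B → Nat.card B = Nat.card Q → IsCentrallyLarge B := by
    intro B hB e
    have hBB := centralizer_maxAbelian (show B ∈ maxAbelianSubgroups G from
      ⟨hB, fun C hC => e ▸ hle C hC⟩)
    rw [isCentrallyLarge_iff]
    refine ⟨?_, hBB.le⟩
    unfold IsCentralizerLarge
    rw [hBB, e, m]
  constructor
  · intro hX
    have hXab : IsMulCommutative X := by
      refine commutative_of_le_centralizer ?_
      have h1 : ⁅X, X⁆ = ⊥ := by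
        rw [commutator_eq_inf hX hQ, inf_comm, ← commutator_eq_inf hQ hX,
          Subgroup.commutator_eq_bot_iff_le_centralizer]
        exact le_centralizer_of_commutative hab
      exact Subgroup.commutator_eq_bot_iff_le_centralizer.1 h1
    exact ⟨hXab, fun B hB => (card_eq_of_minimalCentrallyLarge hX hQ).1 ▸ hle B hB⟩
  · intro hX
    have e : Nat.card X = Nat.card Q := le_antisymm (hle X hX.1) (hX.2 Q hab)
    refine ⟨habA X hX.1 e, fun R hRX hR => ?_⟩
    have hRab : IsMulCommutative R := commutative_of_le_centralizer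
      (hRX.trans ((le_centralizer_of_commutative hX.1).trans
        (Subgroup.centralizer_le (SetLike.coe_subset_coe.2 hRX))))
    obtain ⟨hRL, hCR⟩ := isCentrallyLarge_iff.1 hR
    have mR : Nat.card R * Nat.card (𝒞 R) = maxCentralizerProduct G := hRL
    rw [le_antisymm hCR (le_centralizer_of_commutative hRab), ← m, ← e] at mR
    exact Subgroup.eq_of_le_of_card_ge hRX (Nat.mul_self_inj.1 mR).ge

/-- A nonabelian simple group has `|A| * |C(A)| < |G|` for proper nontrivial `A`. -/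
theorem measure_lt_of_simple [IsSimpleGroup G] (hG : ¬ IsMulCommutative G) (A : Subgroup G)
    (hA1 : A ≠ ⊥) (hA2 : A ≠ ⊤) : Nat.card A * Nat.card (𝒞 A) < Nat.card G := by
  have hZ : (𝒞 (⊤ : Subgroup G)) = ⊥ := by
    rw [Subgroup.coe_top, Subgroup.centralizer_univ]
    refine (IsSimpleGroup.eq_bot_or_eq_top_of_normal _ inferInstance).resolve_right fun h => hG ?_
    exact ⟨⟨fun a b => Subgroup.mem_center_iff.1 (h ▸ Subgroup.mem_top b : b ∈ Subgroup.center G) a⟩⟩
  by_contra hlt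
  rw [not_lt] at hlt
  obtain ⟨B, hB⟩ := exists_isCentralizerLarge (G := G)
  have hM : Nat.card G ≤ maxCentralizerProduct G := hlt.trans (measure_le_max A)
  have conj_large : ∀ (g : G) (H : Subgroup G), IsCentralizerLarge H →
      IsCentralizerLarge (H.map (MulAut.conj g).toMonoidHom) := by
    intro g H hH
    unfold IsCentralizerLarge at hH ⊢
    have hinj : Function.Injective (MulAut.conj g).toMonoidHom := (MulAut.conj g).injective
    refine le_antisymm (measure_le_max _) ?_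
    rw [← hH, show Nat.card (H.map (MulAut.conj g).toMonoidHom) = Nat.card H from Subgroup.card_map_of_injective hinj]
    refine Nat.mul_le_mul_left _ ?_
    rw [← show Nat.card ((𝒞 H).map (MulAut.conj g).toMonoidHom) = Nat.card (𝒞 H) from Subgroup.card_map_of_injective hinj]
    refine Subgroup.card_le_of_le ?_
    rintro _ ⟨c, hc, rfl⟩ _ ⟨h, hh, rfl⟩
    rw [← map_mul, ← map_mul, hc h hh]
  -- there is a proper nontrivial member
  have hex : ∃ H : Subgroup G, IsCentralizerLarge H ∧ H ≠ ⊤ := by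
    by_cases h : maxCentralizerProduct G = Nat.card G
    · exact ⟨A, le_antisymm (measure_le_max A) (h ▸ hlt), hA2⟩
    · refine ⟨B, hB, ?_⟩
      rintro rfl
      unfold IsCentralizerLarge at hB
      rw [hZ, Subgroup.card_bot, Subgroup.card_top, mul_one] at hB
      exact h hB.symm
  obtain ⟨H, ⟨hH, hHt⟩, hmax⟩ := Set.Finite.exists_maximalFor (fun H : Subgroup G => Nat.card H)
    {H : Subgroup G | IsCentralizerLarge H ∧ H ≠ ⊤} (Set.toFinite _) hex
  have hnormal : H.Normal := by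
    refine ⟨fun n hn g => ?_⟩
    obtain ⟨h1, -, h3, -⟩ := large_lattice hH (conj_large g H hH)
    have hne : H ⊔ H.map (MulAut.conj g).toMonoidHom ≠ ⊤ := by
      intro htop
      rw [htop] at h3
      obtain ⟨a, ha, _, ⟨b, hb, rfl⟩, hab⟩ := (Set.ext_iff.1 h3 g⁻¹).1 (Subgroup.mem_top g⁻¹)
      simp only [MulEquiv.coe_toMonoidHom, MulAut.conj_apply] at hab
      have hg : g = a⁻¹ * b⁻¹ := by
        have h' : a * g * b = 1 := by
          calc a * g * b = a * (g * b * g⁻¹) * g := by group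
            _ = 1 := by rw [hab, inv_mul_cancel]
        calc g = a⁻¹ * (a * g * b) * b⁻¹ := by group
          _ = a⁻¹ * b⁻¹ := by rw [h', mul_one]
      have hgH : g ∈ H := hg ▸ mul_mem (inv_mem ha) (inv_mem hb)
      have hle : H.map (MulAut.conj g).toMonoidHom ≤ H := by
        rintro _ ⟨c, hc, rfl⟩
        exact mul_mem (mul_mem hgH hc) (inv_mem hgH)
      exact hHt (by rwa [sup_eq_left.2 hle] at htop)
    have := Subgroup.eq_of_le_of_card_ge le_sup_left (hmax ⟨h1, hne⟩ (Subgroup.card_le_of_le le_sup_left))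
    rw [this]
    exact Subgroup.mem_sup_right ⟨n, hn, rfl⟩
  rcases IsSimpleGroup.eq_bot_or_eq_top_of_normal H hnormal with h | h
  · subst h
    have hA : Nat.card (⊥ : Subgroup G) < Nat.card A := by
      rw [Subgroup.card_bot]
      exact (Subgroup.one_lt_card_iff_ne_bot A).2 hA1
    have hMG : maxCentralizerProduct G ≤ Nat.card G := by
      have e : Nat.card (⊥ : Subgroup G) * Nat.card (𝒞 (⊥ : Subgroup G)) = maxCentralizerProduct G := hH
      rw [← e, Subgroup.card_bot, one_mul]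
      exact Subgroup.card_le_card_group _
    have hAL : IsCentralizerLarge A := le_antisymm (measure_le_max A) (hMG.trans hlt)
    exact absurd (hmax ⟨hAL, hA2⟩ hA.le) (not_le.2 hA)
  · exact hHt h

end CfsgLib.Amalgam
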