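import Mathlib
import Cfsg.Agent.Lib.Amalgam.ChermakDelgado

/-!
Thompson replacement for centres of minimal centrally large subgroups: Ito's identity and the count.
-/

set_option autoImplicit false

namespace CfsgLib.Amalgam.CLReplace

open Subgroup Cfsg

variable {G : Type*} [Group G]

/-- The commutator `a⁻¹ b⁻¹ a b`. -/
def κ (a b : G) : G := a⁻¹ * b⁻¹ * a * b

theorem mem_centralizer_iff' {H : Subgroup G} {g : G} :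
    g ∈ Subgroup.centralizer (H : Set G) ↔ ∀ h ∈ H, Commute h g := Iff.rfl

/-- Ito: commutators of two abelian subgroups whose product is a subgroup commute. -/
theorem commute_commutators {A B : Subgroup G} (hA : ∀ a ∈ A, ∀ b ∈ A, Commute a b)
    (hB : ∀ a ∈ B, ∀ b ∈ B, Commute a b)
    (hm : ∀ w ∈ A ⊔ B, ∃ a ∈ A, ∃ b ∈ B, w = a * b)
    {a a₁ b b₁ : G} (ha : a ∈ A) (ha₁ : a₁ ∈ A) (hb : b ∈ B) (hb₁ : b₁ ∈ B) :
    Commute (κ a b) (κ a₁ b₁) := by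
  have key : ∀ u ∈ A, ∀ v ∈ B, Commute (v * u * v⁻¹ * u⁻¹) (κ a b) := by
    intro u hu v hv
    have hu' : u ∈ A ⊔ B := Subgroup.mem_sup_left hu
    have hv' : v ∈ A ⊔ B := Subgroup.mem_sup_right hv
    obtain ⟨a₂, ha₂, b₂, hb₂, e₂⟩ := hm (u⁻¹ * b * u)
      (mul_mem (mul_mem (inv_mem hu') (Subgroup.mem_sup_right hb)) hu')
    obtain ⟨a₃, ha₃, b₃, hb₃, e₃⟩ := hm (v⁻¹ * a * v)⁻¹
      (inv_mem (mul_mem (mul_mem (inv_mem hv') (Subgroup.mem_sup_left ha)) hv'))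
    have e₃' : v⁻¹ * a * v = b₃⁻¹ * a₃⁻¹ := by rw [← mul_inv_rev, ← e₃, inv_inv]
    have eu : u⁻¹ * a * u = a := by rw [mul_assoc, (hA a ha u hu).eq, inv_mul_cancel_left]
    have ev : v⁻¹ * b * v = b := by rw [mul_assoc, (hB b hb v hv).eq, inv_mul_cancel_left]
    -- first order
    have h1 : (u * v)⁻¹ * κ a b * (u * v) = κ a₃⁻¹ b₂ := by
      have s1 : u⁻¹ * κ a b * u = κ (u⁻¹ * a * u) (u⁻¹ * b * u) := by simp [κ, mul_assoc]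
      have s2 : κ a (a₂ * b₂) = κ a b₂ := by
        have h' : a⁻¹ * (a₂ * b₂)⁻¹ * a * (a₂ * b₂) = a⁻¹ * b₂⁻¹ * (a₂⁻¹ * (a * a₂)) * b₂ := by
          group
        rw [κ, h', (hA a ha a₂ ha₂).eq, inv_mul_cancel_left]
        rfl
      have s3 : v⁻¹ * κ a b₂ * v = κ (v⁻¹ * a * v) (v⁻¹ * b₂ * v) := by simp [κ, mul_assoc]
      have ev2 : v⁻¹ * b₂ * v = b₂ := by rw [mul_assoc, (hB b₂ hb₂ v hv).eq, inv_mul_cancel_left]
      have s4 : κ (b₃⁻¹ * a₃⁻¹) b₂ = κ a₃⁻¹ b₂ := by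
        have h' : (b₃⁻¹ * a₃⁻¹)⁻¹ * b₂⁻¹ * (b₃⁻¹ * a₃⁻¹) * b₂
            = a₃ * (b₃ * b₂⁻¹ * b₃⁻¹) * a₃⁻¹ * b₂ := by group
        rw [κ, h', (hB b₃ hb₃ b₂⁻¹ (inv_mem hb₂)).eq, mul_inv_cancel_right, κ, inv_inv]
      calc (u * v)⁻¹ * κ a b * (u * v) = v⁻¹ * (u⁻¹ * κ a b * u) * v := by group
        _ = v⁻¹ * κ a b₂ * v := by rw [s1, eu, e₂, s2]
        _ = κ a₃⁻¹ b₂ := by rw [s3, ev2, e₃', s4]
    have h2 : (v * u)⁻¹ * κ a b * (v * u) = κ a₃⁻¹ b₂ := by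
      have s1 : v⁻¹ * κ a b * v = κ (v⁻¹ * a * v) (v⁻¹ * b * v) := by simp [κ, mul_assoc]
      have s4 : κ (b₃⁻¹ * a₃⁻¹) b = κ a₃⁻¹ b := by
        have h' : (b₃⁻¹ * a₃⁻¹)⁻¹ * b⁻¹ * (b₃⁻¹ * a₃⁻¹) * b
            = a₃ * (b₃ * b⁻¹ * b₃⁻¹) * a₃⁻¹ * b := by group
        rw [κ, h', (hB b₃ hb₃ b⁻¹ (inv_mem hb)).eq, mul_inv_cancel_right, κ, inv_inv]
      have s3 : u⁻¹ * κ a₃⁻¹ b * u = κ (u⁻¹ * a₃⁻¹ * u) (u⁻¹ * b * u) := by simp [κ, mul_assoc]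
      have eu3 : u⁻¹ * a₃⁻¹ * u = a₃⁻¹ := by
        rw [mul_assoc, (hA a₃⁻¹ (inv_mem ha₃) u hu).eq, inv_mul_cancel_left]
      have s2 : κ a₃⁻¹ (a₂ * b₂) = κ a₃⁻¹ b₂ := by
        have h' : a₃⁻¹⁻¹ * (a₂ * b₂)⁻¹ * a₃⁻¹ * (a₂ * b₂)
            = a₃⁻¹⁻¹ * b₂⁻¹ * (a₂⁻¹ * (a₃⁻¹ * a₂)) * b₂ := by group
        rw [κ, h', (hA a₃⁻¹ (inv_mem ha₃) a₂ ha₂).eq, inv_mul_cancel_left]
        rfl
      calc (v * u)⁻¹ * κ a b * (v * u) = u⁻¹ * (v⁻¹ * κ a b * v) * u := by group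
        _ = u⁻¹ * κ a₃⁻¹ b * u := by rw [s1, ev, e₃', s4]
        _ = κ a₃⁻¹ b₂ := by rw [s3, eu3, e₂, s2]
    have h3 : (u * v)⁻¹ * κ a b * (u * v) = (v * u)⁻¹ * κ a b * (v * u) := h1.trans h2.symm
    show v * u * v⁻¹ * u⁻¹ * κ a b = κ a b * (v * u * v⁻¹ * u⁻¹)
    calc v * u * v⁻¹ * u⁻¹ * κ a b
        = (v * u) * ((u * v)⁻¹ * κ a b * (u * v)) * (u * v)⁻¹ := by group
      _ = (v * u) * ((v * u)⁻¹ * κ a b * (v * u)) * (u * v)⁻¹ := by rw [h3]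
      _ = κ a b * (v * u * v⁻¹ * u⁻¹) := by group
  have h := (key a₁⁻¹ (inv_mem ha₁) b₁⁻¹ (inv_mem hb₁)).symm.inv_right
  convert h using 1
  simp [κ, mul_assoc]

variable {Z : Subgroup G} {x : G}

theorem κ_mul (a b : G) : κ (a * b) x = b⁻¹ * κ a x * b * κ b x := by
  simp [κ, mul_assoc]

/-- If `[b, x]` and `[a, x]` differ by an element of `Z`, then `b a⁻¹` centralises all `[c, x]`. -/
theorem mem_centralizer_of_div_mem (hZ : ∀ a ∈ Z, ∀ b ∈ Z, Commute a b)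
    (hab : ∀ a ∈ Z, ∀ b ∈ Z, Commute (κ a x) (κ b x)) {a b : G} (ha : a ∈ Z) (hb : b ∈ Z)
    (h : κ b x * (κ a x)⁻¹ ∈ Z) :
    ∀ c ∈ Z, Commute (b * a⁻¹) (κ c x) := by
  intro c hc
  set w := b * a⁻¹ with hw
  have hwZ : w ∈ Z := mul_mem hb (inv_mem ha)
  have hmw : κ w x ∈ Z := by
    have e : κ b x = a⁻¹ * κ w x * a * κ a x := by rw [← κ_mul, hw, inv_mul_cancel_right]
    have h' : a⁻¹ * κ w x * a ∈ Z := by
      rw [e, mul_inv_cancel_right] at h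
      exact h
    have := mul_mem (mul_mem ha h') (inv_mem ha)
    simpa [mul_assoc] using this
  have e1 := κ_mul (x := x) c w
  have e2 := κ_mul (x := x) w c
  rw [(hZ c hc w hwZ).eq, e2, (hZ c⁻¹ (inv_mem hc) _ hmw).eq, inv_mul_cancel_right,
    (hab w hwZ c hc).eq] at e1
  have e3 := mul_right_cancel e1
  show w * κ c x = κ c x * w
  nth_rewrite 1 [e3]
  group

variable [Finite G]

/-- The count behind Thompson's replacement. -/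
theorem card_count {Cc M L L' : Subgroup G} (hZ : ∀ a ∈ Z, ∀ b ∈ Z, Commute a b)
    (hab : ∀ a ∈ Z, ∀ b ∈ Z, Commute (κ a x) (κ b x))
    (hCc : ∀ w ∈ Z, (∀ c ∈ Z, Commute w (κ c x)) → w ∈ Cc) (hCcZ : Cc ≤ Z)
    (hM : ∀ a ∈ Z, κ a x ∈ M) (hL : ∀ a ∈ Z, a ∈ L' → κ a x ∈ L) :
    Nat.card ↥(Cc ⊓ L) * Cc.relIndex (Z ⊓ L') ≤ Nat.card ↥((Cc ⊔ M) ⊓ L) := by
  rw [Subgroup.relIndex, Subgroup.index_eq_card, ← Nat.card_prod]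
  refine Nat.card_le_card_of_injective (fun p => ⟨(p.1 : G) * κ (p.2.out : G) x,
    mul_mem (Subgroup.mem_sup_left p.1.2.1) (Subgroup.mem_sup_right (hM _ p.2.out.2.1)),
    mul_mem p.1.2.2 (hL _ p.2.out.2.1 p.2.out.2.2)⟩) ?_
  rintro ⟨c, q⟩ ⟨c', q'⟩ hp
  have hp' : (c : G) * κ (q.out : G) x = (c' : G) * κ (q'.out : G) x := congrArg Subtype.val hp
  have hdiv : κ (q'.out : G) x * (κ (q.out : G) x)⁻¹ ∈ Z := by
    have e : κ (q'.out : G) x = (c' : G)⁻¹ * c * κ (q.out : G) x := by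
      rw [mul_assoc, hp', inv_mul_cancel_left]
    rw [e, mul_inv_cancel_right]
    exact mul_mem (inv_mem (hCcZ c'.2.1)) (hCcZ c.2.1)
  have hw : (q'.out : G) * (q.out : G)⁻¹ ∈ Cc :=
    hCc _ (mul_mem q'.out.2.1 (inv_mem q.out.2.1))
      (mem_centralizer_of_div_mem hZ hab q.out.2.1 q'.out.2.1 hdiv)
  have hqq : q = q' := by
    rw [← QuotientGroup.out_eq' q, ← QuotientGroup.out_eq' q', QuotientGroup.eq]
    show (q.out : G)⁻¹ * (q'.out : G) ∈ Cc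
    rwa [(hZ (q.out : G)⁻¹ (inv_mem q.out.2.1) _ q'.out.2.1).eq]
  subst hqq
  exact Prod.ext (Subtype.ext (mul_right_cancel hp')) rfl

end CfsgLib.Amalgam.CLReplace
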