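import Mathlib
import Cfsg.Agent.Lib.Amalgam.CLReplaceBasic
import Cfsg.Agent.Lib.ClassK.PushCL

/-!
Some minimal centrally large subgroup of a nilpotent group is normalised by the abelian subgroups of
largest order and by all minimal centrally large subgroups.
-/

set_option autoImplicit false

namespace CfsgLib.Amalgam.CLReplace

open Subgroup Cfsg
open scoped Pointwise

variable {G : Type*} [Group G] [Finite G]

local notation "𝒞" H => Subgroup.centralizer ((H : Subgroup G) : Set G)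

theorem mcl_conj {Q : Subgroup G} (hQ : IsMinimalCentrallyLarge Q) (x : G) :
    IsMinimalCentrallyLarge (Q.map (MulAut.conj x).toMonoidHom) :=
  ClassK.Push.mcl_of_map (f := (MulAut.conj x).toMonoidHom) (g := MonoidHom.id G)
    (MulAut.conj x).injective Function.injective_id (Subgroup.map_id _).symm hQ

theorem commute_center {Q : Subgroup G} (hQ : IsCentrallyLarge Q) :
    ∀ a ∈ (𝒞 Q), ∀ b ∈ (𝒞 Q), Commute a b := fun _ ha _ hb =>
  hb _ ((isCentrallyLarge_iff.1 hQ).2 ha)

theorem relIndex_step {n : ℕ} {r : ℕ → ℕ} (h0 : r 0 ≤ 1) (hn : 1 < r n) :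
    ∃ i < n, r i < r (i + 1) := by
  by_contra h
  have key : ∀ i ≤ n, r i ≤ 1 := by
    intro i
    induction i with
    | zero => exact fun _ => h0
    | succ i ih =>
      intro hi
      have h1 := ih (by omega)
      by_contra h2
      exact h ⟨i, by omega, by omega⟩
  exact absurd (key n le_rfl) (by omega)

/-- `∑ |Z(Q) ∩ Zᵢ(G)|` -/
noncomputable def lexWeight (n : ℕ) (Q : Subgroup G) : ℕ :=
  ∑ i ∈ Finset.range n, Nat.card ↥((𝒞 Q) ⊓ Subgroup.upperCentralSeries G i)

/-- Thompson replacement: if `x` does not normalise `Q` there is a better one. -/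
theorem exists_better {n : ℕ} (hn : Subgroup.upperCentralSeries G n = ⊤) {Q : Subgroup G}
    (hQ : IsMinimalCentrallyLarge Q) {x : G}
    (hab : ∀ a ∈ (𝒞 Q), ∀ b ∈ (𝒞 Q), Commute (κ a x) (κ b x))
    (hx : x ∉ Subgroup.normalizer (Q : Set G)) :
    ∃ R : Subgroup G, IsMinimalCentrallyLarge R ∧ lexWeight n Q < lexWeight n R := by
  classical
  obtain ⟨hQL, hCQ⟩ := isCentrallyLarge_iff.1 hQ.1
  set Z := 𝒞 Q with hZdef
  have hZc := commute_center hQ.1
  set M := Subgroup.closure {m : G | ∃ a ∈ Z, m = κ a x} with hMdef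
  have hMm : ∀ a ∈ Z, κ a x ∈ M := fun a ha => Subgroup.subset_closure ⟨a, ha, rfl⟩
  set Cc := Z ⊓ 𝒞 M with hCcdef
  have hCc : ∀ w ∈ Z, (∀ c ∈ Z, Commute w (κ c x)) → w ∈ Cc := by
    refine fun w hw h => ⟨hw, ?_⟩
    have : M ≤ Subgroup.centralizer ({w} : Set G) := (Subgroup.closure_le _).2 (by
      rintro _ ⟨a, ha, rfl⟩
      exact Subgroup.mem_centralizer_singleton_iff.2 (h a ha).symm)
    exact fun m hm => Subgroup.mem_centralizer_singleton_iff.1 (this hm)
  have hMab : M ≤ 𝒞 M := by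
    refine (Subgroup.closure_le _).2 ?_
    rintro _ ⟨a, ha, rfl⟩
    have : M ≤ Subgroup.centralizer ({κ a x} : Set G) := (Subgroup.closure_le _).2 (by
      rintro _ ⟨b, hb, rfl⟩
      exact Subgroup.mem_centralizer_singleton_iff.2 (hab b hb a ha))
    exact fun m hm => Subgroup.mem_centralizer_singleton_iff.1 (this hm)
  set A := Cc ⊔ M with hAdef
  -- the conjugate
  set Qx := Q.map (MulAut.conj x⁻¹).toMonoidHom with hQx
  set D := Q ⊓ Qx with hDdef
  have hDA : A ≤ 𝒞 D := by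
    refine sup_le (inf_le_left.trans (Subgroup.centralizer_le fun _ h => h.1))
      ((Subgroup.closure_le _).2 ?_)
    rintro _ ⟨a, ha, rfl⟩
    refine fun d hd => ?_
    have h1 : Commute d a⁻¹ := (show Commute d a from ha d hd.1).inv_right
    obtain ⟨q, hq, hqd⟩ := hd.2
    have h2 : Commute d (x⁻¹ * a * x) := by
      have h := (show Commute q a from ha q hq).map (MulAut.conj x⁻¹).toMonoidHom
      rw [hqd] at h
      simpa using h
    have h3 := h1.mul_right h2
    rw [← mul_assoc, ← mul_assoc] at h3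
    exact h3
  have hAab : A ≤ 𝒞 A := by
    rw [centralizer_sup]
    exact sup_le (le_inf (fun c hc => fun d hd => (hZc d hd.1 c hc.1)) inf_le_right)
      (le_inf (fun m hm => fun d hd => (hd.2 m hm).symm) hMab)
  set n' := n with hn'
  have hcount : ∀ L L' : Subgroup G, (∀ a ∈ Z, a ∈ L' → κ a x ∈ L) →
      Nat.card ↥(Cc ⊓ L) * Cc.relIndex (Z ⊓ L') ≤ Nat.card ↥(A ⊓ L) := fun L L' h =>
    card_count hZc hab hCc inf_le_left hMm h
  have hsplit : ∀ L : Subgroup G, Nat.card ↥(Z ⊓ L) = Nat.card ↥(Cc ⊓ L) * Cc.relIndex (Z ⊓ L) := by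
    intro L
    rw [← Subgroup.inf_relIndex_right Cc (Z ⊓ L)]
    have e : Cc ⊓ (Z ⊓ L) = Cc ⊓ L := by
      rw [← inf_assoc, inf_eq_left.2 (inf_le_left : Cc ≤ Z)]
    rw [e]
    exact ClassK.Push.card_eq_mul (inf_le_inf_right _ inf_le_left)
  have hAZ : Nat.card Z ≤ Nat.card A := by
    have h := hcount ⊤ ⊤ (fun _ _ _ => trivial)
    rw [← hsplit ⊤] at h
    rwa [inf_top_eq, inf_top_eq] at h
  -- the new subgroup
  set R := D ⊔ A with hR
  have hQxM : IsMinimalCentrallyLarge Qx := mcl_conj hQ x⁻¹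
  have hDZ : D ⊔ Z = Q := minimalCentrallyLarge_eq hQ hQxM
  have hDAZ : D ⊓ A ≤ D ⊓ Z := by
    rintro e ⟨heD, heA⟩
    refine ⟨heD, ?_⟩
    have h : D ⊔ Z ≤ Subgroup.centralizer ({e} : Set G) := sup_le
      (fun d hd => Subgroup.mem_centralizer_singleton_iff.2 (hDA heA d hd))
      (fun z hz => Subgroup.mem_centralizer_singleton_iff.2 (hz e heD.1).symm)
    rw [hDZ] at h
    exact fun q hq => Subgroup.mem_centralizer_singleton_iff.1 (h hq)
  have hcardQ : Nat.card Q * Nat.card ↥(D ⊓ Z) = Nat.card D * Nat.card Z := by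
    have e1 := CfsgLib.Solvable.card_mul_set_mul_card_inf D Z
    have hset : (D : Set G) * (Z : Set G) = (Q : Set G) := by
      refine Set.Subset.antisymm ?_ fun q hq => ?_
      · rw [← hDZ]; exact mul_subset_sup D Z
      · obtain ⟨d, hd, z, hz, rfl⟩ := exists_mul_of_mem_sup (H := D) (K := Z)
          (Subgroup.centralizer_le fun _ h => h.1) (show q ∈ D ⊔ Z by rw [hDZ]; exact hq)
        exact ⟨d, hd, z, hz, rfl⟩
    rw [hset] at e1
    simpa using e1
  have hcardR : Nat.card Q ≤ Nat.card R := by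
    have h1 := card_mul_card_le D A
    have h2 : Nat.card ↥(D ⊓ A) ≤ Nat.card ↥(D ⊓ Z) := Subgroup.card_le_of_le hDAZ
    have h3 : Nat.card D * Nat.card Z ≤ Nat.card R * Nat.card ↥(D ⊓ Z) :=
      (Nat.mul_le_mul_left _ hAZ).trans (h1.trans (Nat.mul_le_mul_left _ h2))
    rw [← hcardQ] at h3
    exact Nat.le_of_mul_le_mul_right h3 Nat.card_pos
  have hAR : A ≤ R ⊓ 𝒞 R := by
    refine le_inf le_sup_right ?_
    rw [centralizer_sup]
    exact le_inf hDA hAab
  have hm : Nat.card Q * Nat.card Z = maxCentralizerProduct G := hQL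
  have hRcl : IsCentrallyLarge R := by
    refine le_antisymm (central_le_max R) ?_
    rw [maxCentralProduct_eq, ← hm, card_center_eq]
    exact Nat.mul_le_mul hcardR (hAZ.trans (Subgroup.card_le_of_le hAR))
  obtain ⟨R₁, hR₁R, hR₁⟩ := exists_isMinimalCentrallyLarge_le hRcl
  obtain ⟨hRL, hCR⟩ := isCentrallyLarge_iff.1 hRcl
  obtain ⟨e5, e6⟩ := card_eq_of_minimalCentrallyLarge hQ hR₁
  have hmR : Nat.card R * Nat.card (𝒞 R) = maxCentralizerProduct G := hRL
  have hCA : Nat.card (𝒞 R) ≤ Nat.card Z :=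
    (Subgroup.card_le_of_le (Subgroup.centralizer_le (SetLike.coe_subset_coe.2 hR₁R))).trans e6.ge
  have hA' : A ≤ 𝒞 R := hAR.trans inf_le_right
  have hAcard : Nat.card A = Nat.card Z :=
    le_antisymm ((Subgroup.card_le_of_le hA').trans hCA) hAZ
  have hCR' : (𝒞 R) = A :=
    (Subgroup.eq_of_le_of_card_ge hA' (hAcard ▸ hCA)).symm
  have hReq : R₁ = R := by
    refine Subgroup.eq_of_le_of_card_ge hR₁R ?_
    rw [← hm, hCR', hAcard] at hmR
    exact (Nat.eq_of_mul_eq_mul_right Nat.card_pos hmR).le.trans e5.le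
  refine ⟨R, hReq ▸ hR₁, ?_⟩
  -- `Cc` is a proper subgroup of `Z`
  have hne : Cc ≠ Z := by
    intro e
    have hZA : Z ≤ A := e ▸ le_sup_left
    have hA2 : Z = A := Subgroup.eq_of_le_of_card_ge hZA hAcard.le
    refine hx ?_
    have h1 : Z.map (MulAut.conj x⁻¹).toMonoidHom = Z := by
      refine Subgroup.eq_of_le_of_card_ge ?_ ?_
      · rintro _ ⟨a, ha, rfl⟩
        have hκ : κ a x ∈ Z := hA2.symm ▸ Subgroup.mem_sup_right (hMm a ha)
        have := mul_mem ha hκ
        simpa [κ, mul_assoc] using this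
      · exact (Nat.card_congr (Z.equivMapOfInjective _ (MulAut.conj x⁻¹).injective).toEquiv).le
    have h2 : Qx = Q := by
      refine Subgroup.eq_of_le_of_card_ge ?_ ?_
      · rw [← (large_centralizer hQL).2, ← hZdef]
        rintro _ ⟨q, hq, rfl⟩
        intro z hz
        rw [← h1] at hz
        obtain ⟨a, ha, rfl⟩ := hz
        exact ((show Commute q a from ha q hq).map (MulAut.conj x⁻¹).toMonoidHom).symm
      · exact (Nat.card_congr (Q.equivMapOfInjective _ (MulAut.conj x⁻¹).injective).toEquiv).le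
    rw [← inv_inv x]
    refine inv_mem ?_
    rw [Subgroup.mem_normalizer_iff]
    intro q
    constructor
    · intro hq
      have h3 : x⁻¹ * q * x⁻¹⁻¹ ∈ Qx := ⟨q, hq, rfl⟩
      rwa [h2] at h3
    · intro hq
      rw [← h2] at hq
      obtain ⟨q', hq', e'⟩ := hq
      have : q' = q := by simpa using e'
      exact this ▸ hq'
  have hstep : ∀ i, ∀ a ∈ Z, a ∈ Subgroup.upperCentralSeries G (i + 1) →
      κ a x ∈ Subgroup.upperCentralSeries G i := by
    intro i a _ ha
    have h := Subgroup.mem_upperCentralSeries_succ_iff.1 (inv_mem ha) x⁻¹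
    simpa [κ, commutatorElement_def, mul_assoc] using h
  unfold lexWeight
  rw [hCR', ← hZdef]
  have hmono : ∀ i, Cc.relIndex (Z ⊓ Subgroup.upperCentralSeries G i) ≤ Cc.relIndex (Z ⊓ Subgroup.upperCentralSeries G (i + 1)) := fun i =>
    Subgroup.relIndex_le_of_le_right (inf_le_inf_left _
      (Subgroup.upperCentralSeries_mono G (Nat.le_succ i))) Subgroup.index_ne_zero_of_finite
  refine Finset.sum_lt_sum (fun i _ => ?_) ?_
  · rw [hsplit]
    exact (Nat.mul_le_mul_left _ (hmono i)).trans (hcount _ _ (hstep i))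
  · obtain ⟨i, hi, hlt⟩ := relIndex_step (n := n) (r := fun i => Cc.relIndex (Z ⊓ Subgroup.upperCentralSeries G i))
      (le_of_eq (by
        show Cc.relIndex (Z ⊓ Subgroup.upperCentralSeries G 0) = 1
        rw [Subgroup.upperCentralSeries_zero, inf_bot_eq, Subgroup.relIndex_bot_right]))
      (by
        show 1 < Cc.relIndex (Z ⊓ Subgroup.upperCentralSeries G n)
        rw [hn, inf_top_eq]
        refine lt_of_le_of_ne (Nat.one_le_iff_ne_zero.2 Subgroup.index_ne_zero_of_finite) ?_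
        intro h1
        exact hne (le_antisymm inf_le_left (Subgroup.relIndex_eq_one.1 h1.symm)))
    refine ⟨i, Finset.mem_range.2 hi, ?_⟩
    rw [hsplit]
    exact lt_of_lt_of_le (Nat.mul_lt_mul_of_pos_left hlt Nat.card_pos) (hcount _ _ (hstep i))

theorem exists_normalized [hnil : Group.IsNilpotent G] :
    ∃ Q : Subgroup G, IsMinimalCentrallyLarge Q ∧
      thompsonSubgroupA G ≤ Subgroup.normalizer (Q : Set G) ∧
      minimalCentrallyLargeJoin G ≤ Subgroup.normalizer (Q : Set G) := by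
  obtain ⟨n, hn⟩ := hnil.nilpotent
  obtain ⟨Q0, hQ0⟩ := exists_isCentrallyLarge (G := G)
  obtain ⟨Q1, -, hQ1⟩ := exists_isMinimalCentrallyLarge_le hQ0
  obtain ⟨Q, hQ, hmax⟩ := Set.Finite.exists_maximalFor (lexWeight n)
    {Q : Subgroup G | IsMinimalCentrallyLarge Q} (Set.toFinite _) ⟨Q1, hQ1⟩
  have hQ' : IsMinimalCentrallyLarge Q := hQ
  obtain ⟨hQL, hCQ⟩ := isCentrallyLarge_iff.1 hQ'.1
  have hZc := commute_center hQ'.1
  have main : ∀ x, (∀ a ∈ (𝒞 Q), ∀ b ∈ (𝒞 Q), Commute (κ a x) (κ b x)) →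
      x ∈ Subgroup.normalizer (Q : Set G) := by
    intro x hab
    by_contra hx
    obtain ⟨R, hR, hlt⟩ := exists_better hn hQ' hab hx
    exact absurd (hmax (show R ∈ {Q : Subgroup G | IsMinimalCentrallyLarge Q} from hR) hlt.le)
      (not_le.2 hlt)
  refine ⟨Q, hQ', sSup_le fun B hB => fun x hx => main x ?_, sSup_le fun R hR => ?_⟩
  · obtain ⟨-, hset, hB'⟩ := centrallyLarge_sup_maxAbelian hQ'.1 hB
    have hBB := centralizer_maxAbelian hB
    have hBB' := centralizer_maxAbelian hB'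
    have hBc : ∀ a ∈ B, ∀ b ∈ B, Commute a b := fun a ha b hb =>
      le_centralizer_of_commutative hB.1 hb a ha
    have hD : B ≤ 𝒞 (Q ⊓ B) := hBB.symm.le.trans (Subgroup.centralizer_le fun _ h => h.2)
    have hZ : (𝒞 Q) ≤ 𝒞 (Q ⊓ B) := Subgroup.centralizer_le fun _ h => h.1
    have hm : ∀ w ∈ (𝒞 Q) ⊔ B, ∃ a ∈ (𝒞 Q), ∃ b ∈ B, w = a * b := by
      intro w hw
      have hw' : w ∈ Q ⊔ B := (sup_le_sup_right hCQ B) hw
      obtain ⟨q, hq, b, hb, rfl⟩ := (Set.ext_iff.1 hset w).1 hw'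
      have hqC : q ∈ 𝒞 (Q ⊓ B) := by
        simpa using mul_mem ((sup_le hZ hD) hw) (inv_mem (hD hb))
      have hqB : q ∈ (Q ⊓ B) ⊔ 𝒞 Q := by
        rw [← hBB', centralizer_sup]
        exact ⟨hqC, le_centralizer_centralizer Q hq⟩
      obtain ⟨d, hd, z, hz, rfl⟩ := exists_mul_of_mem_sup hZ hqB
      refine ⟨z, hz, d * b, mul_mem hd.2 hb, ?_⟩
      simp only []
      rw [← mul_assoc, (show Commute d z from hz d hd.1).eq]
    intro a ha b hb
    exact commute_commutators hZc hBc hm ha hb hx hx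
  · have hR' : IsMinimalCentrallyLarge R := hR
    rw [← minimalCentrallyLarge_eq hR' hQ']
    refine sup_le (inf_le_right.trans Subgroup.le_normalizer) fun x hx => main x fun a ha b hb => ?_
    obtain ⟨-, -, -, -, hset⟩ := large_lattice hQL (isCentrallyLarge_iff.1 hR'.1).1
    exact commute_commutators hZc (commute_center hR'.1)
      (fun w hw => by
        obtain ⟨u, hu, v, hv, e⟩ := (Set.ext_iff.1 hset w).1 hw
        exact ⟨u, hu, v, hv, e.symm⟩) ha hb hx hx

end CfsgLib.Amalgam.CLReplace
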