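import Cfsg.Agent.Lib.Transfer.Thompson
import Cfsg.Agent.Lib.Transfer.ClassTwo

/-!
Transfer of a central involution of a Sylow `2`-subgroup which is fixed by its normalizer.
-/

set_option autoImplicit false
set_option linter.unusedSectionVars false

namespace CfsgLib.Amalgam

open Subgroup MulAction

variable {G : Type*} [Group G] [Finite G]

/-- An involution central in the Sylow `2`-subgroup `S`, centralized by `N(S)` and outside the
normal subgroup `Q` of index two of `S`, lies outside a normal subgroup of index two. -/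
theorem exists_index_two_not_mem_of_central (S : Sylow 2 G) {Q : Subgroup (S : Subgroup G)} [Q.Normal]
    (hQ : Q.index = 2) {z : G} (hzS : z ∈ (S : Subgroup G)) (hz2 : z ^ 2 = 1)
    (hcen : ∀ s ∈ (S : Subgroup G), s * z = z * s) (hzQ : (⟨z, hzS⟩ : (S : Subgroup G)) ∉ Q)
    (hN : ∀ g ∈ normalizer ((S : Subgroup G) : Set G), g * z * g⁻¹ = z) :
    ∃ M : Subgroup G, M.Normal ∧ M.index = 2 ∧ z ∉ M := by
  classical
  have : Fact (Nat.Prime 2) := ⟨Nat.prime_two⟩
  have hcard : Nat.card ((S : Subgroup G) ⧸ Q) = 2 := by rw [← index_eq_card]; exact hQ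
  have : IsCyclic ((S : Subgroup G) ⧸ Q) := isCyclic_of_prime_card hcard
  let _ : CommGroup ((S : Subgroup G) ⧸ Q) := IsCyclic.commGroup
  let f : (S : Subgroup G) →* (S : Subgroup G) ⧸ Q := QuotientGroup.mk' Q
  set t := f ⟨z, hzS⟩ with ht
  have htne : t ≠ 1 := fun h => hzQ ((QuotientGroup.eq_one_iff _).1 h)
  have htwo : ∀ x : (S : Subgroup G) ⧸ Q, x ≠ 1 → x = t := by
    intro x hx
    have hc := hcard
    rw [Nat.card_eq_two_iff' (1 : (S : Subgroup G) ⧸ Q)] at hc
    obtain ⟨y, -, hy⟩ := hc
    exact (hy x hx).trans (hy _ htne).symm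
  have ht2 : t ^ 2 = 1 := orderOf_dvd_iff_pow_eq_one.1 ((orderOf_dvd_natCard t).trans hcard.dvd)
  -- the cosets on which `z` gives the nontrivial value
  set P : G → Prop := fun g => ∃ h : g⁻¹ * z * g ∈ (S : Subgroup G), (⟨_, h⟩ : (S : Subgroup G)) ∉ Q
    with hP
  have hPmul : ∀ g : G, P g → ∀ s ∈ (S : Subgroup G), P (g * s) := by
    rintro g ⟨h, hh⟩ s hs
    have hh' : (g * s)⁻¹ * z * (g * s) ∈ (S : Subgroup G) := by
      have := mul_mem (mul_mem (inv_mem hs) h) hs
      simpa [mul_assoc] using this
    refine ⟨hh', fun hq => hh ?_⟩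
    have h2 := ‹Q.Normal›.conj_mem _ hq ⟨s, hs⟩
    convert h2 using 1
    exact Subtype.ext (by simp [mul_assoc])
  set W : Set (G ⧸ (S : Subgroup G)) := {c | P c.out} with hW
  have hWmk : ∀ g : G, (g : G ⧸ (S : Subgroup G)) ∈ W ↔ P g := by
    intro g
    obtain ⟨s, hs⟩ := QuotientGroup.mk_out_eq_mul (S : Subgroup G) g
    show P _ ↔ P g
    rw [hs]
    refine ⟨fun h => ?_, fun h => hPmul g h _ s.2⟩
    simpa using hPmul _ h _ (inv_mem s.2)
  -- its parity
  have hodd : Odd (Nat.card W) := by
    have hinv : ∀ s : (S : Subgroup G), ∀ c ∈ W, s • c ∈ W := by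
      intro s c hc
      obtain ⟨g, rfl⟩ := QuotientGroup.mk_surjective c
      show ((s : G) • (g : G ⧸ (S : Subgroup G))) ∈ W
      rw [MulAction.Quotient.smul_mk, hWmk]
      rw [hWmk] at hc
      obtain ⟨h, hh⟩ := hc
      have e : ((s : G) * g)⁻¹ * z * ((s : G) * g) = g⁻¹ * z * g := by
        have h1 : (s : G)⁻¹ * z * s = z := by rw [mul_assoc, ← hcen s s.2, inv_mul_cancel_left]
        calc ((s : G) * g)⁻¹ * z * ((s : G) * g) = g⁻¹ * ((s : G)⁻¹ * z * s) * g := by group
          _ = g⁻¹ * z * g := by rw [h1]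
      refine ⟨e ▸ h, fun hq => hh ?_⟩
      convert hq using 1
      exact Subtype.ext e.symm
    let A : SubMulAction (S : Subgroup G) (G ⧸ (S : Subgroup G)) :=
      { carrier := W, smul_mem' := fun s {c} hc => hinv s c hc }
    have h1 := S.2.card_modEq_card_fixedPoints A
    have h2 := S.2.card_modEq_card_fixedPoints (G ⧸ (S : Subgroup G))
    have h3 : Nat.card (fixedPoints (S : Subgroup G) A) =
        Nat.card (fixedPoints (S : Subgroup G) (G ⧸ (S : Subgroup G))) := by
      refine Nat.card_congr
        { toFun := fun a => ⟨a.1.1, fun s => congrArg Subtype.val (a.2 s)⟩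
          invFun := fun c => ⟨⟨c.1, ?_⟩, fun s => Subtype.ext (c.2 s)⟩
          left_inv := fun a => rfl
          right_inv := fun c => rfl }
      obtain ⟨g, hg⟩ := QuotientGroup.mk_surjective c.1
      show c.1 ∈ W
      rw [← hg, hWmk]
      have hgN : g ∈ normalizer ((S : Subgroup G) : Set G) := by
        have := c.2
        rw [← hg] at this
        exact (Sylow.mem_fixedPoints_mul_left_cosets_iff_mem_normalizer).1 this
      have e : g⁻¹ * z * g = z := by
        have := hN _ (inv_mem hgN)
        rwa [inv_inv] at this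
      refine ⟨e.symm ▸ hzS, fun hq => hzQ ?_⟩
      convert hq using 1
      exact Subtype.ext e.symm
    have h4 : Nat.card A = Nat.card W := rfl
    have h5 : Odd (Nat.card (G ⧸ (S : Subgroup G))) := by
      rw [← index_eq_card]
      exact Nat.not_even_iff_odd.1 fun h => S.not_dvd_index (even_iff_two_dvd.1 h)
    have h6 := (h1.trans (h3 ▸ h2.symm : Nat.card (fixedPoints (S : Subgroup G) A) ≡ Nat.card (G ⧸ (S : Subgroup G)) [MOD 2]))
    rw [← h4, Nat.odd_iff, h6, ← Nat.odd_iff]
    exact h5
  -- the transfer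
  let τ := MonoidHom.transfer f
  have hmain : τ z = t := by
    let _ : Fintype (Quotient (MulAction.orbitRel (zpowers z) (G ⧸ (S : Subgroup G)))) :=
      Fintype.ofFinite _
    change MonoidHom.transfer f z = t
    rw [MonoidHom.transfer_eq_prod_quotient_orbitRel_zpowers_quot]
    let m : Quotient (MulAction.orbitRel (zpowers z) (G ⧸ (S : Subgroup G))) → ℕ :=
      fun q => Function.minimalPeriod (z • ·) q.out
    have hfix : ∀ c : G ⧸ (S : Subgroup G), c ∈ W → z • c = c := by
      intro c hc
      obtain ⟨h, -⟩ := hc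
      conv_rhs => rw [← QuotientGroup.out_eq' c]
      rw [← QuotientGroup.out_eq' c, MulAction.Quotient.smul_mk, smul_eq_mul, QuotientGroup.eq]
      have := inv_mem h
      simpa [QuotientGroup.out_eq', mul_assoc] using this
    have hval : ∀ q, f ⟨q.out.out⁻¹ * z ^ m q * q.out.out,
        QuotientGroup.out_conj_pow_minimalPeriod_mem _ z q.out⟩ = if q.out ∈ W then t else 1 := by
      intro q
      have hm : m q ∣ 2 := by
        apply Function.IsPeriodicPt.minimalPeriod_dvd
        change ((z • ·)^[2]) q.out = q.out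
        simp only [smul_iterate, hz2, one_smul]
      split_ifs with hq
      · have hm1 : m q = 1 := Function.minimalPeriod_eq_one_iff_isFixedPt.2 (hfix _ hq)
        obtain ⟨h, hh⟩ := hq
        refine htwo _ fun he => hh ?_
        have h' := (QuotientGroup.eq_one_iff _).1 he
        convert h' using 1
        exact Subtype.ext (by simp [hm1])
      · rcases (Nat.dvd_prime Nat.prime_two).1 hm with h | h
        · by_contra he
          apply hq
          have hmem := QuotientGroup.out_conj_pow_minimalPeriod_mem (S : Subgroup G) z q.out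
          have e : q.out.out⁻¹ * z ^ m q * q.out.out = q.out.out⁻¹ * z * q.out.out := by rw [h, pow_one]
          refine ⟨e ▸ hmem, fun hq' => he ((QuotientGroup.eq_one_iff _).2 ?_)⟩
          convert hq' using 1
          exact Subtype.ext e
        · refine (QuotientGroup.eq_one_iff _).2 ?_
          convert Q.one_mem using 1
          exact Subtype.ext (by simp [h, hz2])
    rw [Finset.prod_congr rfl fun q _ => hval q, ← Finset.prod_filter, Finset.prod_const]
    have hc : (Finset.univ.filter fun q : Quotient (MulAction.orbitRel (zpowers z) (G ⧸ (S : Subgroup G))) =>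
        q.out ∈ W).card = Nat.card W := by
      rw [← Fintype.card_subtype, ← Nat.card_eq_fintype_card]
      refine Nat.card_congr (Equiv.ofBijective (fun q => (⟨q.1.out, q.2⟩ : W)) ⟨?_, ?_⟩)
      · intro a b hab
        exact Subtype.ext (Quotient.out_inj.1 (congrArg Subtype.val hab))
      · rintro ⟨c, hc⟩
        set q : Quotient (MulAction.orbitRel (zpowers z) (G ⧸ (S : Subgroup G))) := Quotient.mk _ c
        have hq : q.out = c := by
          obtain ⟨⟨a, ha⟩, hac⟩ := MulAction.orbitRel_apply.1 (Quotient.mk_out (s := MulAction.orbitRel (zpowers z) (G ⧸ (S : Subgroup G))) c)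
          obtain ⟨i, rfl⟩ := mem_zpowers_iff.1 ha
          rw [← hac]
          exact mem_stabilizer_iff.1 (zpow_mem (mem_stabilizer_iff.2 (hfix c hc)) i)
        exact ⟨⟨q, hq.symm ▸ hc⟩, Subtype.ext hq⟩
    rw [hc]
    obtain ⟨j, hj⟩ := hodd
    rw [hj, pow_succ, pow_mul, ht2, one_pow, one_mul]
  refine ⟨τ.ker, inferInstance, ?_, fun h => htne (hmain ▸ h)⟩
  have hsurj : Function.Surjective τ := by
    intro x
    rcases eq_or_ne x 1 with rfl | hx
    · exact ⟨1, map_one _⟩
    · exact ⟨z, by rw [hmain, htwo x hx]⟩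
  rw [index_ker, MonoidHom.range_eq_top.2 hsurj, card_top, hcard]

end CfsgLib.Amalgam
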