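import Cfsg.Prelude.Def_LocalStructure
import Cfsg.Agent.Lib.Amalgam.CharP
import Cfsg.Agent.Lib.Comp.Local
import Cfsg.Agent.Lib.Comp.Normalize
import Cfsg.Agent.Lib.PLocal.Sylow
import Cfsg.Agent.Lib.Transfer.Frobenius

/-!
Characteristic `p` of local subgroups.
-/

set_option autoImplicit false
set_option linter.unusedSectionVars false
set_option linter.style.haveILetI false

namespace CfsgLib.Amalgam

open Cfsg Subgroup

variable {G : Type*} [Group G] [Finite G] {p : ℕ} [Fact p.Prime]

theorem fstar_eq_iff_charPElements (L : Subgroup G) :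
    generalizedFittingSubgroup L = pCore p L ↔ CharPElements p L := by
  rw [CfsgLib.Comp.generalizedFitting_eq_pCore_iff, charPElements_iff]

theorem le_normalizer_of_le_centralizer {B C : Subgroup G} (h : C ≤ centralizer (B : Set G)) :
    C ≤ normalizer (B : Set G) := h.trans (CfsgLib.Comp.centralizer_le_normalizer B)

/-- Passing from a subgroup `M` of characteristic `p` to the normalizer and centralizer of a `p`-subgroup `B ≤ M`
with `C(B) ≤ M`. -/
theorem charPElements_local {M B : Subgroup G} (hM : CharPElements p M) (hB : IsPGroup p B) (hBM : B ≤ M)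
    (hC : centralizer (B : Set G) ≤ M) :
    CharPElements p (normalizer (B : Set G)) ∧ CharPElements p (centralizer (B : Set G)) := by
  set R := pCoreOf p M
  have hR : IsPGroup p R := isPGroup_pCoreOf M
  have hMR : M ≤ normalizer (R : Set G) := le_normalizer_pCoreOf M
  have hfix : R ⊓ centralizer (B : Set G) ≤ pCoreOf p (centralizer (B : Set G)) :=
    le_pCoreOf inf_le_right (CfsgLib.Comp.le_normalizer_inf (hC.trans hMR) le_normalizer) (hR.to_le inf_le_left)
  have key : ∀ x, (orderOf x).Coprime p → x ∈ centralizer (B : Set G) →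
      x ∈ centralizer (pCoreOf p (centralizer (B : Set G)) : Set G) → x = 1 := by
    intro x hxp hxB hxc
    refine hM x (hC hxB) hxp ?_
    have hle : zpowers x ≤ centralizer (R : Set G) :=
      CfsgLib.Comp.le_centralizer_of_centralizes_fixed (P := B) hR hB
        (by rw [Nat.card_zpowers]; exact hxp) (hBM.trans hMR) ((zpowers_le.2 (hC hxB)).trans hMR)
        (zpowers_le.2 hxB) ((zpowers_le.2 hxc).trans (centralizer_le hfix))
    exact hle (mem_zpowers x)
  have hCN : centralizer (B : Set G) ≤ normalizer (B : Set G) := CfsgLib.Comp.centralizer_le_normalizer B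
  refine ⟨fun x hx hxp hxc => ?_, fun x hx hxp hxc => key x hxp hx hxc⟩
  have hBQ : B ≤ pCoreOf p (normalizer (B : Set G)) := le_pCoreOf le_normalizer le_rfl hB
  have hQC : pCoreOf p (centralizer (B : Set G)) ≤ pCoreOf p (normalizer (B : Set G)) := by
    refine le_pCoreOf ((pCoreOf_le _).trans hCN) ?_ (isPGroup_pCoreOf _)
    intro g hg
    refine CfsgLib.Comp.map_conj_eq_iff.1 ?_
    rw [← pCoreOf_map _ (MulAut.conj g).injective,
      CfsgLib.Comp.map_conj_eq_iff.2 (CfsgLib.Comp.normalizer_le_normalizer_centralizer B hg)]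
  exact key x hxp (centralizer_le hBQ hxc) (centralizer_le hQC hxc)

theorem pCoreOf_map_conj (L : Subgroup G) (g : G) :
    pCoreOf p (L.map (MulAut.conj g).toMonoidHom) = (pCoreOf p L).map (MulAut.conj g).toMonoidHom :=
  pCoreOf_map _ (MulAut.conj g).injective L

theorem charPElements_map_conj {L : Subgroup G} (hL : CharPElements p L) (g : G) :
    CharPElements p (L.map (MulAut.conj g).toMonoidHom) := by
  rintro _ ⟨y, hy, rfl⟩ hyp hyc
  rw [MulEquiv.coe_toMonoidHom, MulEquiv.orderOf_eq] at hyp
  rw [hL y hy hyp, map_one]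
  intro q hq
  apply (MulAut.conj g).injective
  rw [map_mul, map_mul]
  exact hyc _ (by rw [pCoreOf_map_conj]; exact ⟨q, hq, rfl⟩)

theorem pCoreOf_map_injective {H : Type*} [Group H] (f : H →* G) (hf : Function.Injective f) (L : Subgroup H) :
    pCoreOf p (L.map f) = (pCoreOf p L).map f := pCoreOf_map _ hf L

theorem charPElements_comap {H : Subgroup G} {L : Subgroup H} (hL : CharPElements p (L.map H.subtype)) :
    CharPElements p L := by
  intro x hx hxp hxc
  refine Subtype.ext (hL x ⟨x, hx, rfl⟩ (by rwa [Subgroup.orderOf_coe]) ?_)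
  intro q hq
  rw [pCoreOf_map_injective H.subtype H.subtype_injective] at hq
  obtain ⟨q', hq', rfl⟩ := hq
  exact congrArg Subtype.val (hxc q' hq')

theorem charPElements_subnormal_subgroupOf {M L : Subgroup G} (hM : CharPElements p M) (hLM : L ≤ M)
    (hsn : (L.subgroupOf M).IsSubnormal) : CharPElements p L := by
  have h := charPElements_of_subnormal (G := M) (charPElements_iff.1 hM) hsn
  intro x hx hxp hxc
  have h1 := h ⟨x, hLM hx⟩ (mem_subgroupOf.2 hx) (by rwa [Subgroup.orderOf_mk]) ?_
  · exact congrArg Subtype.val h1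
  intro q hq
  refine Subtype.ext (hxc _ ?_)
  have e := pCoreOf_map_injective (p := p) M.subtype M.subtype_injective (L.subgroupOf M)
  rw [subgroupOf_map_subtype, inf_eq_left.2 hLM] at e
  rw [e]
  exact ⟨q, hq, rfl⟩

/-- A nontrivial `p`-group normalized by a Sylow subgroup meets its centre. -/
theorem exists_center_sylow_mem {T : Subgroup G} (hT : IsPGroup p T) (hT1 : T ≠ ⊥) (S : Sylow p G)
    (hn : (S : Subgroup G) ≤ normalizer (T : Set G)) :
    T ≤ (S : Subgroup G) ∧ ∃ z ∈ T, orderOf z = p ∧ z ∈ centralizer ((S : Subgroup G) : Set G) := by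
  have hTS : T ≤ (S : Subgroup G) :=
    (S.is_maximal' (hT.to_sup_of_normal_left' S.isPGroup' hn) le_sup_right) ▸ le_sup_left
  refine ⟨hTS, ?_⟩
  haveI := S.isPGroup'.isNilpotent
  haveI hnor : (T.subgroupOf (S : Subgroup G)).Normal := normal_subgroupOf_of_le_normalizer hn
  haveI : Nontrivial (T.subgroupOf (S : Subgroup G)) := by
    rw [nontrivial_iff_ne_bot]
    intro e
    rw [subgroupOf_eq_bot, disjoint_iff, inf_eq_left.2 hTS] at e
    exact hT1 e
  have hne : T.subgroupOf (S : Subgroup G) ⊓ center (S : Subgroup G) ≠ ⊥ := by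
    have hpS : IsPGroup p (ConjAct (S : Subgroup G)) := S.isPGroup'.of_equiv ConjAct.toConjAct
    have hd : p ∣ Nat.card (T.subgroupOf (S : Subgroup G)) :=
      ((S.isPGroup'.to_subgroup _).card_eq_or_dvd).resolve_left fun e =>
        not_nontrivial_iff_subsingleton.2 ((Nat.card_eq_one_iff_unique.1 e).1) ‹_›
    obtain ⟨w, hw, hw1⟩ := hpS.exists_fixed_point_of_prime_dvd_card_of_fixed_point
      (T.subgroupOf (S : Subgroup G)) hd (a := 1) (fun g => smul_one g)
    intro e
    have hmem : (w : (S : Subgroup G)) ∈ T.subgroupOf (S : Subgroup G) ⊓ center (S : Subgroup G) :=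
      mem_inf.2 ⟨w.2, mem_center_iff.2 fun g => by
        have := congrArg Subtype.val (hw (ConjAct.toConjAct g))
        rw [ConjAct.Subgroup.val_conj_smul, ConjAct.toConjAct_smul] at this
        exact mul_inv_eq_iff_eq_mul.1 this⟩
    rw [e, mem_bot] at hmem
    exact hw1 (Subtype.ext hmem.symm)
  have hd : p ∣ Nat.card (T.subgroupOf (S : Subgroup G) ⊓ center (S : Subgroup G) : Subgroup (S : Subgroup G)) := by
    haveI := (nontrivial_iff_ne_bot _).2 hne
    exact ((S.isPGroup'.to_subgroup _).card_eq_or_dvd).resolve_left fun e =>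
      not_nontrivial_iff_subsingleton.2 ((Nat.card_eq_one_iff_unique.1 e).1) this
  obtain ⟨z, hz⟩ := exists_prime_orderOf_dvd_card' p hd
  refine ⟨((z : (S : Subgroup G)) : G), z.2.1, by rw [Subgroup.orderOf_coe, Subgroup.orderOf_coe, hz], fun s hs => ?_⟩
  exact congrArg Subtype.val ((mem_center_iff.1 z.2.2) ⟨s, hs⟩)

theorem charPElements_centralizer_of_parabolic (hG : IsOfParabolicCharacteristic p G) (S : Sylow p G) {z : G}
    (hz : orderOf z = p) (hzS : z ∈ centralizer ((S : Subgroup G) : Set G)) :
    CharPElements p (centralizer ({z} : Set G)) := by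
  have hp : IsPGroup p (zpowers z) := IsPGroup.of_card (n := 1) (by rw [Nat.card_zpowers, hz, pow_one])
  have hne : zpowers z ≠ ⊥ := by
    rw [Ne, zpowers_eq_bot]; rintro rfl; rw [orderOf_one] at hz; exact (Fact.out : p.Prime).one_lt.ne hz
  have hSC : (S : Subgroup G) ≤ centralizer (zpowers z : Set G) := by
    intro s hs w hw
    obtain ⟨k, rfl⟩ := mem_zpowers_iff.1 hw
    exact ((show Commute s z from hzS s hs).zpow_right k).symm
  have h := charPElements_local (B := zpowers z) (charPElements_iff.2 (hG _ hp hne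
    ⟨S, hSC.trans (CfsgLib.Comp.centralizer_le_normalizer _)⟩)) hp le_normalizer
    (CfsgLib.Comp.centralizer_le_normalizer _)
  rw [show centralizer (zpowers z : Set G) = centralizer ({z} : Set G) by
    rw [zpowers_eq_closure, centralizer_closure]] at h
  exact h.2

theorem charPElements_normalizer_of_centralizer {z : G} {B : Subgroup G} (hB : IsPGroup p B) (hzB : z ∈ B)
    (hzc : ∀ x ∈ B, x * z = z * x) (h : CharPElements p (centralizer ({z} : Set G))) :
    CharPElements p (normalizer (B : Set G)) :=
  (charPElements_local h hB (fun x hx => mem_centralizer_singleton_iff.2 (hzc x hx))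
    (centralizer_le (by simpa using hzB))).1

theorem isOfParabolicCharacteristic_of_centralizers (S : Sylow p G)
    (h : ∀ z : G, orderOf z = p → z ∈ (S : Subgroup G) → z ∈ centralizer ((S : Subgroup G) : Set G) →
      CharPElements p (centralizer ({z} : Set G))) : IsOfParabolicCharacteristic p G := by
  intro T hT hT1 hpar
  obtain ⟨S', hS'⟩ := hpar
  rw [← charPElements_iff]
  obtain ⟨g, hg⟩ := MulAction.exists_smul_eq G S' S
  set T' := T.map (MulAut.conj g).toMonoidHom with hT'
  have hn : normalizer (T' : Set G) = (normalizer (T : Set G)).map (MulAut.conj g).toMonoidHom :=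
    (map_normalizer_eq_of_bijective _ (f := (MulAut.conj g).toMonoidHom) (MulAut.conj g).bijective).symm
  have hS : (S : Subgroup G) ≤ normalizer (T' : Set G) := by
    rw [hn, ← hg, Sylow.coe_subgroup_smul]
    exact map_mono hS'
  have hT'1 : T' ≠ ⊥ := fun e => hT1 ((map_eq_bot_iff_of_injective _ (MulAut.conj g).injective).1 e)
  obtain ⟨hT'S, z, hzT, hzo, hzc⟩ := exists_center_sylow_mem (hT.map _) hT'1 S hS
  have h1 := charPElements_normalizer_of_centralizer (hT.map _) hzT
    (fun x hx => hzc x (hT'S hx)) (h z hzo (hT'S hzT) hzc)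
  rw [hn] at h1
  have h2 := charPElements_map_conj h1 g⁻¹
  rwa [← CfsgLib.Comp.map_conj_mul, inv_mul_cancel, CfsgLib.Comp.map_conj_one] at h2

/-- Parabolic characteristic passes to a subnormal subgroup whose central `p`-elements are central in `S`. -/
theorem isOfParabolicCharacteristic_subnormal (hG : IsOfParabolicCharacteristic p G) (S : Sylow p G)
    {G₁ : Subgroup G} (hsn : G₁.IsSubnormal) (S₁ : Sylow p G₁)
    (hle : ∀ z : G₁, orderOf z = p → z ∈ (S₁ : Subgroup G₁) → z ∈ centralizer ((S₁ : Subgroup G₁) : Set G₁) →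
      (z : G) ∈ centralizer ((S : Subgroup G) : Set G)) : IsOfParabolicCharacteristic p G₁ := by
  refine isOfParabolicCharacteristic_of_centralizers S₁ fun z hzo hzS hzc => charPElements_comap ?_
  have e : (centralizer ({z} : Set G₁)).map G₁.subtype = centralizer ({(z : G)} : Set G) ⊓ G₁ := by
    ext x
    constructor
    · rintro ⟨y, hy, rfl⟩
      exact mem_inf.2 ⟨mem_centralizer_singleton_iff.2 (congrArg Subtype.val (mem_centralizer_singleton_iff.1 hy)), y.2⟩
    · rintro ⟨hx1, hx2⟩
      exact ⟨⟨x, hx2⟩, mem_centralizer_singleton_iff.2 (Subtype.ext (mem_centralizer_singleton_iff.1 hx1)), rfl⟩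
  rw [e]
  refine charPElements_subnormal_subgroupOf
    (charPElements_centralizer_of_parabolic hG S (by rw [Subgroup.orderOf_coe, hzo]) (hle z hzo hzS hzc))
    inf_le_left ?_
  rw [inf_comm, inf_subgroupOf_right]
  exact hsn.subgroupOf

theorem not_dvd_relIndex_subnormal (S : Sylow p G) {H : Subgroup G} (hH : H.IsSubnormal) :
    ¬ p ∣ (S : Subgroup G).relIndex H := by
  induction hH with
  | top => rw [relIndex_top_right]; exact S.not_dvd_index
  | step H K hle _ hn ih =>
    haveI := hn
    have hK : ¬ p ∣ ((S : Subgroup G).subgroupOf K).index := ih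
    let SK : Sylow p K := S.2.comap_subtype.toSylow hK
    obtain ⟨T, hT⟩ := CfsgLib.Transfer.exists_sylow_eq_subgroupOf SK (H.subgroupOf K)
    have h2 : ¬ p ∣ ((S : Subgroup G).subgroupOf K).relIndex (H.subgroupOf K) := by
      show ¬ p ∣ (((S : Subgroup G).subgroupOf K).subgroupOf (H.subgroupOf K)).index
      rw [show ((S : Subgroup G).subgroupOf K).subgroupOf (H.subgroupOf K) =
        (T : Subgroup (H.subgroupOf K)) from hT.symm]
      exact T.not_dvd_index
    rwa [relIndex_subgroupOf hle] at h2

theorem exists_sylow_subnormal (S : Sylow p G) {H : Subgroup G} (hH : H.IsSubnormal) :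
    ∃ T : Sylow p H, (T : Subgroup H) = (S : Subgroup G).subgroupOf H :=
  ⟨S.2.comap_subtype.toSylow (not_dvd_relIndex_subnormal S hH), rfl⟩

end CfsgLib.Amalgam
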