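import Cfsg.Prelude.Def_Amalgam
import Mathlib.Combinatorics.SimpleGraph.Connectivity.Connected

set_option autoImplicit false

namespace CfsgLib.Amalgam

open Cfsg

variable {X : Type*} [Group X] {M₁ M₂ : Subgroup X}

theorem adj_iff {a b : CosetVertex M₁ M₂} :
    (cosetGraph M₁ M₂).Adj a b ↔
      (∃ x : X, a = Sum.inl (x : X ⧸ M₁) ∧ b = Sum.inr (x : X ⧸ M₂)) ∨
      (∃ x : X, b = Sum.inl (x : X ⧸ M₁) ∧ a = Sum.inr (x : X ⧸ M₂)) := by
  unfold Cfsg.cosetGraph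
  rw [SimpleGraph.fromRel_adj]
  constructor
  · exact fun h => h.2
  · intro h
    refine ⟨?_, h⟩
    rcases h with ⟨x, ha, hb⟩ | ⟨x, hb, ha⟩ <;> subst ha <;> subst hb <;> simp

theorem adj_inl_inr (x : X) :
    (cosetGraph M₁ M₂).Adj (Sum.inl (x : X ⧸ M₁)) (Sum.inr (x : X ⧸ M₂)) :=
  adj_iff.2 (Or.inl ⟨x, rfl, rfl⟩)

theorem smul_inl (g x : X) :
    g • (Sum.inl (x : X ⧸ M₁) : CosetVertex M₁ M₂) = Sum.inl ((g * x : X) : X ⧸ M₁) := rfl

theorem smul_inr (g x : X) :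
    g • (Sum.inr (x : X ⧸ M₂) : CosetVertex M₁ M₂) = Sum.inr ((g * x : X) : X ⧸ M₂) := rfl

theorem adj_smul (g : X) {a b : CosetVertex M₁ M₂} (h : (cosetGraph M₁ M₂).Adj a b) :
    (cosetGraph M₁ M₂).Adj (g • a) (g • b) := by
  rcases adj_iff.1 h with ⟨x, rfl, rfl⟩ | ⟨x, rfl, rfl⟩
  · exact adj_inl_inr (g * x)
  · exact (adj_inl_inr (g * x)).symm

theorem adj_smul_iff (g : X) {a b : CosetVertex M₁ M₂} :
    (cosetGraph M₁ M₂).Adj (g • a) (g • b) ↔ (cosetGraph M₁ M₂).Adj a b := by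
  refine ⟨fun h => ?_, adj_smul g⟩
  simpa using adj_smul g⁻¹ h

theorem reachable_smul (g : X) {a b : CosetVertex M₁ M₂}
    (h : (cosetGraph M₁ M₂).Reachable a b) :
    (cosetGraph M₁ M₂).Reachable (g • a) (g • b) := by
  obtain ⟨w⟩ := h
  exact ⟨w.map ⟨fun v => g • v, fun h => adj_smul g h⟩⟩

theorem stabilizer_quotient_eq {H : Subgroup X} (x : X) :
    MulAction.stabilizer X (x : X ⧸ H) = H.map (MulAut.conj x).toMonoidHom := by
  ext g
  rw [MulAction.mem_stabilizer_iff, Subgroup.mem_map]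
  constructor
  · intro h
    have h' : x⁻¹ * (g * x) ∈ H := QuotientGroup.eq.1 (h.symm)
    exact ⟨x⁻¹ * (g * x), h', by simp [mul_assoc]⟩
  · rintro ⟨k, hk, rfl⟩
    change (((MulAut.conj x) k * x : X) : X ⧸ H) = (x : X ⧸ H)
    rw [QuotientGroup.eq]
    simpa [mul_assoc] using H.inv_mem hk

theorem stabilizer_inl (x : X) :
    MulAction.stabilizer X (Sum.inl (x : X ⧸ M₁) : CosetVertex M₁ M₂)
      = M₁.map (MulAut.conj x).toMonoidHom := by
  rw [← stabilizer_quotient_eq x]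
  ext g
  simp [MulAction.mem_stabilizer_iff, Sum.smul_def]

theorem stabilizer_inr (x : X) :
    MulAction.stabilizer X (Sum.inr (x : X ⧸ M₂) : CosetVertex M₁ M₂)
      = M₂.map (MulAut.conj x).toMonoidHom := by
  rw [← stabilizer_quotient_eq x]
  ext g
  simp [MulAction.mem_stabilizer_iff, Sum.smul_def]

theorem edgeStabilizer_eq (x : X) :
    edgeStabilizer (Sum.inl (x : X ⧸ M₁) : CosetVertex M₁ M₂) (Sum.inr (x : X ⧸ M₂))
      = (M₁ ⊓ M₂).map (MulAut.conj x).toMonoidHom := by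
  show MulAction.stabilizer X _ ⊓ MulAction.stabilizer X _ = _
  rw [stabilizer_inl, stabilizer_inr,
    Subgroup.map_inf _ _ _ (MulAut.conj x).injective]

theorem mem_neighbourKernel {δ : CosetVertex M₁ M₂} {g : X} :
    g ∈ neighbourKernel δ ↔
      g • δ = δ ∧ ∀ μ, (cosetGraph M₁ M₂).Adj δ μ → g • μ = μ := by
  simp [Cfsg.neighbourKernel, Subgroup.mem_iInf, MulAction.mem_stabilizer_iff]

/-- Connectivity: every vertex is reachable from the coset `M₁`. -/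
theorem reachable_base (hgen : M₁ ⊔ M₂ = ⊤) (x : X) :
    (cosetGraph M₁ M₂).Reachable (Sum.inl ((1 : X) : X ⧸ M₁)) (Sum.inl (x : X ⧸ M₁)) := by
  let R : Subgroup X :=
    { carrier := {x | (cosetGraph M₁ M₂).Reachable (Sum.inl ((1 : X) : X ⧸ M₁)) (Sum.inl (x : X ⧸ M₁))}
      one_mem' := SimpleGraph.Reachable.refl _
      mul_mem' := by
        intro a b ha hb
        have h := reachable_smul a hb
        rw [smul_inl, smul_inl, mul_one] at h
        exact ha.trans h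
      inv_mem' := by
        intro a ha
        have h := reachable_smul a⁻¹ ha
        rw [smul_inl, smul_inl, mul_one, inv_mul_cancel] at h
        exact h.symm }
  have h1 : M₁ ≤ R := by
    intro m hm
    show (cosetGraph M₁ M₂).Reachable _ _
    rw [show (m : X ⧸ M₁) = ((1 : X) : X ⧸ M₁) from QuotientGroup.eq.2 (by simpa using hm)]
  have h2 : M₂ ≤ R := by
    intro m hm
    show (cosetGraph M₁ M₂).Reachable _ _
    have e : ((1 : X) : X ⧸ M₂) = (m : X ⧸ M₂) := QuotientGroup.eq.2 (by simpa using hm)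
    have a1 := (adj_inl_inr (M₁ := M₁) (M₂ := M₂) 1).reachable
    rw [e] at a1
    exact a1.trans (adj_inl_inr (M₁ := M₁) (M₂ := M₂) m).symm.reachable
  have : (⊤ : Subgroup X) ≤ R := hgen ▸ sup_le h1 h2
  exact this (Subgroup.mem_top x)

theorem cosetGraph_connected (hgen : M₁ ⊔ M₂ = ⊤) : (cosetGraph M₁ M₂).Connected := by
  have key : ∀ v : CosetVertex M₁ M₂,
      (cosetGraph M₁ M₂).Reachable (Sum.inl ((1 : X) : X ⧸ M₁)) v := by
    rintro (v | v) <;> induction v using QuotientGroup.induction_on with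
    | _ x => ?_
    · exact reachable_base hgen x
    · exact (reachable_base hgen x).trans (adj_inl_inr x).reachable
  exact { preconnected := fun a b => (key a).symm.trans (key b)
          nonempty := ⟨Sum.inl ((1 : X) : X ⧸ M₁)⟩ }

theorem neighbour_inl {x : X} {μ : CosetVertex M₁ M₂}
    (h : (cosetGraph M₁ M₂).Adj (Sum.inl (x : X ⧸ M₁)) μ) :
    ∃ m ∈ M₁, μ = Sum.inr ((x * m : X) : X ⧸ M₂) := by
  rcases adj_iff.1 h with ⟨y, hy, rfl⟩ | ⟨y, -, hy⟩
  · exact ⟨x⁻¹ * y, QuotientGroup.eq.1 (Sum.inl.inj hy), by simp⟩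
  · simp at hy

theorem neighbour_inr {x : X} {μ : CosetVertex M₁ M₂}
    (h : (cosetGraph M₁ M₂).Adj (Sum.inr (x : X ⧸ M₂)) μ) :
    ∃ m ∈ M₂, μ = Sum.inl ((x * m : X) : X ⧸ M₁) := by
  rcases adj_iff.1 h with ⟨y, hy, -⟩ | ⟨y, rfl, hy⟩
  · simp at hy
  · exact ⟨x⁻¹ * y, QuotientGroup.eq.1 (Sum.inr.inj hy), by simp⟩

theorem transitive_neighbours {δ μ μ' : CosetVertex M₁ M₂}
    (hμ : (cosetGraph M₁ M₂).Adj δ μ) (hμ' : (cosetGraph M₁ M₂).Adj δ μ') :
    ∃ g ∈ MulAction.stabilizer X δ, g • μ = μ' := by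
  rcases δ with v | v <;> induction v using QuotientGroup.induction_on with
  | _ x => ?_
  · obtain ⟨m, hm, rfl⟩ := neighbour_inl hμ
    obtain ⟨m', hm', rfl⟩ := neighbour_inl hμ'
    refine ⟨x * (m' * m⁻¹) * x⁻¹, ?_, ?_⟩
    · rw [stabilizer_inl]; exact ⟨m' * m⁻¹, M₁.mul_mem hm' (M₁.inv_mem hm), by simp⟩
    · rw [smul_inr]; congr 2; simp [mul_assoc]
  · obtain ⟨m, hm, rfl⟩ := neighbour_inr hμ
    obtain ⟨m', hm', rfl⟩ := neighbour_inr hμ'
    refine ⟨x * (m' * m⁻¹) * x⁻¹, ?_, ?_⟩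
    · rw [stabilizer_inr]; exact ⟨m' * m⁻¹, M₂.mul_mem hm' (M₂.inv_mem hm), by simp⟩
    · rw [smul_inl]; congr 2; simp [mul_assoc]

theorem faithful_kernel {g : X} (h : ∀ N : Subgroup X, N ≤ M₁ ⊓ M₂ → N.Normal → N = ⊥)
    (hg : ∀ v : CosetVertex M₁ M₂, g • v = v) : g = 1 := by
  let K : Subgroup X := (MulAction.toPermHom X (CosetVertex M₁ M₂)).ker
  have hK : K ≤ M₁ ⊓ M₂ := by
    intro k hk
    have hk' : ∀ v : CosetVertex M₁ M₂, k • v = v := fun v => by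
      have := congrArg (fun e => e v) (MonoidHom.mem_ker.1 hk)
      simpa using this
    have a := hk' (Sum.inl ((1 : X) : X ⧸ M₁))
    have b := hk' (Sum.inr ((1 : X) : X ⧸ M₂))
    rw [smul_inl, Sum.inl.injEq, QuotientGroup.eq] at a
    rw [smul_inr, Sum.inr.injEq, QuotientGroup.eq] at b
    simp at a b
    exact ⟨a, b⟩
  have hK' : K = ⊥ := h K hK inferInstance
  have : g ∈ K := MonoidHom.mem_ker.2 (Equiv.ext fun v => by simpa using hg v)
  rw [hK'] at this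
  exact Subgroup.mem_bot.1 this

end CfsgLib.Amalgam
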