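import Mathlib.LinearAlgebra.UnitaryGroup
import Mathlib.LinearAlgebra.Matrix.Trace
import Mathlib.LinearAlgebra.QuadraticForm.Basic
import Mathlib.LinearAlgebra.QuadraticForm.Basis
import Mathlib.Analysis.SpecialFunctions.Pow.Real
import Mathlib.LinearAlgebra.Dimension.Free

/-!
The real Clifford group: every isometry of a quadratic form of plus type over the field with two
elements is induced by an orthogonal matrix normalizing the extraspecial group of signed Pauli matrices.
-/

set_option autoImplicit false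
set_option linter.unusedSectionVars false

namespace CfsgLib.Amalgam.Pauli

open Matrix

variable {n : ℕ}

/-- The space `F₂ⁿ × F₂ⁿ`. -/
abbrev Pt (n : ℕ) : Type := (Fin n → ZMod 2) × (Fin n → ZMod 2)

/-- The sign of an element of `ZMod 2`. -/
def sgn (s : ZMod 2) : ℝ := if s = 0 then 1 else -1

theorem zmod_two_cases (s : ZMod 2) : s = 0 ∨ s = 1 := by revert s; decide

theorem sgn_add (s t : ZMod 2) : sgn (s + t) = sgn s * sgn t := by
  rcases zmod_two_cases s with rfl | rfl <;> rcases zmod_two_cases t with rfl | rfl <;>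
    simp [sgn, show (1 : ZMod 2) + 1 = 0 from rfl]

theorem sgn_zero : sgn 0 = 1 := if_pos rfl

theorem sgn_mul_self (s : ZMod 2) : sgn s * sgn s = 1 := by
  rw [← sgn_add, CharTwo.add_self_eq_zero, sgn_zero]

theorem sgn_ne_zero (s : ZMod 2) : sgn s ≠ 0 := fun h => by
  have := sgn_mul_self s
  rw [h, zero_mul] at this
  exact zero_ne_one this

theorem sgn_injective : Function.Injective sgn := by
  intro s t h
  rcases zmod_two_cases s with rfl | rfl <;> rcases zmod_two_cases t with rfl | rfl <;>
    first | rfl | (norm_num [sgn] at h)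

/-- The cocycle `b · a'`. -/
def cB (n : ℕ) : Pt n →ₗ[ZMod 2] Pt n →ₗ[ZMod 2] ZMod 2 :=
  LinearMap.mk₂ (ZMod 2) (fun u v => u.2 ⬝ᵥ v.1) (fun a b c => add_dotProduct _ _ _)
    (fun r a b => smul_dotProduct _ _ _) (fun a b c => dotProduct_add _ _ _)
    (fun r a b => dotProduct_smul _ _ _)

theorem cB_apply (u v : Pt n) : cB n u v = u.2 ⬝ᵥ v.1 := rfl

/-- The signed permutation matrix attached to a point. -/
def mat (u : Pt n) : Matrix (Fin n → ZMod 2) (Fin n → ZMod 2) ℝ :=
  fun x y => if x = y + u.1 then sgn (u.2 ⬝ᵥ y) else 0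

theorem add_eq_iff {m : ℕ} (x y a : Fin m → ZMod 2) : x = y + a ↔ y = x + a := by
  constructor <;> rintro rfl <;> funext i <;> simp [add_assoc, CharTwo.add_self_eq_zero]

theorem mat_mul (u v : Pt n) : mat u * mat v = sgn (cB n u v) • mat (u + v) := by
  ext x z
  rw [Matrix.mul_apply, Finset.sum_eq_single (z + v.1), Matrix.smul_apply, smul_eq_mul]
  · simp only [mat, cB_apply, Prod.fst_add, Prod.snd_add]
    rw [if_pos trivial, show z + (u.1 + v.1) = z + v.1 + u.1 by abel]
    by_cases h : x = z + v.1 + u.1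
    · rw [if_pos h, if_pos h, dotProduct_add, add_dotProduct, sgn_add, sgn_add]; ring
    · rw [if_neg h, if_neg h]; ring
  · intro y _ hy
    simp only [mat, if_neg hy, mul_zero]
  · exact fun h => absurd (Finset.mem_univ _) h

theorem mat_zero : mat (0 : Pt n) = 1 := by
  ext x y
  by_cases h : x = y <;> simp [mat, h, sgn_zero, Matrix.one_apply]

theorem mat_transpose (u : Pt n) : (mat u)ᵀ = sgn (cB n u u) • mat u := by
  ext x y
  simp only [Matrix.transpose_apply, Matrix.smul_apply, mat, smul_eq_mul, cB_apply]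
  by_cases h : x = y + u.1
  · rw [if_pos h, if_pos ((add_eq_iff _ _ _).1 h), h, dotProduct_add, sgn_add, mul_comm]
  · rw [if_neg h, if_neg fun h' => h ((add_eq_iff _ _ _).1 h'), mul_zero]

theorem mat_mul_transpose (u : Pt n) : mat u * (mat u)ᵀ = 1 := by
  rw [mat_transpose, Matrix.mul_smul, mat_mul, smul_smul, sgn_mul_self, one_smul,
    show u + u = 0 from by ext i <;> simp [CharTwo.add_self_eq_zero], mat_zero]

theorem transpose_mul_mat (u : Pt n) : (mat u)ᵀ * mat u = 1 :=
  mul_eq_one_comm.1 (mat_mul_transpose u)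

theorem smul_mat_injective {s t : ZMod 2} {u v : Pt n} (h : sgn s • mat u = sgn t • mat v) :
    s = t ∧ u = v := by
  have h0 := congrFun (congrFun h u.1) 0
  simp only [Matrix.smul_apply, mat, zero_add, smul_eq_mul, dotProduct_zero, sgn_zero, if_true,
    mul_one] at h0
  by_cases hv : u.1 = v.1
  · rw [if_pos hv, mul_one] at h0
    have hst := sgn_injective h0
    subst hst
    refine ⟨rfl, Prod.ext hv (funext fun i => ?_)⟩
    have h1 := congrFun (congrFun h (Pi.single i 1 + u.1)) (Pi.single i 1)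
    simp only [Matrix.smul_apply, mat, smul_eq_mul, hv, if_true] at h1
    have h2 := sgn_injective (mul_left_cancel₀ (sgn_ne_zero s) h1)
    simpa using h2
  · rw [if_neg hv, mul_zero] at h0
    exact absurd h0 (sgn_ne_zero s)

theorem trace_mat_ne_zero {u : Pt n} (hu : u ≠ 0) : Matrix.trace (mat u) = 0 := by
  rw [Matrix.trace]
  by_cases ha : u.1 = 0
  · obtain ⟨i, hi⟩ : ∃ i, u.2 i ≠ 0 := by
      by_contra hc
      push Not at hc
      exact hu (Prod.ext ha (funext hc))
    have hi1 : u.2 i = 1 := (zmod_two_cases _).resolve_left hi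
    simp only [Matrix.diag, mat, ha, add_zero, if_true]
    have h := Equiv.sum_comp (Equiv.addRight (Pi.single i (1 : ZMod 2))) fun y => sgn (u.2 ⬝ᵥ y)
    simp only [Equiv.coe_addRight, dotProduct_add, dotProduct_single, hi1, mul_one, sgn_add] at h
    rw [← Finset.sum_mul] at h
    have h1 : sgn (1 : ZMod 2) = -1 := if_neg (by decide)
    rw [h1, mul_neg, mul_one] at h
    linarith
  · refine Finset.sum_eq_zero fun x _ => ?_
    simp only [Matrix.diag, mat]
    rw [if_neg]
    intro h
    exact ha (add_left_cancel (a := x) (h.symm.trans (add_zero x).symm))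

theorem coeff_eq_zero (c : Pt n → ℝ) (h : ∑ u, c u • mat u = 0) (v : Pt n) : c v = 0 := by
  have h1 : Matrix.trace ((∑ u, c u • mat u) * mat v) = 0 := by rw [h, zero_mul, Matrix.trace_zero]
  rw [Finset.sum_mul, Matrix.trace_sum, Finset.sum_eq_single v] at h1
  · rw [Matrix.smul_mul, mat_mul, show v + v = 0 from by ext i <;> simp [CharTwo.add_self_eq_zero],
      mat_zero, Matrix.trace_smul, Matrix.trace_smul, Matrix.trace_one, smul_eq_mul, smul_eq_mul] at h1
    rcases mul_eq_zero.1 h1 with h2 | h2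
    · exact h2
    · rcases mul_eq_zero.1 h2 with h3 | h3
      · exact absurd h3 (sgn_ne_zero _)
      · exact absurd (Nat.cast_eq_zero.1 h3) Fintype.card_ne_zero
  · intro u _ hu
    rw [Matrix.smul_mul, mat_mul, Matrix.trace_smul, Matrix.trace_smul, trace_mat_ne_zero, smul_zero, smul_zero]
    intro h0
    exact hu (by
      have := congrArg (· + v) h0
      simpa [add_assoc, show v + v = 0 from by ext i <;> simp [CharTwo.add_self_eq_zero]] using this)
  · exact fun h => absurd (Finset.mem_univ _) h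

theorem eq_smul_one_of_commute {M : Matrix (Fin n → ZMod 2) (Fin n → ZMod 2) ℝ}
    (h : ∀ u, M * mat u = mat u * M) : M = M 0 0 • 1 := by
  have hdiag : ∀ x y, x ≠ y → M x y = 0 := by
    intro x y hxy
    obtain ⟨i, hi⟩ := Function.ne_iff.1 hxy
    have h1 := congrFun (congrFun (h (0, Pi.single i 1)) x) y
    rw [Matrix.mul_apply, Matrix.mul_apply, Finset.sum_eq_single y, Finset.sum_eq_single x] at h1
    · simp only [mat, add_zero, if_true, single_dotProduct, one_mul] at h1
      by_contra hne
      rw [mul_comm (sgn _)] at h1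
      exact hi (sgn_injective (mul_left_cancel₀ hne h1)).symm
    · intro b _ hb; simp [mat, Ne.symm hb]
    · exact fun h => absurd (Finset.mem_univ _) h
    · intro b _ hb; simp [mat, hb]
    · exact fun h => absurd (Finset.mem_univ _) h
  have hconst : ∀ x, M x x = M 0 0 := by
    intro x
    have h1 := congrFun (congrFun (h (x, 0)) x) 0
    rw [Matrix.mul_apply, Matrix.mul_apply, Finset.sum_eq_single x, Finset.sum_eq_single 0] at h1
    · simpa [mat, sgn_zero] using h1
    · intro b _ hb; rw [hdiag b 0 hb]; simp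
    · exact fun h => absurd (Finset.mem_univ _) h
    · intro b _ hb; rw [hdiag x b (Ne.symm hb)]; simp
    · exact fun h => absurd (Finset.mem_univ _) h
  ext x y
  by_cases e : x = y
  · subst e; simp [hconst x]
  · simp [hdiag x y e, e]

/-- Every isometry is induced by an orthogonal matrix. -/
theorem exists_intertwiner (σ : Pt n →ₗ[ZMod 2] Pt n) (hσ : ∀ u, cB n (σ u) (σ u) = cB n u u) :
    ∃ g : Matrix (Fin n → ZMod 2) (Fin n → ZMod 2) ℝ,
      gᵀ * g = 1 ∧ ∀ u, ∃ s, g * mat u = sgn s • (mat (σ u) * g) := by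
  classical
  let B : Pt n →ₗ[ZMod 2] Pt n →ₗ[ZMod 2] ZMod 2 := (cB n).compl₁₂ σ σ + cB n
  have hB : ∀ u v, B u v = cB n (σ u) (σ v) + cB n u v := fun u v => rfl
  have hB0 : ∀ u, B u u = 0 := fun u => by rw [hB, hσ, CharTwo.add_self_eq_zero]
  have hBs : ∀ u v, B u v = B v u := by
    intro u v
    have h := hB0 (u + v)
    simp only [map_add, LinearMap.add_apply, hB0, zero_add, add_zero] at h
    exact (eq_neg_of_add_eq_zero_right h).trans (ZMod.neg_eq_self_mod_two _)
  let bm := Module.finBasis (ZMod 2) (Pt n)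
  let L : Pt n →ₗ[ZMod 2] Pt n →ₗ[ZMod 2] ZMod 2 :=
    bm.constr (ZMod 2) fun i => bm.constr (ZMod 2) fun j => if i < j then B (bm i) (bm j) else 0
  have hL : L + L.flip = B := by
    refine bm.ext fun i => bm.ext fun j => ?_
    simp only [LinearMap.add_apply, LinearMap.flip_apply, L, Module.Basis.constr_basis]
    rcases lt_trichotomy i j with h | h | h
    · rw [if_pos h, if_neg (not_lt_of_gt h), add_zero]
    · subst h; rw [if_neg (lt_irrefl i), add_zero, hB0]
    · rw [if_pos h, if_neg (not_lt_of_gt h), zero_add, hBs]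
  let ε : Pt n → ZMod 2 := fun u => L u u
  have hε : ∀ u v, ε u + ε v + cB n (σ u) (σ v) = cB n u v + ε (u + v) := by
    intro u v
    have h : L u v + L v u = cB n (σ u) (σ v) + cB n u v := by
      rw [← hB, ← hL]; rfl
    have h' : cB n (σ u) (σ v) = L u v + L v u + cB n u v := by
      rw [h, add_assoc, CharTwo.add_self_eq_zero, add_zero]
    show L u u + L v v + cB n (σ u) (σ v) = cB n u v + L (u + v) (u + v)
    rw [h']
    simp only [map_add, LinearMap.add_apply]
    abel
  let D : Pt n → Matrix (Fin n → ZMod 2) (Fin n → ZMod 2) ℝ := fun u => sgn (ε u) • mat (σ u)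
  have hD : ∀ w u, D w * D u = sgn (cB n w u) • D (w + u) := by
    intro w u
    simp only [D]
    rw [Matrix.smul_mul, Matrix.mul_smul, mat_mul, smul_smul, smul_smul, smul_smul, ← sgn_add, ← sgn_add,
      ← sgn_add, ← map_add, hε]
  have hDo : ∀ w, (D w)ᵀ * D w = 1 := fun w => by
    simp only [D]
    rw [Matrix.transpose_smul, Matrix.smul_mul, Matrix.mul_smul, transpose_mul_mat, smul_smul, sgn_mul_self,
      one_smul]
  let T : Matrix (Fin n → ZMod 2) (Fin n → ZMod 2) ℝ → Matrix (Fin n → ZMod 2) (Fin n → ZMod 2) ℝ :=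
    fun X => ∑ u, D u * X * (mat u)ᵀ
  obtain ⟨X, hX⟩ : ∃ X, T X ≠ 0 := by
    by_contra hc
    push Not at hc
    have h1 : ∑ u, D u 0 0 • mat u = 0 := by
      ext l k
      have h2 := congrFun (congrFun (hc (Matrix.single 0 k 1)) 0) l
      simp only [T, Matrix.sum_apply, Matrix.zero_apply] at h2
      rw [Matrix.sum_apply, Matrix.zero_apply, ← h2]
      refine Finset.sum_congr rfl fun u _ => ?_
      rw [Matrix.smul_apply, Matrix.mul_apply, Finset.sum_eq_single k, Matrix.mul_single_apply_same,
        Matrix.transpose_apply, mul_one, smul_eq_mul]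
      · intro b _ hb
        rw [Matrix.mul_single_apply_of_ne (hbj := hb), zero_mul]
      · exact fun h => absurd (Finset.mem_univ _) h
    have h2 := coeff_eq_zero _ h1 0
    simp [D, mat, sgn_ne_zero] at h2
  set T₀ := T X with hT₀
  have hint : ∀ w, D w * T₀ = T₀ * mat w := by
    intro w
    rw [hT₀]
    simp only [T, Finset.mul_sum, Finset.sum_mul]
    have h := Equiv.sum_comp (Equiv.addLeft w) fun u => D u * X * (mat u)ᵀ * mat w
    rw [← h]
    refine Finset.sum_congr rfl fun u _ => ?_
    simp only [Equiv.coe_addLeft]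
    have h1 : (mat (w + u))ᵀ * mat w = sgn (cB n w u) • (mat u)ᵀ := by
      have e : mat (w + u) = sgn (cB n w u) • (mat w * mat u) := by
        rw [mat_mul, smul_smul, sgn_mul_self, one_smul]
      rw [e, Matrix.transpose_smul, Matrix.transpose_mul, Matrix.smul_mul, Matrix.mul_assoc, transpose_mul_mat,
        Matrix.mul_one]
    rw [Matrix.mul_assoc _ _ (mat w), h1, ← Matrix.mul_assoc, ← Matrix.mul_assoc, hD, Matrix.mul_smul,
      Matrix.smul_mul, Matrix.smul_mul]
  have hcomm : ∀ w, T₀ᵀ * T₀ * mat w = mat w * (T₀ᵀ * T₀) := by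
    intro w
    have h1 : (mat w)ᵀ * T₀ᵀ = T₀ᵀ * (D w)ᵀ := by
      rw [← Matrix.transpose_mul, ← Matrix.transpose_mul, hint]
    have h2 : mat w * T₀ᵀ = T₀ᵀ * D w := by
      calc mat w * T₀ᵀ = mat w * (T₀ᵀ * (D w)ᵀ) * D w := by
            rw [Matrix.mul_assoc (mat w), Matrix.mul_assoc T₀ᵀ, hDo, Matrix.mul_one]
        _ = T₀ᵀ * D w := by rw [← h1, ← Matrix.mul_assoc, mat_mul_transpose, Matrix.one_mul]
    rw [← Matrix.mul_assoc (mat w), h2, Matrix.mul_assoc, Matrix.mul_assoc, hint]
  have hscal := eq_smul_one_of_commute hcomm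
  set r := (T₀ᵀ * T₀) 0 0 with hr
  have hrr : ∀ x, ∑ i, T₀ i x ^ 2 = r := by
    intro x
    have := congrFun (congrFun hscal x) x
    simpa [Matrix.mul_apply, sq] using this
  have hrpos : 0 < r := by
    rcases (show 0 ≤ r from (hrr 0) ▸ Finset.sum_nonneg fun i _ => sq_nonneg _).lt_or_eq with h | h
    · exact h
    · exfalso
      apply hX
      ext i x
      have := (Finset.sum_eq_zero_iff_of_nonneg fun i _ => sq_nonneg (T₀ i x)).1 ((hrr x).trans h.symm) i
        (Finset.mem_univ i)
      simpa using this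
  refine ⟨(Real.sqrt r)⁻¹ • T₀, ?_, fun w => ⟨ε w, ?_⟩⟩
  · rw [Matrix.transpose_smul, Matrix.smul_mul, Matrix.mul_smul, hscal, smul_smul, smul_smul,
      ← mul_inv, Real.mul_self_sqrt hrpos.le, inv_mul_cancel₀ hrpos.ne', one_smul]
  · rw [Matrix.smul_mul, ← hint, Matrix.mul_smul, smul_comm (sgn (ε w))]
    simp only [D]
    rw [Matrix.smul_mul]

end CfsgLib.Amalgam.Pauli
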