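import Cfsg.Prelude.Def_Transfer
import Mathlib

/-!
# Tori normalizing a Sylow subgroup of order `p³` and exponent `p`
-/

set_option autoImplicit false

namespace CfsgLib.Amalgam.CubeTorus

open Subgroup

variable {G : Type*} [Group G] {p : ℕ} [Fact p.Prime]

/-- The element `z^i x^j`. -/
def el (z x : G) (v : ZMod p × ZMod p) : G := z ^ v.1.val * x ^ v.2.val

theorem pow_val_add {z : G} (hz : z ^ p = 1) (i j : ZMod p) : z ^ (i + j).val = z ^ i.val * z ^ j.val := by
  rw [← pow_add]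
  refine pow_eq_pow_iff_modEq.2 (Nat.ModEq.of_dvd (orderOf_dvd_of_pow_eq_one hz) ?_)
  rw [ZMod.val_add]
  exact Nat.mod_modEq _ _

theorem pow_val_mul {z : G} (hz : z ^ p = 1) (i j : ZMod p) : z ^ (i * j).val = (z ^ i.val) ^ j.val := by
  rw [← pow_mul]
  refine pow_eq_pow_iff_modEq.2 (Nat.ModEq.of_dvd (orderOf_dvd_of_pow_eq_one hz) ?_)
  rw [ZMod.val_mul]
  exact Nat.mod_modEq _ _

variable {z x : G}

theorem el_add (hz : z ^ p = 1) (hx : x ^ p = 1) (hc : Commute z x) (v w : ZMod p × ZMod p) :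
    el z x (v + w) = el z x v * el z x w := by
  rw [el, el, el, Prod.fst_add, Prod.snd_add, pow_val_add hz, pow_val_add hx, mul_assoc, mul_assoc]
  congr 1
  rw [← mul_assoc, ← mul_assoc, (hc.pow_pow w.1.val v.2.val).eq]

theorem el_injective (hz : orderOf z = p) (hx : orderOf x = p) (hc : Commute z x)
    (hd : x ∉ zpowers z) : Function.Injective (el z x : ZMod p × ZMod p → G) := by
  have hz' : z ^ p = 1 := hz ▸ pow_orderOf_eq_one z
  have hx' : x ^ p = 1 := hx ▸ pow_orderOf_eq_one x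
  intro v w h
  have h0 : el z x (v - w) = 1 := by
    have := el_add hz' hx' hc (v - w) w
    rw [sub_add_cancel, h] at this
    exact mul_eq_right.1 this.symm
  set u := v - w
  have h2 : x ^ u.2.val ∈ zpowers z := by
    rw [eq_inv_of_mul_eq_one_right (show z ^ u.1.val * x ^ u.2.val = 1 from h0)]
    exact inv_mem (pow_mem (mem_zpowers z) _)
  have hu2 : u.2 = 0 := by
    by_contra hne
    refine hd ?_
    have hcop : (u.2.val).Coprime (orderOf x) := by
      rw [hx, Nat.coprime_comm, (Fact.out : p.Prime).coprime_iff_not_dvd]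
      intro hdvd
      exact hne ((ZMod.val_eq_zero _).1 (Nat.eq_zero_of_dvd_of_lt hdvd (ZMod.val_lt _)))
    obtain ⟨m, hm⟩ := exists_pow_eq_self_of_coprime hcop
    rw [← hm]
    exact pow_mem h2 m
  have hu1 : u.1 = 0 := by
    have h1 : z ^ u.1.val = 1 := by simpa [el, hu2] using h0
    exact (ZMod.val_eq_zero _).1 (Nat.eq_zero_of_dvd_of_lt ((dvd_of_eq hz.symm).trans (orderOf_dvd_of_pow_eq_one h1)) (ZMod.val_lt _))
  exact sub_eq_zero.1 (Prod.ext hu1 hu2)

/-- An additive map of `(ℤ/p)²` realized by conjugation in `G`. -/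
def Realized (z x : G) (T : ZMod p × ZMod p → ZMod p × ZMod p) : Prop :=
  ∃ g : G, ∀ v, g * el z x v * g⁻¹ = el z x (T v)

theorem Realized.comp {S T : ZMod p × ZMod p → ZMod p × ZMod p} (hS : Realized z x S)
    (hT : Realized z x T) : Realized z x (S ∘ T) := by
  obtain ⟨g, hg⟩ := hS
  obtain ⟨h, hh⟩ := hT
  exact ⟨g * h, fun v => by rw [Function.comp_apply, ← hg, ← hh]; group⟩

/-- Upper transvection. -/
def upper (c : ZMod p) (v : ZMod p × ZMod p) : ZMod p × ZMod p := (v.1 + c * v.2, v.2)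

/-- Lower transvection. -/
def lower (c : ZMod p) (v : ZMod p × ZMod p) : ZMod p × ZMod p := (v.1, v.2 + c * v.1)

theorem realized_torus (hU : ∀ c : ZMod p, Realized z x (upper c))
    (hF : ∀ c : ZMod p, Realized z x (lower c)) {a : ZMod p} (ha : a ≠ 0) :
    Realized z x (fun v => (a * v.1, a⁻¹ * v.2)) := by
  have h := (hU a).comp ((hF (-a⁻¹)).comp ((hU a).comp ((hU (-1)).comp ((hF 1).comp (hU (-1))))))
  convert h using 1
  funext v
  simp only [Function.comp_apply, upper, lower]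
  refine Prod.ext ?_ ?_ <;> field_simp <;> ring

/-- The element realizing `diag(a, a⁻¹)`, adjusted to normalize `P`. -/
theorem exists_torus [Finite G] (P : Sylow p G) {A : Subgroup G} (hAP : A ≤ (P : Subgroup G))
    (hz : orderOf z = p) (hx : orderOf x = p) (hzc : ∀ s ∈ (P : Subgroup G), Commute z s)
    (hA : ∀ g : G, g ∈ A ↔ ∃ v : ZMod p × ZMod p, el z x v = g)
    (hPA : (P : Subgroup G) ⊓ centralizer (A : Set G) = A)
    {y : G} (hy : y ∈ (P : Subgroup G)) (hgen : A ⊔ zpowers y = (P : Subgroup G))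
    {r : ZMod p} (hr : y * x * y⁻¹ = el z x (r, 1))
    {a : ZMod p} (ha : a ≠ 0) (hT : Realized z x (fun v => (a * v.1, a⁻¹ * v.2))) :
    ∃ g ∈ normalizer ((P : Subgroup G) : Set G), g * x * g⁻¹ = x ^ (a⁻¹).val ∧
      ∃ w ∈ A, g * y * g⁻¹ = w * y ^ (a ^ 2).val := by
  have hz' : z ^ p = 1 := hz ▸ pow_orderOf_eq_one z
  have hx' : x ^ p = 1 := hx ▸ pow_orderOf_eq_one x
  haveI : NeZero p := ⟨(Fact.out : p.Prime).ne_zero⟩
  haveI : Fact (1 < p) := ⟨(Fact.out : p.Prime).one_lt⟩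
  have exel : el z x ((0 : ZMod p), (1 : ZMod p)) = x := by simp [el, ZMod.val_one]
  have ezel : el z x ((1 : ZMod p), (0 : ZMod p)) = z := by simp [el, ZMod.val_one]
  have hxP : x ∈ (P : Subgroup G) := hAP ((hA x).2 ⟨_, exel⟩)
  have hc : Commute z x := hzc x hxP
  obtain ⟨g, hg⟩ := hT
  have hgz : g * z * g⁻¹ = z ^ a.val := by
    have := hg (1, 0); rw [ezel] at this; rw [this]; simp [el]
  have hgx : g * x * g⁻¹ = x ^ (a⁻¹).val := by
    have := hg (0, 1); rw [exel] at this; rw [this]; simp [el]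
  have hypow : ∀ n : ℕ, y ^ n * x * (y ^ n)⁻¹ = el z x ((n : ZMod p) * r, 1) := by
    intro n
    induction n with
    | zero => simp [el, ZMod.val_one]
    | succ n ih =>
      rw [pow_succ', show y * y ^ n * x * (y * y ^ n)⁻¹ = y * (y ^ n * x * (y ^ n)⁻¹) * y⁻¹ by group, ih]
      have hyz : y * z ^ ((n : ZMod p) * r).val * y⁻¹ = z ^ ((n : ZMod p) * r).val := by
        rw [← ((hzc y hy).pow_left _).eq, mul_inv_cancel_right]
      rw [el, ZMod.val_one, pow_one, show y * (z ^ ((n : ZMod p) * r).val * x) * y⁻¹ =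
        (y * z ^ ((n : ZMod p) * r).val * y⁻¹) * (y * x * y⁻¹) by group, hyz, hr, el, el, ← mul_assoc,
        ← pow_val_add hz', ZMod.val_one, pow_one, Nat.cast_succ, add_mul, one_mul]
  set k := (a ^ 2).val
  have hact : g * y * g⁻¹ * (y ^ k)⁻¹ ∈ centralizer (A : Set G) := by
    have hzy : Commute z (g * y * g⁻¹) := by
      have h1 : Commute (g * z * g⁻¹) (g * y * g⁻¹) :=
        (Commute.conj_iff g).2 (hzc y hy)
      rw [hgz] at h1
      have hcop : (a.val).Coprime (orderOf z) := by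
        rw [hz, Nat.coprime_comm, (Fact.out : p.Prime).coprime_iff_not_dvd]
        exact fun hdvd => ha ((ZMod.val_eq_zero _).1 (Nat.eq_zero_of_dvd_of_lt hdvd (ZMod.val_lt _)))
      obtain ⟨m, hm⟩ := exists_pow_eq_self_of_coprime hcop
      rw [← hm]
      exact h1.pow_left m
    have hxy : g * y * g⁻¹ * x * (g * y * g⁻¹)⁻¹ = y ^ k * x * (y ^ k)⁻¹ := by
      rw [hypow, ZMod.natCast_zmod_val]
      have e1 : g⁻¹ * x * g = el z x ((0 : ZMod p), a) := by
        have := hg (0, a)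
        simp only [mul_zero, inv_mul_cancel₀ ha, exel] at this
        calc g⁻¹ * x * g = g⁻¹ * (g * el z x ((0 : ZMod p), a) * g⁻¹) * g := by rw [this]
          _ = el z x ((0 : ZMod p), a) := by group
      have e2 : y * el z x ((0 : ZMod p), a) * y⁻¹ = el z x (a * r, a) := by
        have hxa : el z x ((0 : ZMod p), a) = x ^ a.val := by simp [el]
        rw [hxa, ← conj_pow, hr, el, ZMod.val_one, pow_one, (hc.pow_left _).mul_pow, el,
          ← pow_val_mul hz', mul_comm r a]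
      rw [show g * y * g⁻¹ * x * (g * y * g⁻¹)⁻¹ = g * (y * (g⁻¹ * x * g) * y⁻¹) * g⁻¹ by group,
        e1, e2, hg]
      refine congrArg (el z x) (Prod.ext ?_ ?_)
      · show a * (a * r) = a ^ 2 * r; ring
      · show a⁻¹ * a = 1; exact inv_mul_cancel₀ ha
    refine mem_centralizer_iff.2 fun b hb => ?_
    obtain ⟨v, rfl⟩ := (hA b).1 hb
    set u := g * y * g⁻¹ * (y ^ k)⁻¹
    have hu1 : Commute z u := hzy.mul_right ((hzc y hy).pow_right k).inv_right
    have hu2 : Commute x u := by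
      have : u * x * u⁻¹ = x := by
        have h1 : g * y * g⁻¹ * x * (g * y * g⁻¹)⁻¹ = y ^ k * x * (y ^ k)⁻¹ := hxy
        have h2 : (y ^ k)⁻¹ * x * y ^ k ∈ A := by
          have : ∀ n : ℕ, (y ^ n)⁻¹ * x * y ^ n = el z x (-((n : ZMod p) * r), 1) := fun n => by
            have e := hypow n
            have hzn : Commute (y ^ n) (z ^ ((n : ZMod p) * r).val) :=
              (((hzc y hy).pow_right n).pow_left _).symm
            rw [el, ZMod.val_one, pow_one] at e ⊢
            have hneg : z ^ (-((n : ZMod p) * r)).val = (z ^ ((n : ZMod p) * r).val)⁻¹ :=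
              eq_inv_of_mul_eq_one_left (by rw [← pow_val_add hz', neg_add_cancel, ZMod.val_zero, pow_zero])
            rw [hneg]
            calc (y ^ n)⁻¹ * x * y ^ n
                = (y ^ n)⁻¹ * ((z ^ ((n : ZMod p) * r).val)⁻¹ * (z ^ ((n : ZMod p) * r).val * x)) * y ^ n := by
                  group
              _ = (z ^ ((n : ZMod p) * r).val)⁻¹ * ((y ^ n)⁻¹ * (z ^ ((n : ZMod p) * r).val * x) * y ^ n) := by
                  rw [← mul_assoc (y ^ n)⁻¹, (hzn.inv_inv).eq]; group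
              _ = _ := by rw [← e]; group
          exact (hA _).2 ⟨_, (this k).symm⟩
        obtain ⟨w, hw⟩ := (hA _).1 h2
        calc u * x * u⁻¹ = g * y * g⁻¹ * ((y ^ k)⁻¹ * x * y ^ k) * (g * y * g⁻¹)⁻¹ := by
              simp only [u]; group
          _ = (g * y * g⁻¹ * z * (g * y * g⁻¹)⁻¹) ^ w.1.val *
              (g * y * g⁻¹ * x * (g * y * g⁻¹)⁻¹) ^ w.2.val := by
              rw [← hw, el, conj_pow, conj_pow]; group
          _ = (y ^ k * z * (y ^ k)⁻¹) ^ w.1.val * (y ^ k * x * (y ^ k)⁻¹) ^ w.2.val := by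
              rw [h1, ← hzy.eq, mul_inv_cancel_right, ← ((hzc y hy).pow_right k).eq, mul_inv_cancel_right]
          _ = y ^ k * (el z x w) * (y ^ k)⁻¹ := by rw [el, conj_pow, conj_pow]; group
          _ = x := by rw [hw]; group
      exact (mul_inv_eq_iff_eq_mul.1 this).symm
    exact ((hu1.pow_left _).mul_left (hu2.pow_left _)).eq
  -- adjust to normalize `P`
  have hgA : A.map (MulAut.conj g).toMonoidHom = A := by
    refine eq_of_le_of_card_ge ?_ (card_map_of_injective (MulAut.conj g).injective).ge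
    rintro _ ⟨b, hb, rfl⟩
    obtain ⟨v, rfl⟩ := (hA b).1 hb
    exact (hA _).2 ⟨_, (hg v).symm⟩
  set C := centralizer (A : Set G)
  have hPC : (P : Subgroup G) ≤ normalizer (A : Set G) := by
    rw [← hgen]
    refine sup_le le_normalizer (zpowers_le.2 ?_)
    refine mem_normalizer_iff_map_conj_eq.2
      (eq_of_le_of_card_ge ?_ (card_map_of_injective (MulAut.conj y).injective).ge)
    rintro _ ⟨b, hb, rfl⟩
    obtain ⟨v, rfl⟩ := (hA b).1 hb
    show y * el z x v * y⁻¹ ∈ A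
    rw [show y * el z x v * y⁻¹ = (y * z * y⁻¹) ^ v.1.val * (y * x * y⁻¹) ^ v.2.val by
      rw [el, conj_pow, conj_pow]; group, ← (hzc y hy).eq, mul_inv_cancel_right, hr]
    exact mul_mem (pow_mem ((hA _).2 ⟨_, ezel⟩) _) (pow_mem ((hA _).2 ⟨_, rfl⟩) _)
  set H := (P : Subgroup G) ⊔ C with hH
  have hle : (P : Subgroup G).map (MulAut.conj g).toMonoidHom ≤ H := by
    rw [← hgen, Subgroup.map_sup, hgA, sup_le_iff, MonoidHom.map_zpowers, zpowers_le]
    refine ⟨hAP.trans le_sup_left, ?_⟩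
    show g * y * g⁻¹ ∈ H
    rw [← inv_mul_cancel_right (g * y * g⁻¹) (y ^ k)]
    exact mul_mem (mem_sup_right hact) (mem_sup_left (pow_mem hy k))
  let P₁ : Sylow p H := P.subtype le_sup_left
  have hgs : Function.Surjective (MulAut.conj g).toMonoidHom := (MulAut.conj g).surjective
  let P₂ : Sylow p H := (P.mapSurjective hgs).subtype (hle.trans' (le_of_eq (Sylow.coe_mapSurjective hgs P)))
  obtain ⟨h, hh⟩ := MulAction.exists_smul_eq H P₂ P₁
  have hN : (P : Subgroup G) ≤ normalizer (C : Set G) := fun s hs => by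
    refine mem_normalizer_iff_map_conj_eq.2
      (eq_of_le_of_card_ge ?_ (card_map_of_injective (MulAut.conj s).injective).ge)
    rintro _ ⟨c, hc', rfl⟩
    refine mem_centralizer_iff.2 fun b hb => ?_
    have hb' : s⁻¹ * b * s ∈ A := by
      have := (mem_normalizer_iff.1 (hPC (inv_mem hs)) b).1 hb
      rwa [inv_inv] at this
    have e := mem_centralizer_iff.1 hc' _ hb'
    show b * (s * c * s⁻¹) = s * c * s⁻¹ * b
    calc b * (s * c * s⁻¹) = s * ((s⁻¹ * b * s) * c) * s⁻¹ := by group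
      _ = s * (c * (s⁻¹ * b * s)) * s⁻¹ := by rw [e]
      _ = s * c * s⁻¹ * b := by group
  have hh2 : (h : G) ∈ ((P : Subgroup G) ⊔ C : Subgroup G) := h.2
  rw [← SetLike.mem_coe, coe_mul_of_left_le_normalizer_right _ _ hN] at hh2
  obtain ⟨s, hs, c, hc', hsc⟩ := hh2
  have hconj : (P : Subgroup G).map (MulAut.conj (c * g)).toMonoidHom = (P : Subgroup G) := by
    refine eq_of_le_of_card_ge ?_ (card_map_of_injective (MulAut.conj _).injective).ge
    rintro _ ⟨t, ht, rfl⟩
    have hmem : g * t * g⁻¹ ∈ H := hle ⟨t, ht, rfl⟩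
    have h2 : (⟨g * t * g⁻¹, hmem⟩ : H) ∈ (P₂ : Subgroup H) := ⟨t, ht, rfl⟩
    have h1 : h * ⟨g * t * g⁻¹, hmem⟩ * h⁻¹ ∈ (P₁ : Subgroup H) := by
      rw [← hh, Sylow.coe_subgroup_smul]
      exact ⟨_, h2, rfl⟩
    have h3 : (h : G) * (g * t * g⁻¹) * (h : G)⁻¹ ∈ (P : Subgroup G) := h1
    show c * g * t * (c * g)⁻¹ ∈ (P : Subgroup G)
    rw [show c * g * t * (c * g)⁻¹ = s⁻¹ * ((h : G) * (g * t * g⁻¹) * (h : G)⁻¹) * s by
      rw [← hsc]; group]
    exact mul_mem (mul_mem (inv_mem hs) h3) hs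
  have hcg : ∀ v, (c * g) * el z x v * (c * g)⁻¹ = g * el z x v * g⁻¹ := fun v => by
    have : g * el z x v * g⁻¹ ∈ A := (hA _).2 ⟨_, (hg v).symm⟩
    rw [show (c * g) * el z x v * (c * g)⁻¹ = c * (g * el z x v * g⁻¹) * c⁻¹ by group,
      ← mem_centralizer_iff.1 hc' _ this, mul_inv_cancel_right]
  refine ⟨c * g, mem_normalizer_iff_map_conj_eq.2 hconj, ?_, ?_⟩
  · have := hcg (0, 1)
    rwa [exel, hgx] at this
  · refine ⟨(c * g) * y * (c * g)⁻¹ * (y ^ k)⁻¹, ?_, by group⟩
    rw [← hPA]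
    refine mem_inf.2 ⟨mul_mem (hconj.le (mem_map_of_mem _ hy)) (inv_mem (pow_mem hy k)), ?_⟩
    rw [show (c * g) * y * (c * g)⁻¹ * (y ^ k)⁻¹ =
      c * (g * y * g⁻¹ * (y ^ k)⁻¹) * (y ^ k * c⁻¹ * (y ^ k)⁻¹) by group]
    exact mul_mem (mul_mem hc' hact)
      ((mem_normalizer_iff.1 (hN (pow_mem hy k)) c⁻¹).1 (inv_mem (show c ∈ C from hc')))

end CfsgLib.Amalgam.CubeTorus
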