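import Cfsg.Prelude.Def_DStar
import Cfsg.Agent.Lib.Amalgam.PCore
import Cfsg.Agent.Lib.Complement.AbelianThompson
import Cfsg.Agent.Lib.OddLocal.PGroup
import Cfsg.Agent.Lib.Solvable.Nilpotent
import Cfsg.Agent.Lib.Transfer.Frobenius

/-!
The subgroup `D*(S)` of a `p`-group and the `D*`-theorem for `p`-stable groups
(Glauberman and Solomon).
-/

set_option autoImplicit false
set_option linter.unusedSectionVars false
set_option linter.style.haveILetI false

namespace CfsgLib.Amalgam

open Subgroup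
open scoped commutatorElement

variable {G : Type*} [Group G]

/-- `⟨A, x⟩` has class at most two. -/
def ClassTwoWith (A : Subgroup G) (x : G) : Prop :=
  ⁅⁅A ⊔ zpowers x, A ⊔ zpowers x⁆, A ⊔ zpowers x⁆ = ⊥

/-- `A` is one of the abelian subgroups generating `D*(S)`. -/
def IsDStarMem (S A : Subgroup G) : Prop :=
  A ≤ S ∧ IsMulCommutative A ∧ ∀ x ∈ S, ClassTwoWith A x → ∀ a ∈ A, a * x = x * a

theorem classTwoWith_mono {A B : Subgroup G} {x : G} (h : A ≤ B) (hB : ClassTwoWith B x) :
    ClassTwoWith A x :=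
  le_bot_iff.1 ((commutator_mono (commutator_mono (sup_le_sup_right h _) (sup_le_sup_right h _))
    (sup_le_sup_right h _)).trans hB.le)

theorem classTwoWith_map {H : Type*} [Group H] (f : G →* H) {A : Subgroup G} {x : G} (h : ClassTwoWith A x) :
    ClassTwoWith (A.map f) (f x) := by
  unfold ClassTwoWith at h ⊢
  rw [← MonoidHom.map_zpowers, ← Subgroup.map_sup, ← map_commutator, ← map_commutator, h, Subgroup.map_bot]

theorem dStarOf_eq (S : Subgroup G) : Cfsg.dStarOf S = sSup {A | IsDStarMem S A} := by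
  apply le_antisymm
  · refine map_le_iff_le_comap.2 (sSup_le fun A hA => map_le_iff_le_comap.1 (le_sSup ?_))
    obtain ⟨hA1, hA2⟩ := hA
    refine ⟨map_subtype_le A, CfsgLib.Complement.isMulCommutative_map _ hA1, ?_⟩
    rintro x hx h _ ⟨a, ha, rfl⟩
    have h' : ClassTwoWith A (⟨x, hx⟩ : S) := by
      refine (map_eq_bot_iff_of_injective _ S.subtype_injective).1 ?_
      rw [map_commutator, map_commutator, Subgroup.map_sup, MonoidHom.map_zpowers]
      exact h
    exact congrArg Subtype.val (hA2 ⟨x, hx⟩ h' a ha)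
  · refine sSup_le fun A hA => ?_
    obtain ⟨hAS, hAc, hA⟩ := hA
    rw [← inf_eq_left.2 hAS, ← subgroupOf_map_subtype]
    refine map_mono (le_sSup ⟨CfsgLib.Complement.isMulCommutative_comap S.subtype_injective hAc, ?_⟩)
    intro x h a ha
    have h' : ClassTwoWith A (x : G) := by
      have := classTwoWith_map S.subtype h
      rwa [subgroupOf_map_subtype, inf_eq_left.2 hAS] at this
    exact Subtype.ext (hA x x.2 h' a (mem_subgroupOf.1 ha))

variable [Finite G] {p : ℕ} [hp : Fact p.Prime]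

/-- The members centralize every normal abelian subgroup. -/
theorem mem_centralizes_normal_abelian {S A B : Subgroup G} (hS : IsPGroup p S) (hA : IsDStarMem S A)
    (hBS : B ≤ S) (hBn : S ≤ normalizer (B : Set G)) (hBc : IsMulCommutative B) :
    A ≤ centralizer (B : Set G) := by
  obtain ⟨hAS, hAc, hA⟩ := hA
  by_contra hne
  have hBB : ∀ a ∈ B, ∀ b ∈ B, a * b = b * a := fun a ha b hb =>
    congrArg Subtype.val (hBc.is_comm.comm ⟨a, ha⟩ ⟨b, hb⟩)
  have hAA : ∀ a ∈ A, ∀ b ∈ A, a * b = b * a := fun a ha b hb =>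
    congrArg Subtype.val (hAc.is_comm.comm ⟨a, ha⟩ ⟨b, hb⟩)
  set N := B ⊓ centralizer (A : Set G) with hN
  set Y := B ⊔ A with hY
  have hYN : Y ≤ centralizer (N : Set G) := sup_le
    (fun b hb => mem_centralizer_iff.2 fun n hn => hBB n (mem_inf.1 hn).1 b hb)
    (fun a ha => mem_centralizer_iff.2 fun n hn => (mem_centralizer_iff.1 (mem_inf.1 hn).2 a ha).symm)
  have hYN' : Y ≤ normalizer (N : Set G) := hYN.trans (centralizer_le_normalizer _)
  have hNY : N ≤ Y := inf_le_left.trans le_sup_left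
  haveI : (N.subgroupOf Y).Normal := (normal_subgroupOf_iff_le_normalizer hNY).2 hYN'
  haveI : (B.subgroupOf Y).Normal := (normal_subgroupOf_iff_le_normalizer le_sup_left).2
    (sup_le le_normalizer (hAS.trans hBn))
  let π := QuotientGroup.mk' (N.subgroupOf Y)
  haveI : ((B.subgroupOf Y).map π).Normal := Subgroup.Normal.map ‹_› π (QuotientGroup.mk'_surjective _)
  have hYp : IsPGroup p Y := hS.to_le (sup_le hBS hAS)
  haveI : Group.IsNilpotent (Y ⧸ N.subgroupOf Y) := (hYp.to_quotient _).isNilpotent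
  have hne' : (B.subgroupOf Y).map π ≠ ⊥ := by
    intro h
    apply hne
    intro a ha
    refine mem_centralizer_iff.2 fun b hb => ?_
    have h1 : π ⟨b, mem_sup_left hb⟩ = 1 := mem_bot.1 (h.le (mem_map_of_mem π (mem_subgroupOf.2 hb)))
    have h2 : b ∈ N := mem_subgroupOf.1 ((QuotientGroup.eq_one_iff _).1 h1)
    exact (mem_centralizer_iff.1 (mem_inf.1 h2).2 a ha).symm
  obtain ⟨q, hq, hq1⟩ := ((bot_or_exists_ne_one _).resolve_left (CfsgLib.Solvable.normal_inf_center_ne_bot _ hne'))
  obtain ⟨⟨x, hx, rfl⟩, hqc⟩ := mem_inf.1 hq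
  have hxB : (x : G) ∈ B := mem_subgroupOf.1 hx
  have hxN : (x : G) ∉ N := fun h => hq1 ((QuotientGroup.eq_one_iff x).2 (mem_subgroupOf.2 h))
  have hxa : ∀ a ∈ A, a * x * a⁻¹ * (x : G)⁻¹ ∈ N := by
    intro a ha
    have h1 := mem_center_iff.1 hqc (π ⟨a, mem_sup_right ha⟩)
    have h2 : π (⟨a, mem_sup_right ha⟩ * x * (⟨a, mem_sup_right ha⟩ : Y)⁻¹ * x⁻¹) = 1 := by
      rw [map_mul, map_mul, map_mul, map_inv, map_inv, h1, mul_inv_cancel_right, mul_inv_cancel]
    exact mem_subgroupOf.1 ((QuotientGroup.eq_one_iff _).1 h2)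
  -- `⟨A, x⟩` has class two
  set X := A ⊔ zpowers (x : G) with hX
  have hXY : X ≤ Y := sup_le le_sup_right (zpowers_le.2 x.2)
  haveI : IsMulCommutative ((X.subgroupOf Y).map π) := by
    refine ⟨⟨fun u v => Subtype.ext ?_⟩⟩
    have hgen : (X.subgroupOf Y).map π = (A.subgroupOf Y).map π ⊔ zpowers (π x) := by
      rw [hX, Subgroup.subgroupOf_sup le_sup_right (zpowers_le.2 x.2), Subgroup.map_sup,
        ← MonoidHom.map_zpowers]
      congr 2
      ext w
      simp [mem_subgroupOf, mem_zpowers_iff, Subtype.ext_iff]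
    have hcomm : (X.subgroupOf Y).map π ≤ centralizer (((X.subgroupOf Y).map π : Subgroup _) : Set (Y ⧸ N.subgroupOf Y)) := by
      rw [hgen]
      refine sup_le ?_ (zpowers_le.2 ?_)
      · rintro _ ⟨a, ha, rfl⟩
        rw [mem_centralizer_iff]
        intro w hw
        have hle : (A.subgroupOf Y).map π ⊔ zpowers (π x) ≤ centralizer ({π a} : Set (Y ⧸ N.subgroupOf Y)) := by
          refine sup_le ?_ (zpowers_le.2 ?_)
          · rintro _ ⟨b, hb, rfl⟩
            rw [mem_centralizer_singleton_iff, ← map_mul, ← map_mul]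
            exact congrArg π (Subtype.ext (hAA b (mem_subgroupOf.1 hb) a (mem_subgroupOf.1 ha)))
          · exact mem_centralizer_singleton_iff.2 (mem_center_iff.1 hqc (π a)).symm
        exact mem_centralizer_singleton_iff.1 (hle hw)
      · exact center_le_centralizer _ hqc
    exact mem_centralizer_iff.1 (hcomm v.2) u u.2
  have hXX : ⁅X, X⁆ ≤ N := by
    refine commutator_le.2 fun u hu v hv => ?_
    have h1 : π ⁅(⟨u, hXY hu⟩ : Y), ⟨v, hXY hv⟩⁆ = 1 := by
      rw [map_commutatorElement, commutatorElement_eq_one_iff_mul_comm]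
      exact congrArg Subtype.val ((‹IsMulCommutative ((X.subgroupOf Y).map π)›).is_comm.comm
        ⟨_, mem_map_of_mem π (mem_subgroupOf.2 (show ((⟨u, hXY hu⟩ : Y) : G) ∈ X from hu))⟩
        ⟨_, mem_map_of_mem π (mem_subgroupOf.2 (show ((⟨v, hXY hv⟩ : Y) : G) ∈ X from hv))⟩)
    exact mem_subgroupOf.1 ((QuotientGroup.eq_one_iff _).1 h1)
  have h2 : ClassTwoWith A x := by
    refine commutator_eq_bot_iff_le_centralizer.2 (hXX.trans fun n hn => mem_centralizer_iff.2 fun w hw => ?_)
    exact (mem_centralizer_iff.1 (hYN (hXY hw)) n hn).symm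
  exact hxN (mem_inf.2 ⟨hxB, mem_centralizer_iff.2 fun a ha => hA x (hBS hxB) h2 a ha⟩)

/-- A maximal normal abelian subgroup, inside the ambient group. -/
theorem exists_self_centralizing (S : Subgroup G) (hS : IsPGroup p S) :
    ∃ B : Subgroup G, B ≤ S ∧ S ≤ normalizer (B : Set G) ∧ IsMulCommutative B ∧
      S ⊓ centralizer (B : Set G) ≤ B := by
  obtain ⟨B, -, hBn, hBc, hB⟩ := CfsgLib.OddLocal.exists_normal_self_centralizing hS (⊥ : Subgroup S) inferInstance
  refine ⟨B.map S.subtype, map_subtype_le B, ?_, CfsgLib.Complement.isMulCommutative_map _ hBc, ?_⟩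
  · intro s hs
    refine mem_normalizer_iff_map_conj_eq.2 (eq_of_le_of_card_ge ?_ (card_map_of_injective (MulEquiv.injective _)).ge)
    rintro _ ⟨_, ⟨b, hb, rfl⟩, rfl⟩
    exact ⟨_, hBn.conj_mem b hb ⟨s, hs⟩, rfl⟩
  · rintro c ⟨hcS, hc⟩
    refine ⟨⟨c, hcS⟩, hB.le (mem_centralizer_iff.2 fun b hb => Subtype.ext ?_), rfl⟩
    exact mem_centralizer_iff.1 hc _ (mem_map_of_mem S.subtype hb)

/-- `D*(S)` itself is a member. -/
theorem isDStarMem_dStarOf {S : Subgroup G} (hS : IsPGroup p S) : IsDStarMem S (Cfsg.dStarOf S) := by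
  obtain ⟨B, hBS, hBn, hBc, hB⟩ := exists_self_centralizing S hS
  have hle : Cfsg.dStarOf S ≤ B := by
    rw [dStarOf_eq]
    exact sSup_le fun A hA => (le_inf hA.1 (mem_centralizes_normal_abelian hS hA hBS hBn hBc)).trans hB
  refine ⟨map_subtype_le _, ⟨⟨fun a b => Subtype.ext (congrArg Subtype.val
    (hBc.is_comm.comm ⟨_, hle a.2⟩ ⟨_, hle b.2⟩) : _)⟩⟩, fun x hx h a ha => ?_⟩
  have hle' : Cfsg.dStarOf S ≤ centralizer ({x} : Set G) := by
    rw [dStarOf_eq] at h ⊢
    exact sSup_le fun A hA a ha =>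
      mem_centralizer_singleton_iff.2 (hA.2.2 x hx (classTwoWith_mono (le_sSup hA) h) a ha)
  exact mem_centralizer_singleton_iff.1 (hle' ha)

theorem le_dStarOf {S A : Subgroup G} (h : IsDStarMem S A) : A ≤ Cfsg.dStarOf S := by
  rw [dStarOf_eq]; exact le_sSup h

/-- `N(S)` normalizes `D*(S)`. -/
theorem normalizer_le_normalizer_dStarOf (S : Subgroup G) :
    normalizer (S : Set G) ≤ normalizer (Cfsg.dStarOf S : Set G) := by
  intro g hg
  refine mem_normalizer_iff_map_conj_eq.2 (eq_of_le_of_card_ge ?_ (card_map_of_injective (MulEquiv.injective _)).ge)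
  refine map_le_iff_le_comap.2 ?_
  conv_lhs => rw [dStarOf_eq]
  refine sSup_le fun A hA => map_le_iff_le_comap.1 (le_dStarOf ?_)
  refine ⟨?_, CfsgLib.Complement.isMulCommutative_map _ hA.2.1, ?_⟩
  · rintro _ ⟨a, ha, rfl⟩
    exact (mem_normalizer_iff.1 hg a).1 (hA.1 ha)
  · rintro x hx h _ ⟨a, ha, rfl⟩
    have hy : g⁻¹ * x * g ∈ S := by simpa using (mem_normalizer_iff.1 (inv_mem hg) x).1 hx
    have h1 : ClassTwoWith A (g⁻¹ * x * g) := by
      have := classTwoWith_map (MulAut.conj g⁻¹).toMonoidHom h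
      rw [map_map] at this
      convert this using 1
      · conv_lhs => rw [← map_id A]
        congr 1
        ext w; simp [mul_assoc]
      · simp
    have h2 := hA.2.2 _ hy h1 a ha
    show g * a * g⁻¹ * x = x * (g * a * g⁻¹)
    calc g * a * g⁻¹ * x = g * (a * (g⁻¹ * x * g)) * g⁻¹ := by group
      _ = g * (g⁻¹ * x * g * a) * g⁻¹ := by rw [h2]
      _ = x * (g * a * g⁻¹) := by group

/-- `D*(S)` centralizes every abelian subgroup of largest order. -/
theorem dStarOf_le_centralizer_maxAb {S A : Subgroup G} (hS : IsPGroup p S)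
    (hA : A ∈ CfsgLib.Complement.maxAbIn S) : Cfsg.dStarOf S ≤ centralizer (A : Set G) := by
  classical
  set D := Cfsg.dStarOf S with hD
  obtain ⟨hDS, hDc, hDx⟩ := isDStarMem_dStarOf hS
  have hDn : S ≤ normalizer (D : Set G) := le_normalizer.trans (normalizer_le_normalizer_dStarOf S)
  have hDD : ∀ a ∈ D, ∀ b ∈ D, a * b = b * a := fun a ha b hb =>
    congrArg Subtype.val (hDc.is_comm.comm ⟨a, ha⟩ ⟨b, hb⟩)
  -- if `D` normalizes `B` it centralizes it
  have hcent : ∀ B ∈ CfsgLib.Complement.maxAbIn S, D ≤ normalizer (B : Set G) → D ≤ centralizer (B : Set G) := by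
    intro B hB hN d hd
    refine mem_centralizer_iff.2 fun x hx => (hDx x (hB.1 hx) ?_ d hd).symm
    set X := D ⊔ zpowers x with hX
    have hle : ⁅X, X⁆ ≤ D ⊓ B := by
      refine le_inf ?_ ?_
      · have hXS : X ≤ S := sup_le hDS (zpowers_le.2 (hB.1 hx))
        haveI : (D.subgroupOf X).Normal := (normal_subgroupOf_iff_le_normalizer le_sup_left).2 (hXS.trans hDn)
        haveI : IsMulCommutative (X ⧸ D.subgroupOf X) := by
          have htop : (zpowers (⟨x, mem_sup_right (mem_zpowers x)⟩ : X)).map (QuotientGroup.mk' (D.subgroupOf X)) = ⊤ := by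
            refine top_le_iff.1 fun q _ => ?_
            obtain ⟨w, rfl⟩ := QuotientGroup.mk'_surjective (D.subgroupOf X) q
            have hw : (w : G) ∈ ((D ⊔ zpowers x : Subgroup G) : Set G) := w.2
            rw [coe_mul_of_right_le_normalizer_left D (zpowers x) ((zpowers_le.2 (hB.1 hx)).trans hDn)] at hw
            obtain ⟨u, hu, v, hv, huv⟩ := hw
            obtain ⟨i, rfl⟩ := mem_zpowers_iff.1 hv
            refine ⟨_, zpow_mem (mem_zpowers _) i, ?_⟩
            rw [QuotientGroup.mk'_apply, QuotientGroup.mk'_apply, QuotientGroup.eq, mem_subgroupOf]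
            rw [Subgroup.coe_mul, InvMemClass.coe_inv, SubgroupClass.coe_zpow, ← huv]
            have : x ^ (-i) * u * x ^ i ∈ D := by
              have := (mem_normalizer_iff.1 (hDn (zpow_mem (hB.1 hx) (-i))) u).1 hu
              simpa using this
            simpa [mul_assoc] using this
          refine ⟨⟨fun a b => ?_⟩⟩
          obtain ⟨_, ⟨i, rfl⟩, rfl⟩ := htop.ge (mem_top a)
          obtain ⟨_, ⟨j, rfl⟩, rfl⟩ := htop.ge (mem_top b)
          rw [← map_mul, ← map_mul]
          exact congrArg _ (zpow_mul_comm _ i j)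
        refine commutator_le.2 fun u hu v hv => ?_
        have h1 : (QuotientGroup.mk' (D.subgroupOf X)) ⁅(⟨u, hu⟩ : X), ⟨v, hv⟩⁆ = 1 := by
          rw [map_commutatorElement, commutatorElement_eq_one_iff_mul_comm]
          exact (‹IsMulCommutative (X ⧸ D.subgroupOf X)›).is_comm.comm _ _
        exact mem_subgroupOf.1 ((QuotientGroup.eq_one_iff _).1 h1)
      · set Y := B ⊔ D with hY
        have hXY : X ≤ Y := sup_le le_sup_right (zpowers_le.2 (mem_sup_left hx))
        refine (commutator_mono hXY hXY).trans (commutator_le.2 fun u hu v hv => ?_)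
        haveI : (B.subgroupOf Y).Normal := (normal_subgroupOf_iff_le_normalizer le_sup_left).2
          (sup_le le_normalizer hN)
        have hrep : ∀ w : Y, ∃ d : D, (QuotientGroup.mk' (B.subgroupOf Y)) w =
            QuotientGroup.mk' (B.subgroupOf Y) ⟨d, mem_sup_right d.2⟩ := by
          intro w
          have hw : (w : G) ∈ ((B ⊔ D : Subgroup G) : Set G) := w.2
          rw [coe_mul_of_right_le_normalizer_left B D hN] at hw
          obtain ⟨b, hb, e, he, hbe⟩ := hw
          refine ⟨⟨e, he⟩, ?_⟩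
          rw [QuotientGroup.mk'_apply, QuotientGroup.mk'_apply, QuotientGroup.eq, mem_subgroupOf]
          have : e⁻¹ * b⁻¹ * e ∈ B := by
            simpa using (mem_normalizer_iff.1 (hN (inv_mem he)) b⁻¹).1 (inv_mem hb)
          simpa [← hbe, mul_assoc] using this
        obtain ⟨e₁, he₁⟩ := hrep ⟨u, hu⟩
        obtain ⟨e₂, he₂⟩ := hrep ⟨v, hv⟩
        have h1 : (QuotientGroup.mk' (B.subgroupOf Y)) ⁅(⟨u, hu⟩ : Y), ⟨v, hv⟩⁆ = 1 := by
          rw [map_commutatorElement, commutatorElement_eq_one_iff_mul_comm, he₁, he₂, ← map_mul, ← map_mul]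
          exact congrArg _ (Subtype.ext (hDD e₁ e₁.2 e₂ e₂.2))
        exact mem_subgroupOf.1 ((QuotientGroup.eq_one_iff _).1 h1)
    refine commutator_eq_bot_iff_le_centralizer.2 (hle.trans fun n hn => mem_centralizer_iff.2 fun w hw => ?_)
    have hXc : X ≤ centralizer ({n} : Set G) := sup_le
      (fun e he => mem_centralizer_singleton_iff.2 (hDD e he n (mem_inf.1 hn).1))
      (zpowers_le.2 (mem_centralizer_singleton_iff.2 (congrArg Subtype.val
        (hB.2.1.is_comm.comm ⟨x, hx⟩ ⟨n, (mem_inf.1 hn).2⟩))))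
    exact mem_centralizer_singleton_iff.1 (hXc hw)
  by_contra hne
  obtain ⟨B, ⟨hB, hBne⟩, hBmax⟩ := Set.exists_max_image
    {B : Subgroup G | B ∈ CfsgLib.Complement.maxAbIn S ∧ ¬ D ≤ centralizer (B : Set G)}
    (fun B => Nat.card (B ⊓ D : Subgroup G)) (Set.toFinite _) ⟨A, hA, hne⟩
  have hnN : ¬ D ≤ normalizer (B : Set G) := fun h => hBne (hcent B hB h)
  obtain ⟨B', hB', hB'N, hlt⟩ := CfsgLib.Complement.abelian_replacement hS (Or.inr fun s hs t ht => hDD s hs t ht)
    hB hDS hDn
    (fun x hx y hy z hz => by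
      rw [show x * y * x⁻¹ * y⁻¹ = 1 by rw [hDD x hx y hy]; group]; exact Commute.one_right z)
    (fun x hx y hy a ha => by
      rw [show x * y * x⁻¹ * y⁻¹ = 1 by rw [hDD x hx y hy]; group]; exact Commute.one_right a)
    hnN
  have hB'c : D ≤ centralizer (B' : Set G) := by
    by_contra h
    exact absurd (hBmax B' ⟨hB', h⟩) (not_le.2 hlt)
  refine hnN ?_
  have hle : D ≤ B' := by
    intro d hd
    have hab : IsMulCommutative (B' ⊔ zpowers d : Subgroup G) := by
      refine ⟨⟨fun a b => Subtype.ext ?_⟩⟩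
      have hc : B' ⊔ zpowers d ≤ centralizer ((B' ⊔ zpowers d : Subgroup G) : Set G) := by
        refine sup_le (fun u hu => mem_centralizer_iff.2 fun w hw => ?_) (zpowers_le.2 ?_)
        · have : B' ⊔ zpowers d ≤ centralizer ({u} : Set G) := sup_le
            (fun v hv => mem_centralizer_singleton_iff.2 (congrArg Subtype.val (hB'.2.1.is_comm.comm ⟨v, hv⟩ ⟨u, hu⟩)))
            (zpowers_le.2 (mem_centralizer_singleton_iff.2 (mem_centralizer_iff.1 (hB'c hd) u hu).symm))
          exact mem_centralizer_singleton_iff.1 (this hw)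
        · refine mem_centralizer_iff.2 fun w hw => ?_
          have : B' ⊔ zpowers d ≤ centralizer ({d} : Set G) := sup_le
            (fun v hv => mem_centralizer_singleton_iff.2 (mem_centralizer_iff.1 (hB'c hd) v hv))
            (zpowers_le.2 (mem_centralizer_singleton_iff.2 rfl))
          exact mem_centralizer_singleton_iff.1 (this hw)
      exact mem_centralizer_iff.1 (hc b.2) a a.2
    have := eq_of_le_of_card_ge (le_sup_left : B' ≤ B' ⊔ zpowers d)
      (hB'.2.2 _ (sup_le hB'.1 (zpowers_le.2 (hDS hd))) hab)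
    exact this.ge (mem_sup_right (mem_zpowers d))
  exact hle.trans hB'N

/-- The `D*`-theorem. -/
theorem dStarOf_normal (hc : centralizer (Cfsg.pCore p G : Set G) ≤ Cfsg.pCore p G)
    (hst : ∀ (P : Subgroup G) [P.Normal], IsPGroup p P → Cfsg.IsPStableOn p P) (S : Sylow p G) :
    (Cfsg.dStarOf (S : Subgroup G)).Normal := by
  set D := Cfsg.dStarOf (S : Subgroup G) with hD
  obtain ⟨hDS, hDc, hDx⟩ := isDStarMem_dStarOf (S.2)
  have hDn : (S : Subgroup G) ≤ normalizer (D : Set G) := le_normalizer.trans (normalizer_le_normalizer_dStarOf _)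
  haveI hQn : (Cfsg.pCore p G).Normal := normal_pCore
  set Q := Cfsg.pCore p G with hQ
  have hQS : Q ≤ (S : Subgroup G) := pCore_le_sylow S
  -- `D ≤ Q`
  have hDQ : D ≤ Q := by
    intro a ha
    have hquad : ⁅⁅Q, zpowers a⁆, zpowers a⁆ = ⊥ := by
      refine le_bot_iff.1 ((commutator_mono (commutator_mono le_rfl (zpowers_le.2 ha)) (zpowers_le.2 ha)).trans ?_)
      have h1 : ⁅Q, D⁆ ≤ D := by
        rw [commutator_comm]
        exact le_normalizer_iff_commutator_le_left.1 (hQS.trans hDn)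
      exact (commutator_mono h1 le_rfl).trans (le_of_eq (commutator_eq_bot_iff_le_centralizer.2 fun x hx =>
        mem_centralizer_iff.2 fun y hy => congrArg Subtype.val (hDc.is_comm.comm ⟨y, hy⟩ ⟨x, hx⟩)))
    have h2 := hst Q isPGroup_pCore a hquad
    set K := (Cfsg.pCore p (G ⧸ centralizer (Q : Set G))).comap (QuotientGroup.mk' (centralizer (Q : Set G)))
    haveI : (Cfsg.pCore p (G ⧸ centralizer (Q : Set G))).Normal := normal_pCore
    have hKp : IsPGroup p K := by
      refine IsPGroup.comap_of_ker_isPGroup (isPGroup_pCore (G := G ⧸ centralizer (Q : Set G))) _ ?_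
      rw [QuotientGroup.ker_mk']
      exact isPGroup_pCore.to_le hc
    exact le_pCore (Subgroup.Normal.comap ‹_› _) hKp h2
  set DQ := Cfsg.dStarOf Q with hDQdef
  have hDDQ : D ≤ DQ := le_dStarOf ⟨hDQ, hDc, fun x hx => hDx x (hQS hx)⟩
  haveI hDQn : DQ.Normal := normalizer_eq_top_iff.1 (top_le_iff.1
    ((normalizer_eq_top_iff.2 hQn).ge.trans (normalizer_le_normalizer_dStarOf Q)))
  set B := normalClosure (D : Set G) with hB
  have hBD : B ≤ DQ := normalClosure_le_normal hDDQ
  have hBS : B ≤ (S : Subgroup G) := hBD.trans ((map_subtype_le _).trans hQS)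
  have hBc : IsMulCommutative B := by
    have hc' := (isDStarMem_dStarOf (isPGroup_pCore (G := G) (p := p))).2.1
    exact ⟨⟨fun a b => Subtype.ext (congrArg Subtype.val (hc'.is_comm.comm ⟨_, hBD a.2⟩ ⟨_, hBD b.2⟩) : _)⟩⟩
  have hmem : IsDStarMem (S : Subgroup G) B := by
    refine ⟨hBS, hBc, fun x hx hX b hb => ?_⟩
    have hBp : IsPGroup p B := S.2.to_le hBS
    have hquad : ⁅⁅B, zpowers x⁆, zpowers x⁆ = ⊥ :=
      le_bot_iff.1 ((commutator_mono (commutator_mono le_sup_left le_sup_right) le_sup_right).trans hX.le)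
    have h2 := hst B hBp x hquad
    haveI : (Cfsg.pCore p (G ⧸ centralizer (B : Set G))).Normal := normal_pCore
    set π := QuotientGroup.mk' (centralizer (B : Set G))
    set K := (Cfsg.pCore p (G ⧸ centralizer (B : Set G))).comap π with hK
    haveI : K.Normal := Subgroup.Normal.comap ‹_› _
    -- `T = S ∩ K` is a Sylow subgroup of `K`
    set T := (S : Subgroup G) ⊓ K with hT
    obtain ⟨TS, hTS⟩ := CfsgLib.Transfer.exists_sylow_eq_subgroupOf S K
    have hmapTS : (TS : Subgroup K).map K.subtype = T := by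
      rw [hTS, subgroupOf_map_subtype, hT]
    have hfr := TS.normalizer_sup_eq_top
    rw [hmapTS] at hfr
    -- `K = C(B) T`
    have hKT : K ≤ centralizer (B : Set G) ⊔ T := by
      intro k hk
      let f : K →* Cfsg.pCore p (G ⧸ centralizer (B : Set G)) :=
        (π.comp K.subtype).codRestrict _ fun k => k.2
      have hf : Function.Surjective f := by
        rintro ⟨q, hq⟩
        obtain ⟨g, rfl⟩ := QuotientGroup.mk'_surjective (centralizer (B : Set G)) q
        exact ⟨⟨g, hq⟩, rfl⟩
      have htop : ((TS.mapSurjective hf : Sylow p (Cfsg.pCore p (G ⧸ centralizer (B : Set G)))) : Subgroup (Cfsg.pCore p (G ⧸ centralizer (B : Set G)))) = ⊤ :=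
        ((TS.mapSurjective hf).is_maximal' (isPGroup_pCore.to_subgroup ⊤) le_top).symm
      rw [Sylow.coe_mapSurjective] at htop
      obtain ⟨t, ht, hte⟩ := htop.ge (mem_top (f ⟨k, hk⟩))
      have h3 : π (t : G) = π k := congrArg Subtype.val hte
      have h4 : k * (t : G)⁻¹ ∈ centralizer (B : Set G) := by
        rw [← QuotientGroup.eq_one_iff]
        show π (k * (t : G)⁻¹) = 1
        rw [map_mul, map_inv, h3, mul_inv_cancel]
      have h5 := mul_mem_sup h4 (hmapTS ▸ mem_map_of_mem K.subtype ht)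
      simpa using h5
    have hxT : x ∈ T := mem_inf.2 ⟨hx, h2⟩
    have hconj : ∀ g : G, ∀ d ∈ D, Commute (g * d * g⁻¹) x := by
      intro g d hd
      have hg : g ∈ ((normalizer (T : Set G) ⊔ centralizer (B : Set G) : Subgroup G) : Set G) := by
        have : normalizer (T : Set G) ⊔ centralizer (B : Set G) = ⊤ := top_le_iff.1 (hfr.ge.trans
          (sup_le le_sup_left (hKT.trans (sup_le le_sup_right (le_normalizer.trans le_sup_left)))))
        rw [this]; exact mem_top g
      rw [mul_normal] at hg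
      obtain ⟨n, hn, c, hc', rfl⟩ := hg
      have hcd : c * d * c⁻¹ = d := by
        rw [← mem_centralizer_iff.1 hc' d (subset_normalClosure hd), mul_inv_cancel_right]
      have hy : n⁻¹ * x * n ∈ T := by simpa using (mem_normalizer_iff.1 (inv_mem hn) x).1 hxT
      have hX' : ClassTwoWith B (n⁻¹ * x * n) := by
        have := classTwoWith_map (MulAut.conj n⁻¹).toMonoidHom hX
        convert this using 1
        · exact (mem_normalizer_iff_map_conj_eq.1 ((normalizer_eq_top_iff.2 normalClosure_normal).ge (mem_top n⁻¹))).symm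
        · simp
      have h3 : d * (n⁻¹ * x * n) = n⁻¹ * x * n * d :=
        hDx _ (mem_inf.1 hy).1 (classTwoWith_mono (fun z hz => subset_normalClosure hz) hX') d hd
      show n * c * d * (n * c)⁻¹ * x = x * (n * c * d * (n * c)⁻¹)
      calc n * c * d * (n * c)⁻¹ * x = n * (c * d * c⁻¹) * n⁻¹ * x := by group
        _ = n * (d * (n⁻¹ * x * n)) * n⁻¹ := by rw [hcd]; group
        _ = n * (n⁻¹ * x * n * d) * n⁻¹ := by rw [h3]
        _ = x * (n * (c * d * c⁻¹) * n⁻¹) := by rw [hcd]; group
        _ = x * (n * c * d * (n * c)⁻¹) := by group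
    have hle : B ≤ centralizer ({x} : Set G) := by
      show Subgroup.closure _ ≤ _
      refine (closure_le _).2 fun w hw => ?_
      obtain ⟨d, hd, hc'⟩ := Group.mem_conjugatesOfSet_iff.1 hw
      obtain ⟨g, hg⟩ := isConj_iff.1 hc'
      rw [← hg]
      exact mem_centralizer_singleton_iff.2 (hconj g d hd)
    exact mem_centralizer_singleton_iff.1 (hle hb)
  have : D = B := le_antisymm (fun d hd => subset_normalClosure hd) (le_dStarOf hmem)
  rw [this]
  exact normalClosure_normal

end CfsgLib.Amalgam
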