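import Mathlib.GroupTheory.SpecificGroups.Dihedral
import Mathlib.GroupTheory.Sylow
import Mathlib.Algebra.Field.ZMod
import Mathlib.Tactic.FieldSimp
import Cfsg.Prelude.Def_Transfer

/-!
A transvection on a faithful module forces a dihedral quotient `D_{2q}` to be `D_6`.
-/

set_option autoImplicit false
set_option linter.unusedSectionVars false
set_option linter.style.haveILetI false

namespace CfsgLib.Amalgam.DihedralOffender

open Subgroup DihedralGroup

variable {q : ℕ}

/-- The rotations of prime degree: a nonzero one generates them all. -/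
theorem exists_pow_eq [Fact q.Prime] {k : ZMod q} (hk : k ≠ 0) (j : ZMod q) :
    ∃ m : ℕ, (r k : DihedralGroup q) ^ m = r j := by
  refine ⟨(j * k⁻¹).val, ?_⟩
  rw [r_pow]
  congr 1
  rw [ZMod.natCast_zmod_val]
  field_simp

/-- A subgroup containing a nontrivial rotation and a reflection is the whole group. -/
theorem eq_top_of_mem [Fact q.Prime] {H : Subgroup (DihedralGroup q)} {k i : ZMod q} (hk : k ≠ 0)
    (hr : r k ∈ H) (hs : sr i ∈ H) : H = ⊤ := by
  rw [eq_top_iff]
  intro x _
  have hrot : ∀ j, r j ∈ H := by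
    intro j
    obtain ⟨m, hm⟩ := exists_pow_eq hk j
    rw [← hm]; exact pow_mem hr m
  cases x with
  | r j => exact hrot j
  | sr j =>
    have : (sr j : DihedralGroup q) = sr i * r (j - i) := by rw [sr_mul_r]; congr 1; ring
    rw [this]; exact mul_mem hs (hrot _)

/-- Squares of elements of a `2`-group generate it only through reflections: an element of a
dihedral group of odd degree of `2`-power order is trivial or a reflection. -/
theorem eq_one_or_sr [Fact q.Prime] (hq : q ≠ 2) {x : DihedralGroup q} {n : ℕ}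
    (h : x ^ (2 ^ n) = 1) : x = 1 ∨ ∃ i, x = sr i := by
  cases x with
  | sr i => exact Or.inr ⟨i, rfl⟩
  | r i =>
    left
    rw [r_pow, one_def, r.injEq] at h
    rcases mul_eq_zero.1 h with h | h
    · rw [h, one_def]
    · exfalso
      rw [ZMod.natCast_eq_zero_iff] at h
      exact hq ((Nat.prime_dvd_prime_iff_eq Fact.out Nat.prime_two).1
        ((Fact.out : q.Prime).dvd_of_dvd_pow h))

variable {G : Type*} [Group G]

/-- An automorphism of odd prime order `q` fixing an index at most four subgroup pointwise forces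
`q = 3`, or is trivial. -/
theorem commute_of_pow {V W : Subgroup G} (hW : ∀ w ∈ W, w * w = 1) (hWV : W ≤ V)
    (hidx : W.relIndex V ≤ 4) (hidx0 : W.relIndex V ≠ 0) (hVab : ∀ x ∈ V, ∀ y ∈ V, x * y = y * x)
    [hq : Fact q.Prime] (hq2 : q ≠ 2) (hq3 : q ≠ 3) {d : G} (hd : d ∈ normalizer (V : Set G))
    (hdW : ∀ w ∈ W, d * w * d⁻¹ = w) (hdq : ∀ v ∈ V, d ^ q * v * (d ^ q)⁻¹ = v) :
    ∀ v ∈ V, d * v * d⁻¹ = v := by
  classical
  haveI : (W.subgroupOf V).Normal := ⟨fun n hn g => by
    have : g * n * g⁻¹ = n := by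
      apply Subtype.ext
      show (g : G) * n * (g : G)⁻¹ = n
      rw [hVab _ g.2 _ n.2, mul_inv_cancel_right]
    rwa [this]⟩
  let X := ↥V ⧸ W.subgroupOf V
  have hX : Nat.card X = W.relIndex V := rfl
  haveI : Finite X := Nat.finite_of_card_ne_zero (hX ▸ hidx0)
  let σ : ↥V → ↥V := fun v => ⟨d * v * d⁻¹, ((mem_normalizer_iff.1 hd) v).1 v.2⟩
  have hσmul : ∀ a b : ↥V, σ (a * b) = σ a * σ b := fun a b => Subtype.ext (by simp [σ])
  have hwell : ∀ a b : ↥V, a⁻¹ * b ∈ W.subgroupOf V → (σ a)⁻¹ * σ b ∈ W.subgroupOf V := by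
    intro a b h
    rw [mem_subgroupOf] at h ⊢
    have := hdW _ h
    simp only [Subgroup.coe_mul, Subgroup.coe_inv, σ] at this ⊢
    rw [show (d * (a : G) * d⁻¹)⁻¹ * (d * b * d⁻¹) = d * ((a : G)⁻¹ * b) * d⁻¹ by group, this]
    exact h
  let τ : X → X := Quotient.map' σ fun a b h => by
    rw [QuotientGroup.leftRel_apply] at h ⊢; exact hwell a b h
  have hτ : ∀ a : ↥V, τ (QuotientGroup.mk a) = QuotientGroup.mk (σ a) := fun a => rfl
  have hiter : ∀ (n : ℕ) (a : ↥V), τ^[n] (QuotientGroup.mk a) = QuotientGroup.mk (σ^[n] a) := by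
    intro n
    induction n with
    | zero => intro a; rfl
    | succ n ih => intro a; rw [Function.iterate_succ_apply, Function.iterate_succ_apply, hτ, ih]
  have hσn : ∀ (n : ℕ) (a : ↥V), ((σ^[n] a : ↥V) : G) = d ^ n * a * (d ^ n)⁻¹ := by
    intro n
    induction n with
    | zero => intro a; simp
    | succ n ih =>
      intro a
      rw [Function.iterate_succ_apply', pow_succ']
      show d * (σ^[n] a : ↥V) * d⁻¹ = _
      rw [ih]; group
  have hq' : ∀ x, τ^[q] x = x := by
    rintro ⟨a⟩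
    show τ^[q] (QuotientGroup.mk a) = QuotientGroup.mk a
    rw [hiter]
    congr 1
    exact Subtype.ext (by rw [hσn]; exact hdq a a.2)
  -- every point is fixed: a cycle of length `q ≥ 5` does not fit in four points
  have hfix : ∀ x, τ x = x := by
    intro x
    have hper : Function.IsPeriodicPt τ q x := hq' x
    rcases (Nat.dvd_prime hq.out).1 hper.minimalPeriod_dvd with h | h
    · exact (Function.minimalPeriod_eq_one_iff_isFixedPt.1 h).eq
    · exfalso
      have h5 : 5 ≤ q := by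
        have h1 := hq.out.two_le
        have h4 : q ≠ 4 := fun e => absurd (e ▸ hq.out) (by decide)
        omega
      have hinj : Function.Injective fun i : Fin q => τ^[(i : ℕ)] x := by
        intro i j hij
        exact Fin.ext ((Function.iterate_eq_iterate_iff_of_lt_minimalPeriod
          (h.symm ▸ i.2) (h.symm ▸ j.2)).1 hij)
      have := Nat.card_le_card_of_injective _ hinj
      rw [Nat.card_fin, hX] at this
      omega
  intro v hv
  have h1 : (QuotientGroup.mk (σ ⟨v, hv⟩) : X) = QuotientGroup.mk ⟨v, hv⟩ := by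
    have := hfix (QuotientGroup.mk ⟨v, hv⟩)
    rwa [hτ] at this
  rw [QuotientGroup.eq, mem_subgroupOf] at h1
  simp only [Subgroup.coe_mul, Subgroup.coe_inv, σ] at h1
  set w := (d * v * d⁻¹)⁻¹ * v with hw
  have hwV : w ∈ V := hWV h1
  have hdv : d * v * d⁻¹ = v * w := by
    rw [hVab v hv w hwV]
    have : w⁻¹ = w := inv_eq_of_mul_eq_one_right (hW w h1)
    calc d * v * d⁻¹ = v * w⁻¹ := by rw [hw]; group
      _ = w * v := by rw [this, hVab v hv w hwV]
  have hpow : ∀ n : ℕ, d ^ n * v * (d ^ n)⁻¹ = v * w ^ n := by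
    intro n
    induction n with
    | zero => simp
    | succ n ih =>
      rw [pow_succ', show d * d ^ n * v * (d * d ^ n)⁻¹ = d * (d ^ n * v * (d ^ n)⁻¹) * d⁻¹ by group,
        ih, show d * (v * w ^ n) * d⁻¹ = (d * v * d⁻¹) * (d * w ^ n * d⁻¹) by group, hdv, ← conj_pow,
        hdW w h1, pow_succ']
      group
  have hwq : w ^ q = 1 := by
    have := hpow q
    rw [hdq v hv] at this
    exact mul_left_cancel (a := v) (by rw [← this, mul_one])
  have hodd : Odd q := hq.out.odd_of_ne_two hq2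
  obtain ⟨m, hm⟩ := hodd
  rw [hm, pow_succ, pow_mul, pow_two, hW w h1, one_pow, one_mul] at hwq
  rw [hdv, hwq, mul_one]

/-- A transvection in a group with quotient `D_{2q}` by `Q` acting faithfully as the quotient on
`V` forces `q = 3`. -/
theorem eq_three [Finite G] [Fact q.Prime] (hq2 : q ≠ 2) {Q V : Subgroup G} [V.Normal]
    (φ : G →* DihedralGroup q) (hφ : Function.Surjective φ) (hker : φ.ker = Q)
    (hQV : Q ≤ centralizer (V : Set G)) (hV2 : ∀ x ∈ V, x * x = 1)
    (hfaith : centralizer (V : Set G) ≤ Q) {t : G} {i : ZMod q} (ht : φ t = sr i)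
    (htr : Nat.card V ≤ 2 * Nat.card ↥(V ⊓ centralizer ({t} : Set G))) : q = 3 := by
  by_contra hq3
  have hVab : ∀ x ∈ V, ∀ y ∈ V, x * y = y * x := by
    intro x hx y hy
    have h := hV2 _ (mul_mem hx hy)
    have := inv_eq_of_mul_eq_one_right h
    rw [mul_inv_rev, inv_eq_of_mul_eq_one_right (hV2 x hx),
      inv_eq_of_mul_eq_one_right (hV2 y hy)] at this
    exact this.symm
  obtain ⟨g, hg⟩ := hφ (r 1)
  set t' := g * t * g⁻¹ with ht'
  set W := V ⊓ centralizer ({t} : Set G) ⊓ (V ⊓ centralizer ({t'} : Set G)) with hW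
  set W1 := V ⊓ centralizer ({t} : Set G)
  set W2 := V ⊓ centralizer ({t'} : Set G)
  have h1 : W1.relIndex V ≤ 2 := by
    have := Subgroup.relIndex_mul_relIndex ⊥ W1 V bot_le inf_le_left
    rw [Subgroup.relIndex_bot_left, Subgroup.relIndex_bot_left] at this
    have hpos : 0 < Nat.card W1 := Nat.card_pos
    nlinarith
  have hW2 : W2 = W1.map (MulAut.conj g).toMonoidHom := by
    ext x
    constructor
    · intro hx
      refine ⟨g⁻¹ * x * g, ⟨?_, ?_⟩, ?_⟩
      · simpa using ‹V.Normal›.conj_mem x hx.1 g⁻¹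
      · have hx2 := mem_centralizer_singleton_iff.1 hx.2
        refine mem_centralizer_singleton_iff.2 ?_
        calc g⁻¹ * x * g * t = g⁻¹ * (x * t') * g := by rw [ht']; group
          _ = g⁻¹ * (t' * x) * g := by rw [hx2]
          _ = t * (g⁻¹ * x * g) := by rw [ht']; group
      · show g * (g⁻¹ * x * g) * g⁻¹ = x
        group
    · rintro ⟨y, hy, rfl⟩
      refine ⟨‹V.Normal›.conj_mem y hy.1 g, ?_⟩
      have hy2 := mem_centralizer_singleton_iff.1 hy.2
      refine mem_centralizer_singleton_iff.2 ?_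
      show g * y * g⁻¹ * t' = t' * (g * y * g⁻¹)
      rw [ht', conj_mul, conj_mul, hy2]
  have hVg : V.map (MulAut.conj g).toMonoidHom = V := by
    refine le_antisymm ?_ fun x hx => ⟨g⁻¹ * x * g, by simpa using ‹V.Normal›.conj_mem x hx g⁻¹, by
      show g * (g⁻¹ * x * g) * g⁻¹ = x; group⟩
    rintro _ ⟨x, hx, rfl⟩
    exact ‹V.Normal›.conj_mem x hx g
  have h2 : W2.relIndex V ≤ 2 := by
    calc W2.relIndex V = W2.relIndex (V.map (MulAut.conj g).toMonoidHom) := by rw [hVg]
      _ = W1.relIndex V := by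
          rw [hW2, Subgroup.relIndex_map_map_of_injective _ _ (MulAut.conj g).injective]
      _ ≤ 2 := h1
  have h4 : W.relIndex V ≤ 4 := (Subgroup.relIndex_inf_le).trans (Nat.mul_le_mul h1 h2)
  have h0 : W.relIndex V ≠ 0 := Subgroup.index_ne_zero_of_finite
  set d := t * t' with hd
  have hφd : φ d = r (-(2 : ZMod q)) := by
    rw [hd, ht', map_mul, map_mul, map_mul, map_inv, ht, hg, r_mul_sr]
    show sr i * (sr (i - 1) * (r 1)⁻¹) = _
    rw [show ((r 1 : DihedralGroup q))⁻¹ = r (-1) from rfl, sr_mul_r, sr_mul_sr]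
    congr 1; ring
  have hk : (-(2 : ZMod q)) ≠ 0 := by
    rw [neg_ne_zero]
    intro h
    have h' : ((2 : ℕ) : ZMod q) = 0 := by exact_mod_cast h
    exact hq2 ((Nat.prime_dvd_prime_iff_eq Fact.out Nat.prime_two).1
      ((ZMod.natCast_eq_zero_iff _ _).1 h'))
  have hdW : ∀ w ∈ W, d * w * d⁻¹ = w := by
    intro w hw
    have a := mem_centralizer_singleton_iff.1 hw.1.2
    have b := mem_centralizer_singleton_iff.1 hw.2.2
    rw [hd, show t * t' * w * (t * t')⁻¹ = t * (t' * w * t'⁻¹) * t⁻¹ by group, ← b,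
      mul_inv_cancel_right, ← a, mul_inv_cancel_right]
  have hdq : d ^ q ∈ Q := by
    rw [← hker, MonoidHom.mem_ker, map_pow, hφd, r_pow, ZMod.natCast_self, mul_zero, one_def]
  have hfix := commute_of_pow (W := W) (fun w hw => hV2 w hw.1.1) (fun w hw => hw.1.1) h4 h0 hVab
    hq2 hq3 (d := d) (Subgroup.normalizer_eq_top (V) ▸ mem_top d) hdW
    (fun v hv => by rw [← mem_centralizer_iff.1 (hQV hdq) v hv, mul_inv_cancel_right])
  have hdQ : d ∈ Q := hfaith (mem_centralizer_iff.2 fun v hv => (mul_inv_eq_iff_eq_mul.1 (hfix v hv)).symm)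
  rw [← hker, MonoidHom.mem_ker, hφd, one_def, r.injEq] at hdQ
  exact hk hdQ

/-- A `2`-subgroup not inside the kernel of a map onto `D_{2q}` contains a reflection, and is
twice its intersection with the kernel at most. -/
theorem exists_reflection [Finite G] [Fact q.Prime] (hq2 : q ≠ 2) (φ : G →* DihedralGroup q)
    {S : Subgroup G} (hS : IsPGroup 2 ↥S) :
    (∀ t ∈ S, φ t = 1 ∨ ∃ i, φ t = sr i) ∧
      ∀ t ∈ S, ∀ u ∈ S, t ∉ φ.ker → u ∉ φ.ker → t * u ∈ φ.ker := by
  have h : ∀ t ∈ S, φ t = 1 ∨ ∃ i, φ t = sr i := by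
    intro t ht
    obtain ⟨n, hn⟩ := hS ⟨t, ht⟩
    refine eq_one_or_sr hq2 (n := n) ?_
    rw [← map_pow, show t ^ 2 ^ n = 1 from congrArg Subtype.val hn, map_one]
  refine ⟨h, fun t ht u hu h1 h2 => ?_⟩
  rw [MonoidHom.mem_ker] at h1 h2 ⊢
  obtain ⟨i, hi⟩ := (h t ht).resolve_left h1
  obtain ⟨j, hj⟩ := (h u hu).resolve_left h2
  rcases h _ (mul_mem ht hu) with h3 | ⟨k, hk⟩
  · exact h3
  · rw [map_mul, hi, hj, sr_mul_sr] at hk; cases hk

end CfsgLib.Amalgam.DihedralOffender
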