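import Mathlib

/-!
# The wreath product of a dihedral group of order 8 by a group of order 2

Generators and relations give homomorphisms out of it; one non-trivial element decides injectivity.
-/

set_option autoImplicit false
set_option linter.style.haveILetI false

namespace CfsgLib.Amalgam.DihWr

open DihedralGroup

/-- The exchange of the two factors. -/
def swapHom : Multiplicative (ZMod 2) →* MulAut (DihedralGroup 4 × DihedralGroup 4) where
  toFun t := if Multiplicative.toAdd t = 0 then 1 else MulEquiv.prodComm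
  map_one' := rfl
  map_mul' a b := by
    have hall : ∀ t : Multiplicative (ZMod 2), t = 1 ∨ t = Multiplicative.ofAdd 1 := by decide
    rcases hall a with rfl | rfl <;> rcases hall b with rfl | rfl <;>
      first | rfl | (refine MulEquiv.ext fun x => ?_; rfl)

/-- The wreath product. -/
abbrev DW : Type := (DihedralGroup 4 × DihedralGroup 4) ⋊[swapHom] Multiplicative (ZMod 2)

def wR : DW := SemidirectProduct.inl (r 1, 1)
def wS : DW := SemidirectProduct.inl (sr 0, 1)
def wT : DW := SemidirectProduct.inr (Multiplicative.ofAdd 1)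
def wZ : DW := SemidirectProduct.inl (r 2, r 2)

theorem card_DW : Nat.card DW = 128 := by
  rw [SemidirectProduct.card, Nat.card_prod, Nat.card_eq_fintype_card, Nat.card_eq_fintype_card]
  rfl

instance finite_DW : Finite DW := Finite.of_equiv _ SemidirectProduct.equivProd.symm

theorem inl_pair : ∀ a b : DihedralGroup 4, (SemidirectProduct.inl (a, b) : DW) =
    SemidirectProduct.inl (a, 1) * (wT * SemidirectProduct.inl (b, 1) * wT) := by decide +kernel

theorem isPGroup_DW : IsPGroup 2 DW := IsPGroup.of_card (n := 7) (by rw [card_DW]; norm_num)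

theorem centre_DW : ∀ (a b : DihedralGroup 4) (t : Multiplicative (ZMod 2)),
    (⟨(a, b), t⟩ : DW) * wR = wR * ⟨(a, b), t⟩ → (⟨(a, b), t⟩ : DW) * wS = wS * ⟨(a, b), t⟩ →
    (⟨(a, b), t⟩ : DW) * wT = wT * ⟨(a, b), t⟩ → (⟨(a, b), t⟩ : DW) = 1 ∨ (⟨(a, b), t⟩ : DW) = wZ := by
  decide +kernel

variable {G : Type*} [Group G]

/-- The relations. -/
structure Rel (R S T : G) : Prop where
  r4 : R ^ 4 = 1
  s2 : S * S = 1
  srs : S * R * S = R⁻¹
  t2 : T * T = 1
  cRR : R * (T * R * T) = T * R * T * R
  cRS : R * (T * S * T) = T * S * T * R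
  cSS : S * (T * S * T) = T * S * T * S

variable {R S T : G}

theorem Rel.powR (h : Rel R S T) (i j : ZMod 4) : R ^ (i + j).val = R ^ i.val * R ^ j.val := by
  rw [← pow_add, ZMod.val_add, ← pow_eq_pow_mod _ h.r4]

theorem Rel.inv_powR (h : Rel R S T) (i : ZMod 4) : (R ^ i.val)⁻¹ = R ^ (-i).val := by
  rw [inv_eq_iff_mul_eq_one, ← h.powR, add_neg_cancel]; simp

theorem Rel.conjS (h : Rel R S T) (k : ℕ) : S * R ^ k * S = (R ^ k)⁻¹ := by
  induction k with
  | zero => simp [h.s2]
  | succ k ih =>
    rw [pow_succ']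
    calc S * (R * R ^ k) * S = (S * R * S) * (S * R ^ k * S) := by
          simp only [mul_assoc]; rw [← mul_assoc S S (R ^ k * S), h.s2, one_mul]
      _ = R⁻¹ * (R ^ k)⁻¹ := by rw [h.srs, ih]
      _ = (R * R ^ k)⁻¹ := by rw [← mul_inv_rev, ← pow_succ, ← pow_succ']

theorem Rel.swapS (h : Rel R S T) (k : ℕ) : R ^ k * S = S * (R ^ k)⁻¹ := by
  rw [← h.conjS k, ← mul_assoc, ← mul_assoc, h.s2, one_mul]

/-- The map of the dihedral group. -/
def dihHom (h : Rel R S T) : DihedralGroup 4 →* G where
  toFun
    | .r i => R ^ i.val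
    | .sr i => S * R ^ i.val
  map_one' := pow_zero R
  map_mul' := by
    rintro (i | i) (j | j)
    · show R ^ (i + j).val = _
      rw [h.powR]
    · show S * R ^ (j - i).val = R ^ i.val * (S * R ^ j.val)
      rw [← mul_assoc, h.swapS, mul_assoc, h.inv_powR, ← h.powR, sub_eq_neg_add]
    · show S * R ^ (i + j).val = S * R ^ i.val * R ^ j.val
      rw [h.powR, mul_assoc]
    · show R ^ (j - i).val = S * R ^ i.val * (S * R ^ j.val)
      rw [← mul_assoc, h.conjS, h.inv_powR, ← h.powR, sub_eq_neg_add]

theorem dihHom_r (h : Rel R S T) (i : ZMod 4) : dihHom h (r i) = R ^ i.val := rfl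

theorem dihHom_sr (h : Rel R S T) (i : ZMod 4) : dihHom h (sr i) = S * R ^ i.val := rfl

theorem Rel.conj_mem (h : Rel R S T) (x : DihedralGroup 4) :
    Commute R (T * dihHom h x * T) ∧ Commute S (T * dihHom h x * T) := by
  have hTT : ∀ a b : G, T * (a * b) * T = (T * a * T) * (T * b * T) := fun a b => by
    simp only [mul_assoc]; rw [← mul_assoc T T (b * T), h.t2, one_mul]
  have hpow : ∀ k : ℕ, T * R ^ k * T = (T * R * T) ^ k := by
    intro k
    induction k with
    | zero => simp [h.t2]
    | succ k ih => rw [pow_succ, pow_succ, hTT, ih]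
  have hSR : Commute S (T * R * T) := by
    have h1 : Commute (T * R * T) (T * (T * S * T) * T) := by
      have := congrArg (fun y => T * y * T) h.cRS
      exact (hTT _ _).symm.trans (this.trans (hTT _ _))
    have h2 : T * (T * S * T) * T = S := by
      simp only [mul_assoc]; rw [h.t2, mul_one, ← mul_assoc, h.t2, one_mul]
    rw [h2] at h1
    exact h1.symm
  cases x with
  | r i =>
    rw [dihHom_r, hpow]
    exact ⟨Commute.pow_right h.cRR _, hSR.pow_right _⟩
  | sr i =>
    rw [dihHom_sr, hTT, hpow]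
    exact ⟨Commute.mul_right h.cRS (Commute.pow_right h.cRR _),
      Commute.mul_right h.cSS (hSR.pow_right _)⟩

theorem Rel.factors_commute (h : Rel R S T) (x y : DihedralGroup 4) :
    Commute (dihHom h x) (T * dihHom h y * T) := by
  obtain ⟨h1, h2⟩ := h.conj_mem y
  cases x with
  | r i => exact h1.pow_left _
  | sr i => exact h2.mul_left (h1.pow_left _)

/-- Conjugation by `T` after the dihedral map. -/
def dihHom' (h : Rel R S T) : DihedralGroup 4 →* G where
  toFun x := T * dihHom h x * T
  map_one' := by rw [map_one, mul_one, h.t2]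
  map_mul' a b := by
    rw [map_mul]; simp only [mul_assoc]; rw [← mul_assoc T T (dihHom h b * T), h.t2, one_mul]

theorem dihHom'_apply (h : Rel R S T) (x : DihedralGroup 4) : dihHom' h x = T * dihHom h x * T := rfl

/-- The map of `Multiplicative (ZMod 2)`. -/
def swHom (h : Rel R S T) : Multiplicative (ZMod 2) →* G where
  toFun t := if Multiplicative.toAdd t = 0 then 1 else T
  map_one' := if_pos rfl
  map_mul' a b := by
    have hall : ∀ t : Multiplicative (ZMod 2), t = 1 ∨ t = Multiplicative.ofAdd 1 := by decide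
    rcases hall a with rfl | rfl <;> rcases hall b with rfl | rfl
    · simp
    · simp
    · simp
    · show (1 : G) = T * T
      rw [h.t2]

/-- The homomorphism of the wreath product given by the relations. -/
def hom (h : Rel R S T) : DW →* G :=
  SemidirectProduct.lift ((dihHom h).noncommCoprod (dihHom' h) h.factors_commute) (swHom h) (by
    intro t
    refine MonoidHom.ext fun x => ?_
    obtain ⟨a, b⟩ := x
    have hall : ∀ t : Multiplicative (ZMod 2), t = 1 ∨ t = Multiplicative.ofAdd 1 := by decide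
    have hTi : T⁻¹ = T := inv_eq_of_mul_eq_one_right h.t2
    rcases hall t with rfl | rfl
    · simp
    · show dihHom h b * (T * dihHom h a * T) = MulAut.conj T (dihHom h a * (T * dihHom h b * T))
      rw [MulAut.conj_apply, hTi]
      calc dihHom h b * (T * dihHom h a * T) = T * dihHom h a * T * dihHom h b :=
            (h.factors_commute b a).eq
        _ = T * (dihHom h a * (T * dihHom h b * T)) * T := by
            simp only [mul_assoc]; rw [h.t2, mul_one])

theorem hom_wR (h : Rel R S T) : hom h wR = R := by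
  rw [hom, wR, SemidirectProduct.lift_inl]
  show dihHom h (r 1) * dihHom' h 1 = R
  rw [map_one, mul_one, dihHom_r]
  exact pow_one R

theorem hom_wS (h : Rel R S T) : hom h wS = S := by
  rw [hom, wS, SemidirectProduct.lift_inl]
  show dihHom h (sr 0) * dihHom' h 1 = S
  rw [map_one, mul_one, dihHom_sr, ZMod.val_zero, pow_zero, mul_one]

theorem hom_wT (h : Rel R S T) : hom h wT = T := by
  rw [hom, wT, SemidirectProduct.lift_inr]; rfl

theorem hom_wZ (h : Rel R S T) : hom h wZ = R ^ 2 * (T * R ^ 2 * T) := by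
  rw [hom, wZ, SemidirectProduct.lift_inl]
  show dihHom h (r 2) * dihHom' h (r 2) = _
  rw [dihHom'_apply, dihHom_r]
  rfl

/-- Homomorphisms agreeing on the generators are equal. -/
theorem hom_ext {H : Type*} [Group H] (f g : DW →* H) (hR : f wR = g wR) (hS : f wS = g wS)
    (hT : f wT = g wT) : f = g := by
  have key : ∀ x : DW, f x = g x → ∀ y : DW, f y = g y → f (x * y) = g (x * y) :=
    fun x hx y hy => by rw [map_mul, map_mul, hx, hy]
  have hr : ∀ k : ℕ, f (wR ^ k) = g (wR ^ k) := fun k => by rw [map_pow, map_pow, hR]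
  have hfst : ∀ a : DihedralGroup 4,
      f (SemidirectProduct.inl (a, 1)) = g (SemidirectProduct.inl (a, 1)) := by
    intro a
    have hrpow : ∀ i : ZMod 4, (SemidirectProduct.inl ((r i, 1) : DihedralGroup 4 × DihedralGroup 4) : DW) =
        wR ^ i.val := fun i => by
      rw [wR, ← map_pow, Prod.pow_mk, r_one_pow, one_pow, ZMod.natCast_zmod_val]
    cases a with
    | r i => rw [hrpow]; exact hr _
    | sr i =>
      have : (SemidirectProduct.inl ((sr i, 1) : DihedralGroup 4 × DihedralGroup 4) : DW) = wS * wR ^ i.val := by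
        rw [← hrpow, wS, ← map_mul, Prod.mk_mul_mk, sr_mul_r, zero_add, one_mul]
      rw [this]
      exact key _ hS _ (hr _)
  refine SemidirectProduct.hom_ext (MonoidHom.ext fun x => ?_) (MonoidHom.ext fun t => ?_)
  · obtain ⟨a, b⟩ := x
    show f (SemidirectProduct.inl (a, b)) = g (SemidirectProduct.inl (a, b))
    rw [inl_pair]
    exact key _ (hfst a) _ (key _ (key _ hT _ (hfst b)) _ hT)
  · have hall : ∀ t : Multiplicative (ZMod 2), t = 1 ∨ t = Multiplicative.ofAdd 1 := by decide
    rcases hall t with rfl | rfl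
    · simp
    · exact hT

theorem hom_injective (h : Rel R S T) (hne : R ^ 2 * (T * R ^ 2 * T) ≠ 1) :
    Function.Injective (hom h) := by
  haveI : Fact (Nat.Prime 2) := ⟨Nat.prime_two⟩
  haveI : Group.IsNilpotent DW := isPGroup_DW.isNilpotent
  rw [← MonoidHom.ker_eq_bot_iff]
  by_contra hk
  obtain ⟨c, hc, hc1⟩ := (Subgroup.bot_or_exists_ne_one _).resolve_left
    (fun e => hk e : (hom h).ker ≠ ⊥)
  obtain ⟨n, hn⟩ := Group.IsNilpotent.nilpotent DW
  have key : ∀ i, (hom h).ker ⊓ Subgroup.upperCentralSeries DW i = ⊥ := by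
    intro i
    induction i with
    | zero => rw [Subgroup.upperCentralSeries_zero, inf_bot_eq]
    | succ i ih =>
      rw [Subgroup.eq_bot_iff_forall]
      rintro ⟨⟨a, b⟩, t⟩ ⟨hx, hxu⟩
      have hcen : ∀ y : DW, (⟨(a, b), t⟩ : DW) * y = y * ⟨(a, b), t⟩ := by
        intro y
        have h1 : (⟨(a, b), t⟩ : DW) * y * (⟨(a, b), t⟩ : DW)⁻¹ * y⁻¹ ∈
            (hom h).ker ⊓ Subgroup.upperCentralSeries DW i := by
          refine ⟨?_, (Subgroup.mem_upperCentralSeries_succ_iff.mp hxu) y⟩
          have hx1 : hom h (⟨(a, b), t⟩ : DW) = 1 := hx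
          show hom h ((⟨(a, b), t⟩ : DW) * y * (⟨(a, b), t⟩ : DW)⁻¹ * y⁻¹) = 1
          rw [map_mul, map_mul, map_mul, map_inv, map_inv, hx1]
          simp
        rw [ih, Subgroup.mem_bot, mul_inv_eq_one, mul_inv_eq_iff_eq_mul] at h1
        exact h1
      rcases centre_DW a b t (hcen _) (hcen _) (hcen _) with e | e
      · exact e
      · exact absurd ((hom_wZ h).symm.trans (e ▸ MonoidHom.mem_ker.1 hx)) hne
  have := key n
  rw [hn, inf_top_eq] at this
  exact hk this

theorem range_isSylow [Finite G] (h : Rel R S T) (hne : R ^ 2 * (T * R ^ 2 * T) ≠ 1)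
    {m : ℕ} (hG : Nat.card G = 128 * m) (hm : Odd m) (P : Sylow 2 G) :
    Nonempty (DW ≃* (P : Subgroup G)) := by
  haveI : Fact (Nat.Prime 2) := ⟨Nat.prime_two⟩
  have hinj := hom_injective h hne
  have hc : Nat.card (hom h).range = 128 := by
    rw [← Nat.card_congr (MonoidHom.ofInjective hinj).toEquiv, card_DW]
  have hf : (Nat.card G).factorization 2 = 7 := by
    rw [hG, show (128 : ℕ) = 2 ^ 7 by norm_num, Nat.factorization_mul (by positivity) hm.pos.ne',
      Finsupp.add_apply, Nat.factorization_pow, Finsupp.smul_apply, Nat.prime_two.factorization_self,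
      Nat.factorization_eq_zero_of_not_dvd (fun hd => by
        obtain ⟨k, rfl⟩ := hd; exact (Nat.not_odd_iff_even.2 ⟨k, by ring⟩) hm)]
    rfl
  let Q : Sylow 2 G := Sylow.ofCard (hom h).range (by rw [hc, hf]; norm_num)
  exact ⟨(MonoidHom.ofInjective hinj).trans (Sylow.equiv Q P)⟩

theorem ker_isSylow [Finite G] {H : Type*} [Group H] [Finite H] (χ : G →* H) (N : Subgroup G)
    (hN : N = χ.ker) (h : Rel R S T) (hne : R ^ 2 * (T * R ^ 2 * T) ≠ 1)
    {m : ℕ} (hG : Nat.card N = 64 * m) (hm : Odd m)
    (hcard : Nat.card (χ.comp (hom h)).ker = 64) (P : Sylow 2 N) :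
    Nonempty ((χ.comp (hom h)).ker ≃* (P : Subgroup N)) := by
  haveI : Fact (Nat.Prime 2) := ⟨Nat.prime_two⟩
  let ι : (χ.comp (hom h)).ker →* N :=
    ((hom h).comp (χ.comp (hom h)).ker.subtype).codRestrict N fun x => hN ▸ x.2
  have hinj : Function.Injective ι := fun x y e =>
    Subtype.ext (hom_injective h hne (congrArg Subtype.val e))
  have hc : Nat.card ι.range = 64 := by
    rw [← Nat.card_congr (MonoidHom.ofInjective hinj).toEquiv, hcard]
  have hf : (Nat.card N).factorization 2 = 6 := by
    rw [hG, show (64 : ℕ) = 2 ^ 6 by norm_num, Nat.factorization_mul (by positivity) hm.pos.ne',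
      Finsupp.add_apply, Nat.factorization_pow, Finsupp.smul_apply, Nat.prime_two.factorization_self,
      Nat.factorization_eq_zero_of_not_dvd (fun hd => by
        obtain ⟨k, rfl⟩ := hd; exact (Nat.not_odd_iff_even.2 ⟨k, by ring⟩) hm)]
    rfl
  let Q : Sylow 2 N := Sylow.ofCard ι.range (by rw [hc, hf]; norm_num)
  exact ⟨(MonoidHom.ofInjective hinj).trans (Sylow.equiv Q P)⟩

end CfsgLib.Amalgam.DihWr
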