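import Cfsg.Agent.Lib.Amalgam.AltOvergroup

/-!
Groups with quasisimple generalized Fitting subgroup containing paired double transpositions.
-/

set_option autoImplicit false
set_option linter.unusedSectionVars false

namespace CfsgLib.Amalgam

open Equiv Equiv.Perm Subgroup

variable {α : Type*} [Fintype α] [DecidableEq α]

/-- Products of two transpositions with disjoint supports. -/
def IsDT (d : Perm α) : Prop :=
  ∃ a b e f : α, a ≠ b ∧ e ≠ f ∧ a ≠ e ∧ a ≠ f ∧ b ≠ e ∧ b ≠ f ∧ d = swap a b * swap e f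

theorem commute_swap_of_ne {a b e f : α} (h1 : a ≠ e) (h2 : a ≠ f) (h3 : b ≠ e) (h4 : b ≠ f) :
    swap a b * swap e f = swap e f * swap a b := by
  by_cases hab : a = b
  · subst hab; simp [swap_self, ← Perm.one_def]
  by_cases hef : e = f
  · subst hef; simp [swap_self, ← Perm.one_def]
  refine (Disjoint.commute ?_).eq
  rw [disjoint_iff_disjoint_support, support_swap hab, support_swap hef]
  simp [h1, h2, h3, h4, Ne.symm h1, Ne.symm h2, Ne.symm h3, Ne.symm h4]

theorem conj_swap (g : Perm α) (a b : α) : g * swap a b * g⁻¹ = swap (g a) (g b) := by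
  rw [mul_swap_eq_swap_mul, mul_inv_cancel_right]

theorem IsDT.conj {d : Perm α} (hd : IsDT d) (g : Perm α) : IsDT (g * d * g⁻¹) := by
  obtain ⟨a, b, e, f, h1, h2, h3, h4, h5, h6, rfl⟩ := hd
  refine ⟨g a, g b, g e, g f, g.injective.ne h1, g.injective.ne h2, g.injective.ne h3,
    g.injective.ne h4, g.injective.ne h5, g.injective.ne h6, ?_⟩
  rw [← conj_swap, ← conj_swap]
  simp [mul_assoc]

theorem IsDT.support_eq {a b e f : α} (h1 : a ≠ b) (h2 : e ≠ f) (h3 : a ≠ e) (h4 : a ≠ f) (h5 : b ≠ e)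
    (h6 : b ≠ f) : (swap a b * swap e f).support = {a, b} ∪ {e, f} := by
  rw [Disjoint.support_mul, support_swap h1, support_swap h2]
  rw [disjoint_iff_disjoint_support, support_swap h1, support_swap h2]
  simp [h3, h4, h5, h6, Ne.symm h3, Ne.symm h4, Ne.symm h5, Ne.symm h6]

theorem IsDT.card_support {d : Perm α} (hd : IsDT d) : d.support.card = 4 := by
  obtain ⟨a, b, e, f, h1, h2, h3, h4, h5, h6, rfl⟩ := hd
  rw [IsDT.support_eq h1 h2 h3 h4 h5 h6, Finset.card_union_of_disjoint, Finset.card_pair h1,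
    Finset.card_pair h2]
  simp [h3, h4, h5, h6, Ne.symm h3, Ne.symm h4, Ne.symm h5, Ne.symm h6]

theorem IsDT.exists_rep {d : Perm α} (hd : IsDT d) {x : α} (hx : x ∈ d.support) :
    ∃ b e f : α, x ≠ b ∧ e ≠ f ∧ x ≠ e ∧ x ≠ f ∧ b ≠ e ∧ b ≠ f ∧ d = swap x b * swap e f := by
  obtain ⟨a, b, e, f, h1, h2, h3, h4, h5, h6, rfl⟩ := hd
  rw [IsDT.support_eq h1 h2 h3 h4 h5 h6] at hx
  simp only [Finset.mem_union, Finset.mem_insert, Finset.mem_singleton] at hx
  rcases hx with (rfl | rfl) | (rfl | rfl)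
  · exact ⟨b, e, f, h1, h2, h3, h4, h5, h6, rfl⟩
  · exact ⟨a, e, f, h1.symm, h2, h5, h6, h3, h4, by rw [swap_comm a x]⟩
  · exact ⟨f, a, b, h2, h1, h3.symm, h5.symm, h4.symm, h6.symm, commute_swap_of_ne h3 h4 h5 h6⟩
  · exact ⟨e, a, b, h2.symm, h1, h4.symm, h6.symm, h3.symm, h5.symm,
      by rw [commute_swap_of_ne h3 h4 h5 h6, swap_comm e x]⟩

/-- Two double transpositions whose supports meet in one point give a 3-cycle. -/
theorem IsDT.exists_threeCycle {d d' : Perm α} (hd : IsDT d) (hd' : IsDT d')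
    (h : (d.support ∩ d'.support).card = 1) :
    (d * d' * (d * d')).IsThreeCycle ∧ (d * d' * (d * d')).support ⊆ d.support ∪ d'.support := by
  obtain ⟨x, hx⟩ := Finset.card_eq_one.1 h
  have hx' := Finset.mem_inter.1 (hx.ge (Finset.mem_singleton_self x))
  obtain ⟨b, e, f, h1, h2, h3, h4, h5, h6, rfl⟩ := hd.exists_rep hx'.1
  obtain ⟨g, k, l, g1, g2, g3, g4, g5, g6, rfl⟩ := hd'.exists_rep hx'.2
  rw [IsDT.support_eq h1 h2 h3 h4 h5 h6, IsDT.support_eq g1 g2 g3 g4 g5 g6] at hx
  have key : ∀ y z, y ∈ ({x, b} ∪ {e, f} : Finset α) → z ∈ ({x, g} ∪ {k, l} : Finset α) → y ≠ x → y ≠ z := by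
    intro y z hy hz hyx hyz
    subst hyz
    exact hyx (Finset.mem_singleton.1 (hx.le (Finset.mem_inter.2 ⟨hy, hz⟩)))
  have hbg : b ≠ g := key b g (by simp) (by simp) h1.symm
  have hbk : b ≠ k := key b k (by simp) (by simp) h1.symm
  have hbl : b ≠ l := key b l (by simp) (by simp) h1.symm
  have heg : e ≠ g := key e g (by simp) (by simp) h3.symm
  have hek : e ≠ k := key e k (by simp) (by simp) h3.symm
  have hel : e ≠ l := key e l (by simp) (by simp) h3.symm
  have hfg : f ≠ g := key f g (by simp) (by simp) h4.symm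
  have hfk : f ≠ k := key f k (by simp) (by simp) h4.symm
  have hfl : f ≠ l := key f l (by simp) (by simp) h4.symm
  have e1 : Commute (swap e f) (swap x g) := commute_swap_of_ne h3.symm heg h4.symm hfg
  have e2 : Commute (swap e f) (swap k l) := commute_swap_of_ne hek hel hfk hfl
  have e3 : Commute (swap e f) (swap x b) := commute_swap_of_ne h3.symm h5.symm h4.symm h6.symm
  have e4 : Commute (swap k l) (swap x b) := commute_swap_of_ne g3.symm hbk.symm g4.symm hbl.symm
  have e5 : Commute (swap k l) (swap x g) := commute_swap_of_ne g3.symm g5.symm g4.symm g6.symm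
  set c := swap x b * swap x g with hc
  set r := swap e f * swap k l with hr
  have hcr : Commute c r :=
    (((e3.symm).mul_left e1.symm).mul_right ((e4.symm).mul_left e5.symm))
  have hprod : swap x b * swap e f * (swap x g * swap k l) = c * r := by
    rw [hc, hr, mul_assoc, ← mul_assoc (swap e f) (swap x g) (swap k l), e1.eq]
    simp only [mul_assoc]
  have hrr : r * r = 1 := by
    rw [hr, mul_assoc, ← mul_assoc (swap k l) (swap e f), e2.symm.eq, mul_assoc, swap_mul_self,
      mul_one, swap_mul_self]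
  have h3c : c.IsThreeCycle := isThreeCycle_swap_mul_swap_same h1 g1 hbg
  have hsq : c * r * (c * r) = c * c := by
    rw [← sq, hcr.mul_pow, sq, sq, hrr, mul_one]
  rw [hprod, hsq]
  refine ⟨h3c.isThreeCycle_sq, ?_⟩
  rw [IsDT.support_eq h1 h2 h3 h4 h5 h6, IsDT.support_eq g1 g2 g3 g4 g5 g6]
  refine (support_mul_le c c).trans (sup_le ?_ ?_) <;>
  · refine (support_mul_le _ _).trans (sup_le ?_ ?_)
    · rw [support_swap h1]; intro y hy; simp only [Finset.mem_union]; exact Or.inl (Or.inl hy)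
    · rw [support_swap g1]; intro y hy; simp only [Finset.mem_union]; exact Or.inr (Or.inl hy)

/-- Commuting 3-cycles have equal or disjoint supports. -/
theorem threeCycle_support_eq_or_disjoint {c c' : Perm α} (hc : c.IsThreeCycle) (hc' : c'.IsThreeCycle)
    (h : c * c' = c' * c) : c.support = c'.support ∨ ∀ x ∈ c.support, x ∉ c'.support := by
  by_cases hmeet : ∃ x ∈ c.support, x ∈ c'.support
  · left
    obtain ⟨x, hx, hx'⟩ := hmeet
    have hpres : ∀ y, y ∈ c.support → c' y ∈ c.support := by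
      intro y hy
      rw [mem_support] at hy ⊢
      intro he
      apply hy
      apply c'.injective
      rw [← Perm.mul_apply, ← h, Perm.mul_apply, he]
    have hsub : c'.support ⊆ c.support := by
      intro y hy
      obtain ⟨i, hi⟩ := hc'.isCycle.exists_pow_eq (mem_support.1 hx') (mem_support.1 hy)
      rw [← hi]
      clear hi
      induction i with
      | zero => simpa using hx
      | succ i ih => rw [pow_succ', Perm.mul_apply]; exact hpres _ ih
    exact (Finset.eq_of_subset_of_card_le hsub (by rw [hc.card_support, hc'.card_support])).symm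
  · push Not at hmeet
    exact Or.inr hmeet

section Pairs

variable {m : ℕ} (ι : Fin m × ZMod 2 ↪ α)

/-- The `j`-th pair. -/
def pairSet (j : Fin m) : Finset α := {ι (j, 0), ι (j, 1)}

/-- The double transposition on two pairs. -/
def pairDT (i j : Fin m) : Perm α := swap (ι (i, 0)) (ι (i, 1)) * swap (ι (j, 0)) (ι (j, 1))

/-- The permutation exchanging two pairs. -/
def pairSwap (i j : Fin m) : Perm α := swap (ι (i, 0)) (ι (j, 0)) * swap (ι (i, 1)) (ι (j, 1))

theorem zmodTwo_eq_add {a b : ZMod 2} (h : a ≠ b) : b = 1 + a := by revert a b; decide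

theorem zmodTwo_flip (i k : ZMod 2) : k + 1 = i ↔ ¬ k = i := by revert i k; decide

theorem zmodTwo_sep {i k l : ZMod 2} (h : l ≠ k) : ¬ (l = i ↔ k = i) := by revert i k l; decide

theorem mem_pairSet {j : Fin m} {x : α} : x ∈ pairSet ι j ↔ ∃ k, ι (j, k) = x := by
  constructor
  · intro h
    simp only [pairSet, Finset.mem_insert, Finset.mem_singleton] at h
    rcases h with rfl | rfl <;> exact ⟨_, rfl⟩
  · rintro ⟨k, rfl⟩
    fin_cases k
    · exact Finset.mem_insert_self _ _
    · exact Finset.mem_insert_of_mem (Finset.mem_singleton_self _)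

theorem card_pairSet (j : Fin m) : (pairSet ι j).card = 2 :=
  Finset.card_pair fun h => zero_ne_one (α := ZMod 2) (Prod.ext_iff.1 (ι.injective h)).2

theorem pairSet_disjoint {i j : Fin m} (h : i ≠ j) : _root_.Disjoint (pairSet ι i) (pairSet ι j) := by
  rw [Finset.disjoint_left]
  intro x hx hx'
  obtain ⟨k, rfl⟩ := (mem_pairSet ι).1 hx
  obtain ⟨l, hl⟩ := (mem_pairSet ι).1 hx'
  exact h (Prod.ext_iff.1 (ι.injective hl)).1.symm

theorem pairDT_isDT {i j : Fin m} (h : i ≠ j) : IsDT (pairDT ι i j) := by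
  refine ⟨_, _, _, _, ?_, ?_, ?_, ?_, ?_, ?_, rfl⟩ <;>
  · intro e
    have := Prod.ext_iff.1 (ι.injective e)
    simp_all

theorem support_pairDT {i j : Fin m} (h : i ≠ j) :
    (pairDT ι i j).support = pairSet ι i ∪ pairSet ι j := by
  refine IsDT.support_eq ?_ ?_ ?_ ?_ ?_ ?_ <;>
  · intro e
    have := Prod.ext_iff.1 (ι.injective e)
    simp_all

theorem pairDT_apply {i j : Fin m} (h : i ≠ j) (l : Fin m) (k : ZMod 2) :
    pairDT ι i j (ι (l, k)) = ι (l, if l = i ∨ l = j then k + 1 else k) := by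
  have hne : ∀ a b : Fin m, ∀ c d : ZMod 2, (a ≠ b ∨ c ≠ d) → ι (a, c) ≠ ι (b, d) := by
    intro a b c d h e
    have := Prod.ext_iff.1 (ι.injective e)
    tauto
  rw [pairDT, Perm.mul_apply]
  by_cases hj : l = j
  · subst hj
    fin_cases k
    · show swap _ _ (swap (ι (l, 0)) (ι (l, 1)) (ι (l, 0))) = _
      rw [swap_apply_left, swap_apply_of_ne_of_ne (hne _ _ _ _ (Or.inl h.symm))
        (hne _ _ _ _ (Or.inl h.symm))]
      simp
      exact (zero_add (1 : ZMod 2)).symm
    · show swap _ _ (swap (ι (l, 0)) (ι (l, 1)) (ι (l, 1))) = _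
      rw [swap_apply_right, swap_apply_of_ne_of_ne (hne _ _ _ _ (Or.inl h.symm))
        (hne _ _ _ _ (Or.inl h.symm))]
      simp
      rfl
  · rw [swap_apply_of_ne_of_ne (hne _ _ _ _ (Or.inl hj)) (hne _ _ _ _ (Or.inl hj))]
    by_cases hi : l = i
    · subst hi
      fin_cases k
      · show swap (ι (l, 0)) (ι (l, 1)) (ι (l, 0)) = _
        simp
        exact (zero_add (1 : ZMod 2)).symm
      · show swap (ι (l, 0)) (ι (l, 1)) (ι (l, 1)) = _
        simp
        rfl
    · rw [swap_apply_of_ne_of_ne (hne _ _ _ _ (Or.inl hi)) (hne _ _ _ _ (Or.inl hi))]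
      simp [hi, hj]

variable {H Q : Subgroup (Perm α)}

/-- The count of support points in each pair for a double transposition. -/
theorem pair_count (J : Finset (Fin m)) (hu : ∀ i ∈ J, ∀ j ∈ J, i ≠ j → pairDT ι i j ∈ H)
    {d : Perm α} (hd : d ∈ H) (hdt : IsDT d)
    (hno : ∀ c ∈ H, c.IsThreeCycle → ∀ i ∈ J, ∀ j ∈ J, ¬ c.support ⊆ d.support ∪ (pairSet ι i ∪ pairSet ι j)) :
    (∀ j ∈ J, (d.support ∩ pairSet ι j).card ≠ 1) ∨
      (J.card ≤ (d.support ∩ J.biUnion (pairSet ι)).card ∧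
        ∀ j ∈ J, 1 ≤ (d.support ∩ pairSet ι j).card) ∧
      (d.support ∩ J.biUnion (pairSet ι)).card = ∑ j ∈ J, (d.support ∩ pairSet ι j).card := by
  have hsum : (d.support ∩ J.biUnion (pairSet ι)).card = ∑ j ∈ J, (d.support ∩ pairSet ι j).card := by
    rw [Finset.inter_biUnion, Finset.card_biUnion]
    intro i _ j _ hij
    exact (pairSet_disjoint ι hij).mono Finset.inter_subset_right Finset.inter_subset_right
  by_cases hall : ∀ j ∈ J, (d.support ∩ pairSet ι j).card ≠ 1
  · exact Or.inl hall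
  right
  push Not at hall
  obtain ⟨j, hj, hj1⟩ := hall
  have hge : ∀ i ∈ J, 1 ≤ (d.support ∩ pairSet ι i).card := by
    intro i hi
    by_contra h0
    have hij : i ≠ j := by rintro rfl; omega
    have h1 : (d.support ∩ (pairDT ι i j).support).card = 1 := by
      rw [support_pairDT ι hij, Finset.inter_union_distrib_left, Finset.card_union_of_disjoint
        ((pairSet_disjoint ι hij).mono Finset.inter_subset_right Finset.inter_subset_right), hj1]
      omega
    obtain ⟨h3, hsup⟩ := hdt.exists_threeCycle (pairDT_isDT ι hij) h1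
    rw [support_pairDT ι hij] at hsup
    have hmem := mul_mem hd (hu i hi j hj hij)
    exact hno _ (mul_mem hmem hmem) h3 i hi j hj hsup
  refine ⟨⟨?_, hge⟩, hsum⟩
  rw [hsum]
  calc J.card = ∑ _j ∈ J, 1 := by simp
    _ ≤ _ := Finset.sum_le_sum hge

/-- `Q` cannot fix every pair. -/
theorem QsFitting.not_fix_pairs (hQ : QsFitting H Q) (J : Finset (Fin m))
    (hrest : ∀ q ∈ Q, ∀ x, x ∉ J.biUnion (pairSet ι) → q x = x)
    (hfix : ∀ q ∈ Q, ∀ j ∈ J, ∀ k, ∃ l, q (ι (j, k)) = ι (j, l)) : False := by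
  obtain ⟨a, ha, b, hb, hab⟩ := hQ.not_abelian
  refine hab (Equiv.ext fun x => ?_)
  rw [Perm.mul_apply, Perm.mul_apply]
  by_cases hx : x ∈ J.biUnion (pairSet ι)
  · obtain ⟨j, hj, hxj⟩ := Finset.mem_biUnion.1 hx
    obtain ⟨k, rfl⟩ := (mem_pairSet ι).1 hxj
    obtain ⟨a0, ha0⟩ := hfix a ha j hj 0
    obtain ⟨a1, ha1⟩ := hfix a ha j hj 1
    obtain ⟨b0, hb0⟩ := hfix b hb j hj 0
    obtain ⟨b1, hb1⟩ := hfix b hb j hj 1
    have na : a0 ≠ a1 := fun e => by
      have := (Prod.ext_iff.1 (ι.injective (a.injective (ha0.trans (e ▸ ha1.symm))))).2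
      exact zero_ne_one this
    have nb : b0 ≠ b1 := fun e => by
      have := (Prod.ext_iff.1 (ι.injective (b.injective (hb0.trans (e ▸ hb1.symm))))).2
      exact zero_ne_one this
    have shift : ∀ (c : Perm α) (c0 c1 : ZMod 2), c (ι (j, 0)) = ι (j, c0) → c (ι (j, 1)) = ι (j, c1) →
        c0 ≠ c1 → ∀ k, c (ι (j, k)) = ι (j, k + c0) := by
      intro c c0 c1 h0 h1 hne k
      have hk : c1 = 1 + c0 := zmodTwo_eq_add hne
      fin_cases k
      · show c (ι (j, 0)) = ι (j, 0 + c0)
        rw [zero_add, h0]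
      · show c (ι (j, 1)) = ι (j, 1 + c0)
        rw [h1, hk]
    rw [shift b b0 b1 hb0 hb1 nb, shift a a0 a1 ha0 ha1 na, shift a a0 a1 ha0 ha1 na,
      shift b b0 b1 hb0 hb1 nb, add_right_comm]
  · rw [hrest b hb x hx, hrest a ha x hx, hrest b hb x hx]

/-- Pairs, no 3-cycles inside: contradiction. -/
theorem QsFitting.pairs_false (hQ : QsFitting H Q) (J : Finset (Fin m)) (hJ : 4 ≤ J.card)
    (hu : ∀ i ∈ J, ∀ j ∈ J, i ≠ j → pairDT ι i j ∈ H)
    (hΩ : ∀ h ∈ H, ∀ x, h x ∈ J.biUnion (pairSet ι) ↔ x ∈ J.biUnion (pairSet ι))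
    (hrest : ∀ q ∈ Q, ∀ x, x ∉ J.biUnion (pairSet ι) → q x = x)
    (hno : ∀ c ∈ H, c.IsThreeCycle → ¬ c.support ⊆ J.biUnion (pairSet ι)) : False := by
  classical
  set Ω := J.biUnion (pairSet ι) with hΩdef
  have hmemΩ : ∀ {j : Fin m} {k : ZMod 2}, j ∈ J → ι (j, k) ∈ Ω := fun {j k} hj =>
    Finset.mem_biUnion.2 ⟨j, hj, (mem_pairSet ι).2 ⟨k, rfl⟩⟩
  set D : Set (Perm α) := {d | d ∈ H ∧ IsDT d ∧ d.support ⊆ Ω} with hD
  have huD : ∀ i ∈ J, ∀ j ∈ J, i ≠ j → pairDT ι i j ∈ D := fun i hi j hj hij =>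
    ⟨hu i hi j hj hij, pairDT_isDT ι hij, by
      rw [support_pairDT ι hij]
      exact Finset.union_subset (Finset.subset_biUnion_of_mem _ hi) (Finset.subset_biUnion_of_mem _ hj)⟩
  have hconj : ∀ h ∈ H, ∀ d ∈ D, h * d * h⁻¹ ∈ D ∧ ∀ x, h x ∈ (h * d * h⁻¹).support ↔ x ∈ d.support := by
    intro h hh d hd
    have hx : ∀ x, h x ∈ (h * d * h⁻¹).support ↔ x ∈ d.support := fun x => by
      rw [mem_support, mem_support]; simp [Perm.mul_apply]
    refine ⟨⟨mul_mem (mul_mem hh hd.1) (inv_mem hh), hd.2.1.conj h, fun y hy => ?_⟩, hx⟩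
    obtain ⟨x, rfl⟩ := h.surjective y
    exact (hΩ h hh x).2 (hd.2.2 ((hx x).1 hy))
  have hcount : ∀ d ∈ D, (∀ j ∈ J, (d.support ∩ pairSet ι j).card ≠ 1) ∨
      (J.card = 4 ∧ ∀ j ∈ J, (d.support ∩ pairSet ι j).card = 1) := by
    intro d hd
    rcases pair_count ι J hu hd.1 hd.2.1 (fun c hc h3 i hi j hj hsub => hno c hc h3
      (hsub.trans (Finset.union_subset hd.2.2 (Finset.union_subset (Finset.subset_biUnion_of_mem _ hi)
        (Finset.subset_biUnion_of_mem _ hj))))) with h | ⟨⟨hle, hge⟩, hsum⟩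
    · exact Or.inl h
    · rw [Finset.inter_eq_left.2 hd.2.2, hd.2.1.card_support] at hle hsum
      have h4 : J.card = 4 := by omega
      refine Or.inr ⟨h4, fun j hj => ?_⟩
      by_contra hne
      have : ∑ _j ∈ J, 1 < ∑ j ∈ J, (d.support ∩ pairSet ι j).card :=
        Finset.sum_lt_sum hge ⟨j, hj, by have := hge j hj; omega⟩
      simp [← hsum, h4] at this
  -- membership in supports is constant or alternating on pairs
  have hbin : ∀ d : Perm α, ∀ j, (d.support ∩ pairSet ι j).card ≠ 1 →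
      ∀ k l, ι (j, k) ∈ d.support → ι (j, l) ∈ d.support := by
    intro d j hne k l hk
    by_contra hl
    apply hne
    rw [Finset.card_eq_one]
    refine ⟨ι (j, k), Finset.eq_singleton_iff_unique_mem.2
      ⟨Finset.mem_inter.2 ⟨hk, (mem_pairSet ι).2 ⟨k, rfl⟩⟩, fun y hy => ?_⟩⟩
    obtain ⟨hyd, hyp⟩ := Finset.mem_inter.1 hy
    obtain ⟨i, rfl⟩ := (mem_pairSet ι).1 hyp
    fin_cases i <;> fin_cases k <;> fin_cases l <;> first | rfl | exact absurd hk hl | exact absurd hyd hl
  have hsep : ∀ j ∈ J, ∀ k x, (∀ d ∈ D, ι (j, k) ∈ d.support → x ∈ d.support) →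
      x ∈ pairSet ι j := by
    intro j hj k x hx
    obtain ⟨a, ha, b, hb, hab⟩ := Finset.one_lt_card.1
      (show 1 < (J.erase j).card by rw [Finset.card_erase_of_mem hj]; omega)
    rw [Finset.mem_erase] at ha hb
    have h1 := hx _ (huD j hj a ha.2 ha.1.symm) (by
      rw [support_pairDT ι ha.1.symm]; exact Finset.mem_union_left _ ((mem_pairSet ι).2 ⟨k, rfl⟩))
    have h2 := hx _ (huD j hj b hb.2 hb.1.symm) (by
      rw [support_pairDT ι hb.1.symm]; exact Finset.mem_union_left _ ((mem_pairSet ι).2 ⟨k, rfl⟩))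
    rw [support_pairDT ι ha.1.symm, Finset.mem_union] at h1
    rw [support_pairDT ι hb.1.symm, Finset.mem_union] at h2
    rcases h1 with h1 | h1
    · exact h1
    rcases h2 with h2 | h2
    · exact h2
    exact absurd h2 (Finset.disjoint_left.1 (pairSet_disjoint ι hab) h1)
  by_cases hA : ∀ d ∈ D, ∀ j ∈ J, (d.support ∩ pairSet ι j).card ≠ 1
  · -- all supports are unions of pairs
    let N : Subgroup (Perm α) :=
      { carrier := {h | h ∈ H ∧ (∀ x, x ∉ Ω → h x = x) ∧ ∀ d ∈ D, ∀ x, h x ∈ d.support ↔ x ∈ d.support}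
        one_mem' := ⟨one_mem _, fun _ _ => rfl, fun _ _ _ => Iff.rfl⟩
        mul_mem' := fun {a b} ha hb => ⟨mul_mem ha.1 hb.1,
          fun x hx => by rw [Perm.mul_apply, hb.2.1 x hx, ha.2.1 x hx],
          fun d hd x => by rw [Perm.mul_apply, ha.2.2 d hd, hb.2.2 d hd]⟩
        inv_mem' := fun {a} ha => ⟨inv_mem ha.1,
          fun x hx => by rw [Perm.inv_eq_iff_eq, ha.2.1 x hx],
          fun d hd x => by rw [← ha.2.2 d hd (a⁻¹ x)]; simp⟩ }
    have hNH : N ≤ H := fun h hh => hh.1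
    have hNn : H ≤ normalizer (N : Set (Perm α)) := by
      have key : ∀ g ∈ H, ∀ h ∈ N, g * h * g⁻¹ ∈ N := by
        intro g hg h hh
        refine ⟨mul_mem (mul_mem hg hh.1) (inv_mem hg), fun x hx => ?_, fun d hd x => ?_⟩
        · obtain ⟨y, rfl⟩ := g.surjective x
          simp [Perm.mul_apply, hh.2.1 y (fun hy => hx ((hΩ g hg y).2 hy))]
        · obtain ⟨y, rfl⟩ := g.surjective x
          obtain ⟨hd', he⟩ := hconj g⁻¹ (inv_mem hg) d hd
          have := hh.2.2 _ hd' y
          have e1 := he (g (h y))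
          have e2 := he (g y)
          simp only [Perm.inv_def, Equiv.symm_apply_apply] at e1 e2 this ⊢
          simp only [Perm.mul_apply, Perm.inv_def, Equiv.symm_apply_apply]
          rw [← e1, ← e2]
          exact this
      intro g hg
      rw [mem_normalizer_iff]
      refine fun x => ⟨key g hg x, fun hx => ?_⟩
      simpa [mul_assoc] using key g⁻¹ (inv_mem hg) _ hx
    have huN : ∀ i ∈ J, ∀ j ∈ J, i ≠ j → pairDT ι i j ∈ N := by
      intro i hi j hj hij
      refine ⟨hu i hi j hj hij, fun x hx => ?_, fun d hd x => ?_⟩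
      · rw [← notMem_support, support_pairDT ι hij]
        exact fun h => hx ((Finset.union_subset (Finset.subset_biUnion_of_mem _ hi)
          (Finset.subset_biUnion_of_mem _ hj)) h)
      · by_cases hx : x ∈ (pairDT ι i j).support
        · rw [support_pairDT ι hij, Finset.mem_union] at hx
          rcases hx with hx | hx <;>
          · obtain ⟨k, rfl⟩ := (mem_pairSet ι).1 hx
            rw [pairDT_apply ι hij]
            exact ⟨hbin d _ (hA d hd _ (by assumption)) _ _, hbin d _ (hA d hd _ (by assumption)) _ _⟩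
        · rw [notMem_support.1 hx]
    refine hQ.not_fix_pairs ι J hrest fun q hq j hj k => ?_
    have hmem : q (ι (j, k)) ∈ pairSet ι j := by
      rcases hQ.le_or_commute hNH hNn with h | h
      · exact hsep j hj k _ fun d hd hk => ((h hq).2.2 d hd _).2 hk
      · obtain ⟨a, ha, b, hb, hab⟩ := Finset.one_lt_card.1
          (show 1 < (J.erase j).card by rw [Finset.card_erase_of_mem hj]; omega)
        rw [Finset.mem_erase] at ha hb
        have hc : ∀ c ∈ J, j ≠ c → q (ι (j, k)) ∈ pairSet ι j ∪ pairSet ι c := by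
          intro c hc hne
          have h1 := Equiv.congr_fun (h _ (huN j hj c hc hne) q hq) (ι (j, k))
          rw [← support_pairDT ι hne, mem_support]
          intro hfix
          rw [Perm.mul_apply, Perm.mul_apply, hfix, pairDT_apply ι hne, if_pos (Or.inl rfl)] at h1
          have := (Prod.ext_iff.1 (ι.injective (q.injective h1))).2
          simp at this
        have h1 := hc a ha.2 ha.1.symm
        have h2 := hc b hb.2 hb.1.symm
        rw [Finset.mem_union] at h1 h2
        rcases h1 with h1 | h1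
        · exact h1
        rcases h2 with h2 | h2
        · exact h2
        exact absurd h2 (Finset.disjoint_left.1 (pairSet_disjoint ι hab) h1)
    obtain ⟨l, hl⟩ := (mem_pairSet ι).1 hmem
    exact ⟨l, hl.symm⟩
  -- a transversal support
  push Not at hA
  obtain ⟨d₀, hd₀, j₀, hj₀, hd₀j⟩ := hA
  obtain ⟨h4, hd₀all⟩ := (hcount d₀ hd₀).resolve_left fun h => h j₀ hj₀ hd₀j
  obtain ⟨z, hz, hzapply, hzout⟩ : ∃ z ∈ H, (∀ j ∈ J, ∀ k, z (ι (j, k)) = ι (j, k + 1)) ∧
      ∀ x, x ∉ Ω → z x = x := by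
    obtain ⟨a, b, c, e, hab, hac, hae, hbc, hbe, hce, hJe⟩ := Finset.card_eq_four.1 h4
    have ha : a ∈ J := by simp [hJe]
    have hb : b ∈ J := by simp [hJe]
    have hc : c ∈ J := by simp [hJe]
    have he : e ∈ J := by simp [hJe]
    refine ⟨pairDT ι a b * pairDT ι c e, mul_mem (hu a ha b hb hab) (hu c hc e he hce), ?_, ?_⟩
    · intro j hj k
      rw [hJe] at hj
      simp only [Finset.mem_insert, Finset.mem_singleton] at hj
      rw [Perm.mul_apply, pairDT_apply ι hce, pairDT_apply ι hab]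
      rcases hj with rfl | rfl | rfl | rfl <;>
        simp [hab, hac, hae, hbc, hbe, hce, Ne.symm hab, Ne.symm hac, Ne.symm hae, Ne.symm hbc,
          Ne.symm hbe, Ne.symm hce]
    · intro x hx
      rw [Perm.mul_apply]
      have h1 : pairDT ι c e x = x := by
        rw [← notMem_support, support_pairDT ι hce]
        exact fun h => hx ((Finset.union_subset (Finset.subset_biUnion_of_mem _ hc)
          (Finset.subset_biUnion_of_mem _ he)) h)
      rw [h1, ← notMem_support, support_pairDT ι hab]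
      exact fun h => hx ((Finset.union_subset (Finset.subset_biUnion_of_mem _ ha)
        (Finset.subset_biUnion_of_mem _ hb)) h)
  let N : Subgroup (Perm α) :=
    { carrier := {h | h ∈ H ∧ (∀ x, x ∉ Ω → h x = x) ∧ ∀ d ∈ D,
        (∀ x ∈ Ω, h x ∈ d.support ↔ x ∈ d.support) ∨ (∀ x ∈ Ω, h x ∈ d.support ↔ x ∉ d.support)}
      one_mem' := ⟨one_mem _, fun _ _ => rfl, fun _ _ => Or.inl fun _ _ => Iff.rfl⟩
      mul_mem' := fun {a b} ha hb => ⟨mul_mem ha.1 hb.1,
        fun x hx => by rw [Perm.mul_apply, hb.2.1 x hx, ha.2.1 x hx],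
        fun d hd => by
          rcases ha.2.2 d hd with h1 | h1 <;> rcases hb.2.2 d hd with h2 | h2
          · exact Or.inl fun x hx => (h1 _ ((hΩ b hb.1 x).2 hx)).trans (h2 x hx)
          · exact Or.inr fun x hx => (h1 _ ((hΩ b hb.1 x).2 hx)).trans (h2 x hx)
          · exact Or.inr fun x hx => (h1 _ ((hΩ b hb.1 x).2 hx)).trans (not_congr (h2 x hx))
          · exact Or.inl fun x hx => (h1 _ ((hΩ b hb.1 x).2 hx)).trans
              ((not_congr (h2 x hx)).trans not_not)⟩
      inv_mem' := fun {a} ha => ⟨inv_mem ha.1,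
        fun x hx => by rw [Perm.inv_eq_iff_eq, ha.2.1 x hx],
        fun d hd => by
          have hi : ∀ x ∈ Ω, a⁻¹ x ∈ Ω := fun x hx => (hΩ _ (inv_mem ha.1) x).2 hx
          rcases ha.2.2 d hd with h1 | h1
          · refine Or.inl fun x hx => ?_
            have h := h1 _ (hi x hx)
            rw [Perm.inv_def, Equiv.apply_symm_apply] at h
            exact h.symm
          · refine Or.inr fun x hx => ?_
            have h := h1 _ (hi x hx)
            rw [Perm.inv_def, Equiv.apply_symm_apply] at h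
            exact not_not.symm.trans (not_congr h.symm)⟩ }
  have hNH : N ≤ H := fun h hh => hh.1
  have hNn : H ≤ normalizer (N : Set (Perm α)) := by
    have key : ∀ g ∈ H, ∀ h ∈ N, g * h * g⁻¹ ∈ N := by
      intro g hg h hh
      refine ⟨mul_mem (mul_mem hg hh.1) (inv_mem hg), fun x hx => ?_, fun d hd => ?_⟩
      · obtain ⟨y, rfl⟩ := g.surjective x
        simp [Perm.mul_apply, hh.2.1 y (fun hy => hx ((hΩ g hg y).2 hy))]
      · obtain ⟨hd', he⟩ := hconj g⁻¹ (inv_mem hg) d hd
        have e1 : ∀ y, y ∈ (g⁻¹ * d * (g⁻¹)⁻¹).support ↔ g y ∈ d.support := fun y => by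
          have := he (g y)
          rwa [Perm.inv_def, Equiv.symm_apply_apply] at this
        rcases hh.2.2 _ hd' with h1 | h1
        · refine Or.inl fun x hx => ?_
          obtain ⟨y, rfl⟩ := g.surjective x
          have := h1 y ((hΩ g hg y).1 hx)
          rw [e1, e1] at this
          simpa [Perm.mul_apply] using this
        · refine Or.inr fun x hx => ?_
          obtain ⟨y, rfl⟩ := g.surjective x
          have := h1 y ((hΩ g hg y).1 hx)
          rw [e1, e1] at this
          simpa [Perm.mul_apply] using this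
    intro g hg
    rw [mem_normalizer_iff]
    refine fun x => ⟨key g hg x, fun hx => ?_⟩
    simpa [mul_assoc] using key g⁻¹ (inv_mem hg) _ hx
  have hzN : z ∈ N := by
    refine ⟨hz, hzout, fun d hd => ?_⟩
    rcases hcount d hd with hA | ⟨-, hB⟩
    · refine Or.inl fun x hx => ?_
      obtain ⟨j, hj, hxj⟩ := Finset.mem_biUnion.1 hx
      obtain ⟨k, rfl⟩ := (mem_pairSet ι).1 hxj
      rw [hzapply j hj]
      exact ⟨hbin d j (hA j hj) _ _, hbin d j (hA j hj) _ _⟩
    · refine Or.inr fun x hx => ?_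
      obtain ⟨j, hj, hxj⟩ := Finset.mem_biUnion.1 hx
      obtain ⟨k, rfl⟩ := (mem_pairSet ι).1 hxj
      rw [hzapply j hj]
      obtain ⟨y, hy⟩ := Finset.card_eq_one.1 (hB j hj)
      have hmem : ∀ l, ι (j, l) ∈ d.support ↔ ι (j, l) = y := fun l => by
        rw [← Finset.mem_singleton, ← hy, Finset.mem_inter, and_iff_left ((mem_pairSet ι).2 ⟨l, rfl⟩)]
      have hy' : y ∈ d.support ∩ pairSet ι j := by rw [hy]; exact Finset.mem_singleton_self _
      obtain ⟨l, rfl⟩ := (mem_pairSet ι).1 (Finset.mem_inter.1 hy').2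
      rw [hmem, hmem, ι.injective.eq_iff, ι.injective.eq_iff, Prod.ext_iff, Prod.ext_iff]
      simp only [true_and]
      exact zmodTwo_flip l k
  rcases hQ.le_or_commute hNH hNn with h | h
  · -- `N` has exponent two
    have hsq : ∀ q ∈ Q, q * q = 1 := by
      intro q hq
      obtain ⟨-, hout, hN⟩ := h hq
      have hsame : ∀ d ∈ D, ∀ x ∈ Ω, q (q x) ∈ d.support ↔ x ∈ d.support := by
        intro d hd x hx
        rcases hN d hd with h1 | h1
        · exact (h1 _ ((hΩ q (hQ.le hq) x).2 hx)).trans (h1 x hx)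
        · exact (h1 _ ((hΩ q (hQ.le hq) x).2 hx)).trans ((not_congr (h1 x hx)).trans not_not)
      apply Equiv.ext
      intro x
      rw [Perm.mul_apply, Perm.one_apply]
      by_cases hx : x ∈ Ω
      · obtain ⟨j, hj, hxj⟩ := Finset.mem_biUnion.1 hx
        obtain ⟨k, rfl⟩ := (mem_pairSet ι).1 hxj
        obtain ⟨l, hl⟩ := (mem_pairSet ι).1
          (hsep j hj k _ fun d hd hk => (hsame d hd _ hx).2 hk)
        rw [← hl]
        by_contra hne
        have hkl : l ≠ k := fun e => hne (by rw [e])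
        obtain ⟨y, hy⟩ := Finset.card_eq_one.1 (hd₀all j hj)
        have hmem : ∀ i, ι (j, i) ∈ d₀.support ↔ ι (j, i) = y := fun i => by
          rw [← Finset.mem_singleton, ← hy, Finset.mem_inter, and_iff_left ((mem_pairSet ι).2 ⟨i, rfl⟩)]
        have hy' : y ∈ d₀.support ∩ pairSet ι j := by rw [hy]; exact Finset.mem_singleton_self _
        obtain ⟨i, rfl⟩ := (mem_pairSet ι).1 (Finset.mem_inter.1 hy').2
        have h1 := hsame d₀ hd₀ _ hx
        rw [← hl, hmem, hmem, ι.injective.eq_iff, ι.injective.eq_iff, Prod.ext_iff, Prod.ext_iff] at h1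
        simp only [true_and] at h1
        exact zmodTwo_sep hkl h1
      · rw [hout x hx, hout x hx]
    obtain ⟨a, ha, b, hb, hab⟩ := hQ.not_abelian
    apply hab
    have h1 := hsq _ (mul_mem ha hb)
    calc a * b = a * (a * b * (a * b)) * b := by rw [h1, mul_one]
      _ = (a * a) * (b * a) * (b * b) := by simp only [mul_assoc]
      _ = b * a := by rw [hsq a ha, hsq b hb, one_mul, mul_one]
  · -- `Q` permutes the pairs
    have hstep : ∀ q ∈ Q, ∀ j ∈ J, ∀ k, q (ι (j, k + 1)) = z (q (ι (j, k))) := by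
      intro q hq j hj k
      have := Equiv.congr_fun (h z hzN q hq) (ι (j, k))
      rw [Perm.mul_apply, Perm.mul_apply, hzapply j hj] at this
      exact this.symm
    have hblk : ∀ q ∈ Q, ∀ j ∈ J, ∃ i : {i // i ∈ J}, ∀ k, q (ι (j, k)) ∈ pairSet ι i := by
      intro q hq j hj
      obtain ⟨i, hi, hqi⟩ := Finset.mem_biUnion.1 ((hΩ q (hQ.le hq) _).2 (hmemΩ (k := 0) hj))
      obtain ⟨l, hl⟩ := (mem_pairSet ι).1 hqi
      refine ⟨⟨i, hi⟩, fun k => ?_⟩
      fin_cases k
      · exact hqi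
      · show q (ι (j, 1)) ∈ pairSet ι i
        have := hstep q hq j hj 0
        rw [zero_add, ← hl, hzapply i hi] at this
        rw [this]
        exact (mem_pairSet ι).2 ⟨_, rfl⟩
    choose blk hblk using hblk
    have huniq : ∀ {x : α} {i i' : {i // i ∈ J}}, x ∈ pairSet ι i → x ∈ pairSet ι i' → i = i' := by
      intro x i i' h1 h2
      by_contra hne
      exact Finset.disjoint_left.1 (pairSet_disjoint ι fun e => hne (Subtype.ext e)) h1 h2
    have hmul : ∀ (a b : Perm α) (ha : a ∈ Q) (hb : b ∈ Q) (j : Fin m) (hj : j ∈ J),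
        blk (a * b) (mul_mem ha hb) j hj = blk a ha (blk b hb j hj) (blk b hb j hj).2 := by
      intro a b ha hb j hj
      obtain ⟨l, hl⟩ := (mem_pairSet ι).1 (hblk b hb j hj 0)
      refine huniq (hblk (a * b) (mul_mem ha hb) j hj 0) ?_
      rw [Perm.mul_apply, ← hl]
      exact hblk a ha _ (blk b hb j hj).2 l
    have hone : ∀ j hj, blk 1 (one_mem Q) j hj = ⟨j, hj⟩ := fun j hj =>
      huniq (hblk 1 (one_mem Q) j hj 0) ((mem_pairSet ι).2 ⟨0, rfl⟩)
    have hcongr : ∀ (a b : Perm α), a = b → ∀ (ha : a ∈ Q) (hb : b ∈ Q), blk a ha = blk b hb := by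
      intro a b h ha hb; subst h; rfl
    let φ : ↥Q →* Perm {i // i ∈ J} := MonoidHom.mk'
      (fun q =>
        { toFun := fun j => blk q q.2 j j.2
          invFun := fun j => blk (q⁻¹ : Perm α) (inv_mem q.2) j j.2
          left_inv := fun j => (hmul _ _ (inv_mem q.2) q.2 j j.2).symm.trans
            ((congrFun (congrFun (hcongr _ _ (inv_mul_cancel _) _ (one_mem Q)) (j : Fin m)) j.2).trans
              (hone j j.2))
          right_inv := fun j => (hmul _ _ q.2 (inv_mem q.2) j j.2).symm.trans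
            ((congrFun (congrFun (hcongr _ _ (mul_inv_cancel _) _ (one_mem Q)) (j : Fin m)) j.2).trans
              (hone j j.2)) })
      (fun a b => Equiv.ext fun j => hmul a b a.2 b.2 j j.2)
    haveI : Group.IsSolvable (Perm {i // i ∈ J}) :=
      isSolvable_perm_of_card_le_four (by rw [Fintype.card_coe]; omega)
    refine hQ.not_fix_pairs ι J hrest fun q hq j hj k => ?_
    have he : blk q hq j hj = ⟨j, hj⟩ := Equiv.congr_fun (hQ.hom_trivial φ ⟨q, hq⟩) ⟨j, hj⟩
    have hm := hblk q hq j hj k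
    rw [he] at hm
    obtain ⟨l, hl⟩ := (mem_pairSet ι).1 hm
    exact ⟨l, hl.symm⟩

end Pairs

end CfsgLib.Amalgam
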