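import Cfsg.Prelude.Def_TwoFusion
import Cfsg.Agent.Lib.Transfer.Frobenius
import Cfsg.Agent.Lib.Transfer.ClassTwo
import Mathlib.Algebra.Field.ZMod

/-!
The centre of an extraspecial Sylow `p`-subgroup of order `p ^ 3` and exponent `p ^ 2` is strongly closed.
-/

set_option autoImplicit false
set_option linter.unusedSectionVars false
set_option linter.style.haveILetI false

namespace CfsgLib.Amalgam

open Subgroup
open scoped commutatorElement

variable {G : Type*} [Group G] [Finite G] {p : ℕ} [hpf : Fact p.Prime]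

theorem mul_pow_mul_inv_mem {K : Subgroup G} {k x : G} (hk : k ∈ K) (hx : x ∈ normalizer (K : Set G)) :
    ∀ n : ℕ, (k * x) ^ n * (x ^ n)⁻¹ ∈ K := by
  intro n
  induction n with
  | zero => simp
  | succ n ih =>
    have h1 := mul_mem ih ((mem_normalizer_iff.1 (pow_mem hx n) k).1 hk)
    convert h1 using 1
    rw [pow_succ, pow_succ]; group

/-- In an extraspecial group of order `p ^ 3` and exponent `p ^ 2`, `p` odd, the elements killed by
`p` form a subgroup of order `p ^ 2` containing the centre. -/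
theorem exists_omega_of_exponent_sq {P : Type*} [Group P] [Finite P] (hp : p ≠ 2)
    (hE : Cfsg.IsExtraspecial p P) (hcard : Nat.card P = p ^ 3) (hexp : Monoid.exponent P = p ^ 2) :
    ∃ E : Subgroup P, (∀ x, x ∈ E ↔ x ^ p = 1) ∧ Nat.card E = p ^ 2 ∧ center P ≤ E ∧
      (∀ x y : P, ⁅x, y⁆ ∈ center P) ∧ ∀ x : P, x ^ p ∈ center P := by
  obtain ⟨⟨hP, hΦ, hcomm⟩, hZ⟩ := hE
  have hc : ∀ x y : P, ⁅x, y⁆ ∈ center P := fun x y =>
    hcomm ▸ commutator_def P ▸ commutator_mem_commutator (mem_top x) (mem_top y)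
  have hpow : ∀ x : P, x ^ p ∈ center P := fun x => hΦ ▸ CfsgLib.Transfer.pow_mem_frattini hP x
  have hzp : ∀ z ∈ center P, z ^ p = 1 := fun z hz => by
    have := pow_card_eq_one' (x := (⟨z, hz⟩ : center P))
    rw [hZ] at this
    exact congrArg Subtype.val this
  let φ : P →* center P :=
    { toFun := fun x => ⟨x ^ p, hpow x⟩
      map_one' := Subtype.ext (one_pow p)
      map_mul' := fun x y => Subtype.ext (CfsgLib.Transfer.mul_pow_prime_class_two hc hpf.out hp x y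
        (hzp _ (hc y x))) }
  have hrange : φ.range = ⊤ := by
    have h1 : Nat.card φ.range ∣ p := hZ ▸ φ.range.card_subgroup_dvd_card
    rcases (Nat.dvd_prime hpf.out).1 h1 with h | h
    · exfalso
      have h2 : Monoid.exponent P ∣ p := Monoid.exponent_dvd_of_forall_pow_eq_one fun x => by
        have := (Subgroup.card_eq_one.1 h).le (⟨x, rfl⟩ : φ x ∈ φ.range)
        exact congrArg Subtype.val (mem_bot.1 this)
      rw [hexp] at h2
      have := Nat.le_of_dvd hpf.out.pos h2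
      nlinarith [hpf.out.two_le]
    · exact eq_top_of_card_eq _ (h.trans hZ.symm)
  refine ⟨φ.ker, fun x => ⟨fun h => congrArg Subtype.val h, fun h => Subtype.ext h⟩, ?_,
    fun z hz => Subtype.ext (hzp z hz), hc, hpow⟩
  have h1 := φ.ker.card_mul_index
  rw [index_ker, hrange, card_top, hZ, hcard] at h1
  exact mul_right_cancel₀ hpf.out.ne_zero (h1.trans (by ring))

/-- The centre is strongly closed. -/
theorem center_strongly_closed_of_exponent_sq (hp : p ≠ 2) (P : Sylow p G)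
    (hX : Cfsg.IsExtraspecial p ↥P) (hcard : Nat.card P = p ^ 3) (hexp : Monoid.exponent ↥P = p ^ 2) :
    Cfsg.IsStronglyClosed ((Subgroup.center ↥P).map (P : Subgroup G).subtype) (P : Subgroup G) := by
  have hp1 := hpf.out.one_lt
  obtain ⟨E₀, hE₀, hE₀c, hZE₀, hcomm, hpow⟩ := exists_omega_of_exponent_sq (P := ↥P) hp hX hcard hexp
  set E := E₀.map (P : Subgroup G).subtype with hE
  set Z := (Subgroup.center ↥P).map (P : Subgroup G).subtype with hZ
  have hZP : Z ≤ (P : Subgroup G) := map_subtype_le _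
  have hEP : E ≤ (P : Subgroup G) := map_subtype_le _
  have hZE : Z ≤ E := map_mono hZE₀
  have hEc : Nat.card E = p ^ 2 := (card_map_of_injective (P : Subgroup G).subtype_injective).trans hE₀c
  have hZc : Nat.card Z = p := by
    exact (card_map_of_injective (P : Subgroup G).subtype_injective).trans hX.2
  have hEm : ∀ x, x ∈ E ↔ x ∈ (P : Subgroup G) ∧ x ^ p = 1 := by
    intro x
    constructor
    · rintro ⟨a, ha, rfl⟩
      exact ⟨a.2, congrArg Subtype.val ((hE₀ a).1 ha)⟩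
    · rintro ⟨h1, h2⟩
      exact ⟨⟨x, h1⟩, (hE₀ _).2 (Subtype.ext h2), rfl⟩
  have hZcen : ∀ z ∈ Z, ∀ x ∈ (P : Subgroup G), x * z = z * x := by
    rintro _ ⟨a, ha, rfl⟩ x hx
    exact congrArg Subtype.val (mem_center_iff.1 ha ⟨x, hx⟩)
  have hZmem : ∀ z ∈ (P : Subgroup G), (∀ x ∈ (P : Subgroup G), x * z = z * x) → z ∈ Z := fun z hz h =>
    ⟨⟨z, hz⟩, mem_center_iff.2 fun x => Subtype.ext (h x x.2), rfl⟩
  have hEab : ∀ a ∈ E, ∀ b ∈ E, a * b = b * a := by
    intro a ha b hb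
    have hc := IsPGroup.isMulCommutative_of_card_eq_prime_sq hE₀c
    obtain ⟨a', ha', rfl⟩ := ha
    obtain ⟨b', hb', rfl⟩ := hb
    exact congrArg (fun u : E₀ => ((u : ↥P) : G)) (hc.is_comm.comm ⟨a', ha'⟩ ⟨b', hb'⟩)
  -- centralizers of noncentral elements of `E`
  have hcent : ∀ y ∈ E, y ∉ Z → ∀ x ∈ (P : Subgroup G), x * y = y * x → x ∈ E := by
    intro y hy hyZ x hx hxy
    by_contra hxE
    apply hyZ
    refine hZmem y (hEP hy) ?_
    set C := (P : Subgroup G) ⊓ centralizer ({y} : Set G)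
    have hEC : E ≤ C := fun e he => mem_inf.2 ⟨hEP he, mem_centralizer_singleton_iff.2 (hEab e he y hy)⟩
    have hlt : p ^ 2 < Nat.card C := hEc ▸ (lt_of_le_of_ne (card_le_of_le hEC)
      fun e => hxE ((eq_of_le_of_card_ge hEC e.ge).ge (mem_inf.2 ⟨hx, mem_centralizer_singleton_iff.2 hxy⟩)))
    have hCP : C = (P : Subgroup G) := by
      refine eq_of_le_of_card_ge inf_le_left ?_
      obtain ⟨j, hj⟩ := (P.2.to_le (inf_le_left : C ≤ _)).exists_card_eq
      rw [hj] at hlt ⊢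
      have h2 : 2 < j := (Nat.pow_lt_pow_iff_right hp1).1 hlt
      exact hcard.le.trans (Nat.pow_le_pow_right hp1.le h2)
    exact fun u hu => mem_centralizer_singleton_iff.1 (mem_inf.1 (hCP.ge hu)).2
  refine ⟨hZP, fun z hz g hg => ?_⟩
  by_contra hnot
  set z' := g * z * g⁻¹ with hz'
  have hzp : z ^ p = 1 := ((hEm z).1 (hZE hz)).2
  have hz'E : z' ∈ E := (hEm _).2 ⟨hg, by rw [hz', conj_pow, hzp, mul_one, mul_inv_cancel]⟩
  have hz1 : z ≠ 1 := fun h => hnot (by rw [hz', h, mul_one, mul_inv_cancel]; exact one_mem _)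
  -- a conjugate of `P` containing `E` and centralizing `z'`
  obtain ⟨g₁, hg₁z, hg₁E⟩ : ∃ g₁ : G, g₁ * z * g₁⁻¹ = z' ∧ ∀ e ∈ E, g₁⁻¹ * e * g₁ ∈ (P : Subgroup G) := by
    set C := centralizer ({z'} : Set G)
    have hgC : (P : Subgroup G).map (MulAut.conj g).toMonoidHom ≤ C := by
      rintro _ ⟨x, hx, rfl⟩
      refine mem_centralizer_singleton_iff.2 ?_
      show g * x * g⁻¹ * (g * z * g⁻¹) = g * z * g⁻¹ * (g * x * g⁻¹)
      calc g * x * g⁻¹ * (g * z * g⁻¹) = g * (x * z) * g⁻¹ := by group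
        _ = g * (z * x) * g⁻¹ := by rw [hZcen z hz x hx]
        _ = g * z * g⁻¹ * (g * x * g⁻¹) := by group
    have hEC : E ≤ C := fun e he => mem_centralizer_singleton_iff.2 (hEab e he z' hz'E)
    have hi : ¬ p ∣ (((P : Subgroup G).map (MulAut.conj g).toMonoidHom).subgroupOf C).index := by
      intro hd
      apply P.not_dvd_index
      rw [← relIndex] at hd
      have hii : ((P : Subgroup G).map (MulAut.conj g).toMonoidHom).index = (P : Subgroup G).index :=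
        index_map_equiv _ (MulAut.conj g)
      exact hii ▸ hd.trans (relIndex_dvd_index_of_le hgC)
    let T : Sylow p C := ((P.2.map _).of_equiv (subgroupOfEquivOfLe hgC).symm).toSylow hi
    obtain ⟨S, hS⟩ := ((P.2.to_le hEP).of_equiv (subgroupOfEquivOfLe hEC).symm).exists_le_sylow
    obtain ⟨c, hc⟩ := MulAction.exists_smul_eq C T S
    refine ⟨c * g, ?_, fun e he => ?_⟩
    · rw [show (c : G) * g * z * (c * g)⁻¹ = c * z' * (c : G)⁻¹ by rw [hz']; group,
        mem_centralizer_singleton_iff.1 c.2, mul_inv_cancel_right]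
    · have h1 : (⟨e, hEC he⟩ : C) ∈ c • T := hc ▸ hS (mem_subgroupOf.2 he)
      rw [CfsgLib.Transfer.sylow_smul_mem_iff] at h1
      obtain ⟨x, hx, hxe⟩ := mem_subgroupOf.1 h1
      have : ((c : G) * g)⁻¹ * e * (c * g) = x := by
        have h2 : g * x * g⁻¹ = (c : G)⁻¹ * e * c := hxe
        calc ((c : G) * g)⁻¹ * e * (c * g) = g⁻¹ * ((c : G)⁻¹ * e * c) * g := by group
          _ = x := by rw [← h2]; group
      rw [this]; exact hx
  have hg₁N : g₁⁻¹ ∈ normalizer (E : Set G) := by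
    refine mem_normalizer_iff_map_conj_eq.2 (eq_of_le_of_card_ge ?_ (card_map_of_injective (MulEquiv.injective _)).ge)
    rintro _ ⟨e, he, rfl⟩
    show g₁⁻¹ * e * g₁⁻¹⁻¹ ∈ E
    rw [inv_inv]
    refine (hEm _).2 ⟨hg₁E e he, ?_⟩
    have := conj_pow (a := g₁⁻¹) (b := e) (i := p)
    rw [inv_inv, ((hEm e).1 he).2, mul_one, inv_mul_cancel] at this
    exact this
  have hPE : (P : Subgroup G) ≤ normalizer (E : Set G) := by
    intro u hu
    refine mem_normalizer_iff_map_conj_eq.2 (eq_of_le_of_card_ge ?_ (card_map_of_injective (MulEquiv.injective _)).ge)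
    rintro _ ⟨e, he, rfl⟩
    exact (hEm _).2 ⟨mul_mem (mul_mem hu (hEP he)) (inv_mem hu), by
      show (u * e * u⁻¹) ^ p = 1
      rw [conj_pow, ((hEm e).1 he).2, mul_one, mul_inv_cancel]⟩
  obtain ⟨x, hx, hxE⟩ : ∃ x ∈ (P : Subgroup G), x ∉ E := by
    by_contra h
    push Not at h
    have h1 := card_le_of_le (h : (P : Subgroup G) ≤ E)
    rw [hcard, hEc] at h1
    exact absurd h1 (not_le.2 (Nat.pow_lt_pow_right hp1 (by norm_num)))
  -- coordinates
  have hZz : Z = zpowers z := (eq_of_le_of_card_ge (zpowers_le.2 hz) (by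
    rw [Nat.card_zpowers, hZc, orderOf_eq_prime hzp hz1])).symm
  have hcomZ : ∀ u ∈ (P : Subgroup G), ∀ v ∈ (P : Subgroup G), u * v * u⁻¹ * v⁻¹ ∈ Z := fun u hu v hv =>
    ⟨⁅(⟨u, hu⟩ : ↥P), ⟨v, hv⟩⁆, hcomm _ _, rfl⟩
  obtain ⟨a, ha⟩ := mem_zpowers_iff.1 (hZz ▸ hcomZ x hx z' (hEP hz'E))
  set x' := g₁ * x * g₁⁻¹ with hx'
  set v := g₁⁻¹ * z * g₁ with hv
  have hvE : v ∈ E := by
    have := (mem_normalizer_iff.1 hg₁N z).1 (hZE hz)
    rwa [inv_inv] at this
  obtain ⟨b, hb⟩ := mem_zpowers_iff.1 (hZz ▸ hcomZ x hx v (hEP hvE))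
  have hb' : x' * z * x'⁻¹ = z' ^ b * z := by
    rw [← hg₁z, conj_zpow, hb, hx', hv]; group
  have hz'fix : x' * z' * x'⁻¹ = z' := by
    rw [← hg₁z, hx']
    calc g₁ * x * g₁⁻¹ * (g₁ * z * g₁⁻¹) * (g₁ * x * g₁⁻¹)⁻¹ = g₁ * (x * z * x⁻¹) * g₁⁻¹ := by group
      _ = g₁ * z * g₁⁻¹ := by rw [hZcen z hz x hx, mul_inv_cancel_right]
  have hzord : orderOf z = p := orderOf_eq_prime hzp hz1
  have hz'ord : orderOf z' = p := by
    rw [hz', show g * z * g⁻¹ = MulAut.conj g z from rfl, MulEquiv.orderOf_eq, hzord]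
  have hz'Z : z' ∉ Z := hnot
  have hne : ∀ (u : G) (i : ℤ), orderOf u = p → (i : ZMod p) = 0 → u ^ i = 1 := fun u i hu hi =>
    orderOf_dvd_iff_zpow_eq_one.1 (hu ▸ (ZMod.intCast_zmod_eq_zero_iff_dvd i p).1 hi)
  have ha0 : (a : ZMod p) ≠ 0 := fun h => by
    rw [hne z a hzord h] at ha
    exact hxE (hcent z' hz'E hz'Z x hx (mul_inv_eq_iff_eq_mul.1 (mul_inv_eq_one.1 ha.symm)))
  have hb0 : (b : ZMod p) ≠ 0 := fun h => by
    rw [hne z b hzord h] at hb
    have hvZ : v ∈ Z := by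
      by_contra hvZ
      exact hxE (hcent v hvE hvZ x hx (mul_inv_eq_iff_eq_mul.1 (mul_inv_eq_one.1 hb.symm)))
    obtain ⟨i, hi⟩ := mem_zpowers_iff.1 (hZz ▸ hvZ)
    have h1 : z = z' ^ i := by rw [← hg₁z, conj_zpow, hi, hv]; group
    apply hz'Z
    rw [hZz]
    have h2 : zpowers z = zpowers z' := eq_of_le_of_card_ge (zpowers_le.2 (h1 ▸ zpow_mem (mem_zpowers z') i))
      (by rw [Nat.card_zpowers, Nat.card_zpowers, hzord, hz'ord])
    rw [h2]; exact mem_zpowers z'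
  obtain ⟨j, hj⟩ : ∃ j : ℕ, ((a * b * (j : ℤ) + 1 : ℤ) : ZMod p) = 0 := by
    refine ⟨(-((a : ZMod p) * b)⁻¹).val, ?_⟩
    push_cast
    rw [ZMod.natCast_zmod_val, mul_neg, mul_inv_cancel₀ (mul_ne_zero ha0 hb0), neg_add_cancel]
  have hzz' : Commute z z' := hEab z (hZE hz) z' hz'E
  have hx_z : x * z * x⁻¹ = z := by rw [hZcen z hz x hx, mul_inv_cancel_right]
  have hx_z' : x * z' * x⁻¹ = z ^ a * z' := by rw [ha]; group
  have hpow' : ∀ n : ℕ, x' ^ n * z * (x' ^ n)⁻¹ = z' ^ (b * n) * z := by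
    intro n
    induction n with
    | zero => simp
    | succ n ih =>
      calc x' ^ (n + 1) * z * (x' ^ (n + 1))⁻¹ = x' * (x' ^ n * z * (x' ^ n)⁻¹) * x'⁻¹ := by
            rw [pow_succ']; group
        _ = (x' * z' ^ (b * n) * x'⁻¹) * (x' * z * x'⁻¹) := by rw [ih]; group
        _ = z' ^ (b * n) * (z' ^ b * z) := by rw [← conj_zpow, hz'fix, hb']
        _ = z' ^ (b * ((n + 1 : ℕ) : ℤ)) * z := by
            rw [← mul_assoc, ← zpow_add]; congr 2; push_cast; ring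
  have hpow'' : ∀ n : ℕ, x' ^ n * z' * (x' ^ n)⁻¹ = z' := by
    intro n
    have h : Commute (x' ^ n) z' := Commute.pow_left (mul_inv_eq_iff_eq_mul.1 hz'fix) n
    rw [h.eq, mul_inv_cancel_right]
  set y := x' ^ j
  set w₀ := x * y * x with hw₀
  have hw₀z : w₀ * z * w₀⁻¹ = z' ^ (b * j) := by
    calc w₀ * z * w₀⁻¹ = x * (y * (x * z * x⁻¹) * y⁻¹) * x⁻¹ := by rw [hw₀]; group
      _ = x * (z' ^ (b * j) * z) * x⁻¹ := by rw [hx_z, hpow' j]
      _ = (x * z' ^ (b * j) * x⁻¹) * (x * z * x⁻¹) := by group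
      _ = (z ^ a * z') ^ (b * j) * z := by rw [← conj_zpow, hx_z', hx_z]
      _ = z ^ (a * b * j + 1) * z' ^ (b * j) := by
          rw [(hzz'.zpow_left a).mul_zpow, ← zpow_mul, mul_assoc, ((hzz'.zpow_right (b * j)).symm).eq,
            ← mul_assoc, ← zpow_add_one, mul_assoc a b]
      _ = z' ^ (b * j) := by rw [hne z _ hzord hj, one_mul]
  have hw₀z' : w₀ * z' * w₀⁻¹ = z ^ a := by
    calc w₀ * z' * w₀⁻¹ = x * (y * (x * z' * x⁻¹) * y⁻¹) * x⁻¹ := by rw [hw₀]; group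
      _ = x * ((y * z ^ a * y⁻¹) * (y * z' * y⁻¹)) * x⁻¹ := by rw [hx_z']; group
      _ = x * ((z' ^ (b * j) * z) ^ a * z') * x⁻¹ := by rw [← conj_zpow, hpow' j, hpow'' j]
      _ = x * (z' ^ (a * b * j + 1) * z ^ a) * x⁻¹ := by
          rw [(hzz'.symm.zpow_left (b * j)).mul_zpow, ← zpow_mul, mul_assoc _ (z ^ a), (hzz'.zpow_left a).eq,
            ← mul_assoc (z' ^ (b * (j : ℤ) * a)) z', ← zpow_add_one]
          congr 4; ring
      _ = z ^ a := by rw [hne z' _ hz'ord hj, one_mul, ← conj_zpow, hx_z]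
  have hex : (((a * b * j : ℤ)) : ZMod p) = ((-1 : ℤ) : ZMod p) := by
    push_cast at hj ⊢
    exact eq_neg_of_add_eq_zero_left hj
  have hinvpow : ∀ (u : G) (i : ℤ), orderOf u = p → (i : ZMod p) = ((-1 : ℤ) : ZMod p) → u ^ i = u⁻¹ := by
    intro u i hu hi
    have h1 := hne u (i - (-1)) hu (by rw [Int.cast_sub, hi, sub_self])
    rw [zpow_sub, mul_inv_eq_one, zpow_neg, zpow_one] at h1
    exact h1
  set w := w₀ * w₀ with hw
  have hwz : w * z * w⁻¹ = z⁻¹ := by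
    calc w * z * w⁻¹ = w₀ * (w₀ * z * w₀⁻¹) * w₀⁻¹ := by rw [hw]; group
      _ = z ^ (a * b * j) := by
          rw [hw₀z, ← conj_zpow, hw₀z', ← zpow_mul, mul_assoc a b]
      _ = z⁻¹ := hinvpow z _ hzord hex
  have hwz' : w * z' * w⁻¹ = z'⁻¹ := by
    calc w * z' * w⁻¹ = w₀ * (w₀ * z' * w₀⁻¹) * w₀⁻¹ := by rw [hw]; group
      _ = z' ^ (a * b * j) := by
          rw [hw₀z', ← conj_zpow, hw₀z, ← zpow_mul]; congr 1; ring
      _ = z'⁻¹ := hinvpow z' _ hz'ord hex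
  have hEgen : E ≤ closure {z, z'} := by
    have h1 : closure {z, z'} ≤ E := (closure_le _).2 (by
      rintro u (rfl | rfl)
      · exact hZE hz
      · exact hz'E)
    refine (eq_of_le_of_card_ge h1 ?_).ge
    have hlt : Z < closure {z, z'} := lt_of_le_not_ge (hZz ▸ zpowers_le.2 (subset_closure (Or.inl rfl)))
      fun h => hz'Z (h (subset_closure (Or.inr rfl)))
    obtain ⟨i, hi⟩ := ((P.2.to_le hEP).to_le h1).exists_card_eq
    have h2 : p ^ 1 < p ^ i := by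
      rw [pow_one, ← hi, ← hZc]
      exact lt_of_le_of_ne (card_le_of_le hlt.le) fun e => hlt.ne (eq_of_le_of_card_ge hlt.le e.ge)
    rw [hEc, hi]
    exact Nat.pow_le_pow_right hp1.le ((Nat.pow_lt_pow_iff_right hp1).1 h2)
  have hinv : ∀ e ∈ E, w * e * w⁻¹ = e⁻¹ := by
    intro e he
    have : e ∈ E ∧ w * e * w⁻¹ = e⁻¹ := by
      refine closure_induction (p := fun u _ => u ∈ E ∧ w * u * w⁻¹ = u⁻¹) ?_ ?_ ?_ ?_ (hEgen he)
      · rintro u (rfl | rfl)
        · exact ⟨hZE hz, hwz⟩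
        · exact ⟨hz'E, hwz'⟩
      · simp
      · rintro u v _ _ ⟨hu, hu'⟩ ⟨hv, hv'⟩
        refine ⟨mul_mem hu hv, ?_⟩
        rw [show w * (u * v) * w⁻¹ = (w * u * w⁻¹) * (w * v * w⁻¹) by group, hu', hv',
          hEab u⁻¹ (inv_mem hu) v⁻¹ (inv_mem hv), mul_inv_rev]
      · rintro u _ ⟨hu, hu'⟩
        refine ⟨inv_mem hu, ?_⟩
        rw [show w * u⁻¹ * w⁻¹ = (w * u * w⁻¹)⁻¹ by group, hu']
    exact this.2
  -- the centralizer of `E`
  set D := centralizer (E : Set G) with hD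
  have hED : E ≤ D := fun e he => mem_centralizer_iff.2 fun f hf => hEab f hf e he
  have hcD : w * x * w⁻¹ * x⁻¹ ∈ D := by
    refine mem_centralizer_iff.2 fun e he => ?_
    set f := x⁻¹ * e * x with hf
    have hfE : f ∈ E := by
      have := (mem_normalizer_iff.1 (inv_mem (hPE hx)) e).1 he
      rwa [inv_inv] at this
    have h1 : w⁻¹ * f * w = f⁻¹ := by
      have := hinv f⁻¹ (inv_mem hfE)
      rw [inv_inv] at this
      calc w⁻¹ * f * w = w⁻¹ * (w * f⁻¹ * w⁻¹) * w := by rw [this]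
        _ = f⁻¹ := by group
    have h2 : w * x * w⁻¹ * x⁻¹ * e * (w * x * w⁻¹ * x⁻¹)⁻¹ = e := by
      calc w * x * w⁻¹ * x⁻¹ * e * (w * x * w⁻¹ * x⁻¹)⁻¹
          = w * (x * (w⁻¹ * f * w) * x⁻¹) * w⁻¹ := by rw [hf]; group
        _ = w * (x * f⁻¹ * x⁻¹) * w⁻¹ := by rw [h1]
        _ = w * e⁻¹ * w⁻¹ := by rw [hf]; group
        _ = e := by rw [hinv _ (inv_mem he), inv_inv]
    exact (mul_inv_eq_iff_eq_mul.1 h2).symm
  obtain ⟨T, hT⟩ := ((P.2.to_le hEP).of_equiv (subgroupOfEquivOfLe hED).symm).exists_le_sylow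
  have hTE : (T : Subgroup D) = E.subgroupOf D := by
    refine (eq_of_le_of_card_ge hT ?_).symm
    rw [Nat.card_congr (subgroupOfEquivOfLe hED).toEquiv, hEc]
    obtain ⟨S, hS⟩ := (T.2.map D.subtype).exists_le_sylow
    obtain ⟨h, rfl⟩ := MulAction.exists_smul_eq G P S
    obtain ⟨i, hi⟩ := T.2.exists_card_eq
    have h3 : p ^ i ∣ p ^ 3 := by
      rw [← hi, ← card_map_of_injective D.subtype_injective]
      exact (card_dvd_of_le hS).trans (by rw [(h • P).card_eq_multiplicity, ← P.card_eq_multiplicity, hcard])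
    rw [hi]
    refine Nat.pow_le_pow_right hp1.le ?_
    by_contra hgt
    have h4 : i = 3 := le_antisymm ((Nat.pow_dvd_pow_iff_le_right hp1).1 h3) (by omega)
    subst h4
    have hSS : ((h • P : Sylow p G) : Subgroup G) = (T : Subgroup D).map D.subtype :=
      (eq_of_le_of_card_ge hS (by
        rw [card_map_of_injective D.subtype_injective, hi, (h • P).card_eq_multiplicity,
          ← P.card_eq_multiplicity, hcard])).symm
    have hEZ : E.map (MulAut.conj h⁻¹).toMonoidHom ≤ Z := by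
      rintro _ ⟨e, he, rfl⟩
      have hin : ∀ u ∈ ((h • P : Sylow p G) : Subgroup G), h⁻¹ * u * h ∈ (P : Subgroup G) :=
        fun u hu => CfsgLib.Transfer.sylow_smul_mem_iff.1 hu
      have heS : e ∈ ((h • P : Sylow p G) : Subgroup G) :=
        hSS.ge ⟨⟨e, hED he⟩, hT (mem_subgroupOf.2 he), rfl⟩
      refine hZmem _ (by simpa using hin e heS) fun u hu => ?_
      have huS : h * u * h⁻¹ ∈ ((h • P : Sylow p G) : Subgroup G) :=
        CfsgLib.Transfer.sylow_smul_mem_iff.2 (by rw [show h⁻¹ * (h * u * h⁻¹) * h = u by group]; exact hu)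
      obtain ⟨t, -, ht⟩ := hSS.le huS
      have hcom : e * (h * u * h⁻¹) = h * u * h⁻¹ * e := ht ▸ mem_centralizer_iff.1 t.2 e he
      simp only [MulEquiv.coe_toMonoidHom, MulAut.conj_apply, inv_inv]
      calc u * (h⁻¹ * e * h) = h⁻¹ * (h * u * h⁻¹ * e) * h := by group
        _ = h⁻¹ * (e * (h * u * h⁻¹)) * h := by rw [hcom]
        _ = h⁻¹ * e * h * u := by group
    have := card_le_of_le hEZ
    rw [card_map_of_injective (MulEquiv.injective _), hEc, hZc, pow_two] at this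
    nlinarith
  have hTc : Cfsg.HasNormalPComplement p D := by
    refine CfsgLib.Transfer.hasNormalPComplement_of_normalizer_le_centralizer T ?_
    intro d _
    rw [hTE]
    exact mem_centralizer_iff.2 fun e he => Subtype.ext
      (mem_centralizer_iff.1 d.2 _ (mem_subgroupOf.1 he))
  set K := (Cfsg.pResidual p D).map D.subtype with hK
  have hKc : (Nat.card K).Coprime p := by
    rw [hK, card_map_of_injective D.subtype_injective]
    exact CfsgLib.Transfer.hasNormalPComplement_iff_coprime_pResidual.1 hTc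
  have hKD : K ≤ D := map_subtype_le _
  obtain ⟨k, hk, e, he, hke⟩ : ∃ k ∈ K, ∃ e ∈ E, w * x * w⁻¹ * x⁻¹ = k * e := by
    haveI := CfsgLib.Transfer.pResidual_normal (G := D) (p := p)
    have h1 : (⟨_, hcD⟩ : D) ∈ ((Cfsg.pResidual p D ⊔ (T : Subgroup D) : Subgroup D) : Set D) := by
      rw [CfsgLib.Transfer.pResidual_sup_sylow]; exact mem_top _
    rw [normal_mul, hTE] at h1
    obtain ⟨k, hk, e, he, hke⟩ := h1
    exact ⟨k, mem_map_of_mem _ hk, e, mem_subgroupOf.1 he, (congrArg Subtype.val hke).symm⟩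
  obtain ⟨s, hs⟩ : Odd p := hpf.out.odd_of_ne_two hp
  set e₀ := e ^ (s + 1) with he₀
  have he₀E : e₀ ∈ E := pow_mem he _
  have he₀2 : e₀ * e₀ = e := by
    rw [he₀, ← pow_add, show s + 1 + (s + 1) = p + 1 by omega, pow_succ, ((hEm e).1 he).2, one_mul]
  set x₂ := e₀ * x with hx₂
  have hx₂P : x₂ ∈ (P : Subgroup G) := mul_mem (hEP he₀E) hx
  have hx₂E : x₂ ∉ E := fun h => hxE (by simpa [hx₂] using mul_mem (inv_mem he₀E) h)
  have hwx₂ : w * x₂ * w⁻¹ = k * x₂ := by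
    have h1 : e₀⁻¹ * k = k * e₀⁻¹ := mem_centralizer_iff.1 (hKD hk) _ (inv_mem he₀E)
    calc w * x₂ * w⁻¹ = (w * e₀ * w⁻¹) * (w * x * w⁻¹ * x⁻¹) * x := by rw [hx₂]; group
      _ = e₀⁻¹ * k * e * x := by rw [hinv e₀ he₀E, hke]; group
      _ = k * e₀⁻¹ * (e₀ * e₀) * x := by rw [h1, he₀2]
      _ = k * x₂ := by rw [hx₂]; group
  have hxK : x₂ ∈ normalizer (K : Set G) := by
    have hxD : x₂ ∈ normalizer (D : Set G) := by
      refine mem_normalizer_iff_map_conj_eq.2 (eq_of_le_of_card_ge ?_ (card_map_of_injective (MulEquiv.injective _)).ge)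
      rintro _ ⟨d, hd, rfl⟩
      refine mem_centralizer_iff.2 fun f hf => ?_
      have hf' := (mem_normalizer_iff.1 (inv_mem (hPE hx₂P)) f).1 hf
      rw [inv_inv] at hf'
      have := mem_centralizer_iff.1 hd _ hf'
      show f * (x₂ * d * x₂⁻¹) = x₂ * d * x₂⁻¹ * f
      calc f * (x₂ * d * x₂⁻¹) = x₂ * (x₂⁻¹ * f * x₂ * d) * x₂⁻¹ := by group
        _ = x₂ * (d * (x₂⁻¹ * f * x₂)) * x₂⁻¹ := by rw [this]
        _ = x₂ * d * x₂⁻¹ * f := by group
    refine mem_normalizer_iff_map_conj_eq.2 ?_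
    haveI := CfsgLib.Transfer.pResidual_characteristic (G := D) (p := p)
    have hφ : (Cfsg.pResidual p D).map (D.normalizerMonoidHom ⟨x₂, hxD⟩).toMonoidHom = Cfsg.pResidual p D :=
      characteristic_iff_map_eq.1 inferInstance _
    show ((Cfsg.pResidual p D).map D.subtype).map (MulAut.conj x₂).toMonoidHom = K
    conv_rhs => rw [hK, ← hφ]
    rw [map_map, map_map]
    rfl
  set z₀ := x₂ ^ p with hz₀
  have hz₀Z : z₀ ∈ Z := ⟨(⟨x₂, hx₂P⟩ : ↥P) ^ p, hpow _, rfl⟩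
  have hz₀1 : z₀ ≠ 1 := fun h => hx₂E ((hEm x₂).2 ⟨hx₂P, h⟩)
  have h5 : z₀⁻¹ * z₀⁻¹ ∈ K := by
    have h6 := mul_pow_mul_inv_mem hk hxK p
    rw [← hwx₂, conj_pow] at h6
    rw [← hz₀, hinv z₀ (hZE hz₀Z)] at h6
    exact h6
  have h7 : z₀⁻¹ * z₀⁻¹ = 1 := by
    rw [← mem_bot, show (⊥ : Subgroup G) = K ⊓ E from (Subgroup.card_eq_one.1 (Nat.eq_one_of_dvd_coprimes
      (hKc.pow_right 2) (card_dvd_of_le inf_le_left) (hEc ▸ card_dvd_of_le inf_le_right))).symm]
    exact ⟨h5, E.mul_mem (E.inv_mem (hZE hz₀Z)) (E.inv_mem (hZE hz₀Z))⟩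
  apply hz₀1
  have h8 : z₀ ^ 2 = 1 := by
    rw [← inv_eq_one, pow_two, mul_inv_rev]; exact h7
  have h9 : orderOf z₀ ∣ 1 := by
    have h10 := ((hEm z₀).1 (hZE hz₀Z)).2
    rw [← (Nat.coprime_primes hpf.out Nat.prime_two).2 hp]
    exact Nat.dvd_gcd (orderOf_dvd_of_pow_eq_one h10) (orderOf_dvd_of_pow_eq_one h8)
  exact orderOf_eq_one_iff.1 (Nat.dvd_one.1 h9)

end CfsgLib.Amalgam
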