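import Mathlib.GroupTheory.PGroup
import Cfsg.Agent.Lib.Transfer.ExtraspecialIso

/-!
# Faithful modules for extraspecial groups

The order of a module on which a non-trivial central element of an extraspecial group of order
`p ^ (2 k + 1)` acts without fixed points is at least `r ^ (n * p ^ k)`, `n` the order of `r`
modulo `p`.
-/

namespace CfsgLib.Amalgam

open Subgroup
open scoped commutatorElement
open CfsgLib.Transfer

variable {E M : Type*} [Group E] [CommGroup M]

/-- `a ↦ ∏_{k<p} g^k · a`. -/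
noncomputable def modNorm (φ : E →* MulAut M) (p : ℕ) (g : E) : M →* M where
  toFun a := ∏ k : Fin p, φ (g ^ (k : ℕ)) a
  map_one' := by simp
  map_mul' a b := by simp [Finset.prod_mul_distrib]

theorem modNorm_apply (φ : E →* MulAut M) (p : ℕ) (g : E) (a : M) :
    modNorm φ p g a = ∏ k : Fin p, φ (g ^ (k : ℕ)) a := rfl

theorem map_modNorm (φ : E →* MulAut M) {p : ℕ} (hp : 0 < p) {g : E} (hg : g ^ p = 1) (a : M) :
    φ g (modNorm φ p g a) = modNorm φ p g a := by
  have : NeZero p := ⟨hp.ne'⟩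
  rw [modNorm_apply, map_prod]
  refine Fintype.prod_equiv (Equiv.addRight (1 : Fin p)) _ _ fun k => ?_
  rw [← MulAut.mul_apply, ← map_mul, ← pow_succ', Equiv.coe_addRight, Fin.val_add]
  congr 2
  rw [Fin.val_one', Nat.add_mod_mod, ← pow_mod_orderOf g ((k : ℕ) + 1), ← pow_mod_orderOf g ((k + 1 : ℕ) % p),
    Nat.mod_mod_of_dvd _ (orderOf_dvd_of_pow_eq_one hg)]

theorem modNorm_of_fixed (φ : E →* MulAut M) {p : ℕ} {g : E} {a : M} (ha : φ g a = a) :
    modNorm φ p g a = a ^ p := by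
  have h : ∀ k : ℕ, φ (g ^ k) a = a := fun k => by
    induction k with
    | zero => simp
    | succ k ih => rw [pow_succ, map_mul, MulAut.mul_apply, ha, ih]
  simp [modNorm_apply, -map_pow, h]

theorem modNorm_mem (φ : E →* MulAut M) (p : ℕ) {g : E} {B : Subgroup M}
    (hB : ∀ a ∈ B, φ g a ∈ B) {a : M} (ha : a ∈ B) : modNorm φ p g a ∈ B := by
  rw [modNorm_apply]
  refine prod_mem fun k _ => ?_
  induction (k : ℕ) with
  | zero => simpa using ha
  | succ k ih => rw [pow_succ', map_mul, MulAut.mul_apply]; exact hB _ ih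

variable [Finite E] {p r : ℕ} [Fact p.Prime]

omit [Finite E] in
/-- A power prime to `p` of an element without fixed points has no fixed points. -/
theorem fpf_of_zpowers (φ : E →* MulAut M) {z c : E} (hz : ∀ a, φ z a = a → a = 1)
    (hzc : z ∈ zpowers c) {a : M} (ha : φ c a = a) : a = 1 := by
  refine hz a ?_
  obtain ⟨k, rfl⟩ := hzc
  have : c ∈ (MulAction.stabilizer (MulAut M) a).comap φ := ha
  exact zpow_mem this k

theorem modNorm_central [Finite M] (h : Cfsg.IsExtraspecial p E) (φ : E →* MulAut M) {z : E}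
    (hzc : z ∈ center E) (hz : ∀ a, φ z a = a → a = 1) {c : E} (hc : c ∈ center E) (hc1 : c ≠ 1)
    (a : M) : modNorm φ p c a = 1 := by
  refine fpf_of_zpowers φ hz (c := c) ?_
    (map_modNorm φ (Fact.out : p.Prime).pos (special_center_pow h.1 hc) a)
  rw [← extraspecial_center_eq_zpowers h hc hc1]
  exact hzc

omit [Finite E] in
theorem card_ge_base [Finite M] (φ : E →* MulAut M) [hr : Fact r.Prime] (hrM : ∀ a : M, a ^ r = 1)
    {z : E} (hzp : z ^ p = 1) (hz : ∀ a, φ z a = a → a = 1) {n : ℕ}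
    (hmin : ∀ k : ℕ, 1 ≤ k → p ∣ r ^ k - 1 → n ≤ k) {B : Subgroup M} (hB : B ≠ ⊥)
    (hinv : ∀ a ∈ B, φ z a ∈ B) : r ^ n ≤ Nat.card B := by
  have hpB : IsPGroup r B := fun a => ⟨1, Subtype.ext (by simpa using hrM a)⟩
  obtain ⟨m, hm⟩ := IsPGroup.iff_card.1 hpB
  have hm1 : 1 ≤ m := by
    rcases Nat.eq_zero_or_pos m with rfl | h
    · exact absurd (eq_bot_of_card_eq B (by simpa using hm)) hB
    · exact h
  let S : Subgroup (MulAut M) := zpowers (φ z)
  have hS : ∀ g ∈ S, ∀ a ∈ B, g a ∈ B := by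
    intro g hg
    obtain ⟨k, rfl⟩ : ∃ k : ℕ, (φ z) ^ k = g := by
      rwa [← Submonoid.mem_powers_iff, mem_powers_iff_mem_zpowers]
    induction k with
    | zero => simp
    | succ k ih => exact fun a ha => by rw [pow_succ', MulAut.mul_apply]; exact hinv _ (ih (mem_powers_iff_mem_zpowers.1 ⟨k, rfl⟩) a ha)
  letI : MulAction S B :=
    { smul := fun g a => ⟨(g : MulAut M) a, hS g g.2 a a.2⟩
      one_smul := fun a => Subtype.ext rfl
      mul_smul := fun g g' a => Subtype.ext rfl }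
  have hSp : IsPGroup p S := by
    intro g
    refine ⟨1, Subtype.ext ?_⟩
    obtain ⟨k, hk⟩ := g.2
    rw [pow_one, SubgroupClass.coe_pow, ← hk, ← zpow_natCast, ← zpow_mul, mul_comm, zpow_mul,
      zpow_natCast, ← map_pow, hzp, map_one, one_zpow, OneMemClass.coe_one]
  have hfix : MulAction.fixedPoints S B = {1} := by
    ext a
    simp only [MulAction.mem_fixedPoints, Set.mem_singleton_iff]
    refine ⟨fun ha => Subtype.ext (hz a (congrArg Subtype.val (ha ⟨φ z, mem_zpowers _⟩))), ?_⟩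
    rintro rfl g
    exact Subtype.ext (map_one (g : MulAut M))
  have hmod := hSp.card_modEq_card_fixedPoints (α := B)
  rw [hfix, hm, Nat.card_coe_set_eq, Set.ncard_singleton] at hmod
  rw [hm]
  exact Nat.pow_le_pow_right hr.out.pos (hmin m hm1
    ((Nat.modEq_iff_dvd' (Nat.one_le_pow _ _ hr.out.pos)).1 hmod.symm))

theorem esGood_exists_order_p (h : Cfsg.IsExtraspecial p E) (hp : p ≠ 2) {H : Subgroup E}
    (hH : IsEsGood H) (hne : H ≠ center E) : ∃ x ∈ H, x ∉ center E ∧ x ^ p = 1 := by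
  obtain ⟨x, hxH, hxZ⟩ := SetLike.exists_of_lt (lt_of_le_of_ne hH.1 hne.symm)
  obtain ⟨y, hyH, hxy⟩ := hH.exists_noncommuting hxH hxZ
  by_cases hxp : x ^ p = 1
  · exact ⟨x, hxH, hxZ, hxp⟩
  have hpow : ∀ g : E, g ^ p ∈ center E := fun g => h.1.2.1 ▸ pow_mem_frattini h.1.1 g
  have hc := special_commutatorElement_mem_center h.1
  have hy := hpow y
  rw [extraspecial_center_eq_zpowers h (hpow x) hxp, ← mem_powers_iff_mem_zpowers] at hy
  obtain ⟨b, hb⟩ := hy
  refine ⟨(x ^ b)⁻¹ * y, mul_mem (inv_mem (pow_mem hxH b)) hyH, fun hmem => hxy ?_, ?_⟩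
  · have e : ⁅x, y⁆ = ⁅x, x ^ b⁆ * ⁅x, (x ^ b)⁻¹ * y⁆ := by
      rw [← commutatorElement_mul_right hc, mul_inv_cancel_left]
    rw [e, commutatorElement_pow_right hc, commutatorElement_self, one_pow, one_mul,
      commutatorElement_eq_one_iff_mul_comm]
    exact mem_center_iff.1 hmem x
  · have hxb : ((x ^ b)⁻¹) ^ p = ((x ^ p) ^ b)⁻¹ := by
      rw [inv_pow, ← pow_mul, ← pow_mul, mul_comm]
    rw [mul_pow_prime_class_two hc (Fact.out : p.Prime) hp _ _ (special_commutatorElement_pow h.1 _ _), hxb]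
    simp only [← hb, inv_mul_cancel]

theorem card_ge_esGood [Finite M] (h : Cfsg.IsExtraspecial p E) (φ : E →* MulAut M)
    [hr : Fact r.Prime] (hpr : p ≠ r) (hrM : ∀ a : M, a ^ r = 1) {z : E} (hzc : z ∈ center E)
    (hz : ∀ a, φ z a = a → a = 1) {n : ℕ} (hmin : ∀ k : ℕ, 1 ≤ k → p ∣ r ^ k - 1 → n ≤ k)
    (H : Subgroup E) : IsEsGood H → ∀ k, Nat.card H = p ^ (2 * k + 1) →
      ∀ B : Subgroup M, B ≠ ⊥ → (∀ g ∈ H, ∀ a ∈ B, φ g a ∈ B) → r ^ (n * p ^ k) ≤ Nat.card B := by
  have hp := (Fact.out : p.Prime)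
  induction hN : Nat.card H using Nat.strong_induction_on generalizing H with
  | _ N ih => ?_
  subst hN
  intro hH k hk B hB hinv
  rcases k with _ | k
  · simpa using card_ge_base φ hrM (special_center_pow h.1 hzc) hz hmin hB (hinv z (hH.1 hzc))
  have hne : H ≠ center E := fun e => by
    rw [e, h.2] at hk
    have := Nat.pow_right_injective hp.two_le (show p ^ 1 = p ^ (2 * (k + 1) + 1) by simpa using hk)
    omega
  have hpr' : ∀ a : M, a ^ p = 1 → a = 1 := fun a ha => by
    have h1 := Nat.dvd_gcd (orderOf_dvd_of_pow_eq_one ha) (orderOf_dvd_of_pow_eq_one (hrM a))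
    rw [Nat.coprime_primes hp hr.out |>.2 hpr, Nat.dvd_one] at h1
    exact orderOf_eq_one_iff.1 h1
  by_cases hx0 : ∃ x ∈ H, x ∉ center E ∧ x ^ p = 1
  · obtain ⟨x, hxH, hxZ, hxp⟩ := hx0
    obtain ⟨y, hyH, hxy⟩ := hH.exists_noncommuting hxH hxZ
    obtain ⟨hgood, -, -⟩ := hH.split h hxH hyH hxy
    obtain ⟨hcard, hlt⟩ := esGood_card_lt h hH hxH hyH hxy
    set H' := H ⊓ centralizer ({x, y} : Set E) with hH'
    have hk' : Nat.card H' = p ^ (2 * k + 1) := by
      rw [hk, show 2 * (k + 1) + 1 = 2 + (2 * k + 1) by omega, pow_add] at hcard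
      exact (Nat.eq_of_mul_eq_mul_left (pow_pos hp.pos 2) hcard).symm
    have hcc : ⁅y, x⁆ ∈ center E := special_commutatorElement_mem_center h.1 y x
    set c := ⁅y, x⁆ with hc
    have hc1 : c ≠ 1 := fun e => hxy (by rw [← commutatorElement_inv, ← hc, e, inv_one])
    have hcp : c ^ p = 1 := special_center_pow h.1 hcc
    have hcomm : ∀ g, Commute c g := fun g => (mem_center_iff.1 hcc g).symm
    have hxi : ∀ i : ℕ, x * c ^ i ∈ H := fun i => mul_mem hxH (pow_mem (hH.1 hcc) i)
    have hxip : ∀ i : ℕ, (x * c ^ i) ^ p = 1 := fun i => by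
      rw [((hcomm x).symm.pow_right i).mul_pow, hxp, one_mul, ← pow_mul, mul_comm, pow_mul, hcp,
        one_pow]
    let C : ℕ → Subgroup M := fun i =>
      B ⊓ ((φ (x * c ^ i)).toMonoidHom.eqLocus (MonoidHom.id M))
    have hCm : ∀ i a, a ∈ C i ↔ a ∈ B ∧ φ (x * c ^ i) a = a := fun i a => Iff.rfl
    have hnormc : ∀ d : ℕ, ¬ p ∣ d → ∀ a : M, modNorm φ p (c ^ d) a = 1 := fun d hd a =>
      modNorm_central h φ hzc hz (pow_mem hcc d) (fun e => hd (by
        have := orderOf_dvd_of_pow_eq_one e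
        rwa [orderOf_eq_prime hcp hc1] at this)) a
    have key : ∀ i j, ∀ a ∈ C i, modNorm φ p (x * c ^ j) a = modNorm φ p (c ^ ((j + (p - 1) * i))) a := by
      intro i j a ha
      have e : x * c ^ j = c ^ (j + (p - 1) * i) * (x * c ^ i) := by
        rw [((hcomm _).pow_left _).eq, mul_assoc, ← pow_add]
        have : i + (j + (p - 1) * i) = j + p * i := by
          have := hp.pos
          nlinarith [Nat.sub_add_cancel hp.one_le]
        rw [this, pow_add, pow_mul, hcp, one_pow, mul_one]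
      rw [e, modNorm_apply, modNorm_apply]
      refine Finset.prod_congr rfl fun m _ => ?_
      rw [((hcomm _).pow_left _).mul_pow, map_mul, MulAut.mul_apply]
      congr 1
      induction (m : ℕ) with
      | zero => simp
      | succ m ihm => rw [pow_succ, map_mul, MulAut.mul_apply, ((hCm i a).1 ha).2, ihm]
    have hnontriv : ∃ i, C i ≠ ⊥ := by
      obtain ⟨a, haB, ha⟩ := (B.bot_or_exists_ne_one).resolve_left hB
      by_contra! hall
      refine ha (hpr' a ?_)
      have h1 : ∀ i : Fin p, modNorm φ p (x * c ^ (i : ℕ)) a = 1 := fun i => by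
        rw [← mem_bot, ← hall i]
        exact (hCm _ _).2 ⟨modNorm_mem φ p (hinv _ (hxi _)) haB, map_modNorm φ hp.pos (hxip _) a⟩
      have h2 : ∏ i : Fin p, modNorm φ p (x * c ^ (i : ℕ)) a = a ^ p := by
        simp only [modNorm_apply]
        rw [Finset.prod_comm, Fintype.prod_eq_single ⟨0, hp.pos⟩]
        · simp
        intro m hm
        have : ∀ i : Fin p, φ ((x * c ^ (i : ℕ)) ^ (m : ℕ)) a
            = φ ((c ^ (m : ℕ)) ^ (i : ℕ)) (φ (x ^ (m : ℕ)) a) := fun i => by
          rw [← MulAut.mul_apply, ← map_mul]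
          congr 2
          rw [((hcomm x).symm.pow_right _).mul_pow, ← pow_mul c (m : ℕ), mul_comm (m : ℕ), pow_mul,
            ((hcomm _).pow_left _ |>.pow_left _).eq]
        rw [Finset.prod_congr rfl fun i _ => this i]
        exact hnormc m (fun hd => hm (Fin.ext (Nat.eq_zero_of_dvd_of_lt hd m.2))) _
      simpa [h1] using h2.symm
    have hstep : ∀ i, C i ≠ ⊥ → C (i + 1) ≠ ⊥ := by
      intro i hi
      obtain ⟨a, ha, ha1⟩ := ((C i).bot_or_exists_ne_one).resolve_left hi
      intro e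
      refine ha1 ((φ y).injective ?_)
      rw [map_one, ← mem_bot, ← e, hCm]
      refine ⟨hinv y hyH a ((hCm i a).1 ha).1, ?_⟩
      have : x * c ^ (i + 1) * y = y * (x * c ^ i) := by
        rw [← mul_assoc y, CfsgLib.Transfer.esGood_swap h x y, ← hc, mul_assoc (x * y), ← pow_succ',
          mul_assoc x y, ((hcomm y).pow_left _).symm.eq, mul_assoc x]
      rw [← MulAut.mul_apply, ← map_mul, this, map_mul, MulAut.mul_apply, ((hCm i a).1 ha).2]
    have hall : ∀ i : Fin p, C i ≠ ⊥ := by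
      obtain ⟨i₀, hi₀⟩ := hnontriv
      intro i
      have h1 : C (i₀ + ((i : ℕ) + (p - 1) * i₀)) ≠ ⊥ := by
        induction (i : ℕ) + (p - 1) * i₀ with
        | zero => exact hi₀
        | succ m ihm => exact hstep _ ihm
      have e : c ^ (i₀ + ((i : ℕ) + (p - 1) * i₀)) = c ^ (i : ℕ) := by
        have : i₀ + ((i : ℕ) + (p - 1) * i₀) = (i : ℕ) + p * i₀ := by
          nlinarith [Nat.sub_add_cancel hp.one_le]
        rw [this, pow_add, pow_mul, hcp, one_pow, mul_one]
      simp only [C] at h1 ⊢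
      rwa [e] at h1
    have hCinv : ∀ i : ℕ, ∀ g ∈ H', ∀ a ∈ C i, φ g a ∈ C i := by
      intro i g hg a ha
      refine (hCm _ _).2 ⟨hinv g hg.1 a ((hCm _ _).1 ha).1, ?_⟩
      have hgx : Commute (x * c ^ i) g := (esGood_centralize hg).1.mul_left ((hcomm g).pow_left i)
      rw [← MulAut.mul_apply, ← map_mul, hgx.eq, map_mul, MulAut.mul_apply, ((hCm _ _).1 ha).2]
    let F : (Π i : Fin p, C i) →* B :=
      { toFun := fun f => ∏ i, ⟨f i, ((hCm _ _).1 (f i).2).1⟩
        map_one' := Finset.prod_eq_one fun _ _ => rfl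
        map_mul' := fun f g => by rw [← Finset.prod_mul_distrib]; rfl }
    have hinj : Function.Injective F := by
      rw [injective_iff_map_eq_one]
      intro f hf
      funext j
      refine Subtype.ext (hpr' _ ?_)
      have h1 : ∏ i : Fin p, ((f i : M)) = 1 := by simpa [F] using congrArg Subtype.val hf
      have h2 := congrArg (modNorm φ p (x * c ^ (j : ℕ))) h1
      rw [map_prod, map_one, Fintype.prod_eq_single j] at h2
      · rwa [modNorm_of_fixed φ ((hCm _ _).1 (f j).2).2] at h2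
      intro i hij
      rw [key i j _ (f i).2]
      refine hnormc _ (fun hd => hij ?_) _
      have e1 : ((j : ℕ) + (p - 1) * i + i) = j + p * i := by nlinarith [Nat.sub_add_cancel hp.one_le]
      have e2 : (i : ℕ) % p = (j : ℕ) % p := by
        rw [← Nat.add_mul_mod_self_left (j : ℕ) p i, ← e1, Nat.add_mod, Nat.mod_eq_zero_of_dvd hd,
          zero_add, Nat.mod_mod]
      rw [Nat.mod_eq_of_lt i.2, Nat.mod_eq_of_lt j.2] at e2
      exact Fin.ext e2
    have h3 := Nat.card_le_card_of_injective F hinj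
    rw [Nat.card_pi] at h3
    refine le_trans ?_ h3
    calc r ^ (n * p ^ (k + 1)) = ∏ _i : Fin p, r ^ (n * p ^ k) := by
          rw [Finset.prod_const, Finset.card_univ, Fintype.card_fin, ← pow_mul, pow_succ, mul_assoc]
      _ ≤ ∏ i : Fin p, Nat.card (C i) := Finset.prod_le_prod' fun i _ =>
          ih _ hlt H' rfl hgood k hk' _ (hall i) (hCinv i)
  -- no non-central element of order `p`: a quaternion group
  obtain rfl : p = 2 := by
    by_contra hp2
    exact hx0 (esGood_exists_order_p h hp2 hH hne)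
  obtain rfl : k = 0 := by
    by_contra hk0
    refine hx0 (es_two_exists_involution h hH ?_)
    rw [hk]
    calc 8 = 2 ^ 3 := by norm_num
      _ < 2 ^ (2 * (k + 1) + 1) := Nat.pow_lt_pow_right (by norm_num) (by omega)
  obtain ⟨x, hxH, hxZ⟩ := SetLike.exists_of_lt (lt_of_le_of_ne hH.1 hne.symm)
  obtain ⟨y, hyH, hxy⟩ := hH.exists_noncommuting hxH hxZ
  have hr2 : r ≠ 2 := fun e => hpr e.symm
  have hn : n ≤ 1 := hmin 1 le_rfl (by
    rw [pow_one]; exact even_iff_two_dvd.1 (Nat.Prime.even_sub_one hr.out hr2))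
  refine le_trans (Nat.pow_le_pow_right hr.out.pos (show n * 2 ^ (0 + 1) ≤ 2 by omega)) ?_
  have hpB : IsPGroup r B := fun a => ⟨1, Subtype.ext (by simpa using hrM a)⟩
  obtain ⟨m, hm⟩ := IsPGroup.iff_card.1 hpB
  rw [hm]
  refine Nat.pow_le_pow_right hr.out.pos ?_
  by_contra hm2
  obtain ⟨a, haB, ha⟩ := (B.bot_or_exists_ne_one).resolve_left hB
  have hord : orderOf a = r := orderOf_eq_prime (hrM a) ha
  have hBa : B = zpowers a := (eq_of_le_of_card_ge (zpowers_le.2 haB) (by
    rw [Nat.card_zpowers, hord, hm]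
    exact le_trans (Nat.pow_le_pow_right hr.out.pos (show m ≤ 1 by omega)) (pow_one r).le)).symm
  have hmul : ∀ g ∈ H, ∃ i : ℤ, φ g a = a ^ i := fun g hg => by
    have := hinv g hg a haB
    rw [hBa, mem_zpowers_iff] at this
    obtain ⟨i, hi⟩ := this
    exact ⟨i, hi.symm⟩
  obtain ⟨i, hi⟩ := hmul x hxH
  obtain ⟨j, hj⟩ := hmul y hyH
  have hcc := special_commutatorElement_mem_center h.1 y x
  have hc1 : ⁅y, x⁆ ≠ 1 := fun e => hxy (by rw [← commutatorElement_inv, e, inv_one])
  refine ha (fpf_of_zpowers φ hz (c := ⁅y, x⁆) ?_ ?_)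
  · rw [← extraspecial_center_eq_zpowers h hcc hc1]; exact hzc
  · apply (φ (x * y)).injective
    rw [← MulAut.mul_apply, ← map_mul, ← esGood_swap h x y, map_mul, map_mul, MulAut.mul_apply,
      MulAut.mul_apply, hi, map_zpow, hj, map_zpow, hi, zpow_comm]

/-- **Order bound** for a faithful module of an extraspecial group. -/
theorem card_ge_extraspecial [Finite M] (h : Cfsg.IsExtraspecial p E) (φ : E →* MulAut M)
    (hinj : Function.Injective φ) [hr : Fact r.Prime] (hpr : p ≠ r) (hrM : ∀ a : M, a ^ r = 1)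
    {w n : ℕ} (hw : Nat.card E = p ^ (2 * w + 1))
    (hmin : ∀ k : ℕ, 1 ≤ k → p ∣ r ^ k - 1 → n ≤ k) : r ^ (n * p ^ w) ≤ Nat.card M := by
  have hp := (Fact.out : p.Prime)
  have : Nontrivial (center E) := Finite.one_lt_card_iff_nontrivial.1 (h.2.symm ▸ hp.one_lt)
  obtain ⟨⟨z, hzc⟩, hz1⟩ := exists_ne (1 : center E)
  have hz1 : z ≠ 1 := fun e => hz1 (Subtype.ext e)
  let M' : Subgroup M := (modNorm φ p z).ker
  have hinv : ∀ g : E, ∀ a ∈ M', φ g a ∈ M' := by
    intro g a ha
    rw [MonoidHom.mem_ker, modNorm_apply] at ha ⊢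
    rw [← (φ g).map_one, ← ha, map_prod]
    refine Finset.prod_congr rfl fun k _ => ?_
    rw [← MulAut.mul_apply, ← map_mul, ← MulAut.mul_apply, ← map_mul,
      mem_center_iff.1 (pow_mem hzc (k : ℕ)) g]
  have hfpf : ∀ a ∈ M', φ z a = a → a = 1 := by
    intro a ha hza
    rw [MonoidHom.mem_ker, modNorm_of_fixed φ hza] at ha
    have h1 := Nat.dvd_gcd (orderOf_dvd_of_pow_eq_one ha) (orderOf_dvd_of_pow_eq_one (hrM a))
    rw [Nat.coprime_primes hp hr.out |>.2 hpr, Nat.dvd_one] at h1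
    exact orderOf_eq_one_iff.1 h1
  let ψ : E →* MulAut M' :=
    { toFun := fun g =>
        { toFun := fun a => ⟨φ g a, hinv g a a.2⟩
          invFun := fun a => ⟨φ g⁻¹ a, hinv g⁻¹ a a.2⟩
          left_inv := fun a => Subtype.ext (by simp)
          right_inv := fun a => Subtype.ext (by simp)
          map_mul' := fun a b => Subtype.ext (map_mul (φ g) (a : M) b) }
      map_one' := by ext a; simp
      map_mul' := fun g g' => by ext a; simp }
  have hne : (⊤ : Subgroup M') ≠ ⊥ := by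
    intro e
    refine hz1 (hinj ?_)
    rw [map_one]
    have hker : (modNorm φ p z).ker = ⊥ := by
      rw [eq_bot_iff]
      intro a ha
      have h1 : (⟨a, ha⟩ : M') ∈ (⊥ : Subgroup M') := e ▸ mem_top _
      rw [mem_bot] at h1
      exact mem_bot.2 (congrArg Subtype.val h1)
    ext a
    obtain ⟨b, rfl⟩ := (Finite.injective_iff_surjective.1
      ((MonoidHom.ker_eq_bot_iff _).1 hker)) a
    exact map_modNorm φ hp.pos (special_center_pow h.1 hzc) b
  have h1 := card_ge_esGood h ψ hpr (fun a => Subtype.ext (hrM a)) hzc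
    (fun a ha => Subtype.ext (hfpf a a.2 (congrArg Subtype.val ha))) hmin ⊤ isEsGood_top w
    (by rw [card_top, hw]) ⊤ hne (fun _ _ _ _ => mem_top _)
  rw [card_top] at h1
  exact h1.trans (Nat.card_le_card_of_injective _ Subtype.val_injective)

end CfsgLib.Amalgam
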