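import Cfsg.Agent.Lib.Transfer.Extraspecial
import Cfsg.Agent.Lib.Trans3.InnerCentral

/-!
Elements of order four in an extraspecial `2`-group of plus type.
-/

set_option autoImplicit false
set_option linter.unusedSectionVars false

namespace CfsgLib.Amalgam

open Subgroup
open scoped commutatorElement

variable {E : Type*} [Group E] [Finite E]

/-- In an extraspecial `2`-group a subgroup `B ≥ Z` has `|B| |C(B)| ≤ |E| |Z|`. -/
theorem card_mul_centralizer_le (hE : Cfsg.IsExtraspecial 2 E) {B : Subgroup E} (hZB : center E ≤ B) :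
    Nat.card B * Nat.card (centralizer (B : Set E)) ≤ 2 * Nat.card E := by
  classical
  have : Fact (Nat.Prime 2) := ⟨Nat.prime_two⟩
  have hc := CfsgLib.Transfer.special_commutatorElement_mem_center hE.1
  set C := centralizer (B : Set E) with hC
  have hcomC : _root_.commutator E ≤ C := by
    rw [hE.1.2.2]; exact center_le_centralizer _
  haveI : C.Normal := ⟨fun n hn g => by
    have h1 : ⁅g, n⁆ ∈ C := hcomC (commutator_def E ▸ commutator_mem_commutator (mem_top g) (mem_top n))
    have h2 := mul_mem h1 hn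
    simpa [commutatorElement_def, mul_assoc] using h2⟩
  let _ : CommGroup (center E) := { (inferInstance : Group (center E)) with
    mul_comm := fun a b => Subtype.ext ((mem_center_iff.1 b.2 a)) }
  let pr : B → (E →* center E) := fun b =>
    { toFun := fun x => ⟨⁅(b : E), x⁆, hc _ _⟩
      map_one' := Subtype.ext (commutatorElement_one_right _)
      map_mul' := fun x y => Subtype.ext (CfsgLib.Transfer.commutatorElement_mul_right hc _ x y) }
  let Φ : B →* (E ⧸ C →* center E) :=
    { toFun := fun b => QuotientGroup.lift C (pr b) fun x hx => Subtype.ext (commutatorElement_eq_one_iff_mul_comm.2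
        (mem_centralizer_iff.1 hx b b.2))
      map_one' := by
        ext x
        show ⁅((1 : B) : E), x⁆ = _
        simp
      map_mul' := fun a b => by
        ext x
        show ⁅((a * b : B) : E), x⁆ = ⁅(a : E), x⁆ * ⁅(b : E), x⁆
        rw [Subgroup.coe_mul, CfsgLib.Transfer.commutatorElement_mul_left hc] }
  have hker : Φ.ker ≤ (center E).subgroupOf B := fun b hb => mem_subgroupOf.2 (mem_center_iff.2 fun x =>
    (commutatorElement_eq_one_iff_mul_comm.1
      (congrArg Subtype.val (DFunLike.congr_fun (MonoidHom.mem_ker.1 hb) (x : E ⧸ C)))).symm)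
  have hkc : Nat.card Φ.ker ≤ 2 := by
    refine (card_le_of_le hker).trans ?_
    rw [Nat.card_congr (subgroupOfEquivOfLe hZB).toEquiv, hE.2]
  haveI : Finite (E ⧸ C →* center E) := Finite.of_injective (fun f => (f : E ⧸ C → center E)) DFunLike.coe_injective
  have hrange : Nat.card Φ.range ≤ Nat.card (E ⧸ C) :=
    (Nat.card_le_card_of_injective _ Subtype.val_injective).trans (CfsgLib.Trans3.card_hom_to_order_two_le hE.2)
  have h1 := Φ.ker.card_mul_index
  rw [index_ker] at h1
  rw [← h1, card_eq_card_quotient_mul_card_subgroup C]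
  calc Nat.card Φ.ker * Nat.card Φ.range * Nat.card C ≤ 2 * Nat.card (E ⧸ C) * Nat.card C := by gcongr
    _ = 2 * (Nat.card (E ⧸ C) * Nat.card C) := by ring

/-- Plus type: exactly `2 ^ (2m) - 2 ^ m` elements of order four. -/
theorem card_orderOf_four (m : ℕ) (hE : Cfsg.IsExtraspecial 2 E) (hcard : Nat.card E = 2 ^ (2 * m + 1))
    {A : Subgroup E} (hA2 : ∀ a ∈ A, a ^ 2 = 1) (hAc : IsMulCommutative A) (hAcard : Nat.card A = 2 ^ (m + 1)) :
    Nat.card {x : E // orderOf x = 4} = 2 ^ (2 * m) - 2 ^ m := by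
  classical
  have : Fact (Nat.Prime 2) := ⟨Nat.prime_two⟩
  have hc := CfsgLib.Transfer.special_commutatorElement_mem_center hE.1
  have hAA : ∀ a ∈ A, ∀ b ∈ A, a * b = b * a := fun a ha b hb =>
    congrArg Subtype.val (hAc.is_comm.comm ⟨a, ha⟩ ⟨b, hb⟩)
  have hpow : ∀ k, 2 * 2 ^ (2 * m + 1) < 2 ^ k * 2 ^ k ↔ m + 1 < k := by
    intro k
    rw [← pow_succ', ← pow_add, Nat.pow_lt_pow_iff_right one_lt_two]
    omega
  have hZA : center E ≤ A := by
    set B := A ⊔ center E with hB
    have hBc : B ≤ centralizer (B : Set E) := by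
      refine sup_le (fun a ha => ?_) (center_le_centralizer _)
      refine mem_centralizer_iff.2 fun b hb => ?_
      have h : B ≤ centralizer ({a} : Set E) := sup_le
        (fun x hx => mem_centralizer_singleton_iff.2 (hAA x hx a ha)) (center_le_centralizer _)
      exact mem_centralizer_singleton_iff.1 (h hb)
    have h1 := card_mul_centralizer_le hE (le_sup_right : center E ≤ B)
    rw [hcard] at h1
    have h2 := (Nat.mul_le_mul_left (Nat.card B) (card_le_of_le hBc)).trans h1
    obtain ⟨k, hk⟩ := (hE.1.1.to_subgroup B).exists_card_eq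
    rw [hk] at h2
    have h3 : k ≤ m + 1 := by
      by_contra h
      exact absurd ((hpow k).2 (by omega)) (not_lt.2 h2)
    have h4 : B = A := (eq_of_le_of_card_ge le_sup_left (by
      rw [hk, hAcard]; exact Nat.pow_le_pow_right two_pos h3)).symm
    exact h4 ▸ le_sup_right
  have hcomA : _root_.commutator E ≤ A := hE.1.2.2 ▸ hZA
  haveI : A.Normal := ⟨fun n hn g => by
    have h1 : ⁅g, n⁆ ∈ A := hcomA (commutator_def E ▸ commutator_mem_commutator (mem_top g) (mem_top n))
    have h2 := mul_mem h1 hn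
    simpa [commutatorElement_def, mul_assoc] using h2⟩
  have hCA : centralizer (A : Set E) = A := by
    refine (eq_of_le_of_card_ge (le_centralizer_iff_isMulCommutative.2 hAc) ?_).symm
    have h1 := card_mul_centralizer_le hE hZA
    rw [hcard, hAcard] at h1
    rw [hAcard]
    refine Nat.le_of_mul_le_mul_left (h1.trans ?_) (pow_pos two_pos (m + 1))
    rw [← pow_succ', ← pow_add]
    exact Nat.pow_le_pow_right two_pos (by omega)
  have hsq : ∀ x : E, x ^ 2 ∈ center E := fun x => hE.1.2.1 ▸ CfsgLib.Transfer.pow_mem_frattini hE.1.1 x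
  -- a partner in each coset
  have hpart : ∀ x : E, x ∉ A → ∃ a ∈ A, ⁅a, x⁆ ≠ 1 := by
    intro x hx
    by_contra h
    push Not at h
    exact hx (hCA.le (mem_centralizer_iff.2 fun a ha => commutatorElement_eq_one_iff_mul_comm.1 (h a ha)))
  let a₀ : E ⧸ A → E := fun q => if h : q.out ∈ A then 1 else (hpart q.out h).choose
  have ha₀ : ∀ x : E, x ∉ A → a₀ (x : E ⧸ A) ∈ A ∧ ⁅a₀ (x : E ⧸ A), x⁆ ≠ 1 := by
    intro x hx
    obtain ⟨⟨s, hs⟩, hout⟩ := QuotientGroup.mk_out_eq_mul A x
    set y := (x : E ⧸ A).out with hy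
    have hy' : y = x * s := hout
    have hnot : y ∉ A := fun h => hx (by
      have := mul_mem h (inv_mem hs)
      rw [hy'] at this; simpa using this)
    have ha : a₀ (x : E ⧸ A) = (hpart y hnot).choose := dif_neg hnot
    obtain ⟨h1, h2⟩ := (hpart y hnot).choose_spec
    rw [ha]
    refine ⟨h1, fun h => h2 ?_⟩
    have h3 : ⁅(hpart y hnot).choose, s⁆ = 1 := commutatorElement_eq_one_iff_mul_comm.2 (hAA _ h1 s hs)
    have h4 := CfsgLib.Transfer.commutatorElement_mul_right hc (hpart y hnot).choose x s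
    rw [h, h3, one_mul, ← hy'] at h4
    exact h4
  let f : E → E := fun x => x * a₀ (x : E ⧸ A)
  have hf : ∀ x : E, x ∉ A → f x ∉ A ∧ f (f x) = x ∧ (x ^ 2 = 1 ↔ (f x) ^ 2 ≠ 1) := by
    intro x hx
    obtain ⟨h1, h2⟩ := ha₀ x hx
    have hmk : ((f x : E) : E ⧸ A) = (x : E ⧸ A) := QuotientGroup.eq.2 (by simp [f, h1])
    refine ⟨fun h => hx (by simpa [f] using mul_mem h (inv_mem h1)), ?_, ?_⟩
    · show f x * a₀ ((f x : E) : E ⧸ A) = x
      rw [hmk]
      show x * a₀ (x : E ⧸ A) * a₀ (x : E ⧸ A) = x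
      rw [mul_assoc, ← pow_two, hA2 _ h1, mul_one]
    · have hp : (f x) ^ 2 = x ^ 2 * ⁅a₀ (x : E ⧸ A), x⁆ := by
        show (x * a₀ (x : E ⧸ A)) ^ 2 = _
        rw [CfsgLib.Transfer.mul_pow_class_two hc, hA2 _ h1, mul_one, show Nat.choose 2 2 = 1 by decide, pow_one]
      rw [hp]
      have hz2 : ∀ u ∈ center E, ∀ v ∈ center E, u ≠ 1 → v ≠ 1 → u = v := by
        intro u hu v hv hu1 hv1
        have h := hE.2
        obtain ⟨w, -, hw⟩ := (Nat.card_eq_two_iff' (1 : center E)).1 h
        exact congrArg Subtype.val ((hw ⟨u, hu⟩ fun e => hu1 (congrArg Subtype.val e)).trans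
          (hw ⟨v, hv⟩ fun e => hv1 (congrArg Subtype.val e)).symm)
      have hzz : ∀ u ∈ center E, u * u = 1 := fun u hu => by
        rw [← pow_two]; exact CfsgLib.Transfer.special_center_pow hE.1 hu
      constructor
      · intro h; rw [h, one_mul]; exact h2
      · intro h
        by_contra hne
        exact h (by rw [hz2 _ (hsq x) _ (hc _ _) hne h2]; exact hzz _ (hc _ _))
  have hbij : Nat.card {x : E // x ∉ A ∧ x ^ 2 ≠ 1} = Nat.card {x : E // x ∉ A ∧ x ^ 2 = 1} := Nat.card_congr
    { toFun := fun x => ⟨f x.1, (hf _ x.2.1).1, by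
        by_contra h
        exact x.2.2 ((hf _ x.2.1).2.2.2 h)⟩
      invFun := fun x => ⟨f x.1, (hf _ x.2.1).1, (hf _ x.2.1).2.2.1 x.2.2⟩
      left_inv := fun x => Subtype.ext (hf _ x.2.1).2.1
      right_inv := fun x => Subtype.ext (hf _ x.2.1).2.1 }
  have hfour : Nat.card {x : E // orderOf x = 4} = Nat.card {x : E // x ∉ A ∧ x ^ 2 ≠ 1} := by
    refine Nat.card_congr (Equiv.subtypeEquivRight fun x => ?_)
    constructor
    · intro h
      have h2 : x ^ 2 ≠ 1 := fun e => by
        have := orderOf_dvd_of_pow_eq_one e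
        rw [h] at this
        norm_num at this
      exact ⟨fun hxA => h2 (hA2 x hxA), h2⟩
    · rintro ⟨-, h2⟩
      have h4 : x ^ 4 = 1 := by
        rw [show (4 : ℕ) = 2 * 2 by norm_num, pow_mul]
        exact CfsgLib.Transfer.special_center_pow hE.1 (hsq x)
      exact (orderOf_eq_prime_pow (p := 2) (n := 1) (by simpa using h2) (by simpa using h4)).trans (by norm_num)
  have htot : Nat.card {x : E // x ∉ A ∧ x ^ 2 ≠ 1} + Nat.card {x : E // x ∉ A ∧ x ^ 2 = 1} + Nat.card A = Nat.card E := by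
    rw [← Nat.card_congr (Equiv.sumCompl (fun x : E => x ∈ A)), Nat.card_sum,
      show Nat.card A = Nat.card {x : E // x ∈ A} from rfl, add_comm _ (Nat.card {x : E // x ∈ A}), add_right_inj,
      ← Nat.card_congr (Equiv.sumCompl (fun x : {x : E // x ∉ A} => (x : E) ^ 2 = 1)), Nat.card_sum, add_comm,
      Nat.card_congr (Equiv.subtypeSubtypeEquivSubtypeInter (fun x : E => x ∉ A) (fun x => x ^ 2 = 1)),
      Nat.card_congr (Equiv.subtypeSubtypeEquivSubtypeInter (fun x : E => x ∉ A) (fun x => ¬ x ^ 2 = 1))]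
  rw [hfour]
  rw [← hbij, hcard, hAcard, pow_succ 2 (2 * m), pow_succ 2 m] at htot
  omega

end CfsgLib.Amalgam
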