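import Cfsg.Agent.Lib.Solvable.FixedPointFree
import Cfsg.Agent.Lib.Solvable.FrobeniusKernel
import Cfsg.Agent.S0205
import Mathlib.GroupTheory.GroupAction.Primitive
import Mathlib.Tactic

/-!
Linear groups in characteristic two all of whose vector stabilisers are maximal subgroups.

If such a group is irreducible, faithful and insoluble, then it has a unique minimal normal subgroup,
that subgroup is simple and non-abelian and has trivial centraliser.
-/

set_option autoImplicit false

namespace CfsgLib.Amalgam.ExtPrim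

open scoped Pointwise

universe u w

/-- `X` is contained in `M` and is invariant under conjugation by `M`. -/
def NormIn {H : Type u} [Group H] (M X : Subgroup H) : Prop :=
  X ≤ M ∧ ∀ m ∈ M, ∀ x ∈ X, m * x * m⁻¹ ∈ X

variable {H : Type u} [Group H] [Finite H] {V : Type w} [CommGroup V] [Finite V]
  [MulDistribMulAction H V]

/-- The standing hypotheses. -/
structure Hyp (H : Type u) (V : Type w) [Group H] [CommGroup V] [MulDistribMulAction H V] : Prop where
  sq : ∀ v : V, v * v = 1
  faithful : ∀ h : H, (∀ v : V, h • v = v) → h = 1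
  irr : ∀ W : Subgroup V, (∀ h : H, ∀ x ∈ W, h • x ∈ W) → W = ⊥ ∨ W = ⊤
  max : ∀ v : V, v ≠ 1 → IsCoatom (MulAction.stabilizer H v)
  insoluble : ¬ Group.IsSolvable H

variable (hy : Hyp H V)
include hy

omit [Finite V] in
theorem nontrivial : ∃ v : V, v ≠ 1 := by
  by_contra hc
  push Not at hc
  refine hy.insoluble (Group.isSolvable_of_comm fun a b => ?_)
  rw [hy.faithful a fun v => by rw [hc v, smul_one], hy.faithful b fun v => by rw [hc v, smul_one]]

omit [Finite V] [Finite H] in
/-- A normal subgroup fixing a nonidentity point is trivial. -/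
theorem eq_bot_of_fixed {M : Subgroup H} (hM : M.Normal) {v : V} (hv : v ≠ 1)
    (hle : M ≤ MulAction.stabilizer H v) : M = ⊥ := by
  let W : Subgroup V :=
    { carrier := {x | ∀ m ∈ M, m • x = x}
      one_mem' := fun m _ => smul_one m
      mul_mem' := fun {a b} ha hb m hm => by rw [smul_mul', ha m hm, hb m hm]
      inv_mem' := fun {a} ha m hm => by rw [smul_inv', ha m hm] }
  rcases hy.irr W (fun h x hx m hm => by
      calc m • h • x = h • ((h⁻¹ * m * h) • x) := by simp [mul_smul]
        _ = h • x := by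
          rw [hx _ (by simpa using hM.conj_mem m hm h⁻¹)]) with hW | hW
  · exact absurd (Subgroup.mem_bot.1 (hW ▸ (fun m hm => hle hm : v ∈ W))) hv
  · refine (Subgroup.eq_bot_iff_forall M).2 fun m hm => hy.faithful m fun x => ?_
    exact (hW ▸ Subgroup.mem_top x : x ∈ W) m hm

omit [Finite V] [Finite H] in
/-- A nontrivial normal subgroup supplements every stabiliser. -/
theorem decompose {M : Subgroup H} (hM : M.Normal) (hne : M ≠ ⊥) {v : V} (hv : v ≠ 1) (h : H) :
    ∃ a ∈ MulAction.stabilizer H v, ∃ m ∈ M, h = a * m := by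
  have htop : MulAction.stabilizer H v ⊔ M = ⊤ := by
    rcases (le_sup_left : MulAction.stabilizer H v ≤ MulAction.stabilizer H v ⊔ M).eq_or_lt with
      he | hlt
    · exact absurd (eq_bot_of_fixed hy hM hv (by rw [he]; exact le_sup_right)) hne
    · exact (hy.max v hv).2 _ hlt
  have hmem : h ∈ ((MulAction.stabilizer H v ⊔ M : Subgroup H) : Set H) := by rw [htop]; trivial
  rw [Subgroup.mul_normal] at hmem
  obtain ⟨a, ha, m, hm, rfl⟩ := hmem
  exact ⟨a, ha, m, hm, rfl⟩

omit [Finite V] [Finite H] in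
/-- The centraliser of a nontrivial normal subgroup has no fixed points. -/
theorem centralizer_fpf {M : Subgroup H} (hM : M.Normal) (hne : M ≠ ⊥) {v : V} (hv : v ≠ 1) :
    Subgroup.centralizer (M : Set H) ⊓ MulAction.stabilizer H v = ⊥ := by
  refine eq_bot_of_fixed hy ⟨fun k hk h => ?_⟩ hv inf_le_right
  obtain ⟨a, ha, m, hm, rfl⟩ := decompose hy hM hne hv h
  have h1 : m * k * m⁻¹ = k := by
    rw [hk.1 m hm]; group
  rw [show a * m * k * (a * m)⁻¹ = a * (m * k * m⁻¹) * a⁻¹ by group, h1]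
  refine Subgroup.mem_inf.2 ⟨?_, mul_mem (mul_mem ha hk.2) (inv_mem ha)⟩
  have : (Subgroup.centralizer (M : Set H)).Normal := inferInstance
  exact this.conj_mem k hk.1 a

omit [Finite V] in
theorem odd_centralizer {M : Subgroup H} (hM : M.Normal) (hne : M ≠ ⊥) :
    Odd (Nat.card (Subgroup.centralizer (M : Set H))) := by
  obtain ⟨v, hv⟩ := nontrivial hy
  rcases Nat.even_or_odd (Nat.card (Subgroup.centralizer (M : Set H))) with he | ho
  · exfalso
    have : Fact (Nat.Prime 2) := ⟨Nat.prime_two⟩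
    obtain ⟨t, ht⟩ := exists_prime_orderOf_dvd_card' 2 he.two_dvd
    have ht2 : (t : H) * (t : H) = 1 := by
      rw [← Subgroup.coe_mul, ← sq, ← ht, pow_orderOf_eq_one]; rfl
    have htne : (t : H) ≠ 1 := fun h => by
      rw [Subtype.ext h (a2 := (1 : Subgroup.centralizer (M : Set H))), orderOf_one] at ht
      omega
    by_cases hw : v * (t : H) • v = 1
    · have : (t : H) • v = v := by
        rw [eq_inv_of_mul_eq_one_right hw, inv_eq_of_mul_eq_one_right (hy.sq v)]
      exact htne ((Subgroup.eq_bot_iff_forall _).1 (centralizer_fpf hy hM hne hv) _ ⟨t.2, this⟩)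
    · refine htne ((Subgroup.eq_bot_iff_forall _).1 (centralizer_fpf hy hM hne hw) _ (Subgroup.mem_inf.2 ⟨t.2, ?_⟩))
      rw [MulAction.mem_stabilizer_iff, smul_mul', ← mul_smul, ht2, one_smul, mul_comm]
  · exact ho

/-- An abelian normal subgroup is trivial. -/
theorem eq_bot_of_comm {M : Subgroup H} (hM : M.Normal) (hc : M ≤ Subgroup.centralizer (M : Set H)) :
    M = ⊥ := by
  by_contra hne
  obtain ⟨v, hv⟩ := nontrivial hy
  have : Nontrivial V := nontrivial_of_ne v 1 hv
  have hMc : IsMulCommutative M := ⟨⟨fun a b => Subtype.ext (hc b.2 a a.2)⟩⟩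
  have hker : Subgroup.centralizer (M : Set H) = M := by
    refine le_antisymm (fun c hc' => ?_) hc
    obtain ⟨a, ha, m, hm, rfl⟩ := decompose hy hM hne hv c
    have ha' : a ∈ Subgroup.centralizer (M : Set H) := by
      simpa using mul_mem hc' (inv_mem (hc hm))
    rw [(Subgroup.eq_bot_iff_forall _).1 (centralizer_fpf hy hM hne hv) a ⟨ha', ha⟩, one_mul]
    exact hm
  have hcyc : IsCyclic M := by
    have hfpf : ∀ h : M, h ≠ 1 → ∀ x : V,
        ((MulDistribMulAction.toMulAut H V).comp M.subtype) h x = x → x = 1 := by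
      intro h hh x hx
      by_contra hx1
      refine hh (Subtype.ext ((Subgroup.eq_bot_iff_forall _).1 (centralizer_fpf hy hM hne hx1) _
        ⟨hc h.2, hx⟩))
    have : IsMulCommutative (⊤ : Subgroup M) :=
      ⟨⟨fun a b => Subtype.ext (hMc.is_comm.comm a.1 b.1)⟩⟩
    have := CfsgLib.Solvable.isCyclic_of_fpf _ hfpf (⊤ : Subgroup M)
    exact Subgroup.topEquiv.isCyclic.1 this
  haveI := hM
  refine hy.insoluble ?_
  let f : H →* MulAut M := MulAut.conjNormal
  have hsol : Group.IsSolvable (MulAut M) := by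
    refine Group.isSolvable_of_comm fun a b => ?_
    ext x
    obtain ⟨i, hi⟩ := MonoidHom.map_cyclic (a : M →* M)
    obtain ⟨j, hj⟩ := MonoidHom.map_cyclic (b : M →* M)
    simp only [MulAut.mul_apply]
    have ha : ∀ y : M, a y = y ^ i := fun y => hi y
    have hb : ∀ y : M, b y = y ^ j := fun y => hj y
    rw [ha (b x), hb x, hb (a x), ha x, ← zpow_mul, ← zpow_mul, mul_comm]
  have : Group.IsSolvable M := Group.isSolvable_of_comm fun a b => hMc.is_comm.comm a b
  refine Group.isSolvable_of_ker_le_range M.subtype f ?_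
  rw [Subgroup.range_subtype]
  intro c hc'
  rw [← hker]
  intro m hm
  have h := congrArg (fun g : MulAut M => ((g ⟨m, hm⟩ : M) : H)) (MonoidHom.mem_ker.1 hc')
  simp only [f, MulAut.conjNormal_apply, MulAut.one_apply] at h
  calc m * c = (c * m * c⁻¹) * c := by rw [h]
    _ = c * m := by group

/-- A soluble normal subgroup is trivial. -/
theorem eq_bot_of_solvable {M : Subgroup H} (hM : M.Normal) [hs : Group.IsSolvable M] : M = ⊥ := by
  obtain ⟨n, hn⟩ := hs.solvable
  haveI := hM
  have aux : ∀ k, (derivedSeries M k).map M.subtype = ⊥ → k = 0 ∨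
      (derivedSeries M (k - 1)).map M.subtype = ⊥ := by
    intro k hk
    rcases k with _ | k
    · exact Or.inl rfl
    · right
      set D := (derivedSeries M k).map M.subtype with hD
      have hDn : D.Normal := by
        rw [hD]; infer_instance
      refine eq_bot_of_comm hy hDn fun a ha => Subgroup.mem_centralizer_iff.2 fun b hb => ?_
      have h1 : ⁅D, D⁆ = ⊥ := by
        rw [hD, ← Subgroup.map_commutator, ← derivedSeries_succ]
        exact hk
      exact (Subgroup.mem_centralizer_iff.1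
        ((Subgroup.commutator_eq_bot_iff_le_centralizer.1 h1) ha) b hb)
  have h0 : ∀ k, (derivedSeries M k).map M.subtype = ⊥ → M = ⊥ := by
    intro k
    induction k with
    | zero =>
      intro hk
      rwa [derivedSeries_zero, ← MonoidHom.range_eq_map, Subgroup.range_subtype] at hk
    | succ k ih =>
      intro hk
      rcases aux _ hk with h | h
      · omega
      · exact ih h
  exact h0 n (by rw [hn, Subgroup.map_bot])

theorem centralizer_eq_bot {M : Subgroup H} (hM : M.Normal) (hne : M ≠ ⊥) :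
    Subgroup.centralizer (M : Set H) = ⊥ := by
  haveI := hM
  have : Group.IsSolvable (Subgroup.centralizer (M : Set H)) :=
    Cfsg.Agent.S0205.result (odd_centralizer hy hM hne)
  exact eq_bot_of_solvable hy inferInstance

/-- The conjugates of a subgroup. -/
def IsCj (T X : Subgroup H) : Prop := ∃ h : H, X = T.map (MulAut.conj h).toMonoidHom

omit [Finite H] [Finite V] hy in
theorem mem_cj {T : Subgroup H} {h x : H} :
    x ∈ T.map (MulAut.conj h).toMonoidHom ↔ h⁻¹ * x * h ∈ T := by
  rw [Subgroup.mem_map_equiv, MulAut.conj_symm_apply]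

section Socle

variable {M T : Subgroup H}

/-- Data of a minimal normal subgroup and a smallest `M`-invariant subgroup of it. -/
structure Soc (M T : Subgroup H) : Prop where
  normal : M.Normal
  ne_bot : M ≠ ⊥
  min : ∀ X : Subgroup H, X.Normal → X ≤ M → X ≠ ⊥ → X = M
  tne : T ≠ ⊥
  tnorm : NormIn M T
  tmin : ∀ X : Subgroup H, NormIn M X → X ≠ ⊥ → Nat.card T ≤ Nat.card X

variable (hs : Soc M T)
include hs

omit [Finite V] hy in
theorem normIn_cj {X : Subgroup H} (hX : IsCj T X) : NormIn M X := by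
  obtain ⟨h, rfl⟩ := hX
  refine ⟨fun x hx => ?_, fun m hm x hx => ?_⟩
  · have := hs.normal.conj_mem _ (hs.tnorm.1 (mem_cj.1 hx)) h
    simpa [mul_assoc] using this
  · rw [mem_cj] at hx ⊢
    have hm' : h⁻¹ * m * h ∈ M := by simpa using hs.normal.conj_mem m hm h⁻¹
    have := hs.tnorm.2 _ hm' _ hx
    simpa [mul_assoc] using this

omit [Finite V] hy hs in
theorem card_cj {X : Subgroup H} (hX : IsCj T X) : Nat.card X = Nat.card T := by
  obtain ⟨h, rfl⟩ := hX
  exact Subgroup.card_map_of_injective (MulEquiv.injective _)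

omit [Finite V] hy in
theorem eq_of_le_cj {X Y : Subgroup H} (hX : IsCj T X) (hY : NormIn M Y) (hne : Y ≠ ⊥)
    (hle : Y ≤ X) : Y = X :=
  Subgroup.eq_of_le_of_card_ge hle (by rw [card_cj hX]; exact hs.tmin Y hY hne)

omit [Finite V] hy hs in
theorem cj_self : IsCj T T := ⟨1, by ext x; rw [mem_cj]; simp⟩

omit [Finite V] hy in
theorem commute_cj {X Y : Subgroup H} (hX : IsCj T X) (hY : IsCj T Y) (hne : X ≠ Y) {a b : H}
    (ha : a ∈ X) (hb : b ∈ Y) : a * b = b * a := by
  have hXn := normIn_cj hs hX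
  have hYn := normIn_cj hs hY
  by_cases hd : X ⊓ Y = ⊥
  · have hmem : a * b * a⁻¹ * b⁻¹ ∈ X ⊓ Y := by
      refine Subgroup.mem_inf.2 ⟨?_, mul_mem (hYn.2 a (hXn.1 ha) b hb) (inv_mem hb)⟩
      rw [show a * b * a⁻¹ * b⁻¹ = a * (b * a⁻¹ * b⁻¹) by group]
      exact mul_mem ha (hXn.2 b (hYn.1 hb) _ (inv_mem ha))
    rw [hd, Subgroup.mem_bot] at hmem
    rwa [mul_inv_eq_one, mul_inv_eq_iff_eq_mul] at hmem
  · exfalso
    have hn : NormIn M (X ⊓ Y) :=
      ⟨inf_le_left.trans hXn.1, fun m hm x hx => ⟨hXn.2 m hm x hx.1, hYn.2 m hm x hx.2⟩⟩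
    exact hne ((eq_of_le_cj hs hX hn hd inf_le_left).symm.trans
      (eq_of_le_cj hs hY hn hd inf_le_right))

omit [Finite V] hy in
/-- A subgroup containing every conjugate of `T` contains `M`. -/
theorem le_of_forall_cj {K : Subgroup H} (hK : ∀ X, IsCj T X → X ≤ K) : M ≤ K := by
  have h1 : Subgroup.normalClosure (T : Set H) = M := by
    refine hs.min _ inferInstance ?_ fun h => hs.tne ?_
    · haveI := hs.normal
      exact Subgroup.normalClosure_le_normal hs.tnorm.1
    · exact eq_bot_iff.2 fun x hx => h ▸ Subgroup.subset_normalClosure hx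
  rw [← h1, Subgroup.normalClosure, Subgroup.closure_le]
  intro y hy
  obtain ⟨x, hx, hc⟩ := Group.mem_conjugatesOfSet_iff.1 hy
  obtain ⟨c, hc⟩ := isConj_iff.1 hc
  refine hK _ ⟨c, rfl⟩ (mem_cj.2 ?_)
  rw [← hc]; simpa [mul_assoc] using hx

theorem not_solvable_M : ¬ Group.IsSolvable M := fun _ =>
  hs.ne_bot (eq_bot_of_solvable hy hs.normal)

theorem not_solvable_T : ¬ Group.IsSolvable T := by
  intro hsol
  have hmap : ∀ m ∈ M, T.map (MulAut.conj m).toMonoidHom = T := by
    intro m hm
    refine Subgroup.eq_of_le_of_card_ge (fun x hx => ?_) (by rw [card_cj ⟨m, rfl⟩])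
    have := hs.tnorm.2 m hm _ (mem_cj.1 hx)
    simpa [mul_assoc] using this
  have hD : NormIn M ⁅T, T⁆ := by
    refine ⟨(Subgroup.commutator_le_self T).trans hs.tnorm.1, fun m hm x hx => ?_⟩
    have : m * x * m⁻¹ ∈ (⁅T, T⁆).map (MulAut.conj m).toMonoidHom :=
      ⟨x, hx, by simp⟩
    rwa [Subgroup.map_commutator, hmap m hm] at this
  have hTc : ∀ a ∈ T, ∀ b ∈ T, a * b = b * a := by
    by_cases h1 : ⁅T, T⁆ = ⊥
    · intro a ha b hb
      exact ((Subgroup.mem_centralizer_iff.1
        ((Subgroup.commutator_eq_bot_iff_le_centralizer.1 h1) ha)) b hb).symm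
    · exfalso
      have h2 := eq_of_le_cj hs (cj_self (T := T)) hD h1 (Subgroup.commutator_le_self T)
      haveI : Nontrivial T := (Subgroup.nontrivial_iff_ne_bot T).2 hs.tne
      have h3 := Group.IsSolvable.commutator_lt_top_of_nontrivial T
      refine h3.ne (Subgroup.map_injective T.subtype_injective ?_)
      rw [Subgroup.map_subtype_commutator, h2, ← MonoidHom.range_eq_map, Subgroup.range_subtype]
  refine not_solvable_M hy hs (Group.isSolvable_of_comm fun a b => Subtype.ext ?_)
  have hall : ∀ X, IsCj T X → ∀ Y, IsCj T Y → ∀ a ∈ X, ∀ b ∈ Y, a * b = b * a := by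
    intro X hX Y hY a ha b hb
    rcases eq_or_ne X Y with rfl | hne
    · obtain ⟨h, rfl⟩ := hX
      obtain ⟨a', ha', rfl⟩ := ha
      obtain ⟨b', hb', rfl⟩ := hb
      rw [← map_mul, ← map_mul, hTc a' ha' b' hb']
    · exact commute_cj hs hX hY hne ha hb
  have h1 : M ≤ Subgroup.centralizer (M : Set H) :=
    le_of_forall_cj hs fun X hX x hx => Subgroup.mem_centralizer_iff.2 fun m hm => by
      have h2 : M ≤ Subgroup.centralizer {x} :=
        le_of_forall_cj hs fun Y hY y hy => Subgroup.mem_centralizer_iff.2 fun z hz => by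
          rw [Set.mem_singleton_iff.1 hz]
          exact hall X hX Y hY x hx y hy
      exact (Subgroup.mem_centralizer_iff.1 (h2 hm) x (Set.mem_singleton x)).symm
  exact (Subgroup.mem_centralizer_iff.1 (h1 a.2) b b.2).symm

/-- Within `X`, the stabiliser of a point transported along the conjugates. -/
theorem card_inf_stab {X : Subgroup H} (hX : IsCj T X) {v : V} (hv : v ≠ 1) :
    Nat.card (X ⊓ MulAction.stabilizer H v : Subgroup H) =
      Nat.card (T ⊓ MulAction.stabilizer H v : Subgroup H) := by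
  obtain ⟨h, rfl⟩ := hX
  obtain ⟨a, ha, m, hm, rfl⟩ := decompose hy hs.normal hs.ne_bot hv h
  have : T.map (MulAut.conj (a * m)).toMonoidHom ⊓ MulAction.stabilizer H v =
      (T ⊓ MulAction.stabilizer H v).map (MulAut.conj a).toMonoidHom := by
    ext x
    simp only [Subgroup.mem_inf, mem_cj]
    constructor
    · rintro ⟨h1, h2⟩
      refine ⟨?_, mul_mem (mul_mem (inv_mem ha) h2) ha⟩
      have := hs.tnorm.2 m hm _ h1
      simpa [mul_assoc] using this
    · rintro ⟨h1, h2⟩
      refine ⟨?_, ?_⟩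
      · have := hs.tnorm.2 m⁻¹ (inv_mem hm) _ h1
        simpa [mul_assoc] using this
      · have := mul_mem (mul_mem ha h2) (inv_mem ha)
        simpa [mul_assoc] using this
  rw [this]
  exact Subgroup.card_map_of_injective (MulEquiv.injective _)

/-- A nontrivial trace of a stabiliser on a conjugate of `T` is self-normalising there. -/
theorem selfnorm {X : Subgroup H} (hX : IsCj T X) {v : V} (hv : v ≠ 1)
    (hne : X ⊓ MulAction.stabilizer H v ≠ ⊥) {x : H} (hx : x ∈ X)
    (hxn : ∀ s ∈ X ⊓ MulAction.stabilizer H v, x * s * x⁻¹ ∈ X ⊓ MulAction.stabilizer H v) :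
    x ∈ MulAction.stabilizer H v := by
  let St := MulAction.stabilizer H v
  let gens : Set H := {y | ∃ a ∈ St, ∃ s ∈ X ⊓ St, y = a * s * a⁻¹}
  set R := Subgroup.closure gens with hR
  have hRle : R ≤ St := by
    rw [hR, Subgroup.closure_le]
    rintro y ⟨a, ha, s, hs', rfl⟩
    exact mul_mem (mul_mem ha hs'.2) (inv_mem ha)
  have hRne : R ≠ ⊥ := fun h => hne (eq_bot_iff.2 fun s hs' => by
    rw [← h]
    exact Subgroup.subset_closure ⟨1, one_mem _, s, hs', by simp⟩)
  let N : Subgroup H := Subgroup.normalizer (R : Set H)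
  have mk : ∀ g : H, (∀ y ∈ gens, g * y * g⁻¹ ∈ R) → g ∈ N := by
    intro g hg
    have hle : R.map (MulAut.conj g).toMonoidHom ≤ R := by
      rw [hR, MonoidHom.map_closure, Subgroup.closure_le]
      rintro _ ⟨y, hy', rfl⟩
      rw [← hR]
      simpa using hg y hy'
    have heq : R.map (MulAut.conj g).toMonoidHom = R :=
      Subgroup.eq_of_le_of_card_ge hle
        (by rw [Subgroup.card_map_of_injective (MulEquiv.injective _)])
    refine Subgroup.mem_normalizer_iff.2 fun y => ⟨fun hy' => ?_, fun hy' => ?_⟩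
    · rw [← heq]; exact ⟨y, hy', by simp⟩
    · rw [← heq, mem_cj] at hy'
      simpa [mul_assoc] using hy'
  have hSt : St ≤ N := fun g hg => mk g fun y ⟨a, ha, s, hs', e⟩ =>
    Subgroup.subset_closure ⟨g * a, mul_mem hg ha, s, hs', by rw [e]; group⟩
  have hxN : x ∈ N := mk x fun y ⟨a, ha, s, hs', e⟩ => by
    obtain ⟨h, hXe⟩ := hX
    have hY : IsCj T (X.map (MulAut.conj a).toMonoidHom) := by
      refine ⟨a * h, ?_⟩
      rw [hXe, Subgroup.map_map]
      congr 1
      ext z
      simp [mul_assoc]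
    have hyY : y ∈ X.map (MulAut.conj a).toMonoidHom := ⟨s, hs'.1, by simp [e]⟩
    by_cases hXY : X.map (MulAut.conj a).toMonoidHom = X
    · have hyX : y ∈ X ⊓ St :=
        Subgroup.mem_inf.2 ⟨hXY ▸ hyY, e ▸ mul_mem (mul_mem ha hs'.2) (inv_mem ha)⟩
      exact Subgroup.subset_closure ⟨1, one_mem _, _, hxn y hyX, by simp⟩
    · rw [commute_cj hs ⟨h, hXe⟩ hY (Ne.symm hXY) hx hyY, mul_inv_cancel_right]
      exact Subgroup.subset_closure ⟨a, ha, s, hs', e⟩
  rcases hSt.eq_or_lt with he | hlt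
  · show x ∈ St
    rw [he]; exact hxN
  · exfalso
    have htop : N = ⊤ := (hy.max v hv).2 _ hlt
    exact hRne (eq_bot_of_fixed hy (Subgroup.normalizer_eq_top_iff.1 htop) hv hRle)

/-- No stabiliser contains a conjugate of `T`. -/
theorem not_cj_le {X : Subgroup H} (hX : IsCj T X) {v : V} (hv : v ≠ 1) :
    ¬ X ≤ MulAction.stabilizer H v := by
  intro hle
  refine hs.ne_bot (eq_bot_of_fixed hy hs.normal hv (le_of_forall_cj hs fun Y hY => ?_))
  have h1 : Nat.card (X ⊓ MulAction.stabilizer H v : Subgroup H) = Nat.card T := by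
    rw [inf_eq_left.2 hle, card_cj hX]
  rw [card_inf_stab hy hs hX hv, ← card_inf_stab hy hs hY hv, ← card_cj hY] at h1
  exact inf_eq_left.1 (Subgroup.eq_of_le_of_card_ge inf_le_left h1.ge)

/-- Some involution of a conjugate of `T` moves a given point. -/
theorem exists_involution {X : Subgroup H} (hX : IsCj T X) {v : V} (hv : v ≠ 1) :
    ∃ z ∈ X, z * z = 1 ∧ z ∉ MulAction.stabilizer H v := by
  by_contra hc
  push Not at hc
  set K := Subgroup.closure {z | z ∈ X ∧ z * z = 1} with hK
  have hKX : K ≤ X := by rw [hK, Subgroup.closure_le]; exact fun z hz => hz.1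
  have hKS : K ≤ MulAction.stabilizer H v := by
    rw [hK, Subgroup.closure_le]; exact fun z hz => hc z hz.1 hz.2
  have hKn : NormIn M K := by
    refine ⟨hKX.trans (normIn_cj hs hX).1, fun m hm z hz => ?_⟩
    have : m * z * m⁻¹ ∈ K.map (MulAut.conj m).toMonoidHom := ⟨z, hz, by simp⟩
    refine (?_ : K.map (MulAut.conj m).toMonoidHom ≤ K) this
    rw [hK, MonoidHom.map_closure, Subgroup.closure_le]
    rintro _ ⟨y, ⟨hy1, hy2⟩, rfl⟩
    refine Subgroup.subset_closure ⟨by simpa using (normIn_cj hs hX).2 m hm y hy1, ?_⟩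
    rw [← map_mul, hy2, map_one]
  have hKne : K ≠ ⊥ := by
    have : Fact (Nat.Prime 2) := ⟨Nat.prime_two⟩
    have hev : Even (Nat.card T) := by
      rcases Nat.even_or_odd (Nat.card T) with h | h
      · exact h
      · exact absurd (Cfsg.Agent.S0205.result h) (not_solvable_T hy hs)
    obtain ⟨t, ht⟩ := exists_prime_orderOf_dvd_card' (G := X) 2
      (by rw [card_cj hX]; exact hev.two_dvd)
    intro h
    have : (t : H) ∈ K := Subgroup.subset_closure ⟨t.2, by
      rw [← Subgroup.coe_mul, ← sq, ← ht, pow_orderOf_eq_one]; rfl⟩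
    rw [h, Subgroup.mem_bot] at this
    rw [show t = 1 from Subtype.ext this, orderOf_one] at ht
    omega
  exact not_cj_le hy hs hX hv (eq_of_le_cj hs hX hKn hKne hKX ▸ hKS)

/-- The trace of a stabiliser on `T` meets one of its other conjugates, otherwise `T` would be
a Frobenius group. -/
theorem exists_meet {v : V} (hv : v ≠ 1) (hne : T ⊓ MulAction.stabilizer H v ≠ ⊥) :
    ∃ g ∈ T, g ∉ MulAction.stabilizer H v ∧
      ∃ b ∈ T ⊓ MulAction.stabilizer H v, b ≠ 1 ∧ g⁻¹ * b * g ∈ T ⊓ MulAction.stabilizer H v := by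
  by_contra hc
  push Not at hc
  let S : Subgroup T := (MulAction.stabilizer H v).subgroupOf T
  have hF : Cfsg.IsFrobeniusComplement S := by
    refine ⟨fun h => hne ?_, fun h => not_cj_le hy hs (cj_self (T := T)) hv
      (Subgroup.subgroupOf_eq_top.1 h), fun g hg => (Subgroup.eq_bot_iff_forall _).2 ?_⟩
    · rwa [inf_comm, ← Subgroup.subgroupOf_eq_bot.trans disjoint_iff]
    · rintro b ⟨hb1, hb2⟩
      change b ∈ MulAut.conj g • S at hb2
      rw [Subgroup.mem_pointwise_smul_iff_inv_smul_mem] at hb2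
      by_contra hb
      refine hc g g.2 hg b ⟨b.2, hb1⟩ (fun h => hb (Subtype.ext h))
        (Subgroup.mem_inf.2 ⟨?_, ?_⟩)
      · exact mul_mem (mul_mem (inv_mem g.2) b.2) g.2
      · simpa [S, Subgroup.mem_subgroupOf, mul_assoc] using hb2
  obtain ⟨K, -, hKn, hKc⟩ := CfsgLib.Solvable.exists_frobeniusKernel hF
  have hMK : M ≤ Subgroup.normalizer ((K.map T.subtype : Subgroup H) : Set H) := by
    refine le_of_forall_cj hs fun X hX x hx => ?_
    rcases eq_or_ne X T with rfl | hXT
    · have h1 := hKn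
      refine Subgroup.mem_normalizer_iff.2 fun y => ⟨?_, ?_⟩
      · rintro ⟨k, hk, rfl⟩
        exact ⟨_, h1.conj_mem k hk ⟨x, hx⟩, by simp⟩
      · rintro ⟨k, hk, e⟩
        refine ⟨_, h1.conj_mem k hk ⟨x, hx⟩⁻¹, ?_⟩
        rw [Subgroup.coe_subtype] at e
        simp only [Subgroup.coe_subtype, Subgroup.coe_mul, Subgroup.coe_inv, inv_inv, e]
        group
    · refine Subgroup.centralizer_le_normalizer _ ?_
      rintro y ⟨k, hk, rfl⟩
      exact (commute_cj hs hX cj_self hXT hx k.2).symm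
  have hn : NormIn M (K.map T.subtype) := ⟨(Subgroup.map_subtype_le _).trans hs.tnorm.1,
    fun m hm x hx => (Subgroup.mem_normalizer_iff.1 (hMK hm) x).1 hx⟩
  have hKne : K.map T.subtype ≠ ⊥ := by
    rw [Ne, Subgroup.map_eq_bot_iff_of_injective _ T.subtype_injective]
    rintro rfl
    exact hF.2.1 (Subgroup.isComplement'_bot_left.1 hKc)
  have hKT : K = ⊤ := Subgroup.map_injective T.subtype_injective (by
    rw [eq_of_le_cj hs (cj_self (T := T)) hn hKne (Subgroup.map_subtype_le _),
      ← MonoidHom.range_eq_map, Subgroup.range_subtype])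
  subst hKT
  exact hF.1 (Subgroup.isComplement'_top_left.1 hKc)

/-- `T` is the whole of `M`. -/
theorem eq_socle : T = M := by
  by_contra hne
  obtain ⟨X, hX, hXT⟩ : ∃ X, IsCj T X ∧ X ≠ T := by
    by_contra hc
    push Not at hc
    exact hne (le_antisymm hs.tnorm.1 (le_of_forall_cj hs fun Y hY => (hc Y hY).le))
  have comm : ∀ {a b : H}, a ∈ T → b ∈ X → a * b = b * a := fun ha hb =>
    commute_cj hs cj_self hX (Ne.symm hXT) ha hb
  have hev : Even (Nat.card T) := by
    rcases Nat.even_or_odd (Nat.card T) with h | h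
    · exact h
    · exact absurd (Cfsg.Agent.S0205.result h) (not_solvable_T hy hs)
  have : Fact (Nat.Prime 2) := ⟨Nat.prime_two⟩
  -- some point has a nontrivial trace; take a largest one
  obtain ⟨v₀, hv₀, hv₀ne⟩ : ∃ v : V, v ≠ 1 ∧ T ⊓ MulAction.stabilizer H v ≠ ⊥ := by
    obtain ⟨t, ht⟩ := exists_prime_orderOf_dvd_card' (G := T) 2 hev.two_dvd
    have ht2 : (t : H) * t = 1 := by
      rw [← Subgroup.coe_mul, ← sq, ← ht, pow_orderOf_eq_one]; rfl
    have htne : (t : H) ≠ 1 := fun h => by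
      rw [show t = 1 from Subtype.ext h, orderOf_one] at ht
      omega
    obtain ⟨u, hu⟩ := nontrivial hy
    have aux : ∀ w : V, (t : H) • w = w → T ⊓ MulAction.stabilizer H w ≠ ⊥ := fun w hw h =>
      htne ((Subgroup.eq_bot_iff_forall _).1 h _ ⟨t.2, hw⟩)
    by_cases hu' : (t : H) • u = u
    · exact ⟨u, hu, aux u hu'⟩
    · refine ⟨u * (t : H) • u, fun h => hu' ?_, aux _ ?_⟩
      · rw [eq_inv_of_mul_eq_one_right h, inv_eq_of_mul_eq_one_right (hy.sq u)]
      · rw [smul_mul', ← mul_smul, ht2, one_smul, mul_comm]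
  have : Nonempty {v : V // v ≠ 1} := ⟨⟨v₀, hv₀⟩⟩
  obtain ⟨⟨v, hv⟩, hmax⟩ := Finite.exists_max (α := {v : V // v ≠ 1})
    (fun v => Nat.card (T ⊓ MulAction.stabilizer H (v : V) : Subgroup H))
  simp only [Subtype.forall] at hmax
  have hvne : T ⊓ MulAction.stabilizer H v ≠ ⊥ := by
    intro h
    have h1 := hmax v₀ hv₀
    rw [h, Subgroup.card_bot] at h1
    exact hv₀ne (Subgroup.card_eq_one.1 (le_antisymm h1 Nat.card_pos))
  have hXvne : X ⊓ MulAction.stabilizer H v ≠ ⊥ := fun h => hvne (Subgroup.card_eq_one.1 (by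
    rw [← card_inf_stab hy hs hX hv, h, Subgroup.card_bot]))
  obtain ⟨g, hgT, hgS, b, hb, hb1, hbg⟩ := exists_meet hy hs hv hvne
  obtain ⟨z, hzX, hz2, hzS⟩ := exists_involution hy hs hX hv
  set y := v * (g * z) • v with hydef
  have hy1 : y ≠ 1 := by
    intro h
    have hgz : g * z ∈ MulAction.stabilizer H v := by
      rw [MulAction.mem_stabilizer_iff, eq_inv_of_mul_eq_one_right h,
        inv_eq_of_mul_eq_one_right (hy.sq v)]
    refine hgS (selfnorm hy hs cj_self hv hvne hgT fun s hs' => Subgroup.mem_inf.2 ⟨?_, ?_⟩)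
    · exact mul_mem (mul_mem hgT hs'.1) (inv_mem hgT)
    · rw [show g * s * g⁻¹ = (g * z) * s * (g * z)⁻¹ by
        rw [mul_inv_rev, mul_assoc g z s, ← comm hs'.1 hzX]; group]
      exact mul_mem (mul_mem hgz hs'.2) (inv_mem hgz)
  have hbz : b * z = z * b := comm hb.1 hzX
  have hTy : T ⊓ MulAction.stabilizer H y ≠ ⊥ := by
    refine fun h => hb1 ((Subgroup.eq_bot_iff_forall _).1 h b (Subgroup.mem_inf.2 ⟨hb.1, ?_⟩))
    have h1 : (g⁻¹ * b * g) • v = v := hbg.2
    have h2 : b * (g * z) = (g * z) * (g⁻¹ * b * g) := by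
      rw [show (g * z) * (g⁻¹ * b * g) = g * (z * (g⁻¹ * b * g)) by group, ← comm hbg.1 hzX]
      group
    rw [MulAction.mem_stabilizer_iff, hydef, smul_mul']
    rw [show b • v = v from hb.2, ← mul_smul, h2, mul_smul (g * z), h1]
  have hXy : X ⊓ MulAction.stabilizer H y = ⊥ := by
    by_contra hXyne
    have key : ∀ c ∈ X, c ∈ MulAction.stabilizer H y →
        c • v = v ∧ (z⁻¹ * c * z) • v = v := by
      intro c hcX hcy
      have hcg : c * g = g * c := (comm hgT hcX).symm
      set x := (c • v) * v with hx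
      set x' := (z • v) * (c * z) • v with hx'
      have e0 : (c • v) * (c * (g * z)) • v = v * (g * z) • v := by
        have := hcy
        rw [MulAction.mem_stabilizer_iff, hydef, smul_mul', ← mul_smul] at this
        exact this
      have e1 : x = g • x' := by
        rw [hx, hx', smul_mul', ← mul_smul, ← mul_smul, show g * (c * z) = c * (g * z) by
          rw [← mul_assoc, ← hcg, mul_assoc]]
        have hn : ∀ u : V, u⁻¹ = u := fun u => inv_eq_of_mul_eq_one_right (hy.sq u)
        have : c • v = v * (g * z) • v * (c * (g * z)) • v := by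
          rw [← e0, mul_assoc, hy.sq, mul_one]
        rw [this]
        calc v * (g * z) • v * (c * (g * z)) • v * v
            = (v * v) * ((g * z) • v * (c * (g * z)) • v) := by
              ac_rfl
          _ = _ := by rw [hy.sq, one_mul]
      have fix : ∀ s ∈ T, s • v = v → ∀ k ∈ X, s • k • v = k • v := fun s hsT hsv k hk => by
        rw [← mul_smul, comm hsT hk, mul_smul, hsv]
      have fx : ∀ s ∈ T ⊓ MulAction.stabilizer H v, s • x = x := fun s hs' => by
        rw [hx, smul_mul', fix s hs'.1 hs'.2 c hcX, show s • v = v from hs'.2]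
      have fx' : ∀ s ∈ T ⊓ MulAction.stabilizer H v, s • x' = x' := fun s hs' => by
        rw [hx', smul_mul', fix s hs'.1 hs'.2 z hzX, fix s hs'.1 hs'.2 _ (mul_mem hcX hzX)]
      have hx1 : x = 1 := by
        by_contra hx1
        have heq : T ⊓ MulAction.stabilizer H v = T ⊓ MulAction.stabilizer H x :=
          Subgroup.eq_of_le_of_card_ge (fun s hs' => ⟨hs'.1, fx s hs'⟩) (hmax x hx1)
        refine hgS (selfnorm hy hs cj_self hv hvne hgT fun s hs' => ?_)
        rw [heq]
        refine Subgroup.mem_inf.2 ⟨mul_mem (mul_mem hgT hs'.1) (inv_mem hgT), ?_⟩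
        rw [MulAction.mem_stabilizer_iff, e1, ← mul_smul]
        rw [inv_mul_cancel_right, mul_smul, fx' s hs']
      have hx'1 : x' = 1 := by
        rw [hx1] at e1
        rw [← inv_smul_smul g x', ← e1, smul_one]
      refine ⟨?_, ?_⟩
      · rw [eq_inv_of_mul_eq_one_left (hx.symm.trans hx1), inv_eq_of_mul_eq_one_right (hy.sq v)]
      · have h1 : (c * z) • v = z • v := by
          rw [eq_inv_of_mul_eq_one_right (hx'.symm.trans hx'1), inv_eq_of_mul_eq_one_right (hy.sq _)]
        rw [mul_assoc, mul_smul, h1, inv_smul_smul]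
    have hzi : z⁻¹ = z := inv_eq_of_mul_eq_one_right hz2
    refine hzS (key z hzX (selfnorm hy hs hX hy1 hXyne hzX fun c hc => ?_)).1
    have hcX : z * c * z⁻¹ ∈ X := mul_mem (mul_mem hzX hc.1) (inv_mem hzX)
    obtain ⟨k1, k2⟩ := key c hc.1 hc.2
    refine Subgroup.mem_inf.2 ⟨hcX, ?_⟩
    have hg : z * c * z⁻¹ * g = g * (z * c * z⁻¹) := (comm hgT hcX).symm
    rw [MulAction.mem_stabilizer_iff, hydef, smul_mul']
    have h1 : (z * c * z⁻¹) • v = v := by rw [hzi]; rwa [hzi] at k2
    rw [h1, ← mul_smul, show z * c * z⁻¹ * (g * z) = g * z * c by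
      rw [← mul_assoc, hg]; group, mul_smul (g * z), k1]
  have := card_inf_stab hy hs hX hy1
  rw [hXy, Subgroup.card_bot] at this
  exact hTy (Subgroup.card_eq_one.1 this.symm)

end Socle

/-- The main theorem. -/
theorem exists_simple_normal :
    ∃ T : Subgroup H, T.Normal ∧ IsSimpleGroup T ∧ ¬ IsMulCommutative T ∧
      Subgroup.centralizer (T : Set H) = ⊥ := by
  classical
  have : Fintype (Subgroup H) := Fintype.ofFinite _
  have htop : (⊤ : Subgroup H) ≠ ⊥ := fun h => hy.insoluble (by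
    have : Subsingleton H := subsingleton_of_forall_eq 1 fun x =>
      Subgroup.mem_bot.1 (h ▸ Subgroup.mem_top x : x ∈ (⊥ : Subgroup H))
    exact Group.isSolvable_of_comm fun a b => Subsingleton.elim _ _)
  obtain ⟨M, ⟨hMn, hMne⟩, hMmin⟩ := Set.Finite.exists_minimalFor (fun X : Subgroup H => Nat.card X)
    {X : Subgroup H | X.Normal ∧ X ≠ ⊥} (Set.toFinite _) ⟨⊤, inferInstance, htop⟩
  obtain ⟨T, ⟨hTn, hTne⟩, hTmin⟩ := Set.Finite.exists_minimalFor (fun X : Subgroup H => Nat.card X)
    {X : Subgroup H | NormIn M X ∧ X ≠ ⊥} (Set.toFinite _)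
    ⟨M, ⟨le_rfl, fun m hm x hx => mul_mem (mul_mem hm hx) (inv_mem hm)⟩, hMne⟩
  have hs : Soc M T := ⟨hMn, hMne, fun X hX hle hne => Subgroup.eq_of_le_of_card_ge hle (by
      by_contra hlt
      exact hlt (hMmin ⟨hX, hne⟩ (le_of_not_ge hlt))),
    hTne, hTn, fun X hX hne => by
      by_contra hlt
      exact hlt (hTmin ⟨hX, hne⟩ (le_of_not_ge hlt))⟩
  have hTM := eq_socle hy hs
  subst hTM
  have hnc : ¬ IsMulCommutative T := fun h =>
    not_solvable_M hy hs (Group.isSolvable_of_comm fun a b => h.is_comm.comm a b)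
  refine ⟨T, hMn, ?_, hnc, centralizer_eq_bot hy hMn hMne⟩
  have : Nontrivial T := (Subgroup.nontrivial_iff_ne_bot T).2 hTne
  refine ⟨fun A hA => ?_⟩
  by_cases hA1 : A = ⊥
  · exact Or.inl hA1
  right
  apply Subgroup.map_injective T.subtype_injective
  rw [eq_of_le_cj hs (cj_self (T := T)) (Y := A.map T.subtype) ?_ ?_ (Subgroup.map_subtype_le _),
    ← MonoidHom.range_eq_map, Subgroup.range_subtype]
  · refine ⟨Subgroup.map_subtype_le _, ?_⟩
    rintro m hm x ⟨k, hk, rfl⟩
    exact ⟨_, hA.conj_mem k hk ⟨m, hm⟩, by simp⟩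
  · rwa [Ne, Subgroup.map_eq_bot_iff_of_injective _ T.subtype_injective]

end CfsgLib.Amalgam.ExtPrim
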