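import Cfsg.Prelude.Def_PLocal
import Cfsg.Agent.Lib.Comp.FStar
import Cfsg.Agent.Lib.Coprime.Action
import Cfsg.Agent.Lib.Solvable.PCore

/-!
`[F*(H), Y]` for a `p`-group `Y` when `O_p(H) = 1`.
-/

set_option autoImplicit false
set_option linter.unusedSectionVars false
set_option linter.style.haveILetI false

namespace CfsgLib.Amalgam

open Cfsg Subgroup

variable {G : Type*} [Group G] [Finite G] {p : ℕ} [Fact p.Prime]

theorem not_dvd_card_of_normal_nilpotent (hO : pCore p G = ⊥) (N : Subgroup G) [N.Normal]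
    [Group.IsNilpotent N] : ¬ p ∣ Nat.card N := by
  intro hd
  obtain ⟨S⟩ : Nonempty (Sylow p N) := inferInstance
  haveI hn : (S : Subgroup N).Normal :=
    ((Group.isNilpotent_of_finite_tfae (G := N)).out 0 3 rfl rfl).1 inferInstance p ⟨Fact.out⟩ S
  haveI := Sylow.characteristic_of_normal S hn
  haveI : ((S : Subgroup N).map N.subtype).Normal := inferInstance
  have h := CfsgLib.Solvable.le_pCore this (S.isPGroup'.map _)
  rw [hO, le_bot_iff, map_eq_bot_iff_of_injective _ N.subtype_injective] at h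
  exact S.ne_bot_of_dvd_card hd h

theorem coprime_card_fittingSubgroup (hO : pCore p G = ⊥) :
    (Nat.card (fittingSubgroup G)).Coprime p := by
  haveI := CfsgLib.Comp.fittingSubgroup_normal G
  haveI := CfsgLib.Comp.isNilpotent_fittingSubgroup G
  exact ((Nat.Prime.coprime_iff_not_dvd Fact.out).2 (not_dvd_card_of_normal_nilpotent hO _)).symm

theorem commutator_fitting_eq (hO : pCore p G = ⊥) {Y : Subgroup G} (hY : IsPGroup p Y) :
    ⁅⁅fittingSubgroup G, Y⁆, Y⁆ = ⁅fittingSubgroup G, Y⁆ := by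
  haveI := CfsgLib.Comp.isNilpotent_fittingSubgroup G
  refine CfsgLib.Coprime.commutator_commutator_eq ?_ ?_ (Or.inr inferInstance)
  · haveI := CfsgLib.Comp.fittingSubgroup_normal G
    exact CfsgLib.Comp.le_normalizer_of_normal' (fittingSubgroup G) Y
  · obtain ⟨k, hk⟩ := hY.exists_card_eq
    rw [hk]
    exact ((coprime_card_fittingSubgroup hO).pow_right k).symm

theorem commutator_sup_left_le {R X X' Y : Subgroup G} (hX : X ≤ normalizer (R : Set G))
    (hX' : X' ≤ normalizer (R : Set G)) (h : ⁅X, Y⁆ ≤ R) (h' : ⁅X', Y⁆ ≤ R) : ⁅X ⊔ X', Y⁆ ≤ R := by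
  let W : Subgroup G :=
    { carrier := {g | g ∈ normalizer (R : Set G) ∧ ∀ y ∈ Y, g * y * g⁻¹ * y⁻¹ ∈ R}
      one_mem' := ⟨one_mem _, fun y _ => by simp⟩
      mul_mem' := by
        rintro a b ⟨ha, ha'⟩ ⟨hb, hb'⟩
        refine ⟨mul_mem ha hb, fun y hy => ?_⟩
        rw [show a * b * y * (a * b)⁻¹ * y⁻¹ = (a * (b * y * b⁻¹ * y⁻¹) * a⁻¹) * (a * y * a⁻¹ * y⁻¹) by group]
        exact mul_mem ((mem_normalizer_iff.1 ha _).1 (hb' y hy)) (ha' y hy)
      inv_mem' := by
        rintro a ⟨ha, ha'⟩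
        refine ⟨inv_mem ha, fun y hy => ?_⟩
        rw [show a⁻¹ * y * a⁻¹⁻¹ * y⁻¹ = a⁻¹ * (a * y * a⁻¹ * y⁻¹)⁻¹ * a⁻¹⁻¹ by group]
        exact (mem_normalizer_iff.1 (inv_mem ha) _).1 (inv_mem (ha' y hy)) }
  have hW : X ⊔ X' ≤ W := sup_le (fun x hx => ⟨hX hx, fun y hy => h (commutator_mem_commutator hx hy)⟩)
    (fun x hx => ⟨hX' hx, fun y hy => h' (commutator_mem_commutator hx hy)⟩)
  exact commutator_le.2 fun g hg y hy => (hW hg).2 y hy

theorem commutator_sSup_left_le {R Y : Subgroup G} {S : Set (Subgroup G)}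
    (hS : ∀ L ∈ S, L ≤ normalizer (R : Set G) ∧ ⁅L, Y⁆ ≤ R) : ⁅sSup S, Y⁆ ≤ R := by
  let T : Finset (Subgroup G) := (Set.toFinite S).toFinset
  have key : T.sup id ≤ normalizer (R : Set G) ∧ ⁅T.sup id, Y⁆ ≤ R := by
    refine Finset.sup_induction (p := fun U : Subgroup G => U ≤ normalizer (R : Set G) ∧ ⁅U, Y⁆ ≤ R)
      ⟨bot_le, by rw [commutator_bot_left]; exact bot_le⟩
      (fun a ha b hb => ⟨sup_le ha.1 hb.1, commutator_sup_left_le ha.1 hb.1 ha.2 hb.2⟩) fun L hL => ?_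
    exact hS L ((Set.toFinite S).mem_toFinset.1 hL)
  refine le_trans (commutator_mono ?_ le_rfl) key.2
  exact sSup_le fun L hL => Finset.le_sup (f := id) ((Set.toFinite S).mem_toFinset.2 hL)

/-- A quasisimple subgroup not centralized by `Y`, commuting with its other `Y`-conjugates, lies in `[A, Y]`. -/
theorem quasisimple_le_commutator {L A Y : Subgroup G} (hq : IsQuasisimple L) (hLA : L ≤ A)
    (hY : ¬ Y ≤ centralizer (L : Set G))
    (hdisj : ∀ y ∈ Y, L.map (MulAut.conj y).toMonoidHom ≠ L →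
      L.map (MulAut.conj y).toMonoidHom ≤ centralizer (L : Set G)) : L ≤ ⁅A, Y⁆ := by
  have hperf : ⁅L, L⁆ = L := by
    haveI := hq.1
    rw [← map_subtype_commutator, Group.IsPerfect.commutator_eq_top, ← MonoidHom.range_eq_map, L.range_subtype]
  obtain ⟨y, hy, hyL⟩ := SetLike.not_le_iff_exists.1 hY
  have hLN : L ≤ normalizer ((⁅A, Y⁆ : Subgroup G) : Set G) := by
    intro a ha
    have h1 : ∀ a ∈ A, ⁅A, Y⁆ ≤ (⁅A, Y⁆).comap (MulAut.conj a).toMonoidHom := by
      intro a ha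
      refine commutator_le.2 fun b hb z hz => ?_
      show a * (b * z * b⁻¹ * z⁻¹) * a⁻¹ ∈ ⁅A, Y⁆
      rw [show a * (b * z * b⁻¹ * z⁻¹) * a⁻¹ =
        (a * b * z * (a * b)⁻¹ * z⁻¹) * (a * z * a⁻¹ * z⁻¹)⁻¹ by group]
      exact mul_mem (commutator_mem_commutator (mul_mem ha hb) hz)
        (inv_mem (commutator_mem_commutator ha hz))
    refine mem_normalizer_iff.2 fun x => ⟨fun hx => h1 a (hLA ha) hx, fun hx => ?_⟩
    have := h1 a⁻¹ (inv_mem (hLA ha)) hx
    simpa [mul_assoc] using this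
  have hmem : ∀ a ∈ L, a * y * a⁻¹ * y⁻¹ ∈ ⁅A, Y⁆ := fun a ha => commutator_mem_commutator (hLA ha) hy
  by_cases hfix : L.map (MulAut.conj y).toMonoidHom = L
  · have hmemL : ∀ a ∈ L, a * y * a⁻¹ * y⁻¹ ∈ L := fun a ha => by
      have : y * a⁻¹ * y⁻¹ ∈ L := by
        rw [← hfix]; exact ⟨a⁻¹, inv_mem ha, rfl⟩
      simpa [mul_assoc] using mul_mem ha this
    haveI : ((⁅A, Y⁆ : Subgroup G).subgroupOf L).Normal := ⟨fun x hx a => by
      rw [mem_subgroupOf] at hx ⊢
      exact (mem_normalizer_iff.1 (hLN a.2) _).1 hx⟩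
    rcases CfsgLib.Comp.normal_eq_top_or_le_center hq ((⁅A, Y⁆ : Subgroup G).subgroupOf L) with h | h
    · exact subgroupOf_eq_top.1 h
    exfalso
    apply hyL
    -- `y` acts trivially modulo the centre, hence trivially on the perfect group `L`
    have hc : ∀ a ∈ L, ∀ b ∈ L, y * (a * b * a⁻¹ * b⁻¹) * y⁻¹ = a * b * a⁻¹ * b⁻¹ := by
      intro a ha b hb
      have hz : ∀ a ∈ L, ∀ c ∈ L, c * (a * y * a⁻¹ * y⁻¹) = (a * y * a⁻¹ * y⁻¹) * c := fun a ha c hc =>
        congrArg Subtype.val (mem_center_iff.1 (h (show (⟨_, hmemL a ha⟩ : L) ∈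
          (⁅A, Y⁆ : Subgroup G).subgroupOf L from hmem a ha)) ⟨c, hc⟩)
      have hya : ∀ a ∈ L, y * a * y⁻¹ ∈ L := fun a ha => by rw [← hfix]; exact ⟨a, ha, rfl⟩
      obtain ⟨za, hza, hzac⟩ : ∃ z, y * a * y⁻¹ = z * a ∧ ∀ c ∈ L, c * z = z * c := by
        refine ⟨(a * (a⁻¹ * y * a⁻¹⁻¹ * y⁻¹) * a⁻¹), by group, fun c hc => ?_⟩
        have := hz a⁻¹ (inv_mem ha) a ha
        rw [show a * (a⁻¹ * y * a⁻¹⁻¹ * y⁻¹) * a⁻¹ = a⁻¹ * y * a⁻¹⁻¹ * y⁻¹ by rw [this]; group]
        exact hz a⁻¹ (inv_mem ha) c hc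
      obtain ⟨zb, hzb, hzbc⟩ : ∃ z, y * b * y⁻¹ = z * b ∧ ∀ c ∈ L, c * z = z * c := by
        refine ⟨(b * (b⁻¹ * y * b⁻¹⁻¹ * y⁻¹) * b⁻¹), by group, fun c hc => ?_⟩
        have := hz b⁻¹ (inv_mem hb) b hb
        rw [show b * (b⁻¹ * y * b⁻¹⁻¹ * y⁻¹) * b⁻¹ = b⁻¹ * y * b⁻¹⁻¹ * y⁻¹ by rw [this]; group]
        exact hz b⁻¹ (inv_mem hb) c hc
      have hza' : za ∈ L := by
        have := mul_mem (hya a ha) (inv_mem ha)
        rwa [hza, mul_inv_cancel_right] at this
      have hzb' : zb ∈ L := by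
        have := mul_mem (hya b hb) (inv_mem hb)
        rwa [hzb, mul_inv_cancel_right] at this
      rw [show y * (a * b * a⁻¹ * b⁻¹) * y⁻¹ = (y * a * y⁻¹) * (y * b * y⁻¹) * (y * a * y⁻¹)⁻¹ * (y * b * y⁻¹)⁻¹ by group,
        hza, hzb]
      have e1 : za * a * (zb * b) = za * zb * (a * b) := by
        rw [mul_assoc za a, ← mul_assoc a zb, hzbc a ha]; group
      have e2 : (za * zb)⁻¹ * (a * b) = (a * b) * (za * zb)⁻¹ := by
        have hzz : ∀ c ∈ L, c * (za * zb) = za * zb * c := fun c hc => by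
          rw [← mul_assoc, hzac c hc, mul_assoc, hzbc c hc, mul_assoc]
        have := hzz _ (mul_mem ha hb)
        rw [inv_mul_eq_iff_eq_mul, ← mul_assoc, ← this, mul_inv_cancel_right]
      calc za * a * (zb * b) * (za * a)⁻¹ * (zb * b)⁻¹
          = za * a * (zb * b) * (a⁻¹ * za⁻¹) * (b⁻¹ * zb⁻¹) := by rw [mul_inv_rev, mul_inv_rev]
        _ = za * zb * (a * b * a⁻¹) * za⁻¹ * b⁻¹ * zb⁻¹ := by rw [e1]; group
        _ = za * zb * (za⁻¹ * (a * b * a⁻¹)) * b⁻¹ * zb⁻¹ := by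
            have := hzac _ (mul_mem (mul_mem ha hb) (inv_mem ha))
            rw [mul_assoc (za * zb), show a * b * a⁻¹ * za⁻¹ = za⁻¹ * (a * b * a⁻¹) by
              rw [eq_inv_mul_iff_mul_eq, ← mul_assoc, ← this, mul_inv_cancel_right]]
        _ = zb * (a * b * a⁻¹ * b⁻¹) * zb⁻¹ := by
            rw [hzbc za hza']; group
        _ = _ := by
            rw [← hzbc _ (mul_mem (mul_mem (mul_mem ha hb) (inv_mem ha)) (inv_mem hb)), mul_inv_cancel_right]
    have hle : (L : Subgroup G) ≤ centralizer {y} := by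
      conv_lhs => rw [← hperf]
      refine commutator_le.2 fun a ha b hb => mem_centralizer_singleton_iff.2 ?_
      have := hc a ha b hb
      exact ((mul_inv_eq_iff_eq_mul.1 this)).symm
    exact fun a ha => mem_centralizer_singleton_iff.1 (hle ha)
  · have hcomm : ∀ b ∈ L.map (MulAut.conj y).toMonoidHom, ∀ c ∈ L, b * c = c * b := fun b hb c hc =>
      (hdisj y hy hfix hb c hc).symm
    conv_lhs => rw [← hperf]
    refine commutator_le.2 fun a ha c hc => ?_
    show a * c * a⁻¹ * c⁻¹ ∈ _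
    have hb : y * a⁻¹ * y⁻¹ ∈ L.map (MulAut.conj y).toMonoidHom := ⟨a⁻¹, inv_mem ha, rfl⟩
    have e : a * c * a⁻¹ * c⁻¹ = (a * y * a⁻¹ * y⁻¹) * (c * (a * y * a⁻¹ * y⁻¹)⁻¹ * c⁻¹) := by
      have h1 := hcomm _ hb c hc
      calc a * c * a⁻¹ * c⁻¹
          = a * (c * (y * a⁻¹ * y⁻¹)) * (y * a⁻¹ * y⁻¹)⁻¹ * a⁻¹ * c⁻¹ := by group
        _ = a * ((y * a⁻¹ * y⁻¹) * c) * (y * a⁻¹ * y⁻¹)⁻¹ * a⁻¹ * c⁻¹ := by rw [h1]
        _ = _ := by group
    rw [e]
    exact mul_mem (hmem a ha) ((mem_normalizer_iff.1 (hLN hc) _).1 (inv_mem (hmem a ha)))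

/-- A component not centralized by `Y` lies in `[A, Y]` for every `A` containing it. -/
theorem component_le_commutator {L A Y : Subgroup G} (hL : IsComponent L) (hLA : L ≤ A)
    (hY : ¬ Y ≤ centralizer (L : Set G)) : L ≤ ⁅A, Y⁆ :=
  quasisimple_le_commutator hL.2 hLA hY fun y _ hne =>
    (CfsgLib.Comp.component_eq_or_le_centralizer (CfsgLib.Comp.isComponent_map_conj hL y) hL).resolve_left hne

/-- `[F*(G), Y]` lies in `[F(G), Y]` times the components not centralized by `Y`. -/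
theorem commutator_fstar_le (Y : Subgroup G) :
    ⁅generalizedFittingSubgroup G, Y⁆ ≤ ⁅fittingSubgroup G, Y⁆ ⊔
      sSup {L : Subgroup G | IsComponent L ∧ ¬ Y ≤ centralizer (L : Set G)} := by
  haveI := CfsgLib.Comp.fittingSubgroup_normal G
  haveI := CfsgLib.Comp.generalizedFittingSubgroup_normal G
  set F := fittingSubgroup G
  set A := sSup {L : Subgroup G | IsComponent L ∧ ¬ Y ≤ centralizer (L : Set G)} with hA
  set R := ⁅F, Y⁆ ⊔ A with hR
  have hFY : ⁅F, Y⁆ ≤ F := commutator_le_left F Y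
  have hnormFY : ∀ g ∈ F, g ∈ normalizer ((⁅F, Y⁆ : Subgroup G) : Set G) := by
    intro a ha
    have h1 : ∀ a ∈ F, ⁅F, Y⁆ ≤ (⁅F, Y⁆).comap (MulAut.conj a).toMonoidHom := by
      intro a ha
      refine commutator_le.2 fun b hb z hz => ?_
      show a * (b * z * b⁻¹ * z⁻¹) * a⁻¹ ∈ ⁅F, Y⁆
      rw [show a * (b * z * b⁻¹ * z⁻¹) * a⁻¹ =
        (a * b * z * (a * b)⁻¹ * z⁻¹) * (a * z * a⁻¹ * z⁻¹)⁻¹ by group]
      exact mul_mem (commutator_mem_commutator (mul_mem ha hb) hz)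
        (inv_mem (commutator_mem_commutator ha hz))
    refine mem_normalizer_iff.2 fun x => ⟨fun hx => h1 a ha hx, fun hx => ?_⟩
    have := h1 a⁻¹ (inv_mem ha) hx
    simpa [mul_assoc] using this
  have hFR : F ≤ normalizer (R : Set G) := by
    refine CfsgLib.Comp.le_normalizer_sup hnormFY (CfsgLib.Comp.le_normalizer_sSup _ fun m hm L hL => ?_)
    rw [CfsgLib.Comp.map_conj_eq_iff.2 (CfsgLib.Comp.centralizer_le_normalizer L
      (centralizer_le (CfsgLib.Comp.le_layer hL.1) (CfsgLib.Comp.fittingSubgroup_le_centralizer_layer G hm)))]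
    exact hL
  have hER : layer G ≤ normalizer (R : Set G) := by
    refine CfsgLib.Comp.le_normalizer_sup ?_ (CfsgLib.Comp.le_normalizer_sSup _ fun m hm L hL => by
      rw [CfsgLib.Comp.map_conj_eq_iff.2 (CfsgLib.Comp.layer_le_normalizer_component hL.1 hm)]; exact hL)
    exact ((CfsgLib.Comp.layer_le_centralizer_fittingSubgroup G).trans (centralizer_le hFY)).trans
      (CfsgLib.Comp.centralizer_le_normalizer _)
  refine commutator_sup_left_le hER hFR ?_ le_sup_left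
  refine commutator_sSup_left_le fun L hL => ⟨(CfsgLib.Comp.le_layer hL).trans hER, ?_⟩
  by_cases hc : Y ≤ centralizer (L : Set G)
  · rw [commutator_eq_bot_iff_le_centralizer.2 (CfsgLib.Comp.le_centralizer_symm hc)]; exact bot_le
  · refine commutator_le.2 fun a ha y hy => ?_
    have hmap : IsComponent (L.map (MulAut.conj y).toMonoidHom) := CfsgLib.Comp.isComponent_map_conj hL y
    have hAmem : L ≤ A := le_sSup ⟨hL, hc⟩
    have hA' : y * a⁻¹ * y⁻¹ ∈ A := by
      by_cases hc' : Y ≤ centralizer ((L.map (MulAut.conj y).toMonoidHom : Subgroup G) : Set G)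
      · have : L.map (MulAut.conj y).toMonoidHom = L := by
          ext x
          constructor
          · rintro ⟨l, hl, rfl⟩
            have h1 := hc' hy _ ⟨l, hl, rfl⟩
            have h2 : y * l * y⁻¹ = l := by
              have h3 : y * l * y⁻¹ * y = y * (y * l * y⁻¹) := h1
              have h4 : y * l = y * (y * l * y⁻¹) := by simpa [mul_assoc] using h3
              exact (mul_left_cancel h4).symm
            show y * l * y⁻¹ ∈ L
            rw [h2]; exact hl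
          · intro hx
            have h1 := hc' hy _ ⟨x, hx, rfl⟩
            have h3 : y * x * y⁻¹ * y = y * (y * x * y⁻¹) := h1
            have h4 : y * x = y * (y * x * y⁻¹) := by simpa [mul_assoc] using h3
            exact ⟨x, hx, (mul_left_cancel h4).symm⟩
        exact hAmem (this ▸ ⟨a⁻¹, inv_mem ha, rfl⟩)
      · exact le_sSup (s := {L : Subgroup G | IsComponent L ∧ ¬ Y ≤ centralizer (L : Set G)})
          ⟨hmap, hc'⟩ ⟨a⁻¹, inv_mem ha, rfl⟩
    have := A.mul_mem (hAmem ha) hA'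
    refine mem_sup_right ?_
    show a * y * a⁻¹ * y⁻¹ ∈ A
    simpa [mul_assoc] using this

theorem commutator_fstar_eq (hO : pCore p G = ⊥) {Y : Subgroup G} (hY : IsPGroup p Y) :
    ⁅⁅generalizedFittingSubgroup G, Y⁆, Y⁆ = ⁅generalizedFittingSubgroup G, Y⁆ := by
  haveI := CfsgLib.Comp.fittingSubgroup_normal G
  haveI := CfsgLib.Comp.generalizedFittingSubgroup_normal G
  set F := fittingSubgroup G
  set A := sSup {L : Subgroup G | IsComponent L ∧ ¬ Y ≤ centralizer (L : Set G)} with hA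
  set R := ⁅F, Y⁆ ⊔ A with hR
  have hle : ⁅generalizedFittingSubgroup G, Y⁆ ≤ ⁅⁅generalizedFittingSubgroup G, Y⁆, Y⁆ := by
    have hAN : A ≤ ⁅generalizedFittingSubgroup G, Y⁆ := sSup_le fun L hL => component_le_commutator hL.1
      ((CfsgLib.Comp.le_layer hL.1).trans (CfsgLib.Comp.layer_le_generalizedFitting G)) hL.2
    have hRN : R ≤ ⁅⁅generalizedFittingSubgroup G, Y⁆, Y⁆ := by
      refine sup_le ?_ (sSup_le fun L hL => component_le_commutator hL.1
        ((le_sSup (s := {L : Subgroup G | IsComponent L ∧ ¬ Y ≤ centralizer (L : Set G)}) hL).trans hAN) hL.2)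
      rw [← commutator_fitting_eq hO hY]
      exact commutator_mono (commutator_mono (CfsgLib.Comp.fittingSubgroup_le_generalizedFitting G) le_rfl) le_rfl
    exact (commutator_fstar_le Y).trans hRN
  exact le_antisymm (commutator_mono (commutator_le_left _ Y) le_rfl) hle

theorem eq_bot_of_commutator_commutator_fstar (hO : pCore p G = ⊥) {Y Y₀ : Subgroup G}
    (hY : IsPGroup p Y) (hle : Y₀ ≤ Y) (h : ⁅⁅generalizedFittingSubgroup G, Y⁆, Y₀⁆ = ⊥) : Y₀ = ⊥ := by
  have hY₀ := hY.to_le hle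
  have h1 : ⁅generalizedFittingSubgroup G, Y₀⁆ = ⊥ := by
    rw [← commutator_fstar_eq hO hY₀, eq_bot_iff, ← h]
    exact commutator_mono (commutator_mono le_rfl hle) le_rfl
  have h2 : Y₀ ≤ fittingSubgroup G :=
    (CfsgLib.Comp.le_centralizer_symm (commutator_eq_bot_iff_le_centralizer.1 h1)).trans
      (CfsgLib.Comp.centralizer_generalizedFitting_le_fitting G)
  obtain ⟨k, hk⟩ := hY₀.exists_card_eq
  refine Subgroup.card_eq_one.1 ?_
  exact Nat.eq_one_of_dvd_coprimes ((coprime_card_fittingSubgroup hO).pow_right k)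
    (card_dvd_of_le h2) (hk ▸ dvd_rfl)

theorem iterCommutator_le_of_isSubnormal {N Y K : Subgroup G} (hK : K.IsSubnormal) (hYK : Y ≤ K) :
    ∃ n, iterCommutator N Y n ≤ K := by
  induction hK with
  | top => exact ⟨0, le_top⟩
  | step H K hle _ hn ih =>
    obtain ⟨n, hn'⟩ := ih (hYK.trans hle)
    refine ⟨n + 1, ?_⟩
    show ⁅iterCommutator N Y n, Y⁆ ≤ H
    refine (commutator_mono hn' hYK).trans ?_
    exact le_normalizer_iff_commutator_le_right.1 ((normal_subgroupOf_iff_le_normalizer hle).1 hn)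

theorem commutator_fstar_subnormal (hO : pCore p G = ⊥) {Y K : Subgroup G} (hY : IsPGroup p Y)
    (hK : K.IsSubnormal) (hYK : Y ≤ K) :
    ⁅generalizedFittingSubgroup G, Y⁆ = ⁅(generalizedFittingSubgroup K).map K.subtype, Y⁆ ∧
      ⁅(generalizedFittingSubgroup K).map K.subtype, Y⁆ =
        ⁅⁅(generalizedFittingSubgroup K).map K.subtype, Y⁆, Y⁆ := by
  haveI := CfsgLib.Comp.generalizedFittingSubgroup_normal G
  rw [CfsgLib.Comp.generalizedFitting_map_subtype hK]
  have h1 : ⁅generalizedFittingSubgroup G, Y⁆ ≤ generalizedFittingSubgroup G ⊓ K := by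
    refine le_inf (commutator_le_left _ Y) ?_
    obtain ⟨n, hn⟩ := iterCommutator_le_of_isSubnormal (N := ⁅generalizedFittingSubgroup G, Y⁆) hK hYK
    have e : ∀ m, iterCommutator ⁅generalizedFittingSubgroup G, Y⁆ Y m = ⁅generalizedFittingSubgroup G, Y⁆ := by
      intro m
      induction m with
      | zero => rfl
      | succ m ih => show ⁅iterCommutator _ Y m, Y⁆ = _; rw [ih, commutator_fstar_eq hO hY]
    rwa [e] at hn
  have e : ⁅generalizedFittingSubgroup G, Y⁆ = ⁅generalizedFittingSubgroup G ⊓ K, Y⁆ := by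
    refine le_antisymm ?_ (commutator_mono inf_le_left le_rfl)
    conv_lhs => rw [← commutator_fstar_eq hO hY]
    exact commutator_mono h1 le_rfl
  exact ⟨e, by rw [← e, commutator_fstar_eq hO hY]⟩

end CfsgLib.Amalgam
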