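import Cfsg.Agent.Lib.Amalgam.FStarCommutator

/-!
`L = [F*(H), Q]` and the largest normal subgroup `F` of `F*(H)` centralized by `Q`.
-/

set_option autoImplicit false
set_option linter.unusedSectionVars false
set_option linter.style.haveILetI false

namespace CfsgLib.Amalgam

open Cfsg Subgroup

variable {G : Type*} [Group G] [Finite G] {p : ℕ} [Fact p.Prime]

/-- A fixed point of a `p`-group in `L = [L,Q]` whose image in `L/L'` has order prime to `p` lies in `L'`. -/
theorem mem_commutator_of_fixed {L Q : Subgroup G} (hQ : IsPGroup p Q) (hQL : Q ≤ normalizer (L : Set G))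
    (hL : ⁅L, Q⁆ = L) {z : L} (hz : ∀ q ∈ Q, q * (z : G) * q⁻¹ = z)
    (hord : (orderOf (Abelianization.of z)).Coprime p) : z ∈ commutator L := by
  haveI := Fintype.ofFinite Q
  let c : Q → (L →* L) := fun q =>
    { toFun := fun x => ⟨(q : G) * x * (q : G)⁻¹, (mem_normalizer_iff.1 (hQL q.2) _).1 x.2⟩
      map_one' := Subtype.ext (by simp)
      map_mul' := fun a b => Subtype.ext (by simp [mul_assoc]) }
  let Ψ : L →* Abelianization L := ∏ q : Q, Abelianization.of.comp (c q)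
  have hΨ : ∀ x, Ψ x = ∏ q : Q, Abelianization.of (c q x) := fun x => by simp [Ψ]
  have hker : L ≤ Ψ.ker.map L.subtype := by
    conv_lhs => rw [← hL]
    refine commutator_le.2 fun x hx y hy => ?_
    refine ⟨⟨x, hx⟩ * c ⟨y, hy⟩ ⟨x, hx⟩⁻¹, ?_, ?_⟩
    · show Ψ _ = 1
      have h1 : Ψ (c ⟨y, hy⟩ ⟨x, hx⟩⁻¹) = Ψ ⟨x, hx⟩⁻¹ := by
        rw [hΨ, hΨ]
        refine Fintype.prod_equiv (Equiv.mulRight (⟨y, hy⟩ : Q)) _ _ fun q => ?_
        congr 1
        exact Subtype.ext (by simp [c, mul_assoc])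
      rw [map_mul, h1, ← map_mul, mul_inv_cancel, map_one]
    · show x * (y * x⁻¹ * y⁻¹) = x * y * x⁻¹ * y⁻¹
      group
  have h1 : Ψ z = 1 := by
    obtain ⟨w, hw, he⟩ := hker z.2
    rw [← L.subtype_injective he]; exact hw
  rw [hΨ] at h1
  have h2 : ∀ q : Q, c q z = z := fun q => Subtype.ext (hz q q.2)
  simp only [h2, Finset.prod_const, Finset.card_univ] at h1
  obtain ⟨k, hk⟩ := hQ.exists_card_eq
  have h3 : orderOf (Abelianization.of z) ∣ p ^ k := by
    refine orderOf_dvd_of_pow_eq_one ?_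
    rwa [← hk, Nat.card_eq_fintype_card]
  have h4 : Abelianization.of z = 1 :=
    orderOf_eq_one_iff.1 (Nat.eq_one_of_dvd_coprimes (hord.pow_right k) dvd_rfl h3)
  rw [← Abelianization.ker_of]
  exact h4

theorem fstar_le_normalizer_component {L₀ : Subgroup G} (hL₀ : IsComponent L₀) :
    generalizedFittingSubgroup G ≤ normalizer (L₀ : Set G) :=
  sup_le (CfsgLib.Comp.layer_le_normalizer_component hL₀)
    (((CfsgLib.Comp.fittingSubgroup_le_centralizer_layer G).trans
      (centralizer_le (CfsgLib.Comp.le_layer hL₀))).trans (CfsgLib.Comp.centralizer_le_normalizer L₀))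

variable {Q L F : Subgroup G}

theorem fixed_eq_inf_centralizer (hL : L = ⁅generalizedFittingSubgroup G, Q⁆)
    (hF : F ≤ generalizedFittingSubgroup G ∧ generalizedFittingSubgroup G ≤ normalizer (F : Set G) ∧
      Q ≤ centralizer (F : Set G) ∧ ∀ N : Subgroup G, N ≤ generalizedFittingSubgroup G →
        generalizedFittingSubgroup G ≤ normalizer (N : Set G) → Q ≤ centralizer (N : Set G) → N ≤ F) :
    F = generalizedFittingSubgroup G ⊓ centralizer ((L ⊔ Q : Subgroup G) : Set G) := by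
  obtain ⟨hF1, hF2, hF3, hF4⟩ := hF
  set N := generalizedFittingSubgroup G
  haveI := CfsgLib.Comp.generalizedFittingSubgroup_normal G
  refine le_antisymm (le_inf hF1 (CfsgLib.Comp.le_centralizer_sup ?_ (CfsgLib.Comp.le_centralizer_symm hF3))) ?_
  · rw [← commutator_eq_bot_iff_le_centralizer, hL, commutator_comm]
    refine commutator_commutator_eq_bot_of_rotate ?_ ?_
    · rw [commutator_eq_bot_iff_le_centralizer.2 hF3, commutator_bot_left]
    · rw [eq_bot_iff, ← commutator_eq_bot_iff_le_centralizer.2 (CfsgLib.Comp.le_centralizer_symm hF3)]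
      exact commutator_mono (le_normalizer_iff_commutator_le_left.1 hF2) le_rfl
  refine hF4 _ inf_le_left ?_ ((le_sup_right : Q ≤ L ⊔ Q).trans (le_centralizer_iff.1 inf_le_right))
  have hLn : N ≤ normalizer (L : Set G) := hL ▸ normalizer_commutator_ge_left (H₁ := N) (H₂ := Q)
  have h1 : ∀ n ∈ N, ∀ c ∈ N ⊓ centralizer ((L ⊔ Q : Subgroup G) : Set G),
      n * c * n⁻¹ ∈ N ⊓ centralizer ((L ⊔ Q : Subgroup G) : Set G) := by
    rintro n hn c ⟨hcN, hc⟩
    refine mem_inf.2 ⟨mul_mem (mul_mem hn hcN) (inv_mem hn), ?_⟩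
    have h2 : L ⊔ Q ≤ centralizer {n * c * n⁻¹} := by
      have key : ∀ x, n⁻¹ * x * n ∈ L ⊔ Q → x ∈ centralizer {n * c * n⁻¹} := by
        intro x hx
        rw [mem_centralizer_singleton_iff]
        have h3 := hc _ hx
        calc x * (n * c * n⁻¹) = n * ((n⁻¹ * x * n) * c) * n⁻¹ := by group
          _ = n * (c * (n⁻¹ * x * n)) * n⁻¹ := by rw [h3]
          _ = n * c * n⁻¹ * x := by group
      refine sup_le (fun x hx => key x (mem_sup_left ?_)) (fun x hx => key x ?_)
      · have := (mem_normalizer_iff.1 (hLn (inv_mem hn)) x).1 hx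
        simpa using this
      · have h4 : n⁻¹ * x * n * x⁻¹ ∈ L := by
          rw [hL, show n⁻¹ * x * n * x⁻¹ = n⁻¹ * x * n⁻¹⁻¹ * x⁻¹ by group]
          exact commutator_mem_commutator (inv_mem hn) hx
        have := mul_mem (mem_sup_left h4) (mem_sup_right hx : x ∈ L ⊔ Q)
        rwa [inv_mul_cancel_right] at this
    exact fun x hx => mem_centralizer_singleton_iff.1 (h2 hx)
  intro n hn
  refine mem_normalizer_iff.2 fun c => ⟨h1 n hn c, fun hc => ?_⟩
  have := h1 n⁻¹ (inv_mem hn) _ hc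
  simpa [mul_assoc] using this

theorem exists_mul_derived (hL : L = ⁅generalizedFittingSubgroup G, Q⁆) {x : G} (hx : x ∈ L) :
    ∃ u ∈ L ⊓ fittingSubgroup G, ∃ a ∈ ⁅L, L⁆, x = u * a := by
  haveI := CfsgLib.Comp.fittingSubgroup_normal G
  set A := sSup {K : Subgroup G | IsComponent K ∧ ¬ Q ≤ centralizer (K : Set G)}
  have hAL : A ≤ ⁅L, L⁆ := sSup_le fun K hK => by
    have hKL : K ≤ L := hL ▸ component_le_commutator hK.1
      ((CfsgLib.Comp.le_layer hK.1).trans (CfsgLib.Comp.layer_le_generalizedFitting G)) hK.2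
    conv_lhs => rw [← CfsgLib.Comp.commutator_self_of_isComponent hK.1]
    exact commutator_mono hKL hKL
  have hFA : A ≤ normalizer ((⁅fittingSubgroup G, Q⁆ : Subgroup G) : Set G) :=
    (sSup_le fun K hK => CfsgLib.Comp.le_layer hK.1).trans
      (((CfsgLib.Comp.layer_le_centralizer_fittingSubgroup G).trans
        (centralizer_le (commutator_le_left (fittingSubgroup G) Q))).trans (CfsgLib.Comp.centralizer_le_normalizer _))
  obtain ⟨u, hu, a, ha, rfl⟩ := CfsgLib.Comp.exists_mul_of_mem_sup hFA (commutator_fstar_le Q (hL ▸ hx))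
  exact ⟨u, mem_inf.2 ⟨hL ▸ commutator_mono (CfsgLib.Comp.fittingSubgroup_le_generalizedFitting G) le_rfl hu,
    commutator_le_left (fittingSubgroup G) Q hu⟩, a, hAL ha, rfl⟩

theorem fixed_inf_le_derived (hO : pCore p G = ⊥) (hQ : IsPGroup p Q)
    (hL : L = ⁅generalizedFittingSubgroup G, Q⁆) (hQF : Q ≤ centralizer (F : Set G)) :
    L ⊓ F ≤ ⁅L, L⁆ := by
  rintro z ⟨hzL, hzF⟩
  have hQL : Q ≤ normalizer (L : Set G) := hL ▸ normalizer_commutator_ge_right (H₁ := generalizedFittingSubgroup G) (H₂ := Q)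
  have hLQ : ⁅L, Q⁆ = L := by rw [hL, commutator_fstar_eq hO hQ]
  rw [← map_subtype_commutator]
  refine ⟨⟨z, hzL⟩, mem_commutator_of_fixed hQ hQL hLQ (fun q hq => ?_) ?_, rfl⟩
  · show q * z * q⁻¹ = z
    rw [← hQF hq z hzF, mul_inv_cancel_right]
  obtain ⟨u, hu, a, ha, e⟩ := exists_mul_derived hL hzL
  have ha' : a ∈ L := commutator_le_self L ha
  have e' : Abelianization.of (⟨z, hzL⟩ : L) = Abelianization.of (⟨u, hu.1⟩ : L) := by
    rw [show (⟨z, hzL⟩ : L) = ⟨u, hu.1⟩ * ⟨a, ha'⟩ from Subtype.ext e, map_mul]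
    have : (⟨a, ha'⟩ : L) ∈ commutator L := by
      rw [← map_subtype_commutator] at ha
      obtain ⟨b, hb, hbe⟩ := ha
      rwa [show (⟨a, ha'⟩ : L) = b from Subtype.ext hbe.symm]
    rw [← Abelianization.ker_of] at this
    rw [MonoidHom.mem_ker.1 this, mul_one]
  rw [e']
  refine Nat.Coprime.coprime_dvd_left ?_ (coprime_card_fittingSubgroup hO)
  exact (orderOf_map_dvd _ _).trans (by rw [Subgroup.orderOf_mk]; exact orderOf_dvd_natCard _ hu.2)

theorem commutator_eq_bot_of_le_fixed (hO : pCore p G = ⊥) (hQ : IsPGroup p Q)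
    (hL : L = ⁅generalizedFittingSubgroup G, Q⁆)
    (hFe : F = generalizedFittingSubgroup G ⊓ centralizer ((L ⊔ Q : Subgroup G) : Set G))
    {B : Subgroup G} (hB : IsPGroup p B) (hBQ : B ≤ normalizer (Q : Set G)) (hBF : ⁅L, B⁆ ≤ F) :
    ⁅L, B⁆ = ⊥ := by
  haveI := CfsgLib.Comp.generalizedFittingSubgroup_normal G
  have hQF : Q ≤ centralizer (F : Set G) := by
    rw [hFe]; exact (le_sup_right : Q ≤ L ⊔ Q).trans (le_centralizer_iff.1 inf_le_right)
  have hBL : B ≤ normalizer (L : Set G) := by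
    intro b hb
    rw [hL, ← CfsgLib.Comp.map_conj_eq_iff, map_commutator,
      CfsgLib.Comp.map_conj_eq_iff.2 (CfsgLib.Comp.le_normalizer_of_normal' (generalizedFittingSubgroup G) B hb),
      CfsgLib.Comp.map_conj_eq_iff.2 (hBQ hb)]
  have hcen : ∀ w ∈ F, ∀ l ∈ L, l * w = w * l := fun w hw l hl => by
    rw [hFe] at hw
    exact (mem_inf.1 hw).2 l (mem_sup_left hl)
  rw [eq_bot_iff, commutator_le]
  intro x hx b hb
  have hc : ∀ x ∈ L, x * b * x⁻¹ * b⁻¹ ∈ F := fun x hx => hBF (commutator_mem_commutator hx hb)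
  -- `b` centralizes the derived group
  have hD : ⁅L, L⁆ ≤ centralizer {b} := by
    refine commutator_le.2 fun u hu v hv => ?_
    have hf : ∀ u ∈ L, ∃ w ∈ F, b * u * b⁻¹ = w * u := fun u hu =>
      ⟨u⁻¹ * b * u⁻¹⁻¹ * b⁻¹, hc _ (inv_mem hu) |> id, by
        have h1 := hcen _ (hc _ (inv_mem hu)) u hu
        rw [← h1]; group⟩
    obtain ⟨w₁, hw₁, e₁⟩ := hf u hu
    obtain ⟨w₂, hw₂, e₂⟩ := hf v hv
    have hw₁L : w₁ ∈ L := by
      have := mul_mem ((mem_normalizer_iff.1 (hBL hb) u).1 hu) (inv_mem hu)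
      rwa [e₁, mul_inv_cancel_right] at this
    rw [mem_centralizer_singleton_iff]
    have h2 : b * (u * v * u⁻¹ * v⁻¹) * b⁻¹ = u * v * u⁻¹ * v⁻¹ := by
      calc b * (u * v * u⁻¹ * v⁻¹) * b⁻¹
          = (b * u * b⁻¹) * (b * v * b⁻¹) * (b * u * b⁻¹)⁻¹ * (b * v * b⁻¹)⁻¹ := by group
        _ = w₁ * u * (w₂ * v) * (w₁ * u)⁻¹ * (w₂ * v)⁻¹ := by rw [e₁, e₂]
        _ = w₁ * (u * w₂) * v * u⁻¹ * w₁⁻¹ * v⁻¹ * w₂⁻¹ := by group
        _ = w₁ * (w₂ * u) * v * u⁻¹ * w₁⁻¹ * v⁻¹ * w₂⁻¹ := by rw [hcen w₂ hw₂ u hu]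
        _ = (w₁ * w₂) * ((u * v * u⁻¹) * w₁⁻¹) * v⁻¹ * w₂⁻¹ := by group
        _ = (w₁ * w₂) * (w₁⁻¹ * (u * v * u⁻¹)) * v⁻¹ * w₂⁻¹ := by
            rw [hcen w₁⁻¹ (inv_mem hw₁) _ (mul_mem (mul_mem hu hv) (inv_mem hu))]
        _ = w₁ * w₂ * w₁⁻¹ * ((u * v * u⁻¹ * v⁻¹) * w₂⁻¹) := by group
        _ = w₁ * w₂ * w₁⁻¹ * (w₂⁻¹ * (u * v * u⁻¹ * v⁻¹)) := by
            rw [hcen w₂⁻¹ (inv_mem hw₂) _ (mul_mem (mul_mem (mul_mem hu hv) (inv_mem hu)) (inv_mem hv))]
        _ = _ := by
            have := hcen w₂ hw₂ w₁ hw₁L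
            rw [this]; group
    exact (mul_inv_eq_iff_eq_mul.1 h2).symm
  obtain ⟨u, hu, a, ha, rfl⟩ := exists_mul_derived hL hx
  have hab : a * b * a⁻¹ * b⁻¹ = 1 := by
    rw [show a * b = b * a from mem_centralizer_singleton_iff.1 (hD ha), mul_inv_cancel_right, mul_inv_cancel]
  set z := u * b * u⁻¹ * b⁻¹ with hz
  have hzeq : u * a * b * (u * a)⁻¹ * b⁻¹ = z := by
    calc u * a * b * (u * a)⁻¹ * b⁻¹ = u * (a * b * a⁻¹ * b⁻¹) * b * u⁻¹ * b⁻¹ := by group
      _ = _ := by rw [hab, mul_one]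
  show u * a * b * (u * a)⁻¹ * b⁻¹ ∈ (⊥ : Subgroup G)
  rw [hzeq, mem_bot]
  have hzF : z ∈ F := hc u hu.1
  have hzL : z ∈ L := by
    have := mul_mem hu.1 ((mem_normalizer_iff.1 (hBL hb) _).1 (inv_mem hu.1))
    simpa [z, mul_assoc] using this
  have hzb : z * b = b * z :=
    mem_centralizer_singleton_iff.1 (hD (fixed_inf_le_derived hO hQ hL hQF (mem_inf.2 ⟨hzL, hzF⟩)))
  have hpowb : ∀ n : ℕ, u * b ^ n * u⁻¹ * (b ^ n)⁻¹ = z ^ n := by
    intro n
    induction n with
    | zero => simp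
    | succ n ih =>
      have h1 : b ^ n * z = z * b ^ n := (Commute.pow_left (show Commute b z from hzb.symm) n)
      calc u * b ^ (n + 1) * u⁻¹ * (b ^ (n + 1))⁻¹
          = (u * b ^ n * u⁻¹ * (b ^ n)⁻¹) * (b ^ n * z) * (b ^ n)⁻¹ := by
            rw [pow_succ, hz]; group
        _ = z ^ n * (z * b ^ n) * (b ^ n)⁻¹ := by rw [ih, h1]
        _ = _ := by rw [pow_succ]; group
  have hpowu : ∀ n : ℕ, u ^ n * b * (u ^ n)⁻¹ * b⁻¹ = z ^ n := by
    intro n
    induction n with
    | zero => simp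
    | succ n ih =>
      have h1 : u * z ^ n = z ^ n * u := hcen _ (pow_mem hzF n) u hu.1
      calc u ^ (n + 1) * b * (u ^ (n + 1))⁻¹ * b⁻¹
          = u * (u ^ n * b * (u ^ n)⁻¹ * b⁻¹) * b * u⁻¹ * b⁻¹ := by rw [pow_succ']; group
        _ = z ^ n * (u * b * u⁻¹ * b⁻¹) := by rw [ih, h1]; group
        _ = _ := by rw [← hz, ← pow_succ]
  obtain ⟨k, hk⟩ := hB ⟨b, hb⟩
  have h1 : z ^ p ^ k = 1 := by
    rw [← hpowb, show b ^ p ^ k = 1 from congrArg Subtype.val hk]; simp
  have h2 : z ^ Nat.card (fittingSubgroup G) = 1 := by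
    rw [← hpowu, show u ^ Nat.card (fittingSubgroup G) = 1 from
      congrArg Subtype.val (pow_card_eq_one' (x := (⟨u, hu.2⟩ : fittingSubgroup G)))]
    simp
  exact orderOf_eq_one_iff.1 (Nat.eq_one_of_dvd_coprimes ((coprime_card_fittingSubgroup hO).pow_right k)
    (orderOf_dvd_of_pow_eq_one h2) (orderOf_dvd_of_pow_eq_one h1))

theorem coprime_card_centralizer_fixed (hO : pCore p G = ⊥) (hQ : IsPGroup p Q)
    (hL : L = ⁅generalizedFittingSubgroup G, Q⁆)
    (hFe : F = generalizedFittingSubgroup G ⊓ centralizer ((L ⊔ Q : Subgroup G) : Set G))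
    (hF4 : ∀ N : Subgroup G, N ≤ generalizedFittingSubgroup G →
        generalizedFittingSubgroup G ≤ normalizer (N : Set G) → Q ≤ centralizer (N : Set G) → N ≤ F) :
    (Nat.card (centralizer ((F ⊔ L : Subgroup G) : Set G))).Coprime p := by
  haveI := CfsgLib.Comp.fittingSubgroup_normal G
  haveI := CfsgLib.Comp.isNilpotent_fittingSubgroup G
  refine ((Nat.Prime.coprime_iff_not_dvd Fact.out).2 fun hd => ?_).symm
  obtain ⟨y, hy⟩ := exists_prime_orderOf_dvd_card' p hd
  rw [← Subgroup.orderOf_coe] at hy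
  have hyc : ∀ w ∈ F ⊔ L, w * y = y * w := fun w hw => y.2 w hw
  set R := fittingSubgroup G
  set N := generalizedFittingSubgroup G
  have hRN : R ≤ N := CfsgLib.Comp.fittingSubgroup_le_generalizedFitting G
  have hPL : ⁅R, Q⁆ ≤ L := hL ▸ commutator_mono hRN le_rfl
  have hPR : ⁅R, Q⁆ ≤ R := commutator_le_left R Q
  set C := R ⊓ centralizer ((⁅R, Q⁆ : Subgroup G) : Set G) with hC
  have hQC : Q ≤ normalizer (C : Set G) := CfsgLib.Comp.le_normalizer_inf
    (CfsgLib.Comp.le_normalizer_of_normal' R Q)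
    (CfsgLib.Comp.le_normalizer_centralizer (normalizer_commutator_ge_right R Q))
  obtain ⟨k, hk⟩ := hQ.exists_card_eq
  have hcop : ∀ D : Subgroup G, D ≤ R → (Nat.card Q).Coprime (Nat.card D) := fun D hD => by
    rw [hk]
    exact ((Nat.Coprime.coprime_dvd_left (card_dvd_of_le hD) (coprime_card_fittingSubgroup hO)).pow_right k).symm
  haveI : Group.IsNilpotent (C.subgroupOf R) := inferInstance
  haveI : Group.IsNilpotent C :=
    Group.nilpotent_of_surjective (subgroupOfEquivOfLe (inf_le_left : C ≤ R)).toMonoidHom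
      (subgroupOfEquivOfLe (inf_le_left : C ≤ R)).surjective
  have hyC : ∀ c ∈ C, c * (y : G) = y * c := by
    intro c hc
    obtain ⟨n, hn, w, hw, rfl⟩ := CfsgLib.Coprime.exists_mul_eq' hQC (hcop C inf_le_left) (Or.inr inferInstance) hc
    have hn' : n ∈ L := hPL (commutator_mono inf_le_left le_rfl hn)
    have hw' : w ∈ F := by
      rw [hFe]
      refine mem_inf.2 ⟨hRN (mem_inf.1 hw.1).1, ?_⟩
      have hle : L ⊔ Q ≤ centralizer {w} := by
        refine sup_le ?_ fun q hq => mem_centralizer_singleton_iff.2 ((mem_inf.1 hw).2 q hq)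
        rw [hL]
        refine (commutator_fstar_le Q).trans (sup_le
          (fun t ht => mem_centralizer_singleton_iff.2 ((mem_inf.1 hw.1).2 t ht)) (sSup_le fun K hK t ht => ?_))
        exact mem_centralizer_singleton_iff.2 (CfsgLib.Comp.fittingSubgroup_le_centralizer_layer G
          (mem_inf.1 hw.1).1 t (CfsgLib.Comp.le_layer hK.1 ht))
      exact fun t ht => mem_centralizer_singleton_iff.1 (hle ht)
    rw [mul_assoc, hyc w (mem_sup_left hw'), ← mul_assoc, hyc n (mem_sup_right hn'), mul_assoc]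
  have hyR : ∀ r ∈ R, r * (y : G) = y * r := by
    have hcopy : (Nat.card (zpowers (y : G))).Coprime (Nat.card R) := by
      rw [Nat.card_zpowers, hy]; exact (coprime_card_fittingSubgroup hO).symm
    have h := CfsgLib.Coprime.commutator_eq_bot_of_commutator_commutator
      (CfsgLib.Comp.le_normalizer_of_normal' R (zpowers (y : G))) hcopy (Or.inr inferInstance) ?_
    · intro r hr
      exact (commutator_eq_bot_iff_le_centralizer.1 h hr _ (mem_zpowers _)).symm
    rw [commutator_eq_bot_iff_le_centralizer]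
    refine le_trans ?_ (le_trans (show C ≤ centralizer {(y : G)} from fun c hc =>
      mem_centralizer_singleton_iff.2 (hyC c hc)) ?_)
    · refine commutator_le.2 fun r hr a ha => mem_inf.2
        ⟨commutator_le_left R (zpowers (y : G)) (commutator_mem_commutator hr ha), fun t ht => ?_⟩
      have hta : ∀ t ∈ ⁅R, Q⁆, a * t = t * a := fun t ht => by
        obtain ⟨j, rfl⟩ := mem_zpowers_iff.1 ha
        exact (Commute.zpow_right (show Commute t y from hyc t (mem_sup_right (hPL ht))) j).symm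
      have hrn : r ∈ normalizer ((⁅R, Q⁆ : Subgroup G) : Set G) := normalizer_commutator_ge_left R Q hr
      have h1 : r⁻¹ * t * r ∈ ⁅R, Q⁆ := by
        have := (mem_normalizer_iff.1 (inv_mem hrn) t).1 ht
        simpa using this
      calc t * (r * a * r⁻¹ * a⁻¹) = r * ((r⁻¹ * t * r) * a) * r⁻¹ * a⁻¹ := by group
        _ = r * (a * (r⁻¹ * t * r)) * r⁻¹ * a⁻¹ := by rw [hta _ h1]
        _ = r * a * r⁻¹ * (t * a⁻¹) := by group
        _ = r * a * r⁻¹ * (a⁻¹ * t) := by
            rw [show t * a⁻¹ = a⁻¹ * t from ((Commute.inv_right (show Commute t a from (hta t ht).symm)))]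
        _ = r * a * r⁻¹ * a⁻¹ * t := by group
    · intro c hc z hz
      obtain ⟨j, rfl⟩ := mem_zpowers_iff.1 hz
      exact (Commute.zpow_right (show Commute c y from mem_centralizer_singleton_iff.1 hc) j).symm
  have hyN : (y : G) ∈ centralizer (N : Set G) := by
    have hle : N ≤ centralizer {(y : G)} := by
      refine sup_le (sSup_le fun K hK => ?_) fun r hr => mem_centralizer_singleton_iff.2 (hyR r hr)
      intro t ht
      rw [mem_centralizer_singleton_iff]
      have hKN : K ≤ N := (CfsgLib.Comp.le_layer hK).trans (CfsgLib.Comp.layer_le_generalizedFitting G)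
      by_cases hc : Q ≤ centralizer (K : Set G)
      · exact hyc t (mem_sup_left (hF4 K hKN (fstar_le_normalizer_component hK) hc ht))
      · exact hyc t (mem_sup_right (hL ▸ component_le_commutator hK hKN hc ht))
    exact fun t ht => mem_centralizer_singleton_iff.1 (hle ht)
  have hyR' : (y : G) ∈ R := CfsgLib.Comp.centralizer_generalizedFitting_le_fitting G hyN
  have := Subgroup.orderOf_dvd_natCard _ hyR'
  rw [hy] at this
  exact not_dvd_card_of_normal_nilpotent hO R this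

end CfsgLib.Amalgam
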