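import Mathlib

/-!
# A fixed-point-free automorphism of order three of a two-group

Every element commutes with all its conjugates and with all conjugates of its image, stable
subgroups have order congruent to one modulo three, and the action on a quotient by a stable
normal subgroup is again fixed-point-free.
-/

set_option autoImplicit false

namespace CfsgLib.Amalgam.FpfThreeBasic

open Subgroup
open scoped commutatorElement

variable {T : Type*} [Group T] [Finite T] {σ : MulAut T}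

/-- Every element is a twisted commutator. -/
theorem exists_twist (hf : ∀ y, σ y = y → y = 1) (g : T) : ∃ y, y⁻¹ * σ y = g := by
  have hinj : Function.Injective fun y : T => y⁻¹ * σ y := by
    intro a b e
    have e' : a⁻¹ * σ a = b⁻¹ * σ b := e
    have h : σ (b * a⁻¹) = b * a⁻¹ := by
      rw [map_mul, map_inv]
      calc σ b * (σ a)⁻¹ = b * (b⁻¹ * σ b) * (σ a)⁻¹ := by group
        _ = b * a⁻¹ := by rw [← e']; group
    exact (mul_inv_eq_one.1 (hf _ h)).symm
  exact (Finite.injective_iff_surjective.1 hinj) g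

theorem prod_orbit (h3 : ∀ y, σ (σ (σ y)) = y) (hf : ∀ y, σ y = y → y = 1) (g : T) :
    g * σ g * σ (σ g) = 1 := by
  obtain ⟨y, rfl⟩ := exists_twist hf g
  simp only [map_mul, map_inv, h3]
  group

theorem comm_image (h3 : ∀ y, σ (σ (σ y)) = y) (hf : ∀ y, σ y = y → y = 1) (g : T) :
    g * σ g = σ g * g := by
  have h1 := prod_orbit h3 hf g
  have h2 := prod_orbit h3 hf g⁻¹
  rw [map_inv, map_inv] at h2
  have e1 : g * σ g = (σ (σ g))⁻¹ := eq_inv_of_mul_eq_one_left h1
  have e2 : g⁻¹ * (σ g)⁻¹ = σ (σ g) := by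
    rw [← inv_inv (σ (σ g))]; exact eq_inv_of_mul_eq_one_left h2
  calc g * σ g = (g⁻¹ * (σ g)⁻¹)⁻¹ := by rw [e1, e2]
    _ = σ g * g := by group

/-- An element commutes with every conjugate of its image. -/
theorem commute_conj_image (h3 : ∀ y, σ (σ (σ y)) = y) (hf : ∀ y, σ y = y → y = 1) (x g : T) :
    Commute x (g * σ x * g⁻¹) := by
  obtain ⟨y, hy⟩ := exists_twist hf g
  have h : Commute (y * x * y⁻¹) (σ (y * x * y⁻¹)) := comm_image h3 hf _
  have h' := h.map (MulAut.conj y⁻¹).toMonoidHom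
  simp only [MulEquiv.coe_toMonoidHom, MulAut.conj_apply] at h'
  subst hy
  rw [map_mul, map_mul, map_inv] at h'
  convert h' using 1 <;> group

/-- Every conjugate of an element commutes with the image of the element. -/
theorem commute_conj_left (h3 : ∀ y, σ (σ (σ y)) = y) (hf : ∀ y, σ y = y → y = 1) (x g : T) :
    Commute (g * x * g⁻¹) (σ x) := by
  have h := (commute_conj_image h3 hf x g⁻¹).map (MulAut.conj g).toMonoidHom
  simp only [MulEquiv.coe_toMonoidHom, MulAut.conj_apply] at h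
  convert h using 1
  group

/-- Every element commutes with all of its conjugates. -/
theorem commute_conj (h3 : ∀ y, σ (σ (σ y)) = y) (hf : ∀ y, σ y = y → y = 1) (x g : T) :
    Commute (g * x * g⁻¹) x := by
  have h1 := commute_conj_left h3 hf x g
  have h2 : Commute (g * x * g⁻¹) (σ (σ x)) := by
    have h := commute_conj_image h3 hf (σ (σ x)) g
    rw [h3] at h
    exact h.symm
  have e : (σ x * σ (σ x))⁻¹ = x := by
    have h := prod_orbit h3 hf x
    rw [mul_assoc] at h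
    exact (eq_inv_of_mul_eq_one_left h).symm
  have k := (h1.mul_right h2).inv_right
  generalize hz : g * x * g⁻¹ = z at k ⊢
  rwa [e] at k

/-- An element commutes with its commutator. -/
theorem commute_commutator_left (h3 : ∀ y, σ (σ (σ y)) = y) (hf : ∀ y, σ y = y → y = 1) (a b : T) :
    Commute ⁅a, b⁆ a ∧ Commute ⁅a, b⁆ (σ a) := by
  have e : ⁅a, b⁆ = a * (b * a⁻¹ * b⁻¹) := by rw [commutatorElement_def]; group
  have k1 : Commute (b * a⁻¹ * b⁻¹) a := by
    have h := (commute_conj h3 hf a⁻¹ b).inv_right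
    rwa [inv_inv] at h
  have k2 : Commute (b * a⁻¹ * b⁻¹) (σ a) := by
    have h := (commute_conj_left h3 hf a⁻¹ b).inv_right
    rwa [map_inv, inv_inv] at h
  rw [e]
  exact ⟨(Commute.refl a).mul_left k1, (show Commute a (σ a) from comm_image h3 hf a).mul_left k2⟩

theorem commute_commutator_right (h3 : ∀ y, σ (σ (σ y)) = y) (hf : ∀ y, σ y = y → y = 1) (a b : T) :
    Commute ⁅a, b⁆ b ∧ Commute ⁅a, b⁆ (σ b) := by
  obtain ⟨k1, k2⟩ := commute_commutator_left h3 hf b a
  rw [← commutatorElement_inv b a]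
  exact ⟨k1.inv_left, k2.inv_left⟩

/-- The fixed-point-free action passes to quotients. -/
theorem fpf_quot (hf : ∀ y, σ y = y → y = 1) {N : Subgroup T} (hN : ∀ n ∈ N, σ n ∈ N) {x : T}
    (h : x⁻¹ * σ x ∈ N) : x ∈ N := by
  let φ : ↥N → ↥N := fun n => ⟨(n : T)⁻¹ * σ n, N.mul_mem (N.inv_mem n.2) (hN _ n.2)⟩
  have hinj : Function.Injective φ := by
    intro a b e
    have e' : (a : T)⁻¹ * σ a = (b : T)⁻¹ * σ b := congrArg Subtype.val e
    have h' : σ ((b : T) * (a : T)⁻¹) = (b : T) * (a : T)⁻¹ := by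
      rw [map_mul, map_inv]
      calc σ (b : T) * (σ (a : T))⁻¹ = b * ((b : T)⁻¹ * σ b) * (σ (a : T))⁻¹ := by group
        _ = b * (a : T)⁻¹ := by rw [← e']; group
    exact Subtype.ext (mul_inv_eq_one.1 (hf _ h')).symm
  obtain ⟨n, hn⟩ := (Finite.injective_iff_surjective.1 hinj) ⟨_, h⟩
  have e : (n : T)⁻¹ * σ n = x⁻¹ * σ x := congrArg Subtype.val hn
  have h' : σ (x * (n : T)⁻¹) = x * (n : T)⁻¹ := by
    rw [map_mul, map_inv]
    calc σ x * (σ (n : T))⁻¹ = x * (x⁻¹ * σ x) * (σ (n : T))⁻¹ := by group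
      _ = x * (n : T)⁻¹ := by rw [← e]; group
  rw [mul_inv_eq_one.1 (hf _ h')]
  exact n.2

theorem card_stable (h3 : ∀ y, σ (σ (σ y)) = y) (hf : ∀ y, σ y = y → y = 1) (H : Subgroup T)
    (hH : ∀ y ∈ H, σ y ∈ H) : Nat.card ↥H % 3 = 1 := by
  classical
  haveI : Fact (Nat.Prime 3) := ⟨Nat.prime_three⟩
  haveI := Fintype.ofFinite ↥H
  let f : Function.End ↥H := fun y => ⟨σ y, hH y y.2⟩
  have hσ : f ^ 3 ^ 1 = 1 := funext fun y => Subtype.ext (h3 y)
  have h1 := Equiv.Perm.card_fixedPoints_modEq hσ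
  have hfix : Fintype.card (Function.fixedPoints f) = 1 :=
    Fintype.card_eq_one_iff.2 ⟨⟨1, Subtype.ext (map_one σ)⟩, fun y => Subtype.ext (Subtype.ext
      (hf _ (congrArg Subtype.val y.2)))⟩
  rw [hfix] at h1
  rw [Nat.card_eq_fintype_card]
  exact h1

/-- A strict inclusion of stable subgroups multiplies the order by at least four. -/
theorem four_mul_card_le (h3 : ∀ y, σ (σ (σ y)) = y) (hf : ∀ y, σ y = y → y = 1)
    (h2 : IsPGroup 2 T) {H K : Subgroup T} (hH : ∀ y ∈ H, σ y ∈ H) (hK : ∀ y ∈ K, σ y ∈ K)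
    (hlt : H < K) : 4 * Nat.card ↥H ≤ Nat.card ↥K := by
  haveI : Fact (Nat.Prime 2) := ⟨Nat.prime_two⟩
  obtain ⟨i, hi⟩ := (h2.to_subgroup H).exists_card_eq
  obtain ⟨j, hj⟩ := (h2.to_subgroup K).exists_card_eq
  have a := card_stable h3 hf H hH
  have b := card_stable h3 hf K hK
  have c : Nat.card ↥H < Nat.card ↥K :=
    lt_of_not_ge fun hge => hlt.ne (eq_of_le_of_card_ge hlt.le hge)
  rw [hi, hj] at c
  rw [hi] at a ⊢
  rw [hj] at b ⊢
  have hij : i < j := (Nat.pow_lt_pow_iff_right (by norm_num : 1 < 2)).1 c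
  have hne : j ≠ i + 1 := by
    rintro rfl
    rw [pow_succ] at b
    omega
  calc 4 * 2 ^ i = 2 ^ (i + 2) := by ring
    _ ≤ 2 ^ j := Nat.pow_le_pow_right (by norm_num) (by omega)

/-- The orbit of a non-trivial element exhausts a stable set of four elements. -/
theorem orbit_eq (h3 : ∀ y, σ (σ (σ y)) = y) (hf : ∀ y, σ y = y → y = 1) (V : Subgroup T)
    (hV : Nat.card ↥V = 4) (hVσ : ∀ v ∈ V, σ v ∈ V) {v : T} (hv : v ∈ V) (hv1 : v ≠ 1) {w : T}
    (hw : w ∈ V) : w = 1 ∨ w = v ∨ w = σ v ∨ w = σ (σ v) := by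
  classical
  haveI := Fintype.ofFinite ↥V
  have a1 : σ v ≠ 1 := fun e => hv1 (σ.injective (e.trans (map_one σ).symm))
  have a2 : σ (σ v) ≠ 1 := fun e => a1 (σ.injective (e.trans (map_one σ).symm))
  have a3 : v ≠ σ v := fun e => hv1 (hf _ e.symm)
  have a4 : σ v ≠ σ (σ v) := fun e => a3 (σ.injective e)
  have a5 : v ≠ σ (σ v) := fun e => a3 (by conv_rhs => rw [e, h3])
  let f : Fin 4 → ↥V := ![1, ⟨v, hv⟩, ⟨σ v, hVσ v hv⟩, ⟨σ (σ v), hVσ _ (hVσ v hv)⟩]
  have hinj : Function.Injective f := by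
    intro i j e
    have e' := congrArg Subtype.val e
    fin_cases i <;> fin_cases j <;> simp [f] at e' <;>
      first | rfl | exact absurd e' hv1 | exact absurd e'.symm hv1 | exact absurd e' a1 |
        exact absurd e'.symm a1 | exact absurd e' a2 | exact absurd e'.symm a2 | exact absurd e' a3 |
        exact absurd e'.symm a3 | exact absurd e' a4 | exact absurd e'.symm a4 | exact absurd e' a5 |
        exact absurd e'.symm a5
  obtain ⟨i, hi⟩ := ((Fintype.bijective_iff_injective_and_card f).2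
    ⟨hinj, by rw [Fintype.card_fin, ← Nat.card_eq_fintype_card, hV]⟩).2 ⟨w, hw⟩
  have hi' := (congrArg Subtype.val hi).symm
  fin_cases i <;> simp [f] at hi'
  · exact Or.inl hi'
  · exact Or.inr (Or.inl hi')
  · exact Or.inr (Or.inr (Or.inl hi'))
  · exact Or.inr (Or.inr (Or.inr hi'))

/-- When commutators are central, an element commuting with a second commutes with its image. -/
theorem commute_image_of_central (h3 : ∀ y, σ (σ (σ y)) = y) (hf : ∀ y, σ y = y → y = 1)
    (hc : ∀ g h : T, ⁅g, h⁆ ∈ center T) {a b : T} (hab : Commute a b) :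
    Commute a (σ b) ∧ Commute (σ a) b := by
  have hab' : ⁅a, b⁆ = 1 := commutatorElement_eq_one_iff_mul_comm.2 hab
  have hcomm : ∀ g h y : T, y * ⁅g, h⁆ = ⁅g, h⁆ * y := fun g h => mem_center_iff.1 (hc g h)
  have mulr : ∀ g h h' : T, ⁅g, h * h'⁆ = ⁅g, h⁆ * ⁅g, h'⁆ := by
    intro g h h'
    calc ⁅g, h * h'⁆ = ⁅g, h⁆ * (h * ⁅g, h'⁆ * h⁻¹) := by
          simp only [commutatorElement_def]; group
      _ = ⁅g, h⁆ * ⁅g, h'⁆ := by rw [hcomm g h' h, mul_inv_cancel_right]
  have mull : ∀ g g' h : T, ⁅g * g', h⁆ = ⁅g, h⁆ * ⁅g', h⁆ := by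
    intro g g' h
    calc ⁅g * g', h⁆ = g * ⁅g', h⁆ * g⁻¹ * ⁅g, h⁆ := by
          simp only [commutatorElement_def]; group
      _ = ⁅g', h⁆ * ⁅g, h⁆ := by rw [hcomm g' h g, mul_inv_cancel_right]
      _ = ⁅g, h⁆ * ⁅g', h⁆ := hcomm g h _
  have e1 : ⁅a, σ b⁆ * ⁅a, σ (σ b)⁆ = 1 := by
    have h := prod_orbit h3 hf b
    have k := congrArg (fun y => ⁅a, y⁆) h
    simp only [mulr, hab', one_mul, commutatorElement_one_right] at k
    exact k
  have e2 : ⁅σ a, b⁆ * ⁅σ (σ a), b⁆ = 1 := by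
    have h := prod_orbit h3 hf a
    have k := congrArg (fun y => ⁅y, b⁆) h
    simp only [mull, hab', one_mul, commutatorElement_one_left] at k
    exact k
  have f1 : ⁅σ a, b⁆ = σ ⁅a, σ (σ b)⁆ := by rw [map_commutatorElement, h3]
  have f2 : ⁅σ (σ a), b⁆ = σ (σ ⁅a, σ b⁆) := by
    rw [map_commutatorElement, map_commutatorElement, h3]
  have f3 : ⁅a, σ (σ b)⁆ = (⁅a, σ b⁆)⁻¹ := eq_inv_of_mul_eq_one_right e1
  rw [f1, f2, f3, map_inv, inv_mul_eq_one] at e2
  have h0 : ⁅a, σ b⁆ = 1 := hf _ (σ.injective e2.symm)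
  refine ⟨commutatorElement_eq_one_iff_mul_comm.1 h0, commutatorElement_eq_one_iff_mul_comm.1 ?_⟩
  rw [f1, f3, h0, inv_one, map_one]

/-- An involutory automorphism fixes a non-trivial element of a stable non-trivial subgroup. -/
theorem exists_fixed (h2 : IsPGroup 2 T) {τ : MulAut T} (hτ : ∀ y, τ (τ y) = y) (H : Subgroup T)
    (hH : ∀ y ∈ H, τ y ∈ H) (hne : H ≠ ⊥) : ∃ y ∈ H, y ≠ 1 ∧ τ y = y := by
  classical
  haveI : Fact (Nat.Prime 2) := ⟨Nat.prime_two⟩
  haveI := Fintype.ofFinite ↥H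
  obtain ⟨k, hk⟩ := (h2.to_subgroup H).exists_card_eq
  have hk0 : k ≠ 0 := by
    rintro rfl
    exact hne (Subgroup.card_eq_one.1 (by rw [hk, pow_zero]))
  let f : Function.End ↥H := fun y => ⟨τ y, hH y y.2⟩
  have hf : f ^ 2 ^ 1 = 1 := funext fun y => Subtype.ext (hτ y)
  have h1 := Equiv.Perm.card_fixedPoints_modEq hf
  have hev : 2 ∣ Fintype.card ↥H := by
    rw [← Nat.card_eq_fintype_card, hk]; exact dvd_pow_self 2 hk0
  have hev' : 2 ∣ Fintype.card (Function.fixedPoints f) :=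
    Nat.modEq_zero_iff_dvd.1 (h1.symm.trans (Nat.modEq_zero_iff_dvd.2 hev))
  have hone : (1 : ↥H) ∈ Function.fixedPoints f := Subtype.ext (map_one τ)
  have hlt : 1 < Fintype.card (Function.fixedPoints f) := by
    have hpos : 0 < Fintype.card (Function.fixedPoints f) := Fintype.card_pos_iff.2 ⟨⟨1, hone⟩⟩
    omega
  obtain ⟨⟨y, hy⟩, hy1⟩ := Fintype.exists_ne_of_one_lt_card hlt (⟨1, hone⟩ : Function.fixedPoints f)
  exact ⟨y, y.2, fun e => hy1 (Subtype.ext (Subtype.ext e)), congrArg Subtype.val hy⟩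

end CfsgLib.Amalgam.FpfThreeBasic
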