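import Mathlib
import Cfsg.Agent.Lib.Amalgam.FpfThreeBasic

/-!
# Two-groups whose fixed points under an involution form a central four-group

If an automorphism of order three commutes with the involution and moves the four-group, then the
group is elementary abelian of order sixteen, homocyclic of rank two, or non-abelian of order
sixty-four with all squares in the four-group.
-/

set_option autoImplicit false
set_option linter.style.haveILetI false

namespace CfsgLib.Amalgam.FoursCentre

open Subgroup CfsgLib.Amalgam.FpfThreeBasic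
open scoped commutatorElement

universe u

variable {T : Type u} [Group T] [Finite T]

/-- The hypotheses. -/
structure Hyp (V : Subgroup T) (τ σ : MulAut T) : Prop where
  two : IsPGroup 2 T
  cardV : Nat.card ↥V = 4
  sqV : ∀ v ∈ V, v * v = 1
  central : V ≤ center T
  invol : ∀ y, τ (τ y) = y
  three : ∀ y, σ (σ (σ y)) = y
  comm : ∀ y, τ (σ y) = σ (τ y)
  fixed : ∀ y, τ y = y ↔ y ∈ V
  stable : ∀ v ∈ V, σ v ∈ V
  move : ∀ v ∈ V, σ v = v → v = 1

namespace Hyp

variable {V : Subgroup T} {τ σ : MulAut T} (S : Hyp V τ σ)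
include S

theorem fpf (y : T) (hy : σ y = y) : y = 1 := by
  by_contra hne
  let C : Subgroup T := MonoidHom.eqLocus σ.toMonoidHom (MonoidHom.id T)
  have hC : ∀ z, z ∈ C ↔ σ z = z := fun z => Iff.rfl
  obtain ⟨z, hz, hz1, hzf⟩ := exists_fixed S.two S.invol C
    (fun z hz => (hC _).2 (by rw [← S.comm, (hC z).1 hz]))
    (fun h => hne (mem_bot.1 (h ▸ (hC y).2 hy : y ∈ (⊥ : Subgroup T))))
  exact hz1 (S.move z ((S.fixed z).1 hzf) ((hC z).1 hz))

theorem normal : V.Normal := ⟨fun n hn g => by
  rw [mem_center_iff.1 (S.central hn) g, mul_inv_cancel_right]; exact hn⟩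

theorem fpf_mod {y : T} (h : y⁻¹ * σ y ∈ V) : y ∈ V := fpf_quot S.fpf S.stable h

theorem prod3 (y : T) : y * σ y * σ (σ y) = 1 := prod_orbit S.three S.fpf y

theorem rho2 (y : T) : σ (σ y) = (y * σ y)⁻¹ := eq_inv_of_mul_eq_one_right (S.prod3 y)

theorem orbit {v : T} (hv : v ∈ V) (hv1 : v ≠ 1) {w : T} (hw : w ∈ V) :
    w = 1 ∨ w = v ∨ w = σ v ∨ w = σ (σ v) :=
  orbit_eq S.three S.fpf V S.cardV S.stable hv hv1 hw

omit [Finite T] S in
/-- The subgroup of elements moved by `τ` within `V`. -/
def D (V : Subgroup T) (τ : MulAut T) (hc : V ≤ center T) : Subgroup T where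
  carrier := {x | x⁻¹ * τ x ∈ V}
  one_mem' := by simp
  mul_mem' := by
    intro a b ha hb
    have e : (a * b)⁻¹ * τ (a * b) = b⁻¹ * (a⁻¹ * τ a) * τ b := by rw [map_mul]; group
    show (a * b)⁻¹ * τ (a * b) ∈ V
    rw [e, mem_center_iff.1 (hc ha) b⁻¹, mul_assoc]
    exact V.mul_mem ha hb
  inv_mem' := by
    intro a ha
    have e : a⁻¹⁻¹ * τ a⁻¹ = a * (a⁻¹ * τ a)⁻¹ * a⁻¹ := by rw [map_inv]; group
    show a⁻¹⁻¹ * τ a⁻¹ ∈ V
    rw [e, mem_center_iff.1 (hc (V.inv_mem ha)) a, mul_inv_cancel_right]
    exact V.inv_mem ha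

theorem mem_D {x : T} : x ∈ D V τ S.central ↔ x⁻¹ * τ x ∈ V := Iff.rfl

theorem V_le_D : V ≤ D V τ S.central := fun v hv => by
  rw [S.mem_D, (S.fixed v).2 hv, inv_mul_cancel]; exact one_mem V

theorem D_stable {x : T} (hx : x ∈ D V τ S.central) : σ x ∈ D V τ S.central := by
  rw [S.mem_D] at hx ⊢
  rw [S.comm, ← map_inv, ← map_mul]
  exact S.stable _ hx

theorem sq_D {x : T} (hx : x ∈ D V τ S.central) : x * x ∈ V := by
  rw [S.mem_D] at hx
  obtain ⟨v, hv⟩ : ∃ v, v = x⁻¹ * τ x := ⟨_, rfl⟩
  rw [← hv] at hx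
  have e : τ x = x * v := by rw [hv, mul_inv_cancel_left]
  refine (S.fixed _).1 ?_
  have hc : x * v = v * x := mem_center_iff.1 (S.central hx) x
  calc τ (x * x) = x * v * (x * v) := by rw [map_mul, e]
    _ = x * (v * x) * v := by group
    _ = x * x * (v * v) := by rw [← hc]; group
    _ = x * x := by rw [S.sqV v hx, mul_one]

theorem comm_of_gen {a : T} (h : ∀ x : T, x ∈ closure ({a, σ a} ∪ (V : Set T))) :
    ∀ x y : T, x * y = y * x := by
  have hs : ∀ g ∈ ({a, σ a} ∪ (V : Set T)), ∀ g' ∈ ({a, σ a} ∪ (V : Set T)), g * g' = g' * g := by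
    have h0 : a * σ a = σ a * a := comm_image S.three S.fpf a
    intro g hg g' hg'
    rcases hg with hg | hg
    swap
    · exact (mem_center_iff.1 (S.central hg) g').symm
    rcases hg' with hg' | hg'
    swap
    · exact mem_center_iff.1 (S.central hg') g
    rcases hg with rfl | rfl <;> rcases hg' with rfl | rfl
    · rfl
    · exact h0
    · exact h0.symm
    · rfl
  intro x y
  haveI := Subgroup.isMulCommutative_closure hs
  exact congrArg Subtype.val
    (mul_comm' (⟨x, h x⟩ : closure ({a, σ a} ∪ (V : Set T))) ⟨y, h y⟩)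

/-- An abelian group is elementary of order sixteen or homocyclic of rank two. -/
theorem abelian_cases (hab : ∀ x y : T, x * y = y * x) :
    (Nat.card T = 16 ∧ ∀ x : T, x * x = 1) ∨
      ((∃ n : ℕ, 1 ≤ n ∧ Nonempty (T ≃* Multiplicative (ZMod (2 ^ n)) × Multiplicative (ZMod (2 ^ n)))) ∧
        ∃ a : T, ∀ x : T, x ∈ closure ({a, σ a} : Set T)) := by
  classical
  letI : CommGroup T := { ‹Group T› with mul_comm := hab }
  let N : T →* T := MonoidHom.mk' (fun x => x * τ x) fun x y => by
    simp only [map_mul]; exact mul_mul_mul_comm _ _ _ _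
  have hN : ∀ x, N x = x * τ x := fun x => rfl
  have hNV : ∀ x, N x ∈ V := fun x => (S.fixed _).1 (by rw [hN, map_mul, S.invol, mul_comm])
  let O : Subgroup T := (powMonoidHom 2 : T →* T).ker
  have hO : ∀ x, x ∈ O ↔ x * x = 1 := fun x => by
    simp [O, MonoidHom.mem_ker, pow_two]
  have hVO : V ≤ O := fun v hv => (hO v).2 (S.sqV v hv)
  by_cases hOV : O ≤ V
  · -- exactly three involutions
    right
    have hne : ∃ v ∈ V, v ≠ 1 := by
      by_contra h
      push Not at h
      have : V = ⊥ := (eq_bot_iff_forall V).2 h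
      have h4 := S.cardV
      rw [this, card_bot] at h4
      omega
    haveI : Fact (Nat.Prime 2) := ⟨Nat.prime_two⟩
    obtain ⟨n, hn⟩ := Monoid.exists_orderOf_eq_exponent (G := T) Monoid.ExponentExists.of_finite
    obtain ⟨k, hk⟩ := IsPGroup.iff_orderOf.1 S.two n
    rw [hk] at hn
    obtain ⟨v, hv, hv1⟩ := hne
    have hk0 : k ≠ 0 := by
      rintro rfl
      refine hv1 (orderOf_eq_one_iff.1 (Nat.dvd_one.1 ?_))
      rw [← pow_zero (2 : ℕ), hn]
      exact Monoid.order_dvd_exponent v
    obtain ⟨j, rfl⟩ : ∃ j, k = j + 1 := ⟨k - 1, by omega⟩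
    have hexp : ∀ x : T, x ^ (2 ^ (j + 1)) = 1 := fun x => by
      rw [hn]; exact Monoid.pow_exponent_eq_one x
    obtain ⟨a', ha'⟩ : ∃ a', a' = n ^ (2 ^ j) := ⟨_, rfl⟩
    have ha'1 : a' ≠ 1 := by
      intro h
      rw [ha'] at h
      have := Nat.le_of_dvd (Nat.two_pow_pos j) (orderOf_dvd_of_pow_eq_one h)
      rw [hk, pow_succ] at this
      have := Nat.two_pow_pos j
      omega
    have ha'V : a' ∈ V := hOV ((hO _).2 (by rw [ha', ← pow_add, ← two_mul, ← pow_succ', hexp]))
    have hpm : ∀ (g : T) (i : ℕ), g ^ (i % 2 ^ (j + 1)) = g ^ i := fun g i =>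
      (pow_eq_pow_mod i (hexp g)).symm
    let f : Multiplicative (ZMod (2 ^ (j + 1))) × Multiplicative (ZMod (2 ^ (j + 1))) →* T :=
      MonoidHom.mk' (fun p => n ^ p.1.toAdd.val * (σ n) ^ p.2.toAdd.val) fun p q => by
        have e : ∀ (g : T) (u w : ZMod (2 ^ (j + 1))), g ^ (u + w).val = g ^ u.val * g ^ w.val :=
          fun g u w => by rw [ZMod.val_add, hpm, pow_add]
        simp only [Prod.fst_mul, Prod.snd_mul, toAdd_mul, e]
        exact mul_mul_mul_comm (n ^ p.1.toAdd.val) (n ^ q.1.toAdd.val) _ _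
    have hinj : Function.Injective f := by
      rw [injective_iff_map_eq_one]
      intro p hp
      by_contra hne
      obtain ⟨c, hc⟩ : ∃ c, IsPGroup 2 ↥f.ker ∧ c = f.ker := ⟨f.ker, (IsPGroup.of_injective
        (H := ↥f.ker) (show IsPGroup 2 (Multiplicative (ZMod (2 ^ (j + 1))) ×
          Multiplicative (ZMod (2 ^ (j + 1)))) from IsPGroup.of_card (n := (j + 1) + (j + 1)) (by
            rw [Nat.card_prod, show Nat.card (Multiplicative (ZMod (2 ^ (j + 1)))) =
              Nat.card (ZMod (2 ^ (j + 1))) from rfl, Nat.card_zmod, ← pow_add]))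
          f.ker.subtype f.ker.subtype_injective), rfl⟩
      haveI : Nontrivial ↥f.ker := ⟨⟨⟨p, hp⟩, 1, fun e => hne (congrArg Subtype.val e)⟩⟩
      obtain ⟨k', hk'⟩ := hc.1.exists_card_eq
      have hk'0 : k' ≠ 0 := by
        rintro rfl
        have := Finite.one_lt_card (α := ↥f.ker)
        rw [hk', pow_zero] at this
        omega
      obtain ⟨q, hq⟩ := exists_prime_orderOf_dvd_card' (G := ↥f.ker) 2
        (by rw [hk']; exact dvd_pow_self 2 hk'0)
      have hq2 : orderOf (q : Multiplicative (ZMod (2 ^ (j + 1))) ×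
          Multiplicative (ZMod (2 ^ (j + 1)))) = 2 := by rw [Subgroup.orderOf_coe, hq]
      have hqq := pow_orderOf_eq_one (q : Multiplicative (ZMod (2 ^ (j + 1))) ×
        Multiplicative (ZMod (2 ^ (j + 1))))
      rw [hq2] at hqq
      have key : ∀ z : Multiplicative (ZMod (2 ^ (j + 1))), z ^ 2 = 1 →
          z.toAdd.val = 0 ∨ z.toAdd.val = 2 ^ j := by
        intro z hz
        have h : ((2 * z.toAdd.val : ℕ) : ZMod (2 ^ (j + 1))) = 0 := by
          have := congrArg Multiplicative.toAdd hz
          rw [toAdd_pow, toAdd_one, two_nsmul] at this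
          rw [Nat.cast_mul, ZMod.natCast_val, ZMod.cast_id, Nat.cast_ofNat, two_mul]
          exact this
        rw [ZMod.natCast_eq_zero_iff] at h
        have hlt := ZMod.val_lt z.toAdd
        have h' : 2 * 2 ^ j ∣ 2 * z.toAdd.val := (pow_succ' 2 j) ▸ h
        obtain ⟨c, hc⟩ := Nat.dvd_of_mul_dvd_mul_left (by norm_num : 0 < 2) h'
        have hlt' : 2 ^ j * c < 2 ^ j * 2 := lt_of_eq_of_lt hc.symm (lt_of_lt_of_eq hlt (pow_succ 2 j))
        have hc2 : c < 2 := Nat.lt_of_mul_lt_mul_left hlt'
        interval_cases c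
        · exact Or.inl (by rw [hc, mul_zero])
        · exact Or.inr (by rw [hc, mul_one])
      have hfq : n ^ (q : Multiplicative (ZMod (2 ^ (j + 1))) × Multiplicative (ZMod (2 ^ (j + 1)))).1.toAdd.val *
          (σ n) ^ (q : Multiplicative (ZMod (2 ^ (j + 1))) × Multiplicative (ZMod (2 ^ (j + 1)))).2.toAdd.val = 1 := q.2
      obtain ⟨⟨q1, q2⟩, hq3⟩ := q
      have e1 : (σ n) ^ 2 ^ j = σ a' := by rw [ha', map_pow]
      rcases key q1 (congrArg Prod.fst hqq) with h1 | h1 <;>
        rcases key q2 (congrArg Prod.snd hqq) with h2 | h2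
      · apply (show (2 : ℕ) ≠ 1 by norm_num)
        rw [← hq2, orderOf_eq_one_iff]
        refine Prod.ext ?_ ?_
        · exact Multiplicative.toAdd.injective ((ZMod.val_eq_zero _).1 h1)
        · exact Multiplicative.toAdd.injective ((ZMod.val_eq_zero _).1 h2)
      · simp only [h1, h2, pow_zero, one_mul, e1] at hfq
        exact ha'1 (σ.injective (hfq.trans (map_one σ).symm))
      · simp only [h1, h2, pow_zero, mul_one, ← ha'] at hfq
        exact ha'1 hfq
      · simp only [h1, h2, e1, ← ha'] at hfq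
        have hinv : a'⁻¹ = a' := inv_eq_of_mul_eq_one_right (S.sqV a' ha'V)
        have := eq_inv_of_mul_eq_one_right hfq
        rw [hinv] at this
        exact ha'1 (S.fpf a' this)
    -- the order is bounded by the kernels of the power maps
    have hker : ∀ m : ℕ, Nat.card {x : T // x ^ (2 ^ m) = 1} ≤ 4 ^ m := by
      intro m
      induction m with
      | zero =>
        haveI : Subsingleton {x : T // x ^ (2 ^ 0) = 1} :=
          ⟨fun x y => Subtype.ext (by
            have hx : (x : T) = 1 := (pow_one _).symm.trans x.2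
            have hy : (y : T) = 1 := (pow_one _).symm.trans y.2
            rw [hx, hy])⟩
        rw [pow_zero (4 : ℕ)]
        exact Finite.card_le_one_iff_subsingleton.2 inferInstance
      | succ m ih =>
        let K : ℕ → Subgroup T := fun m => (powMonoidHom (2 ^ m) : T →* T).ker
        have hK : ∀ m, Nat.card ↥(K m) = Nat.card {x : T // x ^ (2 ^ m) = 1} := fun m =>
          Nat.card_congr (Equiv.subtypeEquivRight fun x => Iff.rfl)
        rw [← hK] at ih ⊢
        let sq : ↥(K (m + 1)) →* T := (powMonoidHom 2 : T →* T).comp (K (m + 1)).subtype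
        have h1 : Nat.card ↥sq.range ≤ 4 ^ m := by
          refine le_trans (Subgroup.card_le_of_le ?_) ih
          rintro _ ⟨x, rfl⟩
          show ((x : T) ^ 2) ^ (2 ^ m) = 1
          rw [← pow_mul, ← pow_succ']
          exact x.2
        have h2 : Nat.card ↥sq.ker ≤ 4 := by
          rw [← S.cardV]
          refine Nat.card_le_card_of_injective
            (fun x : ↥sq.ker => (⟨((x : ↥(K (m + 1))) : T), hOV ((hO _).2 (by
              have h : ((x : ↥(K (m + 1))) : T) ^ 2 = 1 := x.2
              rwa [pow_two] at h))⟩ : ↥V))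
            fun x y e => ?_
          exact Subtype.ext (Subtype.ext (congrArg (fun z : ↥V => (z : T)) e))
        calc Nat.card ↥(K (m + 1)) = Nat.card ↥sq.range * Nat.card ↥sq.ker := by
              rw [← Subgroup.index_ker, mul_comm, Subgroup.card_mul_index]
          _ ≤ 4 ^ m * 4 := Nat.mul_le_mul h1 h2
          _ = 4 ^ (m + 1) := (pow_succ _ _).symm
    have hT : Nat.card T ≤ 4 ^ (j + 1) :=
      le_trans (Nat.card_le_card_of_injective (fun x => (⟨x, hexp x⟩ : {x : T // x ^ (2 ^ (j + 1)) = 1}))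
        fun x y e => congrArg Subtype.val e) (hker _)
    have hZ : Nat.card (Multiplicative (ZMod (2 ^ (j + 1))) × Multiplicative (ZMod (2 ^ (j + 1)))) =
        4 ^ (j + 1) := by
      rw [Nat.card_prod, show Nat.card (Multiplicative (ZMod (2 ^ (j + 1)))) =
        Nat.card (ZMod (2 ^ (j + 1))) from rfl, Nat.card_zmod, ← mul_pow]
      norm_num
    have hbij : Function.Bijective f :=
      hinj.bijective_of_nat_card_le (by rw [hZ]; exact hT)
    refine ⟨⟨j + 1, by omega, ⟨(MulEquiv.ofBijective f hbij).symm⟩⟩, n, fun x => ?_⟩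
    obtain ⟨p, rfl⟩ := hbij.2 x
    exact (Subgroup.closure _).mul_mem (pow_mem (subset_closure (by simp)) _) (pow_mem (subset_closure (by simp)) _)
  · -- more than three involutions
    left
    obtain ⟨y, hyO, hyV⟩ := SetLike.not_le_iff_exists.1 hOV
    have hNy : N y ≠ 1 := by
      intro h
      rw [hN] at h
      apply hyV
      refine (S.fixed y).1 ?_
      exact (eq_inv_of_mul_eq_one_right h).trans (inv_eq_of_mul_eq_one_right ((hO y).1 hyO))
    have hsurj : ∀ x, ∃ z ∈ O, N z = N x := by
      intro x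
      have hOσ : ∀ z ∈ O, σ z ∈ O := fun z hz => (hO _).2 (by rw [← map_mul, (hO z).1 hz, map_one])
      have hNσ : ∀ z, N (σ z) = σ (N z) := fun z => by rw [hN, hN, map_mul, S.comm]
      rcases S.orbit (hNV y) hNy (hNV x) with h | h | h | h
      · exact ⟨1, one_mem O, by rw [map_one, h]⟩
      · exact ⟨y, hyO, h.symm⟩
      · exact ⟨σ y, hOσ y hyO, by rw [hNσ, h]⟩
      · exact ⟨σ (σ y), hOσ _ (hOσ y hyO), by rw [hNσ, hNσ, h]⟩
    have hkerN : ∀ z ∈ N.ker, z * z = 1 := by
      by_contra hno
      push Not at hno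
      obtain ⟨z, hz, hz2⟩ := hno
      haveI : Fact (Nat.Prime 2) := ⟨Nat.prime_two⟩
      obtain ⟨m, hm⟩ := IsPGroup.iff_orderOf.1 S.two z
      have hm2 : 2 ≤ m := by
        by_contra hlt
        apply hz2
        have hp := pow_orderOf_eq_one z
        rw [hm] at hp
        interval_cases m
        · rw [pow_zero, pow_one] at hp; rw [hp, mul_one]
        · rwa [pow_one, pow_two] at hp
      obtain ⟨l, rfl⟩ : ∃ l, m = l + 2 := ⟨m - 2, by omega⟩
      obtain ⟨k, hk⟩ : ∃ k, k = z ^ (2 ^ l) := ⟨_, rfl⟩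
      have hk4 : k * k * (k * k) = 1 := by
        rw [hk, ← pow_add, ← pow_add, show 2 ^ l + 2 ^ l + (2 ^ l + 2 ^ l) = 2 ^ (l + 2) by ring, ← hm,
          pow_orderOf_eq_one]
      have hk2 : k * k ≠ 1 := by
        rw [hk, ← pow_add]
        intro h
        have := Nat.le_of_dvd (by positivity) (orderOf_dvd_of_pow_eq_one h)
        rw [hm, pow_add] at this
        have := Nat.two_pow_pos l
        omega
      have hkN : N k = 1 := by rw [hk, map_pow, (MonoidHom.mem_ker).1 hz, one_pow]
      have hτk : τ k = k⁻¹ := eq_inv_of_mul_eq_one_right (hN k ▸ hkN)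
      have hkkV : k * k ∈ V := (S.fixed _).1 (by
        rw [map_mul, hτk, ← mul_inv_rev, inv_eq_of_mul_eq_one_right hk4])
      obtain ⟨w, hwO, hw⟩ : ∃ w ∈ O, N w = k * k := by
        rcases S.orbit (hNV y) hNy hkkV with h | h | h | h
        · exact absurd h hk2
        · exact ⟨y, hyO, h.symm⟩
        · exact ⟨σ y, (hO _).2 (by rw [← map_mul, (hO y).1 hyO, map_one]),
            by rw [hN, S.comm, ← map_mul, ← hN, h]⟩
        · refine ⟨σ (σ y), (hO _).2 (by rw [← map_mul, ← map_mul, (hO y).1 hyO, map_one, map_one]),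
            by rw [hN, S.comm, S.comm, ← map_mul, ← map_mul, ← hN, h]⟩
      have hww := (hO w).1 hwO
      have hτw : τ w = w * (k * k) := by
        rw [← hw, hN, ← mul_assoc, hww, one_mul]
      have hfix : w * k ∈ V := (S.fixed _).1 (by
        rw [map_mul, hτw, hτk]; group)
      have := S.sqV _ hfix
      rw [mul_mul_mul_comm, hww, one_mul] at this
      exact hk2 this
    have hall : ∀ x, x ∈ O := by
      intro x
      obtain ⟨z, hz, hzx⟩ := hsurj x
      have h1 : x * z⁻¹ ∈ N.ker := by rw [MonoidHom.mem_ker, map_mul, map_inv, hzx, mul_inv_cancel]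
      have := O.mul_mem ((hO _).2 (hkerN _ h1)) hz
      rwa [inv_mul_cancel_right] at this
    refine ⟨?_, fun x => (hO x).1 (hall x)⟩
    have hr : N.range = V := by
      refine le_antisymm (by rintro _ ⟨x, rfl⟩; exact hNV x) fun v hv => ?_
      rcases S.orbit (hNV y) hNy hv with h | h | h | h
      · exact h ▸ one_mem _
      · exact ⟨y, h.symm⟩
      · exact ⟨σ y, by rw [hN, S.comm, ← map_mul, ← hN, h]⟩
      · exact ⟨σ (σ y), by rw [hN, S.comm, S.comm, ← map_mul, ← map_mul, ← hN, h]⟩
    have hk : N.ker = V := by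
      ext x
      rw [MonoidHom.mem_ker, hN, ← S.fixed x]
      constructor
      · intro h
        rw [eq_inv_of_mul_eq_one_right h, inv_eq_of_mul_eq_one_right ((hO x).1 (hall x))]
      · intro h
        rw [h, (hO x).1 (hall x)]
    have := Subgroup.card_mul_index N.ker
    rw [Subgroup.index_ker, hk, hr, S.cardV] at this
    omega

/-- The induced data on the quotient. -/
theorem quotient (hne : V ≠ ⊤) :
    ∃ (_ : V.Normal) (τ' σ' : MulAut (T ⧸ V)),
      (∀ x : T, τ' (x : T ⧸ V) = ((τ x : T) : T ⧸ V)) ∧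
      (∀ x : T, σ' (x : T ⧸ V) = ((σ x : T) : T ⧸ V)) ∧
      Hyp ((D V τ S.central).map (QuotientGroup.mk' V)) τ' σ' := by
  classical
  haveI := S.normal
  obtain ⟨Dd, hDd⟩ : ∃ Dd, Dd = D V τ S.central := ⟨_, rfl⟩
  have hmapτ : V.map (τ : T →* T) = V := by
    ext v
    constructor
    · rintro ⟨w, hw, rfl⟩
      show τ w ∈ V
      rw [(S.fixed w).2 hw]; exact hw
    · exact fun hv => ⟨v, hv, (S.fixed v).2 hv⟩
  have hmapσ : V.map (σ : T →* T) = V := by
    ext v
    constructor
    · rintro ⟨w, hw, rfl⟩; exact S.stable w hw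
    · exact fun hv => ⟨σ (σ v), S.stable _ (S.stable v hv), S.three v⟩
  let τ' : MulAut (T ⧸ V) := QuotientGroup.congr V V τ hmapτ
  let σ' : MulAut (T ⧸ V) := QuotientGroup.congr V V σ hmapσ
  have hτ : ∀ x : T, τ' (x : T ⧸ V) = ((τ x : T) : T ⧸ V) := fun x => rfl
  have hσ : ∀ x : T, σ' (x : T ⧸ V) = ((σ x : T) : T ⧸ V) := fun x => rfl
  have h2 : IsPGroup 2 (T ⧸ V) := S.two.to_quotient V
  have hinv : ∀ y, τ' (τ' y) = y := fun y => by
    obtain ⟨x, rfl⟩ := QuotientGroup.mk_surjective y; rw [hτ, hτ, S.invol]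
  have h3 : ∀ y, σ' (σ' (σ' y)) = y := fun y => by
    obtain ⟨x, rfl⟩ := QuotientGroup.mk_surjective y; rw [hσ, hσ, hσ, S.three]
  have hcm : ∀ y, τ' (σ' y) = σ' (τ' y) := fun y => by
    obtain ⟨x, rfl⟩ := QuotientGroup.mk_surjective y; rw [hσ, hτ, hτ, hσ, S.comm]
  have hf : ∀ y, σ' y = y → y = 1 := fun y hy => by
    obtain ⟨x, rfl⟩ := QuotientGroup.mk_surjective y
    rw [hσ, eq_comm, QuotientGroup.eq] at hy
    exact (QuotientGroup.eq_one_iff x).2 (S.fpf_mod hy)
  let E : Subgroup (T ⧸ V) := (D V τ S.central).map (QuotientGroup.mk' V)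
  have hmemE : ∀ x : T, (x : T ⧸ V) ∈ E ↔ x ∈ D V τ S.central := fun x => by
    refine ⟨?_, fun hx => ⟨x, hx, rfl⟩⟩
    rintro ⟨d, hd, e⟩
    have h := S.V_le_D (QuotientGroup.eq.1 e)
    have := (D V τ S.central).mul_mem hd h
    rwa [mul_inv_cancel_left] at this
  have hfix : ∀ y, τ' y = y ↔ y ∈ E := fun y => by
    obtain ⟨x, rfl⟩ := QuotientGroup.mk_surjective y
    rw [hτ, hmemE, S.mem_D, eq_comm, QuotientGroup.eq]
  have hEσ : ∀ y ∈ E, σ' y ∈ E := fun y hy => by
    obtain ⟨x, rfl⟩ := QuotientGroup.mk_surjective y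
    rw [hσ, hmemE]; exact S.D_stable ((hmemE x).1 hy)
  haveI : Nontrivial (T ⧸ V) := by
    by_contra h
    rw [not_nontrivial_iff_subsingleton] at h
    exact hne ((eq_top_iff' V).2 fun x => (QuotientGroup.eq_one_iff x).1 (Subsingleton.elim _ _))
  obtain ⟨e, -, he1, hef⟩ := exists_fixed h2 hinv ⊤ (fun y _ => mem_top _) top_ne_bot
  obtain ⟨d, rfl⟩ := QuotientGroup.mk_surjective e
  have hd : d ∈ D V τ S.central := (hmemE d).1 ((hfix _).1 hef)
  obtain ⟨v, hv⟩ : ∃ v, v = d⁻¹ * τ d := ⟨_, rfl⟩
  have hvV : v ∈ V := hv ▸ hd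
  have hv1 : v ≠ 1 := fun h => he1 ((QuotientGroup.eq_one_iff d).2 ((S.fixed d).1
    (inv_mul_eq_one.1 (hv.symm.trans h)).symm))
  have hEorb : ∀ y ∈ E, y = 1 ∨ y = (d : T ⧸ V) ∨ y = σ' (d : T ⧸ V) ∨ y = σ' (σ' (d : T ⧸ V)) := by
    intro y hy
    obtain ⟨x, rfl⟩ := QuotientGroup.mk_surjective y
    have hx := (hmemE x).1 hy
    have key : ∀ c ∈ D V τ S.central, x⁻¹ * τ x = c⁻¹ * τ c → (x : T ⧸ V) = (c : T ⧸ V) := by
      intro c hc e
      rw [QuotientGroup.eq]
      refine (S.fixed _).1 ?_
      rw [map_mul, map_inv]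
      calc (τ x)⁻¹ * τ c = (x * (x⁻¹ * τ x))⁻¹ * (c * (c⁻¹ * τ c)) := by group
        _ = (c⁻¹ * τ c)⁻¹ * (x⁻¹ * c) * (c⁻¹ * τ c) := by rw [e]; group
        _ = x⁻¹ * c := by
            rw [← mem_center_iff.1 (S.central (V.inv_mem ((S.mem_D).1 hc))) (x⁻¹ * c),
              inv_mul_cancel_right]
    rcases S.orbit hvV hv1 ((S.mem_D).1 hx) with h | h | h | h
    · exact Or.inl ((QuotientGroup.eq_one_iff x).2 ((S.fixed x).1 (inv_mul_eq_one.1 h).symm))
    · exact Or.inr (Or.inl (key d hd (h.trans hv)))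
    · refine Or.inr (Or.inr (Or.inl ?_))
      rw [hσ]
      exact key _ (S.D_stable hd) (by rw [h, hv, map_mul, map_inv, S.comm])
    · refine Or.inr (Or.inr (Or.inr ?_))
      rw [hσ, hσ]
      exact key _ (S.D_stable (S.D_stable hd))
        (by rw [h, hv, map_mul, map_inv, map_mul, map_inv, S.comm, S.comm])
  have hdE : (d : T ⧸ V) ∈ E := (hmemE d).2 hd
  have hcardE : Nat.card ↥E = 4 := by
    haveI := Fintype.ofFinite ↥E
    have hup : Nat.card ↥E ≤ 4 := by
      let f : Fin 4 → ↥E := ![1, ⟨_, hdE⟩, ⟨_, hEσ _ hdE⟩, ⟨_, hEσ _ (hEσ _ hdE)⟩]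
      have hs : Function.Surjective f := by
        rintro ⟨y, hy⟩
        rcases hEorb y hy with h | h | h | h
        · exact ⟨0, Subtype.ext h.symm⟩
        · exact ⟨1, Subtype.ext h.symm⟩
        · exact ⟨2, Subtype.ext h.symm⟩
        · exact ⟨3, Subtype.ext h.symm⟩
      simpa using Nat.card_le_card_of_surjective f hs
    have hbot : (⊥ : Subgroup (T ⧸ V)) < E :=
      bot_lt_iff_ne_bot.2 fun h => he1 (mem_bot.1 (h ▸ hdE : (d : T ⧸ V) ∈ (⊥ : Subgroup (T ⧸ V))))
    have := four_mul_card_le h3 hf h2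
      (fun y hy => by rw [mem_bot] at hy ⊢; rw [hy, map_one]) hEσ hbot
    rw [card_bot] at this
    omega
  have hsqE : ∀ y ∈ E, y * y = 1 := fun y hy => by
    obtain ⟨x, rfl⟩ := QuotientGroup.mk_surjective y
    exact (QuotientGroup.eq_one_iff _).2 (S.sq_D ((hmemE x).1 hy))
  have hEc : E ≤ center (T ⧸ V) := by
    have hcτ : ∀ z ∈ center (T ⧸ V), τ' z ∈ center (T ⧸ V) := fun z hz => mem_center_iff.2 fun y => by
      obtain ⟨y, rfl⟩ := τ'.surjective y
      rw [← map_mul, ← map_mul, mem_center_iff.1 hz y]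
    have hcσ : ∀ z ∈ center (T ⧸ V), σ' z ∈ center (T ⧸ V) := fun z hz => mem_center_iff.2 fun y => by
      obtain ⟨y, rfl⟩ := σ'.surjective y
      rw [← map_mul, ← map_mul, mem_center_iff.1 hz y]
    haveI : Fact (Nat.Prime 2) := ⟨Nat.prime_two⟩
    haveI := h2.center_nontrivial
    obtain ⟨z, hz, hz1, hzf⟩ := exists_fixed h2 hinv (center (T ⧸ V)) hcτ
      ((center (T ⧸ V)).nontrivial_iff_ne_bot.1 inferInstance)
    intro y hy
    rcases orbit_eq h3 hf E hcardE hEσ ((hfix z).1 hzf) hz1 hy with h | h | h | h <;> rw [h]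
    · exact one_mem _
    · exact hz
    · exact hcσ z hz
    · exact hcσ _ (hcσ z hz)
  exact ⟨S.normal, τ', σ', hτ, hσ, ⟨h2, hcardE, hsqE, hEc, hinv, h3, hcm, hfix, hEσ, fun y _ => hf y⟩⟩

end Hyp

/-- The structure theorem. -/
theorem structure_cases : ∀ (n : ℕ) {T : Type u} [Group T] [Finite T] {V : Subgroup T}
    {τ σ : MulAut T}, Nat.card T = n → Hyp V τ σ →
    (∀ x y : T, x * y = y * x) ∨ (Nat.card T = 64 ∧ ∀ x : T, x * x ∈ V) := by
  intro n
  induction n using Nat.strong_induction_on with
  | _ n ih =>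
    intro T _ _ V τ σ hn S
    by_cases hab : ∀ x y : T, x * y = y * x
    · exact Or.inl hab
    right
    have hne : V ≠ ⊤ := fun h => hab fun x y =>
      (mem_center_iff.1 (S.central (h ▸ mem_top x)) y).symm
    obtain ⟨hN, τ', σ', hτ, hσ, Q⟩ := S.quotient hne
    have hlag := card_eq_card_quotient_mul_card_subgroup V
    rw [S.cardV] at hlag
    have hlt : Nat.card (T ⧸ V) < n := by
      have := Nat.card_pos (α := T ⧸ V)
      omega
    rcases ih _ hlt rfl Q with hq | ⟨hq64, hqsq⟩
    · -- abelian quotient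
      rcases Q.abelian_cases hq with ⟨h16, hsq⟩ | ⟨-, a, ha⟩
      · refine ⟨by omega, fun x => ?_⟩
        exact (QuotientGroup.eq_one_iff _).1 (hsq (x : T ⧸ V))
      · exfalso
        obtain ⟨a, rfl⟩ := QuotientGroup.mk_surjective a
        refine hab (S.comm_of_gen (a := a) fun x => ?_)
        have hle : closure ({(a : T ⧸ V), σ' (a : T ⧸ V)} : Set (T ⧸ V)) ≤
            (closure ({a, σ a} ∪ (V : Set T))).map (QuotientGroup.mk' V) := by
          rw [closure_le]
          rintro y (rfl | rfl)
          · exact ⟨a, subset_closure (Or.inl (by simp)), rfl⟩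
          · exact ⟨σ a, subset_closure (Or.inl (by simp)), (hσ a).symm⟩
        obtain ⟨k, hk, e⟩ := hle (ha (x : T ⧸ V))
        have := (closure ({a, σ a} ∪ (V : Set T))).mul_mem hk
          (subset_closure (Or.inr (QuotientGroup.eq.1 e)))
        rwa [mul_inv_cancel_left] at this
    · -- non-abelian quotient
      exfalso
      obtain ⟨D, hD⟩ : ∃ D, D = Hyp.D V τ S.central := ⟨_, rfl⟩
      have hmemD : ∀ x : T, (x : T ⧸ V) ∈ (Hyp.D V τ S.central).map (QuotientGroup.mk' V) → x ∈ D := by
        rintro x ⟨d, hd, e⟩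
        have := D.mul_mem (hD ▸ hd) (hD ▸ S.V_le_D (QuotientGroup.eq.1 e))
        rwa [mul_inv_cancel_left] at this
      have hDσ : ∀ x ∈ D, σ x ∈ D := fun x hx => by subst hD; exact S.D_stable hx
      have hVD : V ≤ D := hD ▸ S.V_le_D
      have hsqD : ∀ x : T, x * x ∈ D := fun x => hmemD _ (hqsq (x : T ⧸ V))
      have hcD : ∀ g h : T, ⁅g, h⁆ ∈ D := fun g h => by
        have e : ⁅g, h⁆ = g * g * (g⁻¹ * h * (g⁻¹ * h)) * (h⁻¹ * h⁻¹) := by
          rw [commutatorElement_def]; group
        rw [e]
        exact D.mul_mem (D.mul_mem (hsqD _) (hsqD _)) (hsqD _)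
      obtain ⟨a, b, hab'⟩ : ∃ a b : T, ⁅a, b⁆ ∉ V := by
        by_contra h
        push Not at h
        have hnab : ¬ ∀ x y : T ⧸ V, x * y = y * x := by
          intro hcomm
          rcases Q.abelian_cases hcomm with ⟨h16, -⟩ | ⟨⟨m, -, ⟨e⟩⟩, c, hc⟩
          · omega
          · -- two generators and squares in the four-group force order at most sixteen
            let E : Subgroup (T ⧸ V) := (Hyp.D V τ S.central).map (QuotientGroup.mk' V)
            let f : ↥E × Bool × Bool → T ⧸ V := fun p =>
              (p.1 : T ⧸ V) * (if p.2.1 then c else 1) * (if p.2.2 then σ' c else 1)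
            letI : CommGroup (T ⧸ V) := { (inferInstance : Group (T ⧸ V)) with mul_comm := hcomm }
            have hs : Function.Surjective f := by
              intro y
              have hy := hc y
              induction hy using closure_induction with
              | mem y hy =>
                rcases hy with rfl | rfl
                · exact ⟨(1, true, false), by simp [f]⟩
                · exact ⟨(1, false, true), by simp [f]⟩
              | one => exact ⟨(1, false, false), by simp [f]⟩
              | mul y z _ _ ihy ihz =>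
                obtain ⟨⟨e1, p1, q1⟩, rfl⟩ := ihy
                obtain ⟨⟨e2, p2, q2⟩, rfl⟩ := ihz
                refine ⟨(e1 * e2 * (if p1 && p2 then ⟨c * c, hqsq c⟩ else 1) *
                  (if q1 && q2 then ⟨σ' c * σ' c, hqsq _⟩ else 1), xor p1 p2, xor q1 q2), ?_⟩
                cases p1 <;> cases p2 <;> cases q1 <;> cases q2 <;>
                  simp [f, mul_comm, mul_left_comm, mul_assoc]
              | inv y _ ihy =>
                obtain ⟨⟨e1, p1, q1⟩, rfl⟩ := ihy
                refine ⟨(e1⁻¹ * (if p1 then ⟨c * c, hqsq c⟩ else 1)⁻¹ *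
                  (if q1 then ⟨σ' c * σ' c, hqsq _⟩ else 1)⁻¹, p1, q1), ?_⟩
                cases p1 <;> cases q1 <;> simp [f, mul_comm, mul_left_comm, mul_assoc]
            have := Nat.card_le_card_of_surjective f hs
            rw [Nat.card_prod, Nat.card_prod, Q.cardV, hq64] at this
            simp at this
        refine hnab fun x y => ?_
        obtain ⟨x, rfl⟩ := QuotientGroup.mk_surjective x
        obtain ⟨y, rfl⟩ := QuotientGroup.mk_surjective y
        refine commutatorElement_eq_one_iff_mul_comm.1 ?_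
        exact (map_commutatorElement (QuotientGroup.mk' V) x y).symm.trans
          ((QuotientGroup.eq_one_iff _).2 (h x y))
      obtain ⟨d, hd⟩ : ∃ d, d = ⁅a, b⁆ := ⟨_, rfl⟩
      rw [← hd] at hab'
      have hdD : d ∈ D := hd ▸ hcD a b
      have horb : ∀ y ∈ D, ∃ v ∈ V, y = v ∨ y = d * v ∨ y = σ d * v ∨ y = σ (σ d) * v := by
        intro y hy
        have k : ∀ c : T, (y : T ⧸ V) = (c : T ⧸ V) → ∃ v ∈ V, y = c * v := fun c e =>
          ⟨c⁻¹ * y, QuotientGroup.eq.1 e.symm, (mul_inv_cancel_left c y).symm⟩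
        rcases Q.orbit ⟨d, hD ▸ hdD, rfl⟩ (fun h => hab' ((QuotientGroup.eq_one_iff d).1 h))
          ⟨y, hD ▸ hy, rfl⟩ with h | h | h | h
        · exact ⟨y, (QuotientGroup.eq_one_iff y).1 h, Or.inl rfl⟩
        · obtain ⟨v, hv, e⟩ := k d h; exact ⟨v, hv, Or.inr (Or.inl e)⟩
        · obtain ⟨v, hv, e⟩ := k (σ d) (h.trans (hσ d)); exact ⟨v, hv, Or.inr (Or.inr (Or.inl e))⟩
        · obtain ⟨v, hv, e⟩ := k (σ (σ d)) (by rw [← hσ, ← hσ]; exact h)
          exact ⟨v, hv, Or.inr (Or.inr (Or.inr e))⟩
      -- `d` commutes with `D`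
      have hdd : ∀ y ∈ D, d * y = y * d := by
        intro y hy
        obtain ⟨v, hv, hcases⟩ := horb y hy
        have hvc : Commute d v := mem_center_iff.1 (S.central hv) d
        rcases hcases with rfl | rfl | rfl | rfl
        · exact hvc
        · exact (Commute.refl d).mul_right hvc
        · exact (show Commute d (σ d) from comm_image S.three S.fpf d).mul_right hvc
        · have h := comm_image S.three S.fpf (σ (σ d))
          rw [S.three] at h
          exact (show Commute d (σ (σ d)) from h.symm).mul_right hvc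
      obtain ⟨hda, hda'⟩ := commute_commutator_left S.three S.fpf a b
      obtain ⟨hdb, hdb'⟩ := commute_commutator_right S.three S.fpf a b
      rw [← hd] at hda hda' hdb hdb'
      -- `a`, `σ a`, `b`, `σ b` and `D` generate
      obtain ⟨H, hH⟩ : ∃ H, H = closure ({a, σ a} ∪ (D : Set T)) := ⟨_, rfl⟩
      obtain ⟨K, hK⟩ : ∃ K, K = closure ({a, σ a, b, σ b} ∪ (D : Set T)) := ⟨_, rfl⟩
      have hHσ : ∀ y ∈ H, σ y ∈ H := by
        have hle : H ≤ H.comap (σ : T →* T) := by
          conv_lhs => rw [hH]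
          rw [closure_le]
          rintro y ((rfl | rfl) | hy)
          · exact hH ▸ subset_closure (Or.inl (by simp))
          · show σ (σ a) ∈ H
            rw [S.rho2, hH]
            exact inv_mem (mul_mem (subset_closure (Or.inl (by simp)))
              (subset_closure (Or.inl (by simp))))
          · exact hH ▸ subset_closure (Or.inr (hDσ y hy))
        exact fun y hy => hle hy
      have hKσ : ∀ y ∈ K, σ y ∈ K := by
        have hle : K ≤ K.comap (σ : T →* T) := by
          conv_lhs => rw [hK]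
          rw [closure_le]
          rintro y ((rfl | rfl | rfl | rfl) | hy)
          · exact hK ▸ subset_closure (Or.inl (by simp))
          · show σ (σ a) ∈ K
            rw [S.rho2, hK]
            exact inv_mem (mul_mem (subset_closure (Or.inl (by simp)))
              (subset_closure (Or.inl (by simp))))
          · exact hK ▸ subset_closure (Or.inl (by simp))
          · show σ (σ b) ∈ K
            rw [S.rho2, hK]
            exact inv_mem (mul_mem (subset_closure (Or.inl (by simp)))
              (subset_closure (Or.inl (by simp))))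
          · exact hK ▸ subset_closure (Or.inr (hDσ y hy))
        exact fun y hy => hle hy
      -- modulo `V` the group `D` is central
      have hDa : ∀ y ∈ D, ⁅a, y⁆ ∈ V := fun y hy => by
        rw [← QuotientGroup.eq_one_iff (N := V), ← QuotientGroup.mk'_apply, map_commutatorElement,
          commutatorElement_eq_one_iff_mul_comm]
        exact mem_center_iff.1 (Q.central ⟨y, hD ▸ hy, rfl⟩) _
      have hDH : D < H := by
        refine lt_of_le_of_ne (fun y hy => hH ▸ subset_closure (Or.inr hy)) fun h => hab' ?_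
        have haD : a ∈ D := h ▸ hH ▸ subset_closure (Or.inl (by simp))
        rw [hd, ← commutatorElement_inv]
        refine V.inv_mem ?_
        rw [← QuotientGroup.eq_one_iff (N := V), ← QuotientGroup.mk'_apply, map_commutatorElement,
          commutatorElement_eq_one_iff_mul_comm]
        exact mem_center_iff.1 (Q.central ⟨a, hD ▸ haD, rfl⟩) _
      have hHK : H < K := by
        refine lt_of_le_of_ne (hH ▸ hK ▸ closure_mono (Set.union_subset_union_left _ (by
          rintro y (rfl | rfl) <;> simp))) fun h => hab' ?_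
        have hbH : b ∈ H := h ▸ hK ▸ subset_closure (Or.inl (by simp))
        have hle : H ≤ (centralizer ({(a : T ⧸ V)} : Set (T ⧸ V))).comap (QuotientGroup.mk' V) := by
          rw [hH, closure_le]
          rintro y ((rfl | rfl) | hy) <;> refine mem_centralizer_singleton_iff.2 ?_
          · rfl
          · exact (congrArg (QuotientGroup.mk' V) (comm_image S.three S.fpf a)).symm
          · exact (mem_center_iff.1 (Q.central ⟨y, hD ▸ hy, rfl⟩) _).symm
        rw [hd, ← QuotientGroup.eq_one_iff (N := V), ← QuotientGroup.mk'_apply, map_commutatorElement,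
          commutatorElement_eq_one_iff_mul_comm]
        exact (mem_centralizer_singleton_iff.1 (hle hbH)).symm
      have hKtop : K = ⊤ := by
        apply eq_top_of_le_card
        have h1 := four_mul_card_le S.three S.fpf S.two hDσ hHσ hDH
        have h2 := four_mul_card_le S.three S.fpf S.two hHσ hKσ hHK
        have hVD' : V < D := lt_of_le_of_ne hVD fun h => hab' (h ▸ hdD)
        have h3 := four_mul_card_le S.three S.fpf S.two S.stable hDσ hVD'
        rw [S.cardV] at h3
        omega
      have hdc : d ∈ center T := by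
        have hle : K ≤ centralizer ({d} : Set T) := by
          rw [hK, closure_le]
          rintro y ((rfl | rfl | rfl | rfl) | hy) <;> refine mem_centralizer_singleton_iff.2 ?_
          · exact hda.symm.eq
          · exact hda'.symm.eq
          · exact hdb.symm.eq
          · exact hdb'.symm.eq
          · exact (hdd y hy).symm
        exact mem_center_iff.2 fun y => mem_centralizer_singleton_iff.1 (hle (hKtop ▸ mem_top y))
      have hcσ : ∀ z ∈ center T, σ z ∈ center T := fun z hz => mem_center_iff.2 fun y => by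
        obtain ⟨y, rfl⟩ := σ.surjective y
        rw [← map_mul, ← map_mul, mem_center_iff.1 hz y]
      have hDc : D ≤ center T := fun y hy => by
        obtain ⟨v, hv, hcases⟩ := horb y hy
        rcases hcases with rfl | rfl | rfl | rfl
        · exact S.central hv
        · exact mul_mem hdc (S.central hv)
        · exact mul_mem (hcσ d hdc) (S.central hv)
        · exact mul_mem (hcσ _ (hcσ d hdc)) (S.central hv)
      -- the span of the orbit of `d`
      have hd2 : d * d = 1 := by
        have hz := mem_center_iff.1 hdc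
        have h1 : ⁅a * a, b⁆ = d * d := by
          calc ⁅a * a, b⁆ = a * ⁅a, b⁆ * a⁻¹ * ⁅a, b⁆ := by
                simp only [commutatorElement_def]; group
            _ = d * d := by rw [← hd, hz a, mul_inv_cancel_right]
        rw [← h1, commutatorElement_eq_one_iff_mul_comm]
        exact (mem_center_iff.1 (hDc (hsqD a)) b).symm
      have hs2 : ∀ z : T, z * z = 1 → σ z * σ z = 1 := fun z hz => by rw [← map_mul, hz, map_one]
      have hinv : ∀ z : T, z * z = 1 → z⁻¹ = z := fun z hz => inv_eq_of_mul_eq_one_right hz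
      obtain ⟨C, hC⟩ : ∃ C, C = closure ({d, σ d} : Set T) := ⟨_, rfl⟩
      have hCσ : ∀ y ∈ C, σ y ∈ C := by
        have hle : C ≤ C.comap (σ : T →* T) := by
          conv_lhs => rw [hC]
          rw [closure_le]
          rintro y (rfl | rfl)
          · exact hC ▸ subset_closure (by simp)
          · show σ (σ d) ∈ C
            rw [S.rho2, hC]
            exact inv_mem (mul_mem (subset_closure (by simp)) (subset_closure (by simp)))
        exact fun y hy => hle hy
      have hCc : C ≤ center T := by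
        rw [hC, closure_le]
        rintro y (rfl | rfl)
        · exact hdc
        · exact hcσ _ hdc
      have hCel : ∀ y ∈ C, y = 1 ∨ y = d ∨ y = σ d ∨ y = σ (σ d) := by
        have hd' := hs2 d hd2
        have e12 : σ (σ d) = σ d * d := by rw [S.rho2, mul_inv_rev, hinv d hd2, hinv _ hd']
        intro y hy
        rw [hC] at hy
        have hcm := mem_center_iff.1 hdc (σ d)
        induction hy using closure_induction with
        | mem y hy =>
          rcases hy with rfl | rfl
          · exact Or.inr (Or.inl rfl)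
          · exact Or.inr (Or.inr (Or.inl rfl))
        | one => exact Or.inl rfl
        | mul y z _ _ ihy ihz =>
          have p1 : d * σ d = σ (σ d) := by rw [e12, hcm]
          have p2 : σ d * d = σ (σ d) := e12.symm
          have p3 : d * σ (σ d) = σ d := by rw [← p1, ← mul_assoc, hd2, one_mul]
          have p4 : σ (σ d) * d = σ d := by rw [← p2, mul_assoc, hd2, mul_one]
          have p5 : σ d * σ (σ d) = d := by rw [← p2, ← mul_assoc, hd', one_mul]
          have p6 : σ (σ d) * σ d = d := by rw [← p1, mul_assoc, hd', mul_one]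
          have p7 : σ (σ d) * σ (σ d) = 1 := hs2 _ hd'
          rcases ihy with rfl | rfl | rfl | rfl <;> rcases ihz with rfl | rfl | rfl | rfl <;>
            simp [p1, p2, p3, p4, p5, p6, p7, hd2, hd']
        | inv y _ ihy =>
          rcases ihy with rfl | rfl | rfl | rfl
          · exact Or.inl inv_one
          · exact Or.inr (Or.inl (hinv _ hd2))
          · exact Or.inr (Or.inr (Or.inl (hinv _ hd')))
          · exact Or.inr (Or.inr (Or.inr (hinv _ (hs2 _ hd'))))
      haveI hCn : C.Normal := ⟨fun n hn g => by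
        rw [mem_center_iff.1 (hCc hn) g, mul_inv_cancel_right]; exact hn⟩
      have hmapC : C.map (σ : T →* T) = C := by
        ext v
        constructor
        · rintro ⟨w, hw, rfl⟩; exact hCσ w hw
        · exact fun hv => ⟨σ (σ v), hCσ _ (hCσ v hv), S.three v⟩
      let σc : MulAut (T ⧸ C) := QuotientGroup.congr C C σ hmapC
      have hσc : ∀ x : T, σc (x : T ⧸ C) = ((σ x : T) : T ⧸ C) := fun x => rfl
      have h3c : ∀ y, σc (σc (σc y)) = y := fun y => by
        obtain ⟨x, rfl⟩ := QuotientGroup.mk_surjective y; rw [hσc, hσc, hσc, S.three]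
      have hfc : ∀ y, σc y = y → y = 1 := fun y hy => by
        obtain ⟨x, rfl⟩ := QuotientGroup.mk_surjective y
        rw [hσc, eq_comm, QuotientGroup.eq] at hy
        exact (QuotientGroup.eq_one_iff x).2 (fpf_quot S.fpf hCσ hy)
      have hcc : ∀ g h : T ⧸ C, ⁅g, h⁆ ∈ center (T ⧸ C) := fun g h => by
        obtain ⟨g, rfl⟩ := QuotientGroup.mk_surjective g
        obtain ⟨h, rfl⟩ := QuotientGroup.mk_surjective h
        refine mem_center_iff.2 fun y => ?_
        obtain ⟨y, rfl⟩ := QuotientGroup.mk_surjective y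
        have e : ((⁅g, h⁆ : T) : T ⧸ C) = ⁅(g : T ⧸ C), (h : T ⧸ C)⁆ :=
          map_commutatorElement (QuotientGroup.mk' C) g h
        rw [← e, ← QuotientGroup.mk_mul, ← QuotientGroup.mk_mul, mem_center_iff.1 (hDc (hcD g h)) y]
      have habc : Commute (a : T ⧸ C) (b : T ⧸ C) := by
        refine commutatorElement_eq_one_iff_mul_comm.1 ?_
        exact (map_commutatorElement (QuotientGroup.mk' C) a b).symm.trans
          ((QuotientGroup.eq_one_iff _).2 (hd ▸ hC ▸ subset_closure (by simp)))
      have k1 := commute_image_of_central h3c hfc hcc habc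
      have k2 := commute_image_of_central h3c hfc hcc k1.1
      have kσ : Commute (σc (a : T ⧸ C)) (σc (b : T ⧸ C)) := habc.map σc.toMonoidHom
      have ka : Commute (a : T ⧸ C) (σc (a : T ⧸ C)) := comm_image h3c hfc _
      have kb : Commute (b : T ⧸ C) (σc (b : T ⧸ C)) := comm_image h3c hfc _
      have hall : ∀ g h : T, ⁅g, h⁆ ∈ C := by
        have hgen : ∀ y ∈ ({a, σ a, b, σ b} ∪ (D : Set T)), ∀ z ∈ ({a, σ a, b, σ b} ∪ (D : Set T)),
            (y : T ⧸ C) * (z : T ⧸ C) = (z : T ⧸ C) * (y : T ⧸ C) := by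
          intro y hy z hz
          rcases hy with hy | hy
          swap
          · rw [← QuotientGroup.mk_mul, ← QuotientGroup.mk_mul, (mem_center_iff.1 (hDc hy) z).symm]
          rcases hz with hz | hz
          swap
          · rw [← QuotientGroup.mk_mul, ← QuotientGroup.mk_mul, mem_center_iff.1 (hDc hz) y]
          rcases hy with rfl | rfl | rfl | rfl <;> rcases hz with rfl | rfl | rfl | rfl
          · rfl
          · exact ka
          · exact habc
          · exact k1.1
          · exact ka.symm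
          · rfl
          · exact k1.2
          · exact kσ
          · exact habc.symm
          · exact k1.2.symm
          · rfl
          · exact kb
          · exact k1.1.symm
          · exact kσ.symm
          · exact kb.symm
          · rfl
        intro g h
        have hmap : ∀ y : T, (y : T ⧸ C) ∈
            closure ((QuotientGroup.mk' C) '' ({a, σ a, b, σ b} ∪ (D : Set T))) := fun y => by
          rw [← MonoidHom.map_closure, ← hK]
          exact ⟨y, hKtop ▸ mem_top y, rfl⟩
        haveI := Subgroup.isMulCommutative_closure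
          (k := (QuotientGroup.mk' C) '' ({a, σ a, b, σ b} ∪ (D : Set T))) (by
            rintro _ ⟨y, hy, rfl⟩ _ ⟨z, hz, rfl⟩; exact hgen y hy z hz)
        refine (QuotientGroup.eq_one_iff _).1 ((map_commutatorElement (QuotientGroup.mk' C) g h).trans
          (commutatorElement_eq_one_iff_mul_comm.2 ?_))
        exact congrArg Subtype.val (mul_comm' (⟨_, hmap g⟩ :
          closure ((QuotientGroup.mk' C) '' ({a, σ a, b, σ b} ∪ (D : Set T)))) ⟨_, hmap h⟩)
      -- the involution
      have hτd : τ d ∈ C := by rw [hd, map_commutatorElement]; exact hall _ _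
      have hv : d⁻¹ * τ d ∈ V := (S.mem_D).1 (hD ▸ hdD : d ∈ Hyp.D V τ S.central)
      have hdC : d ∈ C := hC ▸ subset_closure (by simp)
      have hnv : ∀ z, σ z ∈ V → z ∈ V := fun z hz => S.three z ▸ S.stable _ (S.stable _ hz)
      rcases hCel _ (C.mul_mem (C.inv_mem hdC) hτd) with h | h | h | h
      · exact hab' ((S.fixed d).1 (inv_mul_eq_one.1 h).symm)
      · exact hab' (h ▸ hv)
      · exact hab' (hnv d (h ▸ hv))
      · exact hab' (hnv d (hnv _ (h ▸ hv)))

end CfsgLib.Amalgam.FoursCentre
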