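import Mathlib
import Cfsg.Agent.Lib.Amalgam.FpfThreeBasic
import Cfsg.Agent.Lib.InvChar.FpfThreeModel
import Cfsg.Agent.Lib.Fusion.SLThreeCore
import Cfsg.Agent.Lib.Classical.SLOrder
import Cfsg.Agent.Lib.Invol.PSUThreeFour

/-!
# Groups of order sixty-four with a fixed-point-free automorphism of order three

With an involution outside the centre such a group is a Sylow 2-subgroup of `PSL₃(4)`; without one
it is determined up to isomorphism, and is a Sylow 2-subgroup of `PSU₃(4)`.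
-/

set_option autoImplicit false
set_option linter.style.haveILetI false

namespace CfsgLib.Amalgam.FoursCentreModels

open Subgroup CfsgLib.InvChar.FpfThree
open scoped commutatorElement

section One

variable {T : Type*} [Group T] [Finite T] {ρ : MulAut T} (S : Setup ρ)
include S

theorem center_orbit_eq {z : T} (hz : z ∈ center T) (hz1 : z ≠ 1) {w : T} (hw : w ∈ center T) :
    w = 1 ∨ w = z ∨ w = ρ z ∨ w = ρ (ρ z) :=
  FpfThreeBasic.orbit_eq S.three S.fpf (center T) S.card_center (fun _ h => S.center_invariant h)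
    hz hz1 hw

theorem sq_orbit (g : T) : ρ (ρ g) * ρ (ρ g) = ρ (ρ (g * g)) := by rw [map_mul, map_mul]

/-- A non-central element fails to commute with some element. -/
theorem exists_cm_ne {a : T} (ha : a ∉ center T) : ∃ y : T, ⁅a, y⁆ ≠ 1 := by
  by_contra h
  push Not at h
  exact ha (mem_center_iff.2 fun y => (commutatorElement_eq_one_iff_mul_comm.1 (h y)).symm)

/-- Every non-trivial central element is a commutator with a given non-central element. -/
theorem exists_cm_eq {a : T} (ha : a ∉ center T) {z : T} (hz : z ∈ center T) (hz1 : z ≠ 1) :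
    ∃ y : T, ⁅a, y⁆ = z := by
  obtain ⟨y, hy⟩ := exists_cm_ne S ha
  obtain ⟨c, hc⟩ : ∃ c, c = ⁅a, y⁆ := ⟨_, rfl⟩
  rcases center_orbit_eq S (hc ▸ S.cm_mem a y) (hc ▸ hy) hz with h | h | h | h
  · exact absurd h hz1
  · exact ⟨y, by rw [h, hc]⟩
  · refine ⟨ρ (ρ y), ?_⟩
    rw [h, (S.pairing a (ρ y)).1, (S.pairing a y).1, ← hc, S.three]
  · exact ⟨ρ y, by rw [h, (S.pairing a y).1, hc]⟩

/-- With an involution outside the centre there are two in independent positions. -/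
theorem exists_second_involution {a : T} (ha : a * a = 1) (hac : a ∉ center T) :
    ∃ b : T, b * b = 1 ∧ ⁅a, b⁆ ≠ 1 := by
  obtain ⟨y, hy⟩ := exists_cm_ne S hac
  by_cases hy2 : y * y = 1
  · exact ⟨y, hy2, hy⟩
  obtain ⟨c, hc⟩ : ∃ c, c = ⁅y, a⁆ := ⟨_, rfl⟩
  have hc' : c = ⁅a, y⁆ := by rw [hc, S.cm_symm]
  have hinv : ∀ g : T, g * g ∈ center T := S.sq_center
  have key : ∀ h : T, h * h = 1 → ⁅a, h⁆ = 1 → ⁅y, h⁆ = y * y → (y * h) * (y * h) = 1 ∧ ⁅a, y * h⁆ ≠ 1 := by
    intro h h2 hah hyh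
    refine ⟨?_, ?_⟩
    · rw [S.mul_sq, h2, mul_one, hyh, S.center_exp (hinv y)]
    · rw [S.cm_mul_right, hah, mul_one]; exact hy
  have hρ : ρ a * ρ a = 1 := by rw [← map_mul, ha, map_one]
  have hρρ : ρ (ρ a) * ρ (ρ a) = 1 := by rw [← map_mul, hρ, map_one]
  have hcomm : ⁅a, ρ a⁆ = 1 := commutatorElement_eq_one_iff_mul_comm.2 (S.comm_image a)
  have hcomm' : ⁅a, ρ (ρ a)⁆ = 1 := by rw [(S.pairing a (ρ a)).1, hcomm, map_one, map_one]
  rcases center_orbit_eq S (hc' ▸ S.cm_mem a y) (hc' ▸ hy) (hinv y) with h | h | h | h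
  · exact absurd h hy2
  · exact ⟨_, key a ha (commutatorElement_self a) (hc ▸ h.symm)⟩
  · refine ⟨_, key (ρ (ρ a)) hρρ hcomm' ?_⟩
    rw [(S.pairing y (ρ a)).1, (S.pairing y a).1, ← hc, S.three, h]
  · refine ⟨_, key (ρ a) hρ hcomm ?_⟩
    rw [(S.pairing y a).1, ← hc, h]

/-- Without involutions outside the centre there are generators with fixed relations. -/
theorem exists_normal_form (hno : ∀ g : T, g * g = 1 → g ∈ center T) :
    ∃ a b : T, a * a ≠ 1 ∧ ⁅a, b⁆ = a * a ∧ b * b = ρ (a * a) := by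
  obtain ⟨g, h, hgh⟩ := S.nab
  obtain ⟨a, ha⟩ : ∃ a, a ∉ center T := ⟨h, fun hc => hgh (mem_center_iff.1 hc g)⟩
  obtain ⟨z, hz⟩ : ∃ z, z = a * a := ⟨_, rfl⟩
  have hz1 : z ≠ 1 := fun e => ha (hno a (hz ▸ e))
  have hzc : z ∈ center T := hz ▸ S.sq_center a
  obtain ⟨y, hy⟩ := exists_cm_eq S ha hzc hz1
  have hzz : z * z = 1 := S.center_exp hzc
  have e3 : z * ρ z * ρ (ρ z) = 1 := S.prod_orbit z
  have hyρ : ⁅y, ρ a⁆ = ρ (ρ z) := by rw [(S.pairing y a).1, S.cm_symm a y, hy]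
  have haρ : ⁅a, ρ a⁆ = 1 := commutatorElement_eq_one_iff_mul_comm.2 (S.comm_image a)
  have hρ2 : ρ a * ρ a = ρ z := by rw [← map_mul, hz]
  refine ⟨a, ?_⟩
  rw [← hz]
  rcases center_orbit_eq S hzc hz1 (S.sq_center y) with h | h | h | h
  · exact absurd ((commutatorElement_eq_one_iff_mul_comm.2
      (mem_center_iff.1 (hno y h) a) : ⁅a, y⁆ = 1)) (hy ▸ hz1)
  · exfalso
    have hb : (y * ρ a) * (y * ρ a) = 1 := by rw [S.mul_sq, h, hρ2, hyρ, e3]
    have hcm : ⁅a, y * ρ a⁆ = z := by rw [S.cm_mul_right, hy, haρ, mul_one]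
    exact hz1 (hcm.symm.trans
      (commutatorElement_eq_one_iff_mul_comm.2 (mem_center_iff.1 (hno _ hb) a)))
  · exact ⟨y, hz1, hy, h⟩
  · refine ⟨y * ρ a, hz1, by rw [S.cm_mul_right, hy, haρ, mul_one], ?_⟩
    have hc2 := mem_center_iff.1 (S.center_invariant (S.center_invariant hzc)) (ρ z)
    rw [S.mul_sq, h, hρ2, hyρ, ← hc2, mul_assoc,
      S.center_exp (S.center_invariant (S.center_invariant hzc)), mul_one]

/-- Generation by a pair with non-trivial commutator and non-trivial square. -/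
theorem generated {a b : T} (ha2 : a * a ≠ 1) (hab : ⁅a, b⁆ = a * a) (g : T) :
    g ∈ closure ({a, ρ a, b, ρ b} : Set T) := by
  obtain ⟨K, hK⟩ : ∃ K, K = closure ({a, ρ a, b, ρ b} : Set T) := ⟨_, rfl⟩
  obtain ⟨H, hH⟩ : ∃ H, H = closure ({a, ρ a} : Set T) := ⟨_, rfl⟩
  have hHσ : ∀ y ∈ H, ρ y ∈ H := by
    have hle : H ≤ H.comap (ρ : T →* T) := by
      conv_lhs => rw [hH]
      rw [closure_le]
      rintro y (rfl | rfl)
      · exact hH ▸ subset_closure (by simp)
      · show ρ (ρ a) ∈ H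
        rw [S.rho2, hH]
        exact inv_mem (mul_mem (subset_closure (by simp)) (subset_closure (by simp)))
    exact fun y hy => hle hy
  have hKσ : ∀ y ∈ K, ρ y ∈ K := by
    have hle : K ≤ K.comap (ρ : T →* T) := by
      conv_lhs => rw [hK]
      rw [closure_le]
      rintro y (rfl | rfl | rfl | rfl)
      · exact hK ▸ subset_closure (by simp)
      · show ρ (ρ a) ∈ K
        rw [S.rho2, hK]
        exact inv_mem (mul_mem (subset_closure (by simp)) (subset_closure (by simp)))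
      · exact hK ▸ subset_closure (by simp)
      · show ρ (ρ b) ∈ K
        rw [S.rho2, hK]
        exact inv_mem (mul_mem (subset_closure (by simp)) (subset_closure (by simp)))
    exact fun y hy => hle hy
  have haH : a ∈ H := hH ▸ subset_closure (by simp)
  have hzH : a * a ∈ H := H.mul_mem haH haH
  have hcH : center T < H := by
    refine lt_of_le_of_ne (fun y hy => ?_) fun h => ha2 (S.center_exp (h ▸ haH))
    rcases center_orbit_eq S (S.sq_center a) ha2 hy with e | e | e | e <;> rw [e]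
    · exact H.one_mem
    · exact hzH
    · exact hHσ _ hzH
    · exact hHσ _ (hHσ _ hzH)
  have hHK : H < K := by
    refine lt_of_le_of_ne (hH ▸ hK ▸ closure_mono (by rintro y (rfl | rfl) <;> simp)) fun h => ha2 ?_
    have hle : H ≤ centralizer ({a} : Set T) := by
      rw [hH, closure_le]
      rintro y (rfl | rfl) <;> refine mem_centralizer_singleton_iff.2 ?_
      · rfl
      · exact (S.comm_image a).symm
    rw [← hab, commutatorElement_eq_one_iff_mul_comm]
    exact (mem_centralizer_singleton_iff.1 (hle (h ▸ hK ▸ subset_closure (by simp)))).symm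
  have h1 := FpfThreeBasic.four_mul_card_le S.three S.fpf S.isPGroup
    (fun y hy => S.center_invariant hy) hHσ hcH
  have h2 := FpfThreeBasic.four_mul_card_le S.three S.fpf S.isPGroup hHσ hKσ hHK
  have htop : K = ⊤ := eq_top_of_le_card K (by
    rw [S.card]; rw [S.card_center] at h1; omega)
  rw [← hK, htop]
  exact mem_top g

/-- The conjugation relations of a normal form. -/
theorem relations {a b : T} (c : ⁅a, b⁆ = a * a) (q : b * b = ρ (a * a)) :
    b * a * b⁻¹ = a * a * a ∧ b * ρ a * b⁻¹ = a * a * ρ (a * a) * ρ a ∧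
    ρ b * a * (ρ b)⁻¹ = a * a * ρ (a * a) * a ∧ ρ b * ρ a * (ρ b)⁻¹ = ρ (a * a) * ρ a ∧
    ρ b * ρ b = a * a * ρ (a * a) := by
  have ho := S.center_orbit (S.sq_center a)
  refine ⟨?_, ?_, ?_, ?_, ?_⟩
  · rw [commutatorElement_def] at c
    calc b * a * b⁻¹ = (a * b * a⁻¹ * b⁻¹)⁻¹ * a := by group
      _ = a * a * a := by rw [c, inv_eq_of_mul_eq_one_right (S.center_exp (S.sq_center a))]
  · have e : b * ρ a * b⁻¹ = ⁅b, ρ a⁆ * ρ a := by rw [commutatorElement_def]; group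
    rw [e, (S.pairing b a).1, S.cm_symm a b, c, ho]
  · have e : ρ b * a * (ρ b)⁻¹ = ⁅ρ b, a⁆ * a := by rw [commutatorElement_def]; group
    rw [e, (S.pairing b a).2, S.cm_symm a b, c, ho]
  · rw [← map_inv, ← map_mul, ← map_mul, ← map_mul]
    congr 1
    rw [commutatorElement_def] at c
    calc b * a * b⁻¹ = (a * b * a⁻¹ * b⁻¹)⁻¹ * a := by group
      _ = a * a * a := by rw [c, inv_eq_of_mul_eq_one_right (S.center_exp (S.sq_center a))]
  · rw [← map_mul, q, ho]

end One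

/-- Adjoining a normalizing element whose square is inside at most doubles the order. -/
theorem card_sup_zpowers_le {G : Type*} [Group G] [Finite G] (H : Subgroup G) (g : G)
    (hgg : g * g ∈ H) (hn : ∀ h ∈ H, g * h * g⁻¹ ∈ H) :
    Nat.card ↥(H ⊔ zpowers g) ≤ 2 * Nat.card ↥H := by
  classical
  let M : Subgroup G :=
    { carrier := {x | x ∈ H ∨ x * g⁻¹ ∈ H}
      one_mem' := Or.inl H.one_mem
      mul_mem' := by
        rintro x y (hx | hx) (hy | hy)
        · exact Or.inl (H.mul_mem hx hy)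
        · exact Or.inr (by rw [mul_assoc]; exact H.mul_mem hx hy)
        · refine Or.inr ?_
          have e : x * y * g⁻¹ = x * g⁻¹ * (g * y * g⁻¹) := by group
          rw [e]; exact H.mul_mem hx (hn y hy)
        · refine Or.inl ?_
          have e : x * y = x * g⁻¹ * (g * (y * g⁻¹) * g⁻¹) * (g * g) := by group
          rw [e]; exact H.mul_mem (H.mul_mem hx (hn _ hy)) hgg
      inv_mem' := by
        rintro x (hx | hx)
        · exact Or.inl (H.inv_mem hx)
        · refine Or.inr ?_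
          have e : x⁻¹ * g⁻¹ = (g * g)⁻¹ * (g * (x * g⁻¹)⁻¹ * g⁻¹) := by group
          rw [e]; exact H.mul_mem (H.inv_mem hgg) (hn _ (H.inv_mem hx)) }
  have hle : H ⊔ zpowers g ≤ M :=
    sup_le (fun x hx => Or.inl hx) (zpowers_le.2 (Or.inr (by rw [mul_inv_cancel]; exact H.one_mem)))
  refine le_trans (card_le_of_le hle) ?_
  let f : ↥H × Bool → ↥M := fun p => if p.2 then ⟨(p.1 : G) * g, Or.inr (by simp)⟩
    else ⟨p.1, Or.inl p.1.2⟩
  have hs : Function.Surjective f := by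
    rintro ⟨x, hx | hx⟩
    · exact ⟨(⟨x, hx⟩, false), rfl⟩
    · exact ⟨(⟨x * g⁻¹, hx⟩, true), Subtype.ext (by simp [f])⟩
  refine le_trans (Nat.card_le_card_of_surjective f hs) ?_
  rw [Nat.card_prod, Nat.card_eq_fintype_card (α := Bool), Fintype.card_bool, mul_comm]

/-- The relations determine the group. -/
theorem equiv_of_relations {T₁ T₂ : Type*} [Group T₁] [Finite T₁] [Group T₂] [Finite T₂]
    {ρ₁ : MulAut T₁} {ρ₂ : MulAut T₂} (S₁ : Setup ρ₁) (S₂ : Setup ρ₂)
    (a₁ b₁ : T₁) (a₂ b₂ : T₂) (n₁ : a₁ * a₁ ≠ 1) (n₂ : a₂ * a₂ ≠ 1)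
    (c₁ : ⁅a₁, b₁⁆ = a₁ * a₁) (c₂ : ⁅a₂, b₂⁆ = a₂ * a₂)
    (q₁ : b₁ * b₁ = ρ₁ (a₁ * a₁)) (q₂ : b₂ * b₂ = ρ₂ (a₂ * a₂)) :
    Nonempty (T₁ ≃* T₂) := by
  classical
  let A : T₁ × T₂ := (a₁, a₂)
  let A' : T₁ × T₂ := (ρ₁ a₁, ρ₂ a₂)
  let B : T₁ × T₂ := (b₁, b₂)
  let B' : T₁ × T₂ := (ρ₁ b₁, ρ₂ b₂)
  let Z : T₁ × T₂ := (a₁ * a₁, a₂ * a₂)
  let Z' : T₁ × T₂ := (ρ₁ (a₁ * a₁), ρ₂ (a₂ * a₂))
  let K1 : Subgroup (T₁ × T₂) := (⊥ : Subgroup (T₁ × T₂)) ⊔ zpowers Z
  let K2 := K1 ⊔ zpowers Z'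
  let K3 := K2 ⊔ zpowers A
  let K4 := K3 ⊔ zpowers A'
  let K5 := K4 ⊔ zpowers B
  let K6 := K5 ⊔ zpowers B'
  have hcent : ∀ w₁ ∈ center T₁, ∀ w₂ ∈ center T₂, ∀ g : T₁ × T₂,
      g * (w₁, w₂) * g⁻¹ = (w₁, w₂) := fun w₁ h₁ w₂ h₂ g => Prod.ext
    (by show g.1 * w₁ * g.1⁻¹ = w₁; rw [mem_center_iff.1 h₁ g.1, mul_inv_cancel_right])
    (by show g.2 * w₂ * g.2⁻¹ = w₂; rw [mem_center_iff.1 h₂ g.2, mul_inv_cancel_right])
  have hZ : ∀ g, g * Z * g⁻¹ = Z := hcent _ (S₁.sq_center _) _ (S₂.sq_center _)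
  have hZ' : ∀ g, g * Z' * g⁻¹ = Z' :=
    hcent _ (S₁.center_invariant (S₁.sq_center _)) _ (S₂.center_invariant (S₂.sq_center _))
  obtain ⟨u1, u2, u3, u4, u5⟩ := relations S₁ c₁ q₁
  obtain ⟨v1, v2, v3, v4, v5⟩ := relations S₂ c₂ q₂
  have mZ1 : Z ∈ K1 := mem_sup_right (mem_zpowers Z)
  have mZ2 : Z ∈ K2 := mem_sup_left mZ1
  have mZ2' : Z' ∈ K2 := mem_sup_right (mem_zpowers Z')
  have mA3 : A ∈ K3 := mem_sup_right (mem_zpowers A)
  have mA4 : A ∈ K4 := mem_sup_left mA3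
  have mA4' : A' ∈ K4 := mem_sup_right (mem_zpowers A')
  have mB5 : B ∈ K5 := mem_sup_right (mem_zpowers B)
  have mB6' : B' ∈ K6 := mem_sup_right (mem_zpowers B')
  have stab : ∀ (g : T₁ × T₂) (H : Subgroup (T₁ × T₂)) (M : Subgroup (T₁ × T₂)),
      (H ≤ M.comap (MulAut.conj g).toMonoidHom) → ∀ h ∈ H, g * h * g⁻¹ ∈ M :=
    fun g H M hle h hh => hle hh
  have n1 : Nat.card ↥K1 ≤ 2 := by
    have h := card_sup_zpowers_le (⊥ : Subgroup (T₁ × T₂)) Z
      (mem_bot.2 (Prod.ext (S₁.center_exp (S₁.sq_center _)) (S₂.center_exp (S₂.sq_center _))))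
      (fun h hh => by rw [mem_bot] at hh ⊢; rw [hh, mul_one, mul_inv_cancel])
    rw [card_bot, mul_one] at h
    exact h
  have n2 : Nat.card ↥K2 ≤ 4 := by
    have h := card_sup_zpowers_le K1 Z' ((show Z' * Z' = 1 from
        Prod.ext (S₁.center_exp (S₁.center_invariant (S₁.sq_center _)))
          (S₂.center_exp (S₂.center_invariant (S₂.sq_center _)))) ▸ K1.one_mem)
      (stab _ _ _ (sup_le bot_le (zpowers_le.2 (show Z' * Z * Z'⁻¹ ∈ K1 from (hZ Z').symm ▸ mZ1))))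
    exact le_trans h (by omega)
  have sK2 : ∀ (g : T₁ × T₂) (M : Subgroup (T₁ × T₂)), K2 ≤ M →
      K2 ≤ M.comap (MulAut.conj g).toMonoidHom := fun g M hM =>
    sup_le (sup_le bot_le (zpowers_le.2 (show g * Z * g⁻¹ ∈ M from (hZ g).symm ▸ hM mZ2)))
      (zpowers_le.2 (show g * Z' * g⁻¹ ∈ M from (hZ' g).symm ▸ hM mZ2'))
  have n3 : Nat.card ↥K3 ≤ 8 := by
    have h := card_sup_zpowers_le K2 A (show A * A ∈ K2 from mZ2) (stab _ _ _ (sK2 A K2 le_rfl))
    exact le_trans h (by omega)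
  have n4 : Nat.card ↥K4 ≤ 16 := by
    have hA : A' * A * A'⁻¹ = A := Prod.ext
      (by show ρ₁ a₁ * a₁ * (ρ₁ a₁)⁻¹ = a₁; rw [← S₁.comm_image a₁, mul_inv_cancel_right])
      (by show ρ₂ a₂ * a₂ * (ρ₂ a₂)⁻¹ = a₂; rw [← S₂.comm_image a₂, mul_inv_cancel_right])
    have h := card_sup_zpowers_le K3 A' (mem_sup_left (show A' * A' ∈ K2 from
      (show A' * A' = Z' from Prod.ext (map_mul ρ₁ _ _).symm (map_mul ρ₂ _ _).symm) ▸ mZ2'))
      (stab _ _ _ (sup_le (sK2 A' K3 le_sup_left)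
        (zpowers_le.2 (show A' * A * A'⁻¹ ∈ K3 from hA.symm ▸ mA3))))
    exact le_trans h (by omega)
  have hK24 : K2 ≤ K4 := le_trans le_sup_left le_sup_left
  have hZ''4 : Z * Z' ∈ K4 := hK24 (K2.mul_mem mZ2 mZ2')
  have n5 : Nat.card ↥K5 ≤ 32 := by
    have hA : B * A * B⁻¹ = Z * A := Prod.ext u1 v1
    have hA' : B * A' * B⁻¹ = Z * Z' * A' := Prod.ext u2 v2
    have h := card_sup_zpowers_le K4 B (show B * B ∈ K4 from
      (show B * B = Z' from Prod.ext q₁ q₂) ▸ hK24 mZ2')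
      (stab _ _ _ (sup_le (sup_le (sK2 B K4 hK24)
        (zpowers_le.2 (show B * A * B⁻¹ ∈ K4 from hA.symm ▸ K4.mul_mem (hK24 mZ2) mA4)))
        (zpowers_le.2 (show B * A' * B⁻¹ ∈ K4 from hA'.symm ▸ K4.mul_mem hZ''4 mA4'))))
    exact le_trans h (by omega)
  have n6 : Nat.card ↥K6 ≤ 64 := by
    have hA : B' * A * B'⁻¹ = Z * Z' * A := Prod.ext u3 v3
    have hA' : B' * A' * B'⁻¹ = Z' * A' := Prod.ext u4 v4
    have hB : B' * B * B'⁻¹ = B := Prod.ext
      (by show ρ₁ b₁ * b₁ * (ρ₁ b₁)⁻¹ = b₁; rw [← S₁.comm_image b₁, mul_inv_cancel_right])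
      (by show ρ₂ b₂ * b₂ * (ρ₂ b₂)⁻¹ = b₂; rw [← S₂.comm_image b₂, mul_inv_cancel_right])
    have h45 : K4 ≤ K5 := le_sup_left
    have h := card_sup_zpowers_le K5 B' (show B' * B' ∈ K5 from
      (show B' * B' = Z * Z' from Prod.ext u5 v5) ▸ h45 hZ''4)
      (stab _ _ _ (sup_le (sup_le (sup_le (sK2 B' K5 (hK24.trans h45))
        (zpowers_le.2 (show B' * A * B'⁻¹ ∈ K5 from hA.symm ▸ K5.mul_mem (h45 hZ''4) (h45 mA4))))
        (zpowers_le.2 (show B' * A' * B'⁻¹ ∈ K5 from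
          hA'.symm ▸ K5.mul_mem (h45 (hK24 mZ2')) (h45 mA4'))))
        (zpowers_le.2 (show B' * B * B'⁻¹ ∈ K5 from hB.symm ▸ mB5))))
    exact le_trans h (by omega)
  have m6 : A ∈ K6 ∧ A' ∈ K6 ∧ B ∈ K6 := ⟨mem_sup_left (mem_sup_left mA4),
    mem_sup_left (mem_sup_left mA4'), mem_sup_left mB5⟩
  have s₁ : Function.Surjective ((MonoidHom.fst T₁ T₂).comp K6.subtype) := by
    rw [← MonoidHom.range_eq_top, eq_top_iff']
    intro g
    refine (closure_le _).2 ?_ (generated S₁ n₁ c₁ g)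
    rintro y (rfl | rfl | rfl | rfl)
    · exact ⟨⟨A, m6.1⟩, rfl⟩
    · exact ⟨⟨A', m6.2.1⟩, rfl⟩
    · exact ⟨⟨B, m6.2.2⟩, rfl⟩
    · exact ⟨⟨B', mB6'⟩, rfl⟩
  have s₂ : Function.Surjective ((MonoidHom.snd T₁ T₂).comp K6.subtype) := by
    rw [← MonoidHom.range_eq_top, eq_top_iff']
    intro g
    refine (closure_le _).2 ?_ (generated S₂ n₂ c₂ g)
    rintro y (rfl | rfl | rfl | rfl)
    · exact ⟨⟨A, m6.1⟩, rfl⟩
    · exact ⟨⟨A', m6.2.1⟩, rfl⟩
    · exact ⟨⟨B, m6.2.2⟩, rfl⟩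
    · exact ⟨⟨B', mB6'⟩, rfl⟩
  have e₁ := s₁.bijective_of_nat_card_le (by rw [S₁.card]; exact n6)
  have e₂ := s₂.bijective_of_nat_card_le (by rw [S₂.card]; exact n6)
  exact ⟨(MulEquiv.ofBijective _ e₁).symm.trans (MulEquiv.ofBijective _ e₂)⟩

/-- The unitary model carries the automorphism. -/
theorem exists_unitary_setup {F : Type*} [Field F] [Fintype F] (hF : Fintype.card F = 16) :
    ∃ ρ : MulAut (CfsgLib.Invol.UU F hF), Finite (CfsgLib.Invol.UU F hF) ∧ Setup ρ ∧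
      ∀ g : CfsgLib.Invol.UU F hF, g * g = 1 → g ∈ center (CfsgLib.Invol.UU F hF) := by
  classical
  haveI hfin : Finite (CfsgLib.Invol.UU F hF) :=
    Nat.finite_of_card_ne_zero (by rw [CfsgLib.Invol.UU.card_eq]; norm_num)
  haveI : Fact (Nat.Prime 3) := ⟨Nat.prime_three⟩
  obtain ⟨u, hu⟩ := exists_prime_orderOf_dvd_card' (G := Fˣ) 3 (by
    rw [Nat.card_eq_fintype_card, Fintype.card_units, hF]
    norm_num)
  obtain ⟨l, hl⟩ : ∃ l, l = (u : F) := ⟨_, rfl⟩
  have h3 : l ^ 3 = 1 := by rw [hl, ← Units.val_pow_eq_pow_val, ← hu, pow_orderOf_eq_one, Units.val_one]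
  have hl1 : l ≠ 1 := fun e => by
    have hu1 : u = 1 := Units.ext (hl ▸ e)
    rw [hu1, orderOf_one] at hu
    omega
  have h4 : l ^ 4 = l := by linear_combination l * h3
  let f : CfsgLib.Invol.UU F hF → CfsgLib.Invol.UU F hF := fun x => ⟨l * x.a, l ^ 2 * x.b, by
    rw [mul_pow, mul_pow, h4, show (l ^ 2) ^ 4 = (l ^ 4) ^ 2 by ring, h4]
    linear_combination l ^ 2 * x.ok⟩
  have hfa : ∀ x, (f x).a = l * x.a := fun x => rfl
  have hfb : ∀ x, (f x).b = l ^ 2 * x.b := fun x => rfl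
  have hfff : ∀ x, f (f (f x)) = x := fun x => by
    ext
    · rw [hfa, hfa, hfa]; linear_combination x.a * h3
    · rw [hfb, hfb, hfb]; linear_combination (l ^ 3 + 1) * x.b * h3
  let ρ : MulAut (CfsgLib.Invol.UU F hF) :=
    { toFun := f
      invFun := fun x => f (f x)
      left_inv := hfff
      right_inv := hfff
      map_mul' := fun x y => by
        ext
        · rw [hfa, CfsgLib.Invol.UU.mul_a, CfsgLib.Invol.UU.mul_a, hfa, hfa]; ring
        · rw [hfb, CfsgLib.Invol.UU.mul_b, CfsgLib.Invol.UU.mul_b, hfa, hfa, hfb, hfb, mul_pow, h4]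
          ring }
  refine ⟨ρ, hfin, ⟨CfsgLib.Invol.UU.card_eq, ?_, hfff, fun y hy => ?_⟩, fun g hg => ?_⟩
  · by_contra h
    push Not at h
    have htop : center (CfsgLib.Invol.UU F hF) = ⊤ := (eq_top_iff' _).2 fun x =>
      mem_center_iff.2 fun y => h y x
    have h1 := CfsgLib.Invol.UU.card_center (F := F) (hF := hF)
    rw [htop, card_top, CfsgLib.Invol.UU.card_eq] at h1
    omega
  · have e : f y = y := hy
    have ea := congrArg CfsgLib.Invol.UU.a e
    have eb := congrArg CfsgLib.Invol.UU.b e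
    rw [hfa] at ea
    rw [hfb] at eb
    have hl2 : l ^ 2 ≠ 1 := fun h => hl1 (by linear_combination h3 - l * h)
    ext
    · rw [CfsgLib.Invol.UU.one_a]
      rcases eq_or_ne y.a 0 with h | h
      · exact h
      · exact absurd (mul_eq_right₀ h |>.1 ea) hl1
    · rw [CfsgLib.Invol.UU.one_b]
      rcases eq_or_ne y.b 0 with h | h
      · exact h
      · exact absurd (mul_eq_right₀ h |>.1 eb) hl2
  · rw [CfsgLib.Invol.UU.mem_center_iff]
    have h : (g ^ 2).b = 0 := by rw [pow_two, hg, CfsgLib.Invol.UU.one_b]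
    rw [CfsgLib.Invol.UU.sq_b, mul_eq_zero, pow_eq_zero_iff (by norm_num : (4 : ℕ) ≠ 0), or_self] at h
    exact h

/-- Identification in both cases. -/
theorem identify {T : Type*} [Group T] [Finite T] {ρ : MulAut T} (S : Setup ρ) :
    (∃ (F : Type) (_ : Field F) (_ : Fintype F), Fintype.card F = 4 ∧
      ∀ P : Sylow 2 (Matrix.ProjectiveSpecialLinearGroup (Fin 3) F),
        Nonempty (T ≃* ↥(P : Subgroup (Matrix.ProjectiveSpecialLinearGroup (Fin 3) F)))) ∨
    (∃ (F : Type) (_ : Field F) (_ : Fintype F), Fintype.card F = 16 ∧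
      ∀ P : Sylow 2 (Cfsg.PSU 3 F 4), Nonempty (T ≃* ↥(P : Subgroup (Cfsg.PSU 3 F 4)))) := by
  classical
  haveI : Fact (Nat.Prime 2) := ⟨Nat.prime_two⟩
  by_cases hno : ∀ g : T, g * g = 1 → g ∈ center T
  · right
    let F := GaloisField 2 4
    haveI : Fintype F := Fintype.ofFinite F
    have hF : Fintype.card F = 16 := by
      rw [← Nat.card_eq_fintype_card, GaloisField.card 2 4 (by norm_num)]; norm_num
    obtain ⟨ρ', hfin, S', hno'⟩ := exists_unitary_setup hF
    haveI := hfin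
    obtain ⟨a, b, n1, c1, q1⟩ := exists_normal_form S hno
    obtain ⟨a', b', n2, c2, q2⟩ := exists_normal_form S' hno'
    obtain ⟨e⟩ := equiv_of_relations S S' a b a' b' n1 n2 c1 c2 q1 q2
    refine ⟨F, inferInstance, inferInstance, hF, fun P => ?_⟩
    obtain ⟨e'⟩ := CfsgLib.Invol.UU.sylow_equiv hF P
    exact ⟨e.trans e'.symm⟩
  · left
    push Not at hno
    obtain ⟨a, haa, hac⟩ := hno
    obtain ⟨b, hbb, hab⟩ := exists_second_involution S haa hac
    obtain ⟨σ, hσ, -, -, -⟩ := S.exists_quot_map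
    have hspan : ¬ Setup.InSpan σ (a : T ⧸ center T) (b : T ⧸ center T) := by
      have key : ∀ c : T, Commute a c → (b : T ⧸ center T) = (c : T ⧸ center T) → False := by
        intro c hc e
        apply hab
        rw [← mul_inv_cancel_left c b, S.cm_mul_right, commutatorElement_eq_one_iff_mul_comm.2 hc,
          commutatorElement_eq_one_iff_mul_comm.2 (mem_center_iff.1 (QuotientGroup.eq.1 e.symm) a),
          one_mul]
      have k1 : Commute a (ρ a) := S.comm_image a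
      rintro (h | h | h | h)
      · exact key 1 (Commute.one_right a) h
      · exact key a (Commute.refl a) h
      · exact key (ρ a) k1 (h.trans (hσ a))
      · refine key (ρ (ρ a)) ?_ (by rw [← hσ, ← hσ]; exact h)
        rw [S.rho2]
        exact ((Commute.refl a).mul_right k1).inv_right
    let F := GaloisField 2 2
    haveI : Fintype F := Fintype.ofFinite F
    have hF : Fintype.card F = 4 := by
      rw [← Nat.card_eq_fintype_card, GaloisField.card 2 2 (by norm_num)]; norm_num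
    let U := CfsgLib.Fusion.SLUni.U F 3
    let el : F → F → F → ↥U := fun a b c => CfsgLib.Fusion.SLThree.el a b c
    have hel : ∀ a b c a' b' c', el a b c * el a' b' c' = el (a + a') (b + b') (c + c' + a * b') :=
      CfsgLib.Fusion.SLThree.el_mul
    have hsur : ∀ m : ↥U, ∃ a b c, el a b c = m :=
      fun m => ⟨_, _, _, (CfsgLib.Fusion.SLThree.el_eq m).symm⟩
    have hcM : Nat.card ↥U = 64 := by
      have hb : Function.Bijective fun p : F × F × F => el p.1 p.2.1 p.2.2 := by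
        refine ⟨fun p q e => ?_, fun m => ?_⟩
        · obtain ⟨e1, e2, e3⟩ := CfsgLib.Fusion.SLThree.el_inj e
          exact Prod.ext e1 (Prod.ext e2 e3)
        · obtain ⟨a, b, c, e⟩ := hsur m
          exact ⟨(a, b, c), e⟩
      rw [← Nat.card_eq_of_bijective _ hb, Nat.card_prod, Nat.card_prod, Nat.card_eq_fintype_card, hF]
    obtain ⟨e⟩ := S.exists_equiv hF el hel hsur hcM σ hσ a b haa hbb hac hspan
    refine ⟨F, inferInstance, inferInstance, hF, fun P => ?_⟩
    let π : Matrix.SpecialLinearGroup (Fin 3) F →* Matrix.ProjectiveSpecialLinearGroup (Fin 3) F :=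
      QuotientGroup.mk' _
    have hcen : Nat.card ↥(Subgroup.center (Matrix.SpecialLinearGroup (Fin 3) F)) = 3 := by
      rw [CfsgLib.Classical.card_center_sl, Fintype.card_fin, hF]; rfl
    have hinj : Function.Injective (π.comp U.subtype) := by
      rw [injective_iff_map_eq_one]
      intro m hm
      have hmc : (m : Matrix.SpecialLinearGroup (Fin 3) F) ∈ Subgroup.center _ :=
        (QuotientGroup.eq_one_iff _).1 hm
      have h1 : orderOf (m : Matrix.SpecialLinearGroup (Fin 3) F) ∣ 64 := by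
        rw [Subgroup.orderOf_coe, ← hcM]; exact orderOf_dvd_natCard m
      have h2 : orderOf (m : Matrix.SpecialLinearGroup (Fin 3) F) ∣ 3 := by
        have := orderOf_dvd_natCard (⟨_, hmc⟩ : ↥(Subgroup.center (Matrix.SpecialLinearGroup (Fin 3) F)))
        rwa [hcen, ← Subgroup.orderOf_coe] at this
      exact Subtype.ext (orderOf_eq_one_iff.1
        (Nat.eq_one_of_dvd_coprimes (by norm_num : Nat.Coprime 64 3) h1 h2))
    have hcard : Nat.card (Matrix.ProjectiveSpecialLinearGroup (Fin 3) F) = 20160 := by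
      have := CfsgLib.Classical.card_psl_mul (F := F) (n := 3) (by norm_num)
      rw [hF, Fin.prod_univ_three] at this
      norm_num [-Nat.card_eq_fintype_card] at this
      omega
    have hR : Nat.card ↥(π.comp U.subtype).range = 64 := by
      rw [← Nat.card_congr (MonoidHom.ofInjective hinj).toEquiv, hcM]
    have hp : IsPGroup 2 ↥(π.comp U.subtype).range := IsPGroup.of_card (n := 6) (by rw [hR]; norm_num)
    have hidx : ¬ 2 ∣ (π.comp U.subtype).range.index := by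
      have := (π.comp U.subtype).range.card_mul_index
      rw [hR, hcard] at this
      omega
    exact ⟨(e.symm.trans (MonoidHom.ofInjective hinj)).trans
      (Sylow.equiv (hp.toSylow hidx) P)⟩

end CfsgLib.Amalgam.FoursCentreModels
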