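import Cfsg.Agent.Lib.Amalgam.Asymmetric
import Cfsg.Agent.Lib.Transfer.Basic

/-!
The members of `ℌ(O_p(M))`.
-/

set_option autoImplicit false
set_option linter.unusedSectionVars false

namespace CfsgLib.Amalgam

open Cfsg Subgroup
open scoped commutatorElement

variable {G : Type*} [Group G] [Finite G] {p : ℕ} [Fact p.Prime]

/-- `O_p(N) ≤ O_p(H)` for normal `N`. -/
theorem pCoreOf_le_of_normal {N H : Subgroup G} (hNH : N ≤ H) (hn : H ≤ normalizer (N : Set G)) :
    pCoreOf p N ≤ pCoreOf p H := by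
  refine le_pCoreOf ((pCoreOf_le N).trans hNH) ?_ (isPGroup_pCoreOf N)
  intro h hh
  apply CfsgLib.Comp.map_conj_eq_iff.1
  rw [← pCoreOf_map _ (MulAut.conj h).injective, CfsgLib.Comp.map_conj_eq_iff.2 (hn hh)]

theorem mem_pResidual_map {H : Subgroup G} {x : G} (hx : x ∈ H) (hxp : (orderOf x).Coprime p) :
    x ∈ (pResidual p H).map H.subtype :=
  ⟨⟨x, hx⟩, CfsgLib.Transfer.mem_pResidual_of_coprime
    (by rwa [← Subgroup.orderOf_coe] : (orderOf (⟨x, hx⟩ : H)).Coprime p), rfl⟩

theorem pResidual_map_le {H N : Subgroup G} (h : ∀ x ∈ H, (orderOf x).Coprime p → x ∈ N) :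
    (pResidual p H).map H.subtype ≤ N := by
  rw [map_le_iff_le_comap, pResidual, closure_le]
  intro x (hx : (orderOf x).Coprime p)
  exact h x x.2 (by rwa [Subgroup.orderOf_coe])

theorem le_normalizer_pResidual_map (H : Subgroup G) :
    H ≤ normalizer (((pResidual p H).map H.subtype : Subgroup G) : Set G) := by
  intro h hh
  have hn : (pResidual p H).Normal := CfsgLib.Transfer.pResidual_normal
  apply CfsgLib.PLocal.mem_normalizer_map_conj.2
  refine eq_of_le_of_card_ge ?_ (CfsgLib.Coprime.card_map_conj h _).ge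
  rintro _ ⟨_, ⟨x, hx, rfl⟩, rfl⟩
  exact ⟨⟨h, hh⟩ * x * ⟨h, hh⟩⁻¹, hn.conj_mem x hx _, rfl⟩

theorem le_pResidual_sup_of_isSylIn {H S : Subgroup G} (hS : IsSylIn p H S) :
    H ≤ (pResidual p H).map H.subtype ⊔ S := by
  let S' : Sylow p H := Sylow.ofCard (S.subgroupOf H)
    (by rw [Nat.card_congr (subgroupOfEquivOfLe hS.1).toEquiv, hS.2.2])
  have h := congrArg (Subgroup.map H.subtype) (CfsgLib.Transfer.pResidual_sup_sylow S')
  rw [Subgroup.map_sup, ← MonoidHom.range_eq_map, Subgroup.range_subtype] at h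
  refine h.ge.trans (sup_le_sup_left ?_ _)
  show (S.subgroupOf H).map H.subtype ≤ S
  rw [subgroupOf_map_subtype]
  exact inf_le_left

/-- A normal subgroup centralized by a subgroup of `p`-power index has order prime to `p`, if `O_p = 1`. -/
theorem not_dvd_card_of_centralized {X : Type*} [Group X] [Finite X] (hO : pCore p X = ⊥)
    (R N : Subgroup X) [R.Normal] [N.Normal] (hR : ∀ x : X, ∃ k : ℕ, x ^ p ^ k ∈ R)
    (hc : R ≤ centralizer (N : Set X)) : ¬ p ∣ Nat.card N := by
  obtain ⟨P, hP⟩ := exists_isSylIn (p := p) N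
  have hcov : N ≤ (R ⊓ N) ⊔ P :=
    pMod_cover (CfsgLib.Comp.le_normalizer_of_normal' R N) (fun x _ => hR x) hP
  have hnP : N ≤ normalizer (P : Set X) := hcov.trans (sup_le
    ((inf_le_left.trans hc).trans ((centralizer_le hP.1).trans (Subgroup.centralizer_le_normalizer _)))
    le_normalizer)
  have hP1 : P = ⊥ := by
    refine le_bot_iff.1 ((CfsgLib.Solvable.le_pCore ?_ hP.2.1).trans hO.le)
    refine CfsgLib.Comp.normal_of_top_le_normalizer fun x _ => CfsgLib.PLocal.mem_normalizer_map_conj.2 ?_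
    refine eq_of_le_of_card_ge ?_ (CfsgLib.Coprime.card_map_conj x P).ge
    have h1 : P.map (MulAut.conj x).toMonoidHom ≤ N := (map_mono hP.1).trans
      (CfsgLib.Coprime.map_conj_of_mem_normalizer (CfsgLib.Comp.le_normalizer_of_normal' N ⊤ (mem_top x))).le
    exact le_sup_left.trans (hP.eq_of_le le_sup_right (sup_le h1 hP.1)
      ((hP.2.1.map _).to_sup_of_normal_right' hP.2.1 (h1.trans hnP))).le
  have h := hP.relIndex_not_dvd
  rwa [hP1, Subgroup.relIndex_bot_left] at h

section frakH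

variable {M H : Subgroup G}

theorem largest_le_of_frakH (hH : IsInFrakH p M H) : largestPReducedOf p M ≤ H :=
  (pRedIn_largest M).1.le_pCoreOf.trans hH.2.1

/-- A normal subgroup of `H` containing `O_p(M)` is `H`. -/
theorem frakH_eq_of_normalized (hH : IsInFrakH p M H) {W : Subgroup G} (hWH : W ≤ H)
    (hn : H ≤ normalizer (W : Set G)) (hOW : pCoreOf p M ≤ W) : W = H := by
  by_contra hne
  exact hH.2.2.1 ((hH.2.2.2 W hOW (lt_of_le_of_ne hWH hne)).trans (pCoreOf_le_of_normal hWH hn))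

theorem exists_isSylIn_frakH (hwc : IsWeaklyClosedSubgroup p (pCoreOf p M)) (hH : IsInFrakH p M H) :
    ∃ S, IsSylIn p H S ∧ pCoreOf p M ≤ S ∧ S ≤ normalizer (pCoreOf p M : Set G) := by
  obtain ⟨S, hS, hOS⟩ := exists_isSylIn_ge (isPGroup_pCoreOf M) hH.2.1
  exact ⟨S, hS, hOS, le_normalizer.trans (normalizer_le_of_weaklyClosed hwc hS.2.1 hOS)⟩

theorem pCoreOf_frakH_le_normalizer (hwc : IsWeaklyClosedSubgroup p (pCoreOf p M)) (hH : IsInFrakH p M H) :
    pCoreOf p H ≤ normalizer (pCoreOf p M : Set G) :=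
  le_sup_left.trans (le_normalizer.trans (normalizer_le_of_weaklyClosed hwc
    ((isPGroup_pCoreOf H).to_sup_of_normal_left' (isPGroup_pCoreOf M)
      (hH.2.1.trans (le_normalizer_pCoreOf H))) le_sup_right))

/-- `H = O^p(H) O_p(M)`. -/
theorem pResidual_sup_core_eq (hwc : IsWeaklyClosedSubgroup p (pCoreOf p M)) (hH : IsInFrakH p M H) :
    (pResidual p H).map H.subtype ⊔ pCoreOf p M = H := by
  obtain ⟨S, hS, -, hSN⟩ := exists_isSylIn_frakH hwc hH
  refine frakH_eq_of_normalized hH (sup_le (map_subtype_le _) hH.2.1) ?_ le_sup_right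
  exact (le_pResidual_sup_of_isSylIn hS).trans (sup_le (le_sup_left.trans le_normalizer)
    (CfsgLib.Comp.le_normalizer_sup (hS.1.trans (le_normalizer_pResidual_map H)) hSN))

/-- If `O^p(H) ≰ N ⊴ H` then `Y_M ≤ O_p(N O_p(M))`. -/
theorem largest_le_core_sup (hH : IsInFrakH p M H) {N : Subgroup G} (hNH : N ≤ H)
    (hn : H ≤ normalizer (N : Set G)) (hR : ¬ (pResidual p H).map H.subtype ≤ N) :
    largestPReducedOf p M ≤ pCoreOf p (N ⊔ pCoreOf p M) := by
  refine hH.2.2.2 _ le_sup_right (lt_of_le_of_ne (sup_le hNH hH.2.1) fun he => hR ?_)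
  exact pResidual_map_le fun x hx hxp =>
    mem_of_coprime_sup (hH.2.1.trans hn) (isPGroup_pCoreOf M) (he.ge hx) hxp

theorem pResidual_le_of_largest_le (hH : IsInFrakH p M H) {N : Subgroup G} (hNH : N ≤ H)
    (hn : H ≤ normalizer (N : Set G)) (hYN : largestPReducedOf p M ≤ N) :
    (pResidual p H).map H.subtype ≤ N := by
  by_contra hR
  refine hH.2.2.1 ((le_inf (largest_le_core_sup hH hNH hn hR) hYN).trans
    (le_trans ?_ (pCoreOf_le_of_normal hNH hn)))
  exact le_pCoreOf inf_le_right ((le_inf (le_sup_left.trans (le_normalizer_pCoreOf _)) le_normalizer).trans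
    inf_normalizer_le_normalizer_inf) ((isPGroup_pCoreOf _).to_le inf_le_left)

/-- `O^p(H) = [O^p(H), Y_M]`. -/
theorem commutator_pResidual_largest (hwc : IsWeaklyClosedSubgroup p (pCoreOf p M))
    (hH : IsInFrakH p M H) :
    ⁅(pResidual p H).map H.subtype, largestPReducedOf p M⁆ = (pResidual p H).map H.subtype := by
  set R := (pResidual p H).map H.subtype with hRdef
  set Y := largestPReducedOf p M
  obtain ⟨hY, -⟩ := pRedIn_largest (p := p) M
  have hRH : R ≤ H := map_subtype_le _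
  have hYH : Y ≤ H := largest_le_of_frakH hH
  have hHR : H ≤ normalizer (R : Set G) := le_normalizer_pResidual_map H
  have hWR : ⁅R, Y⁆ ≤ R := CfsgLib.Comp.commutator_le_of_le_normalizer (hYH.trans hHR)
  refine le_antisymm hWR ?_
  have hRW : R ≤ normalizer ((⁅R, Y⁆ : Subgroup G) : Set G) := Subgroup.normalizer_commutator_ge_left R Y
  have hYW : Y ≤ normalizer ((⁅R, Y⁆ : Subgroup G) : Set G) := Subgroup.normalizer_commutator_ge_right R Y
  have hOY : pCoreOf p M ≤ normalizer (Y : Set G) :=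
    hY.pCoreOf_le_centralizer.trans (Subgroup.centralizer_le_normalizer _)
  have hO : pCoreOf p M ≤ normalizer ((⁅R, Y⁆ : Subgroup G) : Set G) := fun o ho => by
    apply CfsgLib.PLocal.mem_normalizer_map_conj.2
    rw [Subgroup.map_commutator, CfsgLib.Coprime.map_conj_of_mem_normalizer (hHR (hH.2.1 ho)),
      CfsgLib.Coprime.map_conj_of_mem_normalizer (hOY ho)]
  have hRJ : R ≤ normalizer ((⁅R, Y⁆ ⊔ Y : Subgroup G) : Set G) := by
    intro r hr
    apply CfsgLib.PLocal.mem_normalizer_map_conj.2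
    refine eq_of_le_of_card_ge ?_ (CfsgLib.Coprime.card_map_conj r _).ge
    rw [Subgroup.map_sup]
    refine sup_le ((CfsgLib.Coprime.map_conj_of_mem_normalizer (hRW hr)).le.trans le_sup_left) ?_
    rintro _ ⟨y, hy, rfl⟩
    show r * y * r⁻¹ ∈ ⁅R, Y⁆ ⊔ Y
    rw [show r * y * r⁻¹ = ⁅r, y⁆ * y by rw [commutatorElement_def]; group]
    exact mul_mem (mem_sup_left (commutator_mem_commutator hr hy)) (mem_sup_right hy)
  have hn : H ≤ normalizer ((⁅R, Y⁆ ⊔ Y : Subgroup G) : Set G) :=
    (pResidual_sup_core_eq hwc hH).ge.trans (sup_le hRJ (CfsgLib.Comp.le_normalizer_sup hO hOY))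
  have hle := pResidual_le_of_largest_le hH (sup_le (hWR.trans hRH) hYH) hn le_sup_right
  exact pResidual_map_le fun x hx hxp => mem_of_coprime_sup hYW
    (CfsgLib.PLocal.elemAb_isPGroup hY.2.2.1) (hle (mem_pResidual_map hx hxp)) hxp

/-- The normal closure of `Y_M` in `H` is `O^p(H) Y_M`. -/
theorem pResidual_sup_largest_eq (hwc : IsWeaklyClosedSubgroup p (pCoreOf p M)) (hH : IsInFrakH p M H) :
    (pResidual p H).map H.subtype ⊔ largestPReducedOf p M =
      (normalClosure (((largestPReducedOf p M).subgroupOf H : Subgroup H) : Set H)).map H.subtype := by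
  set R := (pResidual p H).map H.subtype
  set Y := largestPReducedOf p M
  obtain ⟨hY, -⟩ := pRedIn_largest (p := p) M
  have hYH : Y ≤ H := largest_le_of_frakH hH
  set N := normalClosure ((Y.subgroupOf H : Subgroup H) : Set H)
  have hYN : Y ≤ N.map H.subtype := fun y hy => ⟨⟨y, hYH hy⟩, le_normalClosure hy, rfl⟩
  have hn : H ≤ normalizer ((N.map H.subtype : Subgroup G) : Set G) := by
    intro h hh
    apply CfsgLib.PLocal.mem_normalizer_map_conj.2
    refine eq_of_le_of_card_ge ?_ (CfsgLib.Coprime.card_map_conj h _).ge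
    rintro _ ⟨_, ⟨x, hx, rfl⟩, rfl⟩
    exact ⟨⟨h, hh⟩ * x * ⟨h, hh⟩⁻¹, normalClosure_normal.conj_mem x hx _, rfl⟩
  refine le_antisymm (sup_le (pResidual_le_of_largest_le hH (map_subtype_le _) hn hYN) hYN) ?_
  have hJ : H ≤ normalizer ((R ⊔ Y : Subgroup G) : Set G) :=
    (pResidual_sup_core_eq hwc hH).ge.trans (sup_le (le_sup_left.trans le_normalizer)
      (CfsgLib.Comp.le_normalizer_sup (hH.2.1.trans (le_normalizer_pResidual_map H))
        (hY.pCoreOf_le_centralizer.trans (Subgroup.centralizer_le_normalizer _))))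
  have : ((R ⊔ Y).subgroupOf H).Normal := normal_subgroupOf_of_le_normalizer hJ
  rw [map_le_iff_le_comap]
  show _ ≤ (R ⊔ Y).subgroupOf H
  exact normalClosure_le_normal fun y hy => mem_subgroupOf.2 (mem_sup_right hy)

/-- If `H` normalizes a `p`-group `U` then `U` normalizes `H` and `O_p(M)`. -/
theorem le_normalizer_frakH (hwc : IsWeaklyClosedSubgroup p (pCoreOf p M)) (hH : IsInFrakH p M H)
    {U : Subgroup G} (hU : IsPGroup p U) (hHU : H ≤ normalizer (U : Set G)) :
    U ≤ pCoreOf p (H ⊔ U) ∧ pCoreOf p (H ⊔ U) ≤ normalizer (pCoreOf p M : Set G) ∧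
      U ≤ normalizer (H : Set G) := by
  have h1 : U ≤ pCoreOf p (H ⊔ U) := le_pCoreOf le_sup_right (sup_le hHU le_normalizer) hU
  have h2 : pCoreOf p (H ⊔ U) ≤ normalizer (pCoreOf p M : Set G) :=
    le_sup_left.trans (le_normalizer.trans (normalizer_le_of_weaklyClosed hwc
      ((isPGroup_pCoreOf (H ⊔ U)).to_sup_of_normal_left' (isPGroup_pCoreOf M)
        ((hH.2.1.trans le_sup_left).trans (le_normalizer_pCoreOf _))) le_sup_right))
  refine ⟨h1, h2, ?_⟩
  set O := pCoreOf p M
  set W := ⨆ h : H, O.map (MulAut.conj (h : G)).toMonoidHom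
  have hOW : O ≤ W := le_iSup_of_le (⟨1, one_mem H⟩ : H) (by rw [map_conj_one'])
  have hWn : H ≤ normalizer (W : Set G) := by
    intro l hl
    apply CfsgLib.PLocal.mem_normalizer_map_conj.2
    refine eq_of_le_of_card_ge ?_ (CfsgLib.Coprime.card_map_conj l W).ge
    rw [Subgroup.map_iSup]
    refine iSup_le fun m => ?_
    rw [CfsgLib.Coprime.map_conj_conj]
    exact le_iSup (fun m : H => O.map (MulAut.conj (m : G)).toMonoidHom) (⟨l, hl⟩ * m)
  have hWH : W = H := frakH_eq_of_normalized hH (iSup_le fun h => (map_mono hH.2.1).trans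
    (CfsgLib.Coprime.map_conj_of_mem_normalizer (le_normalizer h.2)).le) hWn hOW
  rw [← hWH]
  refine CfsgLib.Comp.le_normalizer_iSup _ fun h => ?_
  have h3 := map_mono (f := (MulAut.conj (h : G)).toMonoidHom) (h1.trans h2)
  rwa [Subgroup.map_normalizer_eq_of_bijective _ (MulAut.conj (h : G)).bijective,
    CfsgLib.Coprime.map_conj_of_mem_normalizer (hHU h.2)] at h3

/-- `H U` is `p`-irreducible. -/
theorem isPIrreducible_frakH_sup (hwc : IsWeaklyClosedSubgroup p (pCoreOf p M)) (hH : IsInFrakH p M H)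
    {U : Subgroup G} (hU : IsPGroup p U) (hHU : H ≤ normalizer (U : Set G)) :
    IsPIrreducible p ↥(H ⊔ U) := by
  set K := H ⊔ U with hK
  set Y := largestPReducedOf p M
  obtain ⟨hY, -⟩ := pRedIn_largest (p := p) M
  have hYp : IsPGroup p Y := CfsgLib.PLocal.elemAb_isPGroup hY.2.2.1
  have hHK : H ≤ K := le_sup_left
  have hYH : Y ≤ H := largest_le_of_frakH hH
  have hUH := (le_normalizer_frakH hwc hH hU hHU).2.2
  have hKH : K ≤ normalizer (H : Set G) := sup_le le_normalizer hUH
  refine ⟨fun hc => hH.2.2.1 ?_, fun N hN hNc => ?_⟩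
  · have h1 := (isPClosed_iff.1 hc) (Y.subgroupOf K) (hYp.comap_of_injective _ K.subtype_injective)
    have h2 : Y ≤ pCoreOf p K := fun y hy => ⟨⟨y, hHK (hYH hy)⟩, h1 hy, rfl⟩
    refine (le_inf h2 hYH).trans (le_pCoreOf inf_le_right ?_ ((isPGroup_pCoreOf K).to_le inf_le_left))
    exact (le_inf (hHK.trans (le_normalizer_pCoreOf K)) le_normalizer).trans inf_normalizer_le_normalizer_inf
  by_contra hR
  apply hNc
  set N' := N.map K.subtype
  have hKN' : K ≤ normalizer (N' : Set G) := by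
    intro h hh
    apply CfsgLib.PLocal.mem_normalizer_map_conj.2
    refine eq_of_le_of_card_ge ?_ (CfsgLib.Coprime.card_map_conj h _).ge
    rintro _ ⟨_, ⟨x, hx, rfl⟩, rfl⟩
    exact ⟨⟨h, hh⟩ * x * ⟨h, hh⟩⁻¹, hN.conj_mem x hx _, rfl⟩
  set D := N' ⊓ H
  have hKD : K ≤ normalizer (D : Set G) := (le_inf hKN' hKH).trans inf_normalizer_le_normalizer_inf
  have hRKH : (pResidual p K).map K.subtype ≤ (pResidual p H).map H.subtype :=
    pResidual_map_le fun x hx hxp => mem_pResidual_map (mem_of_coprime_sup hUH hU hx hxp) hxp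
  have hRD : ¬ (pResidual p H).map H.subtype ≤ D := fun h =>
    hR ((map_le_map_iff_of_injective K.subtype_injective).1 (hRKH.trans (h.trans inf_le_left)))
  have hYD := largest_le_core_sup hH inf_le_right (hHK.trans hKD) hRD
  have hDY : ⁅D, Y⁆ ≤ pCoreOf p K := by
    refine le_trans (le_inf ?_ (CfsgLib.Comp.commutator_le_of_le_normalizer ((hYH.trans hHK).trans hKD)))
      (le_trans (le_pCoreOf (H := D) inf_le_right ((le_inf (le_sup_left.trans (le_normalizer_pCoreOf _))
        le_normalizer).trans inf_normalizer_le_normalizer_inf) ((isPGroup_pCoreOf (D ⊔ pCoreOf p M)).to_le inf_le_left))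
        (pCoreOf_le_of_normal (inf_le_right.trans hHK) hKD))
    rw [Subgroup.commutator_comm]
    exact (commutator_mono hYD le_rfl).trans
      (CfsgLib.Comp.commutator_le_of_le_normalizer (le_sup_left.trans (le_normalizer_pCoreOf _)))
  have hpn : (pCore p K).Normal := normal_pCore
  set π := QuotientGroup.mk' (pCore p K)
  have hπ : Function.Surjective π := QuotientGroup.mk'_surjective _
  have hO1 : pCore p (↥K ⧸ pCore p K) = ⊥ := CfsgLib.Solvable.pCore_quotient_eq_bot p
  set D' := D.subgroupOf K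
  have hDn : D'.Normal := normal_subgroupOf_of_le_normalizer hKD
  have hDbn : (D'.map π).Normal := hDn.map π hπ
  have hNbn : (N.map π).Normal := hN.map π hπ
  set Rb := (pResidual p K).map π
  have hrn : (pResidual p K).Normal := CfsgLib.Transfer.pResidual_normal
  have hRbn : Rb.Normal := hrn.map π hπ
  have hpow : ∀ x : ↥K ⧸ pCore p K, ∃ k : ℕ, x ^ p ^ k ∈ Rb := by
    intro x
    obtain ⟨y, rfl⟩ := hπ x
    obtain ⟨k, hk⟩ := CfsgLib.Transfer.pResidual_index_eq_pow (p := p) (G := ↥K)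
    refine ⟨k, ?_⟩
    rw [← hk, ← map_pow]
    exact ⟨_, Subgroup.pow_index_mem _ y, rfl⟩
  -- a normal subgroup of the quotient centralized by `Y` is centralized by `O^p`
  have hcent : ∀ A : Subgroup (↥K ⧸ pCore p K), A.Normal →
      (Y.subgroupOf K).map π ≤ centralizer (A : Set (↥K ⧸ pCore p K)) →
      Rb ≤ centralizer (A : Set (↥K ⧸ pCore p K)) := by
    intro A hA hYA
    set W := ((centralizer (A : Set (↥K ⧸ pCore p K))).comap π).map K.subtype ⊓ H
    have hWn : H ≤ normalizer (W : Set G) := by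
      refine (le_inf ?_ le_normalizer).trans inf_normalizer_le_normalizer_inf
      intro h hh
      apply CfsgLib.PLocal.mem_normalizer_map_conj.2
      refine eq_of_le_of_card_ge ?_ (CfsgLib.Coprime.card_map_conj h _).ge
      rintro _ ⟨_, ⟨x, hx, rfl⟩, rfl⟩
      exact ⟨⟨h, hHK hh⟩ * x * ⟨h, hHK hh⟩⁻¹,
        (Subgroup.Normal.comap inferInstance π).conj_mem x hx _, rfl⟩
    have hYW : Y ≤ W := fun y hy =>
      mem_inf.2 ⟨⟨⟨y, hHK (hYH hy)⟩, hYA ⟨_, hy, rfl⟩, rfl⟩, hYH hy⟩
    have h1 := hRKH.trans ((pResidual_le_of_largest_le hH inf_le_right hWn hYW).trans inf_le_left)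
    rw [map_le_iff_le_comap]
    exact (map_le_map_iff_of_injective K.subtype_injective).1 h1
  have hDp : ¬ p ∣ Nat.card (D'.map π) := by
    refine not_dvd_card_of_centralized hO1 Rb _ hpow (hcent _ hDbn ?_)
    rw [← Subgroup.commutator_eq_bot_iff_le_centralizer, eq_bot_iff, Subgroup.commutator_comm,
      ← Subgroup.map_commutator, map_le_iff_le_comap, MonoidHom.comap_bot, QuotientGroup.ker_mk']
    refine (map_le_map_iff_of_injective K.subtype_injective).1 ?_
    rw [Subgroup.map_commutator]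
    exact (commutator_mono (map_comap_le _ _) (map_comap_le _ _)).trans hDY
  have hNp : ¬ p ∣ Nat.card (N.map π) := by
    refine not_dvd_card_of_centralized hO1 Rb _ hpow (hcent _ hNbn ?_)
    rintro _ ⟨y, hy, rfl⟩ _ ⟨n, hn, rfl⟩
    set c := n * y * n⁻¹ * y⁻¹
    have hcD : c ∈ D' := by
      refine mem_subgroupOf.2 (mem_inf.2 ⟨⟨c, ?_, rfl⟩, ?_⟩)
      · show n * y * n⁻¹ * y⁻¹ ∈ N
        rw [show n * y * n⁻¹ * y⁻¹ = n * (y * n⁻¹ * y⁻¹) by group]
        exact N.mul_mem hn (hN.conj_mem _ (N.inv_mem hn) y)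
      · exact mul_mem ((mem_normalizer_iff.1 (hKH n.2) _).1 (hYH hy)) (inv_mem (hYH hy))
    have hcom : π c * π y = π y * π c := by
      have hk : c * y * c⁻¹ * y⁻¹ ∈ pCore p K := by
        obtain ⟨z, hz, hze⟩ := hDY (commutator_mem_commutator (mem_subgroupOf.1 hcD) (mem_subgroupOf.1 hy))
        have e : c * y * c⁻¹ * y⁻¹ = z := K.subtype_injective (by
          rw [hze, commutatorElement_def]; simp)
        rwa [e]
      have h1 : π (c * y * c⁻¹ * y⁻¹) = 1 := (QuotientGroup.eq_one_iff _).2 hk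
      rw [map_mul, map_mul, map_mul, map_inv, map_inv, mul_inv_eq_one, mul_inv_eq_iff_eq_mul] at h1
      exact h1
    have hyp : π y ^ p = 1 := by
      rw [← map_pow, show (y : K) ^ p = 1 from Subtype.ext (hY.2.2.1.2 _ hy :), map_one]
    have hcp : π c ^ p = 1 := by
      have e : π n * π y * (π n)⁻¹ = π c * π y := by
        rw [← map_inv, ← map_mul, ← map_mul, ← map_mul]; simp [c, mul_assoc]
      have h2 := congrArg (fun z => z ^ p) e
      have hcom' : Commute (π c) (π y) := hcom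
      simp only [conj_pow, hyp, mul_one, mul_inv_cancel, hcom'.mul_pow] at h2
      exact h2.symm
    have hc1 : π c = 1 := by
      rcases (Nat.dvd_prime (Fact.out : p.Prime)).1 (orderOf_dvd_of_pow_eq_one hcp) with h | h
      · exact orderOf_eq_one_iff.1 h
      · have hmem : π c ∈ D'.map π := ⟨c, hcD, rfl⟩
        exact absurd (h.symm.dvd.trans (Subgroup.orderOf_dvd_natCard _ hmem)) hDp
    show π n * π y = π y * π n
    have e : π n * π y * (π n)⁻¹ = π c * π y := by
      rw [← map_inv, ← map_mul, ← map_mul, ← map_mul]; simp [c, mul_assoc]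
    rw [hc1, one_mul, mul_inv_eq_iff_eq_mul] at e
    exact e
  rw [isPClosed_normal_iff]
  intro Q hQ hQN
  rw [← QuotientGroup.ker_mk' (pCore p K), ← Subgroup.map_eq_bot_iff]
  obtain ⟨k, hk⟩ := (hQ.map π).exists_card_eq
  rcases k with _ | k
  · exact Subgroup.card_eq_one.1 (by rw [hk, pow_zero])
  · exact absurd ((hk ▸ dvd_pow_self p (Nat.succ_ne_zero k)).trans (card_dvd_of_le (map_mono hQN))) hNp

end frakH

end CfsgLib.Amalgam
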