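import Cfsg.Agent.Lib.ClassK.FrakLFree
import Cfsg.Agent.Lib.Suzuki.Count

/-!
Normalizers of elementary abelian subgroups of order `q` in `SL₂(q)`, `Sz(q)` and dihedral groups of
twice odd order: the subgroup is the only nontrivial elementary abelian `p`-subgroup normal in its
normalizer.
-/

set_option autoImplicit false
set_option linter.unusedSectionVars false
set_option linter.unusedVariables false
set_option linter.style.haveILetI false
set_option maxHeartbeats 800000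

namespace CfsgLib.Amalgam.FrakLNorm

open Subgroup
open scoped MatrixGroups

/-- `T` is the only nontrivial elementary abelian `p`-subgroup normal in `N(T)`. -/
def OnlyNormal {X : Type*} [Group X] (p : ℕ) (T : Subgroup X) : Prop :=
  ∀ V : Subgroup X, Cfsg.IsElementaryAbelian p V → V ≤ normalizer (T : Set X) →
    normalizer (T : Set X) ≤ normalizer (V : Set X) → V ≠ ⊥ → V = T

theorem zpow_add_self {X : Type*} [Group X] {s : X} (hs2 : s * s = 1) (i : ℤ) : s ^ (i + i) = 1 := by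
  rw [← two_mul, zpow_mul, zpow_two, hs2, one_zpow]

theorem mem_normalizer_of_conj {X : Type*} [Group X] [Finite X] {H : Subgroup X} {d : X}
    (h : ∀ y ∈ H, d * y * d⁻¹ ∈ H) : d ∈ normalizer (H : Set X) :=
  Subgroup.mem_normalizer_iff_map_conj_eq.2 (Subgroup.eq_of_le_of_card_ge
    (by rintro _ ⟨y, hy, rfl⟩; exact h y hy)
    (Subgroup.card_map_of_injective (MulAut.conj d).injective).ge)

theorem uElt_zero {F : Type*} [Field F] : CfsgLib.Classical.uElt (0 : F) = 1 :=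
  Matrix.SpecialLinearGroup.transvection_coeff_zero _

theorem torus_conj {F : Type*} [Field F] {a : F} (ha : a ≠ 0) :
    ∃ d : SL(2, F), ∀ b, d * CfsgLib.Classical.uElt b * d⁻¹ = CfsgLib.Classical.uElt (a ^ 2 * b) := by
  obtain ⟨d, hd⟩ : ∃ d : SL(2, F), (d : Matrix (Fin 2) (Fin 2) F) = !![a, 0; 0, a⁻¹] :=
    ⟨⟨!![a, 0; 0, a⁻¹], by simp [Matrix.det_fin_two_of, ha]⟩, rfl⟩
  refine ⟨d, fun b => mul_inv_eq_iff_eq_mul.2 ?_⟩
  refine Subtype.ext ?_
  rw [Matrix.SpecialLinearGroup.coe_mul, Matrix.SpecialLinearGroup.coe_mul,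
    CfsgLib.Classical.uElt_val, CfsgLib.Classical.uElt_val, hd]
  ext i j
  fin_cases i <;> fin_cases j <;> simp [Matrix.mul_apply, Fin.sum_univ_two]
  field_simp

theorem elemAb_map {X Z : Type*} [Group X] [Group Z] {p : ℕ} {V : Subgroup X}
    (h : Cfsg.IsElementaryAbelian p V) (f : X →* Z) : Cfsg.IsElementaryAbelian p (V.map f) := by
  obtain ⟨hc, hp⟩ := h
  refine ⟨⟨⟨?_⟩⟩, ?_⟩
  · rintro ⟨_, a, ha, rfl⟩ ⟨_, b, hb, rfl⟩
    have e : a * b = b * a := congrArg Subtype.val (hc.is_comm.comm ⟨a, ha⟩ ⟨b, hb⟩)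
    exact Subtype.ext (show f a * f b = f b * f a by rw [← map_mul, e, map_mul])
  · rintro _ ⟨a, ha, rfl⟩
    rw [← map_pow, hp a ha, map_one]

theorem normalizer_map_equiv {X Z : Type*} [Group X] [Group Z] (f : X ≃* Z) (H : Subgroup X) :
    (normalizer (H : Set X)).map f.toMonoidHom =
      normalizer ((H.map f.toMonoidHom : Subgroup Z) : Set Z) :=
  Subgroup.map_equiv_normalizer_eq H f

theorem OnlyNormal.map {X Z : Type*} [Group X] [Group Z] (f : X ≃* Z) {p : ℕ} {T : Subgroup X}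
    (h : OnlyNormal p T) : OnlyNormal p (T.map f.toMonoidHom) := by
  intro V hV hVN hNV hV1
  have e : (V.map f.symm.toMonoidHom).map f.toMonoidHom = V := by
    rw [Subgroup.map_map]
    have : f.toMonoidHom.comp f.symm.toMonoidHom = MonoidHom.id _ := by ext x; simp
    rw [this, Subgroup.map_id]
  have hinj : Function.Injective f.toMonoidHom := f.injective
  rw [← e]
  rw [← e, ← normalizer_map_equiv] at hNV
  rw [← normalizer_map_equiv] at hVN hNV
  refine congrArg _ (h _ (elemAb_map hV _) ?_ ((Subgroup.map_le_map_iff_of_injective hinj).1 hNV) ?_)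
  · refine (Subgroup.map_le_map_iff_of_injective hinj).1 ?_
    rw [e]; exact hVN
  · intro e0
    exact hV1 (by rw [← e, e0, Subgroup.map_bot])

theorem OnlyNormal.of_map {X Z : Type*} [Group X] [Group Z] (f : X ≃* Z) {p : ℕ} {T : Subgroup X}
    (h : OnlyNormal p (T.map f.toMonoidHom)) : OnlyNormal p T := by
  have h2 := h.map f.symm
  rw [Subgroup.map_map] at h2
  have : f.symm.toMonoidHom.comp f.toMonoidHom = MonoidHom.id _ := by ext x; simp
  rwa [this, Subgroup.map_id] at h2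

theorem isPGroup_sup {X : Type*} [Group X] {p : ℕ} {T V : Subgroup X} (hT : IsPGroup p T)
    (hV : Cfsg.IsElementaryAbelian p V) (hVN : V ≤ normalizer (T : Set X)) :
    IsPGroup p (V ⊔ T : Subgroup X) := by
  have h : IsPGroup p V := fun v => ⟨1, Subtype.ext (by simpa using hV.2 v v.2)⟩
  exact h.to_sup_of_normal_right' hT hVN

/-- A subgroup of order two generating the group with a conjugate. -/
theorem onlyNormal_two {X : Type*} [Group X] [Finite X] {T : Subgroup X} (hT : Nat.card T = 2) {g : X}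
    (hgen : T ⊔ T.map (MulAut.conj g).toMonoidHom = ⊤) : OnlyNormal 2 T := by
  have : Fact (Nat.Prime 2) := ⟨Nat.prime_two⟩
  obtain ⟨u, v, huv, huniv⟩ := Nat.card_eq_two_iff.1 hT
  obtain ⟨s, hs, hs1⟩ : ∃ s ∈ T, s ≠ 1 := by
    rcases eq_or_ne (u : X) 1 with h | h
    · exact ⟨v, v.2, fun e => huv (Subtype.ext (h.trans e.symm))⟩
    · exact ⟨u, u.2, h⟩
  have hT' : T = zpowers s := by
    refine (Subgroup.eq_of_le_of_card_ge (zpowers_le.2 hs) ?_).symm
    rw [hT]
    exact (Nat.two_le_iff _).2 ⟨Nat.card_pos.ne', fun e => hs1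
      (zpowers_eq_bot.1 ((Subgroup.card_eq_one).1 e))⟩
  have hs2 : s * s = 1 := by
    have h1 : (⟨s, hs⟩ : T) ^ Nat.card T = 1 := pow_card_eq_one'
    rw [hT, sq] at h1
    exact congrArg Subtype.val h1
  have hinv : s⁻¹ = s := inv_eq_of_mul_eq_one_right hs2
  obtain ⟨s', hs'⟩ : ∃ s' : X, s' = g * s * g⁻¹ := ⟨_, rfl⟩
  have hs'2 : s' * s' = 1 := by
    rw [hs', show g * s * g⁻¹ * (g * s * g⁻¹) = g * (s * s) * g⁻¹ by group, hs2]; group
  have hinv' : s'⁻¹ = s' := inv_eq_of_mul_eq_one_right hs'2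
  obtain ⟨r, hr⟩ : ∃ r : X, r = s * s' := ⟨_, rfl⟩
  have hconj : ∀ k : ℤ, s * r ^ k * s⁻¹ = r ^ (-k) := fun k => by
    rw [← conj_zpow, show s * r * s⁻¹ = r⁻¹ by
      rw [hr, mul_inv_rev, hinv', hinv, ← mul_assoc s s, hs2, one_mul], inv_zpow']
  have hsN : s ∈ normalizer ((zpowers r : Subgroup X) : Set X) := by
    refine mem_normalizer_iff.2 fun x => ⟨?_, fun h => ?_⟩
    · rintro ⟨k, rfl⟩
      exact ⟨-k, (hconj k).symm⟩
    · obtain ⟨k, hk⟩ := h
      refine ⟨-k, ?_⟩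
      have hk' : r ^ k = s * x * s⁻¹ := hk
      show r ^ (-k) = x
      rw [← hconj k, hk', hinv]
      calc s * (s * x * s) * s = (s * s) * x * (s * s) := by group
        _ = x := by rw [hs2, one_mul, mul_one]
  have hs'r : s' = s * r := by rw [hr, ← mul_assoc, hs2, one_mul]
  have hle : T ⊔ T.map (MulAut.conj g).toMonoidHom ≤ T ⊔ zpowers r := by
    refine sup_le le_sup_left ?_
    rw [hT', MonoidHom.map_zpowers, zpowers_le]
    show g * s * g⁻¹ ∈ _
    rw [← hs', hs'r]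
    exact mul_mem (mem_sup_left (mem_zpowers s)) (mem_sup_right (mem_zpowers r))
  rw [hgen] at hle
  have hN : normalizer ((zpowers r : Subgroup X) : Set X) = ⊤ := by
    refine eq_top_iff.2 (hle.trans (sup_le ?_ le_normalizer))
    rw [hT', zpowers_le]; exact hsN
  haveI : (zpowers r).Normal := normalizer_eq_top_iff.1 hN
  have hform : ∀ x : X, ∃ k : ℤ, x = r ^ k ∨ x = s * r ^ k := by
    intro x
    obtain ⟨t, ht, ρ, ⟨k, rfl⟩, rfl⟩ := Subgroup.mem_sup_of_normal_right.1 (hle (mem_top x))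
    refine ⟨k, ?_⟩
    rw [hT'] at ht
    obtain ⟨j, rfl⟩ := ht
    rcases Int.even_or_odd j with ⟨i, hi⟩ | ⟨i, hi⟩
    · left
      show s ^ j * r ^ k = r ^ k
      rw [hi, zpow_add_self hs2, one_mul]
    · right
      show s ^ j * r ^ k = s * r ^ k
      rw [hi, zpow_add, zpow_one, two_mul, zpow_add_self hs2, one_mul]
  have hodd : Odd (orderOf r) := by
    have hg2 : ∀ k : ℤ, g * s * g⁻¹ = s * r ^ k → k = 1 ∨ r ^ (k - 1) = 1 := fun k hk => Or.inr (by
      rw [← hs', hs'r, mul_right_inj] at hk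
      rw [zpow_sub_one, ← hk, mul_inv_cancel])
    obtain ⟨k, hk⟩ := hform g
    have key : ∃ j : ℤ, r ^ (2 * j + 1) = 1 := by
      rcases hk with rfl | rfl
      · -- `g = r ^ k`
        have e : r ^ k * s * (r ^ k)⁻¹ = s * r ^ (-(2 * k)) := by
          have h1 : r ^ k * s = s * r ^ (-k) := by
            rw [← hconj k, ← mul_assoc, ← mul_assoc, hs2, one_mul, hinv]
          rw [h1, ← zpow_neg, mul_assoc, ← zpow_add]; congr 2; ring
        rw [e] at hs'
        rw [hs'r, mul_right_inj] at hs'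
        refine ⟨k, ?_⟩
        rw [zpow_add, zpow_one]
        calc r ^ (2 * k) * r = r ^ (2 * k) * r ^ (-(2 * k)) := by rw [← hs']
          _ = 1 := by rw [← zpow_add, add_neg_cancel, zpow_zero]
      · have e : s * r ^ k * s * (s * r ^ k)⁻¹ = s * r ^ (2 * k) := by
          rw [mul_inv_rev, hinv]
          calc s * r ^ k * s * ((r ^ k)⁻¹ * s) = s * r ^ k * (s * (r ^ k)⁻¹ * s⁻¹) := by
                rw [hinv]; group
            _ = s * r ^ (2 * k) := by
                rw [← zpow_neg, hconj, neg_neg, mul_assoc, ← zpow_add, two_mul]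
        rw [e] at hs'
        rw [hs'r, mul_right_inj] at hs'
        refine ⟨-k, ?_⟩
        rw [zpow_add, zpow_one, show 2 * -k = -(2 * k) by ring, zpow_neg, ← hs', inv_mul_cancel]
    obtain ⟨j, hj⟩ := key
    have h1 : (orderOf r : ℤ) ∣ 2 * j + 1 := orderOf_dvd_iff_zpow_eq_one.2 hj
    rw [← Nat.not_even_iff_odd, even_iff_two_dvd]
    intro h2
    have h3 : ((2 : ℕ) : ℤ) ∣ 2 * j + 1 := (Int.natCast_dvd_natCast.2 h2).trans h1
    omega
  -- the normalizer is `T`
  have hNT : normalizer (T : Set X) ≤ T := by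
    intro x hx
    have hxs : x * s * x⁻¹ = s := by
      have h1 := (mem_normalizer_iff.1 hx s).1 hs
      rw [hT'] at h1
      obtain ⟨j, hj⟩ := h1
      have hj' : s ^ j = x * s * x⁻¹ := hj
      rcases Int.even_or_odd j with ⟨i, rfl⟩ | ⟨i, rfl⟩
      · rw [zpow_add_self hs2] at hj'
        exact absurd (conj_eq_one_iff.1 hj'.symm) hs1
      · rw [← hj', zpow_add, zpow_one, two_mul, zpow_add_self hs2, one_mul]
    obtain ⟨k, hk⟩ := hform x
    have hrk : r ^ k = 1 := by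
      have h1 : r ^ k * s * (r ^ k)⁻¹ = s := by
        rcases hk with rfl | rfl
        · exact hxs
        · have h2 : s * (r ^ k * s * (r ^ k)⁻¹) * s⁻¹ = s := by
            rw [show s * (r ^ k * s * (r ^ k)⁻¹) * s⁻¹ = s * r ^ k * s * (s * r ^ k)⁻¹ by group, hxs]
          calc r ^ k * s * (r ^ k)⁻¹ = s⁻¹ * (s * (r ^ k * s * (r ^ k)⁻¹) * s⁻¹) * s := by group
            _ = s := by rw [h2]; group
      have h3 : (r ^ k) * (r ^ k) = 1 := by
        have h4 : r ^ k * s = s * r ^ k := mul_inv_eq_iff_eq_mul.1 h1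
        have h5 : s * r ^ k * s⁻¹ = r ^ k := by rw [← h4, mul_inv_cancel_right]
        rw [hconj] at h5
        nth_rewrite 2 [← h5]
        rw [zpow_neg, mul_inv_cancel]
      have h6 : orderOf (r ^ k) ∣ 2 := orderOf_dvd_of_pow_eq_one (by rw [sq]; exact h3)
      have h7 : orderOf (r ^ k) ∣ orderOf r :=
        orderOf_dvd_of_mem_zpowers (zpow_mem (mem_zpowers r) k)
      have h8 : orderOf (r ^ k) ∣ 1 := by
        rw [← (Nat.coprime_two_left.2 hodd).gcd_eq_one]; exact Nat.dvd_gcd h6 h7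
      exact orderOf_eq_one_iff.1 (Nat.dvd_one.1 h8)
    rw [hrk, mul_one] at hk
    rcases hk with rfl | rfl
    exacts [one_mem T, hs]
  intro V hV hVN hNV hV1
  refine Subgroup.eq_of_le_of_card_ge (hVN.trans hNT) ?_
  rw [hT]
  exact (Nat.two_le_iff _).2 ⟨Nat.card_pos.ne', fun e => hV1 ((Subgroup.card_eq_one).1 e)⟩

theorem elemAb_subgroupOf {X : Type*} [Group X] {p : ℕ} {Y : Subgroup X}
    (h : Cfsg.IsElementaryAbelian p Y) (H : Subgroup X) :
    Cfsg.IsElementaryAbelian p (Y.subgroupOf H) := by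
  obtain ⟨hc, hp⟩ := h
  refine ⟨⟨⟨?_⟩⟩, fun a ha => Subtype.ext (by simpa using hp a ha)⟩
  rintro ⟨⟨a, haH⟩, ha⟩ ⟨⟨b, hbH⟩, hb⟩
  have e : a * b = b * a := congrArg Subtype.val (hc.is_comm.comm ⟨a, ha⟩ ⟨b, hb⟩)
  exact Subtype.ext (Subtype.ext e)

/-- The case of `SL₂(q)`. -/
theorem onlyNormal_sl {F : Type*} [Field F] [Fintype F] {p : ℕ} [Fact p.Prime] [CharP F p]
    {T : Subgroup SL(2, F)} (hT : Nat.card T = Fintype.card F) : OnlyNormal p T := by
  classical
  obtain ⟨P₀, hP₀⟩ := CfsgLib.Classical.exists_sylow_uSL (F := F) p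
  have hT' : Nat.card T = p ^ (Nat.card SL(2, F)).factorization p := by
    rw [← P₀.card_eq_multiplicity, hP₀, CfsgLib.Classical.card_uSL, hT, Nat.card_eq_fintype_card]
  set S := Sylow.ofCard T hT'
  have hS : (S : Subgroup SL(2, F)) = T := Sylow.coe_ofCard _ _
  obtain ⟨g, hg⟩ := MulAction.exists_smul_eq SL(2, F) P₀ S
  have hmap : T = (CfsgLib.Classical.uSL F).map (MulAut.conj g).toMonoidHom := by
    rw [← hS, ← hg, ← hP₀]; rfl
  suffices h : OnlyNormal p (CfsgLib.Classical.uSL F) by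
    rw [hmap]; exact h.map (MulAut.conj g)
  intro V hV hVN hNV hV1
  have hVU : V ≤ CfsgLib.Classical.uSL F := by
    obtain ⟨Q, hQ⟩ := (isPGroup_sup (hP₀ ▸ P₀.isPGroup') hV hVN).exists_le_sylow
    have hQ' : (P₀ : Subgroup SL(2, F)) = Q :=
      (P₀.is_maximal' Q.isPGroup' (hP₀ ▸ le_sup_right.trans hQ)).symm
    rw [← hP₀, hQ']
    exact le_sup_left.trans hQ
  let X : AddSubgroup F :=
    { carrier := {b | CfsgLib.Classical.uElt b ∈ V}
      add_mem' := fun {a b} ha hb => by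
        show CfsgLib.Classical.uElt (a + b) ∈ V
        rw [CfsgLib.Classical.uElt_add]; exact mul_mem ha hb
      zero_mem' := by
        show CfsgLib.Classical.uElt 0 ∈ V
        rw [uElt_zero]; exact one_mem V
      neg_mem' := fun {a} ha => by
        show CfsgLib.Classical.uElt (-a) ∈ V
        have : CfsgLib.Classical.uElt (-a) = (CfsgLib.Classical.uElt a)⁻¹ := by
          refine eq_inv_of_mul_eq_one_left ?_
          rw [← CfsgLib.Classical.uElt_add, neg_add_cancel, uElt_zero]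
        rw [this]; exact inv_mem ha }
  have hsq : ∀ (a : F), ∀ b ∈ X, a ^ 2 * b ∈ X := by
    intro a b hb
    rcases eq_or_ne a 0 with rfl | ha
    · simp
    obtain ⟨d, hd1⟩ := torus_conj (F := F) ha
    have hdN : d ∈ normalizer ((CfsgLib.Classical.uSL F : Subgroup SL(2, F)) : Set SL(2, F)) :=
      mem_normalizer_of_conj fun y hy => by
        obtain ⟨c, rfl⟩ := hy
        exact ⟨_, (hd1 c).symm⟩
    have := (mem_normalizer_iff.1 (hNV hdN) _).1 (show CfsgLib.Classical.uElt b ∈ V from hb)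
    rwa [hd1] at this
  have hmul : ∀ (c : F), ∀ b ∈ X, c * b ∈ X := by
    intro c b hb
    by_cases h2 : (2 : F) = 0
    · haveI : CharP F 2 := CharTwo.of_one_ne_zero_of_two_eq_zero one_ne_zero h2
      obtain ⟨a, rfl⟩ := FiniteField.isSquare_of_char_two (ringChar.eq F 2) c
      rw [← sq]; exact hsq a b hb
    · have e : c * b = ((c + 1) / 2) ^ 2 * b - ((c - 1) / 2) ^ 2 * b := by
        field_simp; ring
      rw [e]
      exact sub_mem (hsq _ b hb) (hsq _ b hb)
  refine le_antisymm hVU fun x hx => ?_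
  obtain ⟨w, hw, hw1⟩ : ∃ w ∈ V, w ≠ 1 := by
    by_contra hc
    push Not at hc
    exact hV1 (eq_bot_iff.2 fun w hw => mem_bot.2 (hc w hw))
  obtain ⟨b, hb⟩ := (show w ∈ Set.range CfsgLib.Classical.uElt from hVU hw)
  obtain ⟨c, rfl⟩ := (show x ∈ Set.range CfsgLib.Classical.uElt from hx)
  have hb0 : b ≠ 0 := fun e => hw1 (by rw [← hb, e, uElt_zero])
  have hbX : b ∈ X := show CfsgLib.Classical.uElt b ∈ V from hb ▸ hw
  have := hmul (c / b) b hbX
  rwa [div_mul_cancel₀ _ hb0] at this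

/-- The case of `Sz(q)`. -/
theorem onlyNormal_suzuki {F : Type*} [Field F] [Fintype F] {m : ℕ} (hm : 1 ≤ m)
    (hF : Fintype.card F = 2 ^ (2 * m + 1)) {T : Subgroup (Cfsg.Lie.Sz F (2 ^ (m + 1)))}
    (hT : Nat.card T = Fintype.card F) (hT2 : ∀ x ∈ T, x * x = 1) : OnlyNormal 2 T := by
  haveI : CharP F 2 := by
    haveI : Fact (Nat.Prime 2) := ⟨Nat.prime_two⟩
    exact CfsgLib.ClassK.Push.charP_of_card hF
  haveI : Fact (Nat.Prime 2) := ⟨Nat.prime_two⟩
  set e := CfsgLib.Suzuki.szEquiv (F := F) hm hF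
  suffices key : ∀ (T : Subgroup (Cfsg.Sz F m)), Nat.card T = Fintype.card F → (∀ x ∈ T, x * x = 1) →
      OnlyNormal 2 T by
    refine OnlyNormal.of_map e.symm (key _ (by rw [card_map_of_injective e.symm.injective, hT]) ?_)
    rintro _ ⟨x, hx, rfl⟩
    show e.symm x * e.symm x = 1
    rw [← map_mul, hT2 x hx, map_one]
  clear hT hT2
  intro T hT hT2
  set h := CfsgLib.Suzuki.thSq_of_card hF
  -- a two-subgroup containing `T` has all its involutions in `T`
  have inside : ∀ P : Sylow 2 (Cfsg.Sz F m), T ≤ (P : Subgroup (Cfsg.Sz F m)) →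
      ∃ k, T = (CfsgLib.Suzuki.zSub h).map (MulAut.conj k).toMonoidHom ∧
        ∀ x ∈ (P : Subgroup (Cfsg.Sz F m)), x * x = 1 → x ∈ T := by
    intro P hP
    obtain ⟨k, hk⟩ := CfsgLib.Suzuki.exists_conj_sylow hm hF P
    have hin : ∀ x ∈ (P : Subgroup (Cfsg.Sz F m)), x * x = 1 →
        x ∈ (CfsgLib.Suzuki.zSub h).map (MulAut.conj k).toMonoidHom := by
      intro x hx hx2
      rw [hk] at hx
      obtain ⟨u, hu, rfl⟩ := hx
      refine mem_map_of_mem _ (CfsgLib.Suzuki.mem_zSub_of_sq hu ((MulAut.conj k).injective ?_))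
      rw [map_mul, map_one]
      exact hx2
    have e : T = (CfsgLib.Suzuki.zSub h).map (MulAut.conj k).toMonoidHom :=
      Subgroup.eq_of_le_of_card_ge (fun x hx => hin x (hP hx) (hT2 x hx)) (by
        rw [card_map_of_injective (MulAut.conj k).injective, CfsgLib.Suzuki.card_zSub, hT,
          Nat.card_eq_fintype_card])
    exact ⟨k, e, e ▸ hin⟩
  have hTp : IsPGroup 2 T := fun x => ⟨1, Subtype.ext (by simpa [sq] using hT2 x x.2)⟩
  obtain ⟨P, hP⟩ := hTp.exists_le_sylow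
  obtain ⟨k, hk, -⟩ := inside P hP
  intro V hV hVN hNV hV1
  have hVT : V ≤ T := by
    obtain ⟨Q, hQ⟩ := (isPGroup_sup hTp hV hVN).exists_le_sylow
    obtain ⟨-, -, hin⟩ := inside Q (le_sup_right.trans hQ)
    intro x hx
    exact hin x (le_sup_left.trans hQ hx) (by simpa [sq] using hV.2 x hx)
  obtain ⟨w, hw, hw1⟩ : ∃ w ∈ V, w ≠ 1 := by
    by_contra hc
    push Not at hc
    exact hV1 (eq_bot_iff.2 fun w hw => mem_bot.2 (hc w hw))
  refine le_antisymm hVT fun x hx => ?_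
  obtain ⟨_, ⟨b, rfl⟩, hb⟩ := mem_map.1 (hk ▸ hVT hw)
  obtain ⟨_, ⟨c, rfl⟩, hc⟩ := mem_map.1 (hk ▸ hx)
  have hb0 : b ≠ 0 := fun e => hw1 (by rw [← hb, e, CfsgLib.Suzuki.tG_zero, map_one])
  rcases eq_or_ne c 0 with rfl | hc0
  · rw [← hc, CfsgLib.Suzuki.tG_zero, map_one]; exact one_mem V
  obtain ⟨t, ht⟩ := CfsgLib.Suzuki.exists_th_mul_self h (div_ne_zero hc0 hb0)
  obtain ⟨s, hs⟩ := (Finite.injective_iff_surjective.1 (CfsgLib.Suzuki.th m : F →+* F).injective) (t : F)
  have hs0 : s ≠ 0 := fun e => t.ne_zero (by rw [← hs, e, map_zero])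
  set d := MulAut.conj k (CfsgLib.Suzuki.hG h (Units.mk0 s hs0))
  have hdN : d ∈ normalizer (T : Set (Cfsg.Sz F m)) := by
    refine mem_normalizer_of_conj fun y hy => ?_
    rw [hk] at hy
    obtain ⟨_, ⟨b', rfl⟩, rfl⟩ := hy
    rw [hk]
    refine ⟨CfsgLib.Suzuki.hG h (Units.mk0 s hs0) * CfsgLib.Suzuki.tG h 0 b' *
      (CfsgLib.Suzuki.hG h (Units.mk0 s hs0))⁻¹, ?_, ?_⟩
    · rw [CfsgLib.Suzuki.hG_conj, mul_zero]; exact ⟨_, rfl⟩
    · simp only [MulEquiv.coe_toMonoidHom, map_mul, map_inv, d]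
  have := (mem_normalizer_iff.1 (hNV hdN) _).1 hw
  rw [← hb] at this
  have e2 : d * (MulAut.conj k).toMonoidHom (CfsgLib.Suzuki.tG h 0 b) * d⁻¹ = x := by
    rw [← hc]
    simp only [MulEquiv.coe_toMonoidHom, d]
    rw [← map_inv (MulAut.conj k), ← map_mul, ← map_mul]
    congr 1
    rw [CfsgLib.Suzuki.hG_conj, mul_zero, Units.val_mk0]
    congr 1
    have hh : CfsgLib.Suzuki.th m (t : F) = s ^ 2 := by rw [← hs]; exact h s
    rw [hs, ← hh]
    rw [mul_comm (t : F), ht]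
    field_simp
  rwa [e2] at this

end CfsgLib.Amalgam.FrakLNorm
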