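import Cfsg.Prelude.Def_LocalStructure
import Cfsg.Agent.Lib.Solvable.PCore
import Cfsg.Agent.Lib.Transfer.Basic
import Cfsg.Agent.Lib.PLocal.Sylow
import Cfsg.Agent.Lib.Coprime.Basic
import Cfsg.Agent.Lib.Comp.Normalize

/-!
`p`-closed and `p`-irreducible groups.
-/

set_option autoImplicit false
set_option linter.unusedSectionVars false

namespace CfsgLib.Amalgam

open Cfsg Subgroup

variable {G : Type*} [Group G] [Finite G] {p : ℕ} [Fact p.Prime]

/-- `p`-closed: all `p`-subgroups lie in `O_p`. -/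
theorem isPClosed_iff : IsPClosed p G ↔ ∀ Q : Subgroup G, IsPGroup p Q → Q ≤ pCore p G := by
  constructor
  · intro h Q hQ
    obtain ⟨P, hP⟩ := hQ.exists_le_sylow
    exact hP.trans (CfsgLib.Solvable.le_pCore (h P) P.isPGroup')
  · intro h P
    have he := P.3 (CfsgLib.Solvable.pCore_isPGroup p) (h _ P.isPGroup')
    rw [← he]
    exact CfsgLib.Solvable.pCore_normal p G

/-- A normal subgroup is `p`-closed iff all its `p`-subgroups lie in `O_p(G)`. -/
theorem isPClosed_normal_iff (N : Subgroup G) [N.Normal] :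
    IsPClosed p N ↔ ∀ Q : Subgroup G, IsPGroup p Q → Q ≤ N → Q ≤ pCore p G := by
  rw [isPClosed_iff]
  constructor
  · intro h Q hQ hQN
    have h1 := h (Q.subgroupOf N) (hQ.of_equiv (subgroupOfEquivOfLe hQN).symm)
    calc Q = (Q.subgroupOf N).map N.subtype := by rw [subgroupOf_map_subtype, inf_eq_left.2 hQN]
      _ ≤ _ := (map_mono h1).trans (CfsgLib.Solvable.map_pCore_le p N)
  · intro h Q hQ
    have hn : ((pCore p G).subgroupOf N).Normal := (CfsgLib.Solvable.pCore_normal p G).subgroupOf N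
    refine le_trans ?_ (CfsgLib.Solvable.le_pCore hn
      ((CfsgLib.Solvable.pCore_isPGroup p).comap_of_injective _ N.subtype_injective))
    intro x hx
    exact h (Q.map N.subtype) (hQ.map _) (map_subtype_le Q) ⟨x, hx, rfl⟩

/-- A subgroup is `p`-closed if its `p`-subgroups lie in a `p`-subgroup it normalizes. -/
theorem isPClosed_of_forall_le {K R : Subgroup G} (hR : IsPGroup p R)
    (hn : K ≤ normalizer (R : Set G))
    (h : ∀ Q : Subgroup G, IsPGroup p Q → Q ≤ K → Q ≤ R) : IsPClosed p K := by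
  rw [isPClosed_iff]
  intro Q hQ
  have hn' : (R.subgroupOf K).Normal := normal_subgroupOf_of_le_normalizer hn
  refine le_trans ?_ (CfsgLib.Solvable.le_pCore hn' (hR.comap_of_injective _ K.subtype_injective))
  intro x hx
  exact h (Q.map K.subtype) (hQ.map _) (map_subtype_le Q) ⟨x, hx, rfl⟩

theorem map_pCore_of_isPGroup_ker (D : Subgroup G) [D.Normal] (hD : IsPGroup p D) :
    (pCore p G).map (QuotientGroup.mk' D) = pCore p (G ⧸ D) := by
  apply le_antisymm
  · exact CfsgLib.Solvable.le_pCore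
      ((CfsgLib.Solvable.pCore_normal p G).map _ (QuotientGroup.mk'_surjective D))
      ((CfsgLib.Solvable.pCore_isPGroup p).map _)
  · refine (map_comap_eq_self_of_surjective (QuotientGroup.mk'_surjective D) _).ge.trans (map_mono ?_)
    exact CfsgLib.Solvable.le_pCore ((CfsgLib.Solvable.pCore_normal p _).comap _)
      ((CfsgLib.Solvable.pCore_isPGroup p).comap_of_ker_isPGroup _
        (by rw [QuotientGroup.ker_mk']; exact hD))

theorem comap_pCore_of_isPGroup_ker (D : Subgroup G) [D.Normal] (hD : IsPGroup p D) :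
    (pCore p (G ⧸ D)).comap (QuotientGroup.mk' D) = pCore p G := by
  rw [← map_pCore_of_isPGroup_ker D hD, comap_map_eq, QuotientGroup.ker_mk',
    sup_eq_left.2 (CfsgLib.Solvable.le_pCore ‹D.Normal› hD)]

/-- `p`-closure of a normal subgroup can be read off modulo a normal `p`-subgroup. -/
theorem isPClosed_comap_iff (D : Subgroup G) [D.Normal] (hD : IsPGroup p D)
    (N : Subgroup (G ⧸ D)) [N.Normal] :
    IsPClosed p (N.comap (QuotientGroup.mk' D)) ↔ IsPClosed p N := by
  rw [isPClosed_normal_iff, isPClosed_normal_iff]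
  constructor
  · intro h Q hQ hQN
    rw [← map_pCore_of_isPGroup_ker D hD,
      ← map_comap_eq_self_of_surjective (QuotientGroup.mk'_surjective D) Q]
    exact map_mono (h _ (hQ.comap_of_ker_isPGroup _ (by rw [QuotientGroup.ker_mk']; exact hD))
      (comap_mono hQN))
  · intro h Q hQ hQN
    rw [← comap_pCore_of_isPGroup_ker D hD]
    exact map_le_iff_le_comap.1 (h _ (hQ.map _) (map_le_iff_le_comap.2 hQN))

theorem isPClosed_quotient_iff (D : Subgroup G) [D.Normal] (hD : IsPGroup p D) :
    IsPClosed p (G ⧸ D) ↔ IsPClosed p G := by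
  rw [isPClosed_iff, isPClosed_iff]
  constructor
  · intro h Q hQ
    rw [← comap_pCore_of_isPGroup_ker D hD]
    exact map_le_iff_le_comap.1 (h _ (hQ.map _))
  · intro h Q hQ
    rw [← map_pCore_of_isPGroup_ker D hD,
      ← map_comap_eq_self_of_surjective (QuotientGroup.mk'_surjective D) Q]
    exact map_mono (h _ (hQ.comap_of_ker_isPGroup _ (by rw [QuotientGroup.ker_mk']; exact hD)))

/-- `O^p(G/D)` lies below `N` iff `O^p(G)` lies below the preimage. -/
theorem pResidual_quotient_le_iff (D : Subgroup G) [D.Normal] (N : Subgroup (G ⧸ D)) [N.Normal] :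
    pResidual p (G ⧸ D) ≤ N ↔ pResidual p G ≤ N.comap (QuotientGroup.mk' D) := by
  constructor
  · intro h
    exact map_le_iff_le_comap.1 ((CfsgLib.Transfer.map_pResidual_le _).trans h)
  · intro h
    apply CfsgLib.Transfer.pResidual_le_of_isPGroup_quotient
    have hp := CfsgLib.Transfer.isPGroup_quotient_of_pResidual_le h
    intro q
    obtain ⟨y, rfl⟩ := QuotientGroup.mk'_surjective N q
    obtain ⟨x, rfl⟩ := QuotientGroup.mk'_surjective D y
    obtain ⟨k, hk⟩ := hp (QuotientGroup.mk' _ x)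
    refine ⟨k, ?_⟩
    rw [← map_pow, QuotientGroup.mk'_apply, QuotientGroup.eq_one_iff] at hk
    rw [← map_pow, ← map_pow, QuotientGroup.mk'_apply, QuotientGroup.eq_one_iff]
    exact hk

/-- `O^p(G) ≤ N D` forces `O^p(G) ≤ N` for a normal `p`-subgroup `D`. -/
theorem pResidual_le_of_le_sup {N D : Subgroup G} [N.Normal] [D.Normal] (hD : IsPGroup p D)
    (h : pResidual p G ≤ N ⊔ D) : pResidual p G ≤ N := by
  apply CfsgLib.Transfer.pResidual_le_of_isPGroup_quotient
  have hp := CfsgLib.Transfer.isPGroup_quotient_of_pResidual_le h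
  intro q
  obtain ⟨x, rfl⟩ := QuotientGroup.mk'_surjective N q
  obtain ⟨k, hk⟩ := hp (QuotientGroup.mk' _ x)
  rw [← map_pow, QuotientGroup.mk'_apply, QuotientGroup.eq_one_iff] at hk
  have h1 : QuotientGroup.mk' N (x ^ p ^ k) ∈ D.map (QuotientGroup.mk' N) := by
    have := mem_map_of_mem (QuotientGroup.mk' N) hk
    rwa [Subgroup.map_sup, QuotientGroup.map_mk'_self, bot_sup_eq] at this
  obtain ⟨j, hj⟩ := (hD.map (QuotientGroup.mk' N)) ⟨_, h1⟩
  refine ⟨k + j, ?_⟩
  have hj' := congrArg Subtype.val hj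
  rw [SubmonoidClass.coe_pow, OneMemClass.coe_one] at hj'
  rw [pow_add, pow_mul, ← map_pow]
  exact hj'

end CfsgLib.Amalgam
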