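import Cfsg.Agent.Lib.Amalgam.PReducedSubnormal
import Cfsg.Agent.Lib.Amalgam.WeaklyClosed
import Cfsg.Agent.Lib.Amalgam.PIrred
import Cfsg.Agent.Lib.Solvable.Frattini

/-!
Characteristic-`p` overgroups of a Sylow subgroup and the basic property `𝔐`.

For a group of parabolic characteristic `p` and `L ∈ 𝓛` over a Sylow subgroup `T` there is `M ∈ 𝔐` over `T`
with `Y_L ≤ Y_M`; for `M ∈ 𝔐` over `T`, `O_p(M) = C_T(Y_M)` is a Sylow subgroup of `C(Y_M)`,
`Y_M = Ω₁(Z(O_p(M)))` and `N(Y_M) = M†`.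
-/

set_option autoImplicit false
set_option linter.unusedSectionVars false

namespace CfsgLib.Amalgam

open Cfsg Subgroup
open scoped commutatorElement

variable {G : Type*} [Group G] [Finite G] {p : ℕ} [Fact p.Prime]

/-- `M† = M C(Y_M)`. -/
abbrev dagger (p : ℕ) (M : Subgroup G) : Subgroup G :=
  M ⊔ centralizer (largestPReducedOf p M : Set G)

theorem pCoreOf_eq_bot_iff (L : Subgroup G) : pCoreOf p L = ⊥ ↔ pCore p L = ⊥ :=
  Subgroup.map_eq_bot_iff_of_injective _ L.subtype_injective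

theorem mem_charPSubgroups_iff {L : Subgroup G} : L ∈ charPSubgroups p G ↔
    pCoreOf p L ≠ ⊥ ∧ centralizer (pCoreOf p L : Set G) ≤ pCoreOf p L := by
  rw [Ne, pCoreOf_eq_bot_iff]
  exact Iff.rfl

theorem charPElements_of_mem {L : Subgroup G} (h : L ∈ charPSubgroups p G) : CharPElements p L :=
  fun _ _ hxp hxc => eq_one_of_coprime_of_mem (isPGroup_pCoreOf L) hxp ((mem_charPSubgroups_iff.1 h).2 hxc)

theorem charPElements_map {K : Type*} [Group K] [Finite K] (f : G →* K) (hf : Function.Injective f)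
    {L : Subgroup G} : CharPElements p (L.map f) ↔ CharPElements p L := by
  constructor
  · intro h x hx hxp hxc
    refine hf ((h (f x) ⟨x, hx, rfl⟩ (by rwa [orderOf_injective f hf]) ?_).trans (map_one f).symm)
    rw [pCoreOf_map f hf]
    rintro _ ⟨y, hy, rfl⟩
    rw [← map_mul, ← map_mul, hxc y hy]
  · rintro h _ ⟨x, hx, rfl⟩ hxp hxc
    rw [orderOf_injective f hf] at hxp
    rw [h x hx hxp fun y hy => hf (by
      rw [map_mul, map_mul]; exact hxc (f y) (by rw [pCoreOf_map f hf]; exact ⟨y, hy, rfl⟩)), map_one]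

/-- In parabolic characteristic `p`, an overgroup of a Sylow subgroup with nontrivial `O_p` lies in `𝓛`. -/
theorem mem_charPSubgroups_of_sylow_le (hG : IsOfParabolicCharacteristic p G) (T : Sylow p G)
    {L : Subgroup G} (hTL : (T : Subgroup G) ≤ L) (hne : pCoreOf p L ≠ ⊥) : L ∈ charPSubgroups p G := by
  refine mem_charPSubgroups_iff.2 ⟨hne, ?_⟩
  set R := pCoreOf p L
  set N := normalizer (R : Set G)
  have hLN : L ≤ N := le_normalizer_pCoreOf L
  have hN : CharPElements p N :=
    charPElements_iff.2 (hG R (isPGroup_pCoreOf L) hne ⟨T, hTL.trans hLN⟩)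
  have hNR : pCoreOf p N ≤ R := le_pCoreOf
    (((isSylIn_top T).mono (hTL.trans hLN) le_top).pCoreOf_le.trans hTL)
    (hLN.trans (le_normalizer_pCoreOf N)) (isPGroup_pCoreOf N)
  set C := centralizer (R : Set G)
  have hCp : IsPGroup p C := CfsgLib.PLocal.isPGroup_of_forall_coprime fun x hx hxp =>
    hN x (Subgroup.centralizer_le_normalizer _ hx) hxp (centralizer_le hNR hx)
  have hn : L ≤ normalizer (C : Set G) := le_normalizer_centralizer' hLN
  have hsup := T.is_maximal' (hCp.to_sup_of_normal_left' T.isPGroup' (hTL.trans hn)) le_sup_right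
  exact le_pCoreOf ((le_sup_left.trans hsup.le).trans hTL) hn hCp

theorem mem_charPSubgroups_of_normal (hG : IsOfParabolicCharacteristic p G) (T : Sylow p G)
    {L U : Subgroup G} (hTL : (T : Subgroup G) ≤ L) (hUL : U ≤ L) (hn : L ≤ normalizer (U : Set G))
    (hU : IsPGroup p U) (hU1 : U ≠ ⊥) : L ∈ charPSubgroups p G :=
  mem_charPSubgroups_of_sylow_le hG T hTL fun h => hU1 (le_bot_iff.1 ((le_pCoreOf hUL hn hU).trans h.le))

theorem exists_maxCharP_ge {L : Subgroup G} (hL : L ∈ charPSubgroups p G) :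
    ∃ X ∈ maxCharPSubgroups p G, L ≤ X := by
  obtain ⟨X, hX, hXmax⟩ := Set.Finite.exists_maximal
    (Set.toFinite {X : Subgroup G | X ∈ charPSubgroups p G ∧ L ≤ X}) ⟨L, hL, le_rfl⟩
  exact ⟨X, ⟨hX.1, fun Z hZ hXZ => le_antisymm (hXmax ⟨hZ, hX.2.trans hXZ⟩ hXZ) hXZ⟩, hX.2⟩

/-- `Y` is monotone along overgroups of a common Sylow subgroup. -/
theorem largest_mono {R L T : Subgroup G} (hL : CharPElements p L) (hT : IsSylIn p L T) (hTR : T ≤ R)
    (hRL : R ≤ L) : largestPReducedOf p R ≤ largestPReducedOf p L := by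
  refine le_trans ?_ ((pRedIn_largest L).2 _ (pRedIn_normalClosure hL hT hTR hRL (pRedIn_largest R).1))
  exact le_trans
    (fun x hx => (⟨x, hx, by simp⟩ :
      x ∈ (largestPReducedOf p R).map (MulAut.conj ((1 : L) : G)).toMonoidHom))
    (le_iSup (fun m : L => (largestPReducedOf p R).map (MulAut.conj (m : G)).toMonoidHom) 1)

theorem largest_ne_bot (T : Sylow p G) {L : Subgroup G} (hTL : (T : Subgroup G) ≤ L)
    (hL : L ∈ charPSubgroups p G) : largestPReducedOf p L ≠ ⊥ := by
  have hTs : IsSylIn p L (T : Subgroup G) := (isSylIn_top T).mono hTL le_top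
  have hT1 : (T : Subgroup G) ≠ ⊥ := fun h =>
    (mem_charPSubgroups_iff.1 hL).1 (le_bot_iff.1 (hTs.pCoreOf_le.trans h.le))
  have hZ : (T : Subgroup G) ⊓ centralizer ((T : Subgroup G) : Set G) ≠ ⊥ :=
    inf_centralizer_ne_bot T.isPGroup' T.isPGroup' hT1 le_normalizer
  intro hb
  have hzero : omegaOne p ((T : Subgroup G) ⊓ centralizer ((T : Subgroup G) : Set G)) = ⊥ := by
    refine le_bot_iff.1 ((le_trans ?_ (omega_center_le_largest (charPElements_of_mem hL) hTs 1 (one_mem L))).trans hb.le)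
    rw [map_conj_one']
  set Z := (T : Subgroup G) ⊓ centralizer ((T : Subgroup G) : Set G)
  have hp : p ∣ Nat.card Z := by
    obtain ⟨k, hk⟩ := (T.isPGroup'.to_le (inf_le_left : Z ≤ _)).exists_card_eq
    rcases k with _ | k
    · exact absurd (Subgroup.card_eq_one.1 (by rw [hk, pow_zero])) hZ
    · exact hk ▸ dvd_pow_self p (Nat.succ_ne_zero k)
  obtain ⟨z, hz⟩ := exists_prime_orderOf_dvd_card' p hp
  have hzp : (z : G) ^ p = 1 := by
    rw [← hz, ← Subgroup.orderOf_coe]; exact pow_orderOf_eq_one _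
  have hmem : (z : G) ∈ omegaOne p Z :=
    mem_omega_center_iff.2 ⟨(mem_inf.1 z.2).1, (mem_inf.1 z.2).2, hzp⟩
  rw [hzero, mem_bot] at hmem
  have : orderOf z = 1 := orderOf_eq_one_iff.2 (Subtype.ext hmem)
  exact (Fact.out : p.Prime).one_lt.ne (this ▸ hz)

/-- A maximal member of `𝓛` over a Sylow subgroup contains the centralizer of its `Y`. -/
theorem centralizer_le_of_max (hG : IsOfParabolicCharacteristic p G) (T : Sylow p G) {X : Subgroup G}
    (hX : X ∈ maxCharPSubgroups p G) (hTX : (T : Subgroup G) ≤ X) :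
    centralizer (largestPReducedOf p X : Set G) ≤ X := by
  obtain ⟨hY, -⟩ := pRedIn_largest (p := p) X
  have hmem : dagger p X ∈ charPSubgroups p G := mem_charPSubgroups_of_normal hG T
    (hTX.trans le_sup_left) (hY.1.trans le_sup_left) (sup_le hY.2.1 (Subgroup.centralizer_le_normalizer _))
    (CfsgLib.PLocal.elemAb_isPGroup hY.2.2.1) (largest_ne_bot T hTX hX.1)
  exact le_sup_right.trans (hX.2 _ hmem le_sup_left).le

/-- Frattini argument inside the ambient group. -/
theorem frattini_isSylIn {L D S : Subgroup G} (hS : IsSylIn p D S) (hDL : D ≤ L)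
    (hn : L ≤ normalizer (D : Set G)) : L ≤ (L ⊓ normalizer (S : Set G)) ⊔ D := by
  intro l hl
  obtain ⟨c, hc, hcS⟩ := hS.exists_conj (Q := S.map (MulAut.conj l).toMonoidHom)
    ⟨(map_mono hS.1).trans (CfsgLib.Coprime.map_conj_of_mem_normalizer (hn hl)).le,
      hS.2.1.map _, by rw [CfsgLib.Coprime.card_map_conj, hS.2.2]⟩
  have h1 : c⁻¹ * l ∈ L ⊓ normalizer (S : Set G) := mem_inf.2 ⟨mul_mem (inv_mem (hDL hc)) hl,
    CfsgLib.PLocal.mem_normalizer_map_conj.2 (by
      rw [← CfsgLib.Coprime.map_conj_conj, ← hcS, map_conj_inv_cancel])⟩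
  have := mul_mem (mem_sup_right (S := L ⊓ normalizer (S : Set G)) hc) (mem_sup_left (T := D) h1)
  rwa [mul_inv_cancel_left] at this

theorem isSylIn_inf_centralizer {L T Y : Subgroup G} (hT : IsSylIn p L T)
    (hY : L ≤ normalizer (Y : Set G)) :
    IsSylIn p (L ⊓ centralizer (Y : Set G)) (T ⊓ centralizer (Y : Set G)) := by
  have h := isSylIn_inf_normal hT (inf_le_left : L ⊓ centralizer (Y : Set G) ≤ L)
    ((le_inf le_normalizer (le_normalizer_centralizer' hY)).trans inf_normalizer_le_normalizer_inf)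
  rwa [← inf_assoc, inf_eq_left.2 hT.1] at h

/-- The image of a subgroup with normal Sylow subgroup inside `O_p(M)` in `M/O_p(M)` lies in the Frattini
subgroup, if it has no proper supplement over the Sylow subgroup. -/
theorem map_mk_le_frattini_of_minimal {M D T T₀ : Subgroup G} (hDM : D ≤ M)
    (hn : M ≤ normalizer (D : Set G)) (hTM : T ≤ M) (hTp : IsPGroup p T) (hT₀ : IsSylIn p D T₀)
    (hT₀O : T₀ ≤ pCoreOf p M)
    (hmin : ∀ M' : Subgroup G, T ≤ M' → M' ≤ M → M ≤ M' ⊔ D → M' = M) :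
    (D.subgroupOf M).map (QuotientGroup.mk' (pCore p M)) ≤ frattini (↥M ⧸ pCore p M) := by
  have hpn : (pCore p M).Normal := normal_pCore
  set π := QuotientGroup.mk' (pCore p M)
  have hπ : Function.Surjective π := QuotientGroup.mk'_surjective _
  set D' := D.subgroupOf M
  have hDn : D'.Normal := normal_subgroupOf_of_le_normalizer hn
  have hCn : (D'.map π).Normal := hDn.map π hπ
  have hC : ¬ p ∣ Nat.card (D'.map π) := by
    intro h
    have h1 : Nat.card (D'.map π) = (pCore p M).relIndex D' := by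
      rw [show (pCore p M).relIndex D' = π.ker.relIndex D' by rw [QuotientGroup.ker_mk'],
        Subgroup.relIndex_ker]
    have h2 : (pCore p M).relIndex D' ∣ (T₀.subgroupOf M).relIndex D' := by
      refine Subgroup.relIndex_dvd_of_le_left _ fun x hx => ?_
      obtain ⟨y, hy, hyx⟩ := hT₀O (mem_subgroupOf.1 hx)
      rwa [← M.subtype_injective hyx]
    rw [h1] at h
    refine hT₀.relIndex_not_dvd ?_
    rw [← Subgroup.relIndex_subgroupOf hDM]
    exact h.trans h2
  refine le_iInf₂ fun K hK => ?_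
  by_contra hnot
  have htop : K ⊔ D'.map π = ⊤ := hK.2 _ (lt_of_le_of_ne le_sup_left fun he => hnot (he ▸ le_sup_right))
  have hidx : ¬ p ∣ K.index := by
    intro h
    refine hC (h.trans ?_)
    set C' := D'.map π
    have e1 : C'.relIndex K = C'.index := by
      rw [← Subgroup.relIndex_sup_right, htop, Subgroup.relIndex_top_right]
    have e2 : Nat.card (C' ⊓ K : Subgroup _) * C'.index = Nat.card K := by
      rw [← e1, ← Subgroup.inf_relIndex_right, ← Subgroup.relIndex_bot_left, ← Subgroup.relIndex_bot_left]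
      exact Subgroup.relIndex_mul_relIndex _ _ _ bot_le inf_le_right
    have e3 : Nat.card C' = Nat.card (C' ⊓ K : Subgroup _) * K.index := by
      apply Nat.eq_of_mul_eq_mul_right (Nat.pos_of_ne_zero C'.index_ne_zero_of_finite)
      rw [Subgroup.card_mul_index, mul_right_comm, e2, Subgroup.card_mul_index]
    exact Dvd.intro_left _ e3.symm
  set P := (T.subgroupOf M).map π
  have hP : IsPGroup p P := (hTp.comap_of_injective _ M.subtype_injective).map π
  obtain ⟨q, hq⟩ := hP.nonempty_fixed_point_of_prime_not_dvd_card ((↥M ⧸ pCore p M) ⧸ K)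
    (by rwa [← Subgroup.index_eq_card])
  obtain ⟨g, rfl⟩ := QuotientGroup.mk_surjective q
  have hPK : P ≤ K.map (MulAut.conj g).toMonoidHom := by
    intro x hx
    have h1 := hq ⟨x, hx⟩
    rw [CfsgLib.Coprime.mem_map_conj]
    have h2 : (QuotientGroup.mk (x * g) : _ ⧸ K) = QuotientGroup.mk g := h1
    have h3 := QuotientGroup.eq.1 h2.symm
    simpa [mul_assoc] using h3
  set K' := K.map (MulAut.conj g).toMonoidHom
  have htop' : K' ⊔ D'.map π = ⊤ := by
    have h := congrArg (Subgroup.map (MulAut.conj g).toMonoidHom) htop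
    rwa [Subgroup.map_sup, Subgroup.map_top_of_surjective _ (MulAut.conj g).surjective,
      show (D'.map π).map (MulAut.conj g).toMonoidHom = D'.map π from
        CfsgLib.Coprime.map_conj_of_mem_normalizer (CfsgLib.Comp.le_normalizer_of_normal' _ ⊤ (mem_top g))] at h
  set M' := (K'.comap π).map M.subtype
  have hTM' : T ≤ M' := fun t ht => ⟨⟨t, hTM ht⟩, hPK ⟨⟨t, hTM ht⟩, ht, rfl⟩, rfl⟩
  have hcov : M ≤ M' ⊔ D := by
    intro m hm
    have hm1 : π ⟨m, hm⟩ ∈ K' ⊔ D'.map π := htop'.ge (mem_top _)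
    obtain ⟨k, hk, c, ⟨d, hd, rfl⟩, hkc⟩ := Subgroup.mem_sup_of_normal_right.1 hm1
    have h2 : (⟨m, hm⟩ : M) * d⁻¹ ∈ K'.comap π := by
      rw [mem_comap, map_mul, map_inv, ← hkc, mul_inv_cancel_right]; exact hk
    have h3 : m * (d : G)⁻¹ ∈ M' := ⟨_, h2, rfl⟩
    have := mul_mem (mem_sup_left (T := D) h3) (mem_sup_right (S := M') (mem_subgroupOf.1 hd))
    rwa [inv_mul_cancel_right] at this
  have hMM' := hmin M' hTM' (map_subtype_le _) hcov
  refine hK.1 (eq_top_iff.2 fun x _ => ?_)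
  obtain ⟨y, hy⟩ := hπ (g * x * g⁻¹)
  obtain ⟨z, hz, hzy⟩ := hMM'.ge y.2
  rw [M.subtype_injective hzy] at hz
  replace hz : π y ∈ K' := hz
  rw [hy, CfsgLib.Coprime.mem_map_conj] at hz
  simpa [mul_assoc] using hz

/-- The existence of a member of `𝔐` over a member of `𝓛`. -/
theorem exists_frakM (hG : IsOfParabolicCharacteristic p G) (T : Sylow p G) {L : Subgroup G}
    (hTL : (T : Subgroup G) ≤ L) (hL : L ∈ charPSubgroups p G) :
    ∃ M Ls : Subgroup G, (T : Subgroup G) ≤ M ∧ IsInFrakM p M ∧ (T : Subgroup G) ≤ Ls ∧ Ls ≤ M ∧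
      Ls ∈ charPSubgroups p G ∧ largestPReducedOf p L = largestPReducedOf p Ls ∧
      largestPReducedOf p L ≤ largestPReducedOf p M ∧
      L ⊔ centralizer (largestPReducedOf p L : Set G) = Ls ⊔ centralizer (largestPReducedOf p L : Set G) := by
  set Y := largestPReducedOf p L
  set C := centralizer (Y : Set G)
  set Ld := L ⊔ C with hLd
  obtain ⟨hY, -⟩ := pRedIn_largest (p := p) L
  have hYp : IsPGroup p Y := CfsgLib.PLocal.elemAb_isPGroup hY.2.2.1
  have hY1 : Y ≠ ⊥ := largest_ne_bot T hTL hL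
  have hLdN : Ld ≤ normalizer (Y : Set G) := sup_le hY.2.1 (Subgroup.centralizer_le_normalizer _)
  have hTLd : (T : Subgroup G) ≤ Ld := hTL.trans le_sup_left
  have hYT : Y ≤ (T : Subgroup G) :=
    hY.le_pCoreOf.trans ((isSylIn_top T).mono hTL le_top).pCoreOf_le
  have hLdmem : Ld ∈ charPSubgroups p G :=
    mem_charPSubgroups_of_normal hG T hTLd (hY.1.trans le_sup_left) hLdN hYp hY1
  have hYLd : Y ≤ largestPReducedOf p Ld :=
    (pRedIn_largest Ld).2 _ (hY.transfer (hY.1.trans le_sup_left) hLdN (le_sup_left.trans le_sup_left) le_rfl)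
  set Good := {X : Subgroup G | (T : Subgroup G) ≤ X ∧ X ∈ maxCharPSubgroups p G ∧
    Y ≤ largestPReducedOf p X ∧ L ≤ (X ⊓ Ld) ⊔ C}
  have hne : Good.Nonempty := by
    obtain ⟨X, hX, hle⟩ := exists_maxCharP_ge hLdmem
    refine ⟨X, hTLd.trans hle, hX, hYLd.trans (largest_mono (charPElements_of_mem hX.1)
      ((isSylIn_top T).mono (hTLd.trans hle) le_top) hTLd hle), ?_⟩
    exact le_trans (le_inf (le_sup_left.trans hle) le_sup_left) le_sup_left
  obtain ⟨X, ⟨hTX, hX, hYX, hLX⟩, hXmax⟩ :=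
    Set.Finite.exists_maximalFor (largestPReducedOf p) Good (Set.toFinite _) hne
  set YX := largestPReducedOf p X
  set CX := centralizer (YX : Set G)
  have hCXX : CX ≤ X := centralizer_le_of_max hG T hX hTX
  have hTsX : IsSylIn p X (T : Subgroup G) := (isSylIn_top T).mono hTX le_top
  have hcharX := charPElements_of_mem hX.1
  obtain ⟨hYXr, -⟩ := pRedIn_largest (p := p) X
  obtain ⟨M, ⟨hTM, hMX, hXM⟩, hMmin⟩ := Set.Finite.exists_minimal
    (Set.toFinite {M : Subgroup G | (T : Subgroup G) ≤ M ∧ M ≤ X ∧ X ≤ M ⊔ CX})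
    ⟨X, hTX, le_rfl, le_sup_left⟩
  have hYXT : YX ≤ (T : Subgroup G) := hYXr.le_pCoreOf.trans hTsX.pCoreOf_le
  have hMN : M ≤ normalizer (YX : Set G) := hMX.trans hYXr.2.1
  have hYM : largestPReducedOf p M = YX := le_antisymm (largest_mono hcharX hTsX hTM hMX)
    ((pRedIn_largest M).2 _ (hYXr.transfer (hYXT.trans hTM) hMN hXM (hMX.trans le_sup_left)))
  have hMsup : M ⊔ CX = X := le_antisymm (sup_le hMX hCXX) hXM
  have hMmem : M ∈ charPSubgroups p G := mem_charPSubgroups_of_normal hG T hTM (hYXT.trans hTM) hMN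
    (CfsgLib.PLocal.elemAb_isPGroup hYXr.2.2.1) (largest_ne_bot T hTX hX.1)
  set D := M ⊓ CX
  set T₀ := (T : Subgroup G) ⊓ CX
  have hTsM : IsSylIn p M (T : Subgroup G) := (isSylIn_top T).mono hTM le_top
  have hT₀ : IsSylIn p D T₀ := isSylIn_inf_centralizer hTsM hMN
  have hDn : M ≤ normalizer (D : Set G) :=
    (le_inf le_normalizer (le_normalizer_centralizer' hMN)).trans inf_normalizer_le_normalizer_inf
  have hTT₀ : (T : Subgroup G) ≤ normalizer (T₀ : Set G) :=
    normalizes_inf le_normalizer (hTX.trans (le_normalizer_centralizer' hYXr.2.1))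
  have hMT₀ : M ≤ normalizer (T₀ : Set G) := by
    refine le_trans ?_ (inf_le_right : M ⊓ normalizer (T₀ : Set G) ≤ _)
    refine hMmin ⟨le_inf hTM hTT₀, inf_le_left.trans hMX, ?_⟩ inf_le_left
    exact hXM.trans (sup_le ((frattini_isSylIn hT₀ inf_le_left hDn).trans
      (sup_le le_sup_left (inf_le_right.trans le_sup_right))) le_sup_right)
  have hT₀O : T₀ ≤ pCoreOf p M := le_pCoreOf (inf_le_left.trans hTM) hMT₀ hT₀.2.1
  have hclosed : IsPClosed p ↥D := isPClosed_of_forall_le hT₀.2.1 (inf_le_left.trans hMT₀)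
    fun Q hQ hQD => by
      have h1 := hQ.to_sup_of_normal_right' hT₀.2.1 (hQD.trans (inf_le_left.trans hMT₀))
      have h2 := hT₀.eq_of_le le_sup_right (sup_le hQD hT₀.1) h1
      exact le_sup_left.trans h2.le
  have hfr : (D.subgroupOf M).map (QuotientGroup.mk' (pCore p M)) ≤ frattini (↥M ⧸ pCore p M) :=
    map_mk_le_frattini_of_minimal inf_le_left hDn hTM T.isPGroup' hT₀ hT₀O fun M' h1 h2 h3 =>
      le_antisymm h2 (hMmin ⟨h1, h2.trans hMX, hXM.trans (sup_le (h3.trans
        (sup_le le_sup_left (inf_le_right.trans le_sup_right))) le_sup_right)⟩ h2)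
  have hfrak : IsInFrakM p M := by
    refine ⟨hMmem, ?_, ?_, ?_, ?_, ?_⟩
    · rw [hYM, hMsup]; exact hX
    · intro X' hX' hMX'
      rw [hYM, hMsup]
      have hTs' : IsSylIn p X' (T : Subgroup G) := (isSylIn_top T).mono (hTM.trans hMX') le_top
      have h1 : YX ≤ largestPReducedOf p X' :=
        hYM.ge.trans (largest_mono (charPElements_of_mem hX'.1) hTs' hTM hMX')
      have hgood : X' ∈ Good := by
        refine ⟨hTM.trans hMX', hX', hYX.trans h1, hLX.trans (sup_le ?_ le_sup_right)⟩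
        intro x hx
        obtain ⟨c, hc, m, hm, rfl⟩ := CfsgLib.Comp.exists_mul_of_mem_sup
          (le_normalizer_centralizer' hMN) (((hXM.trans (sup_comm M CX).le)) (mem_inf.1 hx).1)
        have hcC : c ∈ C := centralizer_le hYX hc
        have hmLd : m ∈ Ld := by
          have := mul_mem (inv_mem (mem_sup_right (S := L) hcC)) (mem_inf.1 hx).2
          rwa [inv_mul_cancel_left] at this
        exact mul_mem (mem_sup_right hcC) (mem_sup_left (mem_inf.2 ⟨hMX' hm, hmLd⟩))
      have h2 : largestPReducedOf p X' = YX := le_antisymm (hXmax hgood h1) h1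
      have hC' := centralizer_le_of_max hG T hX' (hTM.trans hMX')
      rw [h2] at hC'
      exact hX.2 X' hX'.1 (hMsup.ge.trans (sup_le hMX' hC'))
    · rw [hYM, hMsup]
    · rw [hYM]; exact hclosed
    · rw [hYM]; exact hfr
  have hTs : IsSylIn p Ld (T : Subgroup G) := (isSylIn_top T).mono hTLd le_top
  set T₁ := (T : Subgroup G) ⊓ C
  set W := M ⊓ Ld
  set Ls := W ⊓ normalizer (T₁ : Set G)
  have hCn : Ld ≤ normalizer (C : Set G) := le_normalizer_centralizer' hLdN
  have hTW : (T : Subgroup G) ≤ W := le_inf hTM hTLd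
  have hTLs : (T : Subgroup G) ≤ Ls := le_inf hTW (normalizes_inf le_normalizer (hTLd.trans hCn))
  have hWLs : W ≤ Ls ⊔ C := by
    refine (frattini_isSylIn (isSylIn_inf_centralizer ((isSylIn_top T).mono hTW le_top)
      ((inf_le_right : W ≤ Ld).trans hLdN)) inf_le_left ?_).trans (sup_le le_sup_left
      (inf_le_right.trans le_sup_right))
    exact (le_inf le_normalizer ((inf_le_right : W ≤ Ld).trans hCn)).trans inf_normalizer_le_normalizer_inf
  have hLsLd : Ls ≤ Ld := inf_le_left.trans inf_le_right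
  have hLLs : L ≤ Ls ⊔ C := by
    refine hLX.trans (sup_le ?_ le_sup_right)
    intro x hx
    obtain ⟨c, hc, m, hm, rfl⟩ := CfsgLib.Comp.exists_mul_of_mem_sup
      (le_normalizer_centralizer' hMN) (((hXM.trans (sup_comm M CX).le)) (mem_inf.1 hx).1)
    have hcC : c ∈ C := centralizer_le hYX hc
    have hmLd : m ∈ Ld := by
      have := mul_mem (inv_mem (mem_sup_right (S := L) hcC)) (mem_inf.1 hx).2
      rwa [inv_mul_cancel_left] at this
    exact mul_mem (mem_sup_right hcC) (hWLs (mem_inf.2 ⟨hm, hmLd⟩))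
  have hLsN : Ls ≤ normalizer (Y : Set G) := hLsLd.trans hLdN
  have hLsY : PRedIn p Ls Y := hY.transfer (hYT.trans hTLs) hLsN hLLs hLsLd
  have hLsmem : Ls ∈ charPSubgroups p G :=
    mem_charPSubgroups_of_normal hG T hTLs (hYT.trans hTLs) hLsN hYp hY1
  have hOLs : pCoreOf p Ls = T₁ := le_antisymm
    (le_inf ((isSylIn_top T).mono hTLs le_top).pCoreOf_le hLsY.pCoreOf_le_centralizer)
    (le_pCoreOf (inf_le_left.trans hTLs) inf_le_right (T.isPGroup'.to_le inf_le_left))
  have hYLs : largestPReducedOf p Ls = Y := by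
    refine le_antisymm ?_ ((pRedIn_largest Ls).2 _ hLsY)
    have h1 := (pRedIn_largest (p := p) Ls).1.le_center_pCoreOf
    rw [hOLs] at h1
    exact h1.trans (largest_eq_omega_center (charPElements_of_mem hL) ((isSylIn_top T).mono hTL le_top)).ge
  refine ⟨M, Ls, hTM, hfrak, hTLs, inf_le_left.trans inf_le_left, hLsmem, hYLs.symm, ?_, ?_⟩
  · rw [hYM]; exact hYX
  · exact le_antisymm (sup_le hLLs le_sup_right) (sup_le hLsLd le_sup_right)

section frakM

variable {M : Subgroup G} (T : Sylow p G)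

/-- `N(U) ≤ M†` for the nontrivial normal `p`-subgroups `U` of `M`. -/
theorem normalizer_le_dagger (hG : IsOfParabolicCharacteristic p G) (hTM : (T : Subgroup G) ≤ M)
    (hM : IsInFrakM p M) {U : Subgroup G} (hU : IsPGroup p U) (hU1 : U ≠ ⊥)
    (hMU : M ≤ normalizer (U : Set G)) : normalizer (U : Set G) ≤ dagger p M := by
  have hmem : normalizer (U : Set G) ∈ charPSubgroups p G :=
    mem_charPSubgroups_of_normal hG T (hTM.trans hMU) le_normalizer le_rfl hU hU1
  obtain ⟨X, hX, hle⟩ := exists_maxCharP_ge hmem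
  exact hle.trans (hM.2.2.1 X hX (hMU.trans hle)).le

theorem dagger_le_normalizer (M : Subgroup G) :
    dagger p M ≤ normalizer (largestPReducedOf p M : Set G) :=
  sup_le (pRedIn_largest M).1.2.1 (Subgroup.centralizer_le_normalizer _)

/-- `N(Y_M) = M†`. -/
theorem normalizer_largest_eq (hG : IsOfParabolicCharacteristic p G) (hTM : (T : Subgroup G) ≤ M)
    (hM : IsInFrakM p M) : normalizer (largestPReducedOf p M : Set G) = dagger p M :=
  le_antisymm (normalizer_le_dagger T hG hTM hM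
    (CfsgLib.PLocal.elemAb_isPGroup (pRedIn_largest M).1.2.2.1) (largest_ne_bot T hTM hM.1)
    (pRedIn_largest M).1.2.1) (dagger_le_normalizer M)

/-- `O_p(M) = C_T(Y_M)`. -/
theorem pCoreOf_frakM_eq (hTM : (T : Subgroup G) ≤ M) (hM : IsInFrakM p M) :
    pCoreOf p M = (T : Subgroup G) ⊓ centralizer (largestPReducedOf p M : Set G) := by
  obtain ⟨hY, -⟩ := pRedIn_largest (p := p) M
  set D := M ⊓ centralizer (largestPReducedOf p M : Set G)
  have hTsM : IsSylIn p M (T : Subgroup G) := (isSylIn_top T).mono hTM le_top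
  refine le_antisymm (le_inf hTsM.pCoreOf_le hY.pCoreOf_le_centralizer) ?_
  have hT₀ : IsSylIn p D ((T : Subgroup G) ⊓ centralizer (largestPReducedOf p M : Set G)) :=
    isSylIn_inf_centralizer hTsM hY.2.1
  have h1 : (T : Subgroup G) ⊓ centralizer (largestPReducedOf p M : Set G) ≤ pCoreOf p D := by
    intro x hx
    exact ⟨⟨x, hT₀.1 hx⟩, (isPClosed_iff.1 hM.2.2.2.2.1) _
      (hT₀.2.1.of_equiv (subgroupOfEquivOfLe hT₀.1).symm) (mem_subgroupOf.2 hx), rfl⟩
  refine h1.trans (le_pCoreOf ((pCoreOf_le D).trans inf_le_left) ?_ (isPGroup_pCoreOf D))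
  intro m hm
  apply CfsgLib.Comp.map_conj_eq_iff.1
  rw [← pCoreOf_map _ (MulAut.conj m).injective, CfsgLib.Comp.map_conj_eq_iff.2
    ((le_inf le_normalizer (le_normalizer_centralizer' hY.2.1)).trans inf_normalizer_le_normalizer_inf hm)]

/-- `Y_M = Ω₁(Z(O_p(M)))`. -/
theorem largest_frakM_eq (hTM : (T : Subgroup G) ≤ M) (hM : IsInFrakM p M) :
    largestPReducedOf p M = omegaOne p (pCoreOf p M ⊓ centralizer (pCoreOf p M : Set G)) := by
  rw [pCoreOf_frakM_eq T hTM hM]
  exact largest_eq_omega_center (charPElements_of_mem hM.1) ((isSylIn_top T).mono hTM le_top)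

theorem normalizer_pCoreOf_le_normalizer_largest (hTM : (T : Subgroup G) ≤ M) (hM : IsInFrakM p M) :
    normalizer (pCoreOf p M : Set G) ≤ normalizer (largestPReducedOf p M : Set G) := by
  intro n hn
  apply CfsgLib.PLocal.mem_normalizer_map_conj.2
  rw [largest_frakM_eq T hTM hM]
  have h1 := CfsgLib.Coprime.map_conj_of_mem_normalizer
    ((le_inf le_rfl (CfsgLib.Comp.normalizer_le_normalizer_centralizer (pCoreOf p M))).trans
      inf_normalizer_le_normalizer_inf hn)
  show (omegaOne p _).map _ = _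
  rw [CfsgLib.PLocal.omegaOne_map_equiv, h1]

theorem normalizer_pCoreOf_le_dagger (hG : IsOfParabolicCharacteristic p G) (hTM : (T : Subgroup G) ≤ M)
    (hM : IsInFrakM p M) : normalizer (pCoreOf p M : Set G) ≤ dagger p M :=
  (normalizer_pCoreOf_le_normalizer_largest T hTM hM).trans (normalizer_largest_eq T hG hTM hM).le

/-- `O_p(M)` is a Sylow subgroup of `C(Y_M)`. -/
theorem isSylIn_centralizer_largest (hTM : (T : Subgroup G) ≤ M) (hM : IsInFrakM p M) :
    IsSylIn p (centralizer (largestPReducedOf p M : Set G)) (pCoreOf p M) := by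
  have h := isSylIn_inf_centralizer (Y := largestPReducedOf p M)
    ((isSylIn_top T).mono (hTM.trans le_sup_left) le_top : IsSylIn p (dagger p M) (T : Subgroup G))
    (dagger_le_normalizer M)
  rw [inf_eq_right.2 (le_sup_right : centralizer (largestPReducedOf p M : Set G) ≤ dagger p M)] at h
  rwa [pCoreOf_frakM_eq T hTM hM]

/-- A `p`-subgroup centralizing `Y_M` and normalizing `O_p(M)` lies in `O_p(M)`. -/
theorem le_pCoreOf_of_le_centralizer (hTM : (T : Subgroup G) ≤ M) (hM : IsInFrakM p M) {A : Subgroup G}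
    (hA : IsPGroup p A) (hAC : A ≤ centralizer (largestPReducedOf p M : Set G))
    (hAN : A ≤ normalizer (pCoreOf p M : Set G)) : A ≤ pCoreOf p M := by
  have hS := isSylIn_centralizer_largest T hTM hM
  exact le_sup_left.trans (hS.eq_of_le le_sup_right (sup_le hAC hS.1)
    (hA.to_sup_of_normal_right' hS.2.1 hAN)).le

end frakM

end CfsgLib.Amalgam
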