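import Cfsg.Prelude.Def_SylowControl
import Cfsg.Agent.Lib.Coprime.Basic

/-!
Families controlling Sylow intersections: transport by conjugation.
-/

set_option autoImplicit false

namespace CfsgLib.Amalgam

open Cfsg Subgroup

variable {G : Type*} [Group G] {p : ℕ}

theorem sylowMembers_map_conj [Finite G] [Fact p.Prime] {𝓕 : Set (Subgroup G)} (h𝓕 : IsNormalSet 𝓕)
    {S X : Subgroup G} (hX : X ∈ sylowMembers p 𝓕 S) (g : G) :
    X.map (MulAut.conj g).toMonoidHom ∈ sylowMembers p 𝓕 (S.map (MulAut.conj g).toMonoidHom) := by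
  obtain ⟨hmem, P, hP⟩ := hX
  refine ⟨?_, ?_⟩
  · have := h𝓕 X hmem g⁻¹
    rwa [subgroupConjRight, inv_inv] at this
  let e : X ≃* (X.map (MulAut.conj g).toMonoidHom : Subgroup G) :=
    X.equivMapOfInjective _ (MulAut.conj g).injective
  refine ⟨P.mapSurjective (f := e.toMonoidHom) e.surjective, ?_⟩
  rw [← Subgroup.map_inf _ _ _ (MulAut.conj g).injective, ← hP]
  show ((P : Subgroup X).map e.toMonoidHom).map _ = _
  rw [Subgroup.map_map, Subgroup.map_map]
  congr 1

theorem prod_take_ofFn_telescope {n : ℕ} (z : ℕ → G) (h0 : z 0 = 1) (y : Fin n → G)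
    (hy : ∀ i : Fin n, z (i.val + 1) = z i.val * y i) :
    ∀ k, k ≤ n → ((List.ofFn y).take k).prod = z k := by
  intro k
  induction k with
  | zero => intro _; simp [h0]
  | succ k ih =>
    intro hk
    rw [List.prod_take_succ _ _ (by rw [List.length_ofFn]; omega), ih (by omega), List.getElem_ofFn,
      hy ⟨k, by omega⟩]

theorem coe_sylow_smul [Finite G] (g : G) (S : Sylow p G) :
    ((g • S : Sylow p G) : Subgroup G) = (S : Subgroup G).map (MulAut.conj g).toMonoidHom := by
  rw [Sylow.coe_subgroup_smul]; rfl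

theorem map_conj_eq_self_of_mem {Y : Subgroup G} {y : G} (hy : y ∈ Y) :
    Y.map (MulAut.conj y).toMonoidHom = Y := by
  ext x
  constructor
  · rintro ⟨w, hw, rfl⟩; exact mul_mem (mul_mem hy hw) (inv_mem hy)
  · exact fun hx => ⟨y⁻¹ * x * y, mul_mem (mul_mem (inv_mem hy) hx) hy, by simp [mul_assoc]⟩

end CfsgLib.Amalgam
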