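import Cfsg.Prelude.Def_SylowChains
import Cfsg.Agent.Lib.Amalgam.SylowControl
import Cfsg.Agent.Lib.PLocal.SylowIn
import Mathlib.Logic.Relation

/-!
# Chains of Sylow subgroups linked through members of a family
-/

set_option autoImplicit false

namespace CfsgLib.Amalgam

open Cfsg Subgroup
open scoped Pointwise

variable {G : Type*} [Group G] [Finite G] {p : ℕ} [hp : Fact p.Prime]

/-- One step of a chain carrying `D`. -/
def LinkStep (𝓕 : Set (Subgroup G)) (D : Subgroup G) (R R' : Sylow p G) : Prop :=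
  ∃ (X : Subgroup G) (x : G), X ∈ sylowMembers p 𝓕 (R : Subgroup G) ∧ X ∈ sylowMembers p 𝓕 (R' : Subgroup G) ∧
    x ∈ X ∧ subgroupConjRight x (R' : Subgroup G) = (R : Subgroup G) ∧ D ≤ (R' : Subgroup G) ⊓ X

/-- A chain carrying `D`. -/
def Link (𝓕 : Set (Subgroup G)) (D : Subgroup G) : Sylow p G → Sylow p G → Prop :=
  Relation.ReflTransGen (LinkStep 𝓕 D)

omit [Finite G] hp in
theorem link_mono {𝓕 : Set (Subgroup G)} {D E : Subgroup G} (hDE : D ≤ E) {R R' : Sylow p G}
    (h : Link 𝓕 E R R') : Link 𝓕 D R R' := by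
  induction h with
  | refl => exact .refl
  | tail _ hstep ih =>
    obtain ⟨X, x, h1, h2, h3, h4, h5⟩ := hstep
    exact ih.tail ⟨X, x, h1, h2, h3, h4, hDE.trans h5⟩

omit [Finite G] hp in
theorem exists_chain_of_link {𝓕 : Set (Subgroup G)} {D : Subgroup G} {S T : Sylow p G} (h : Link 𝓕 D S T) :
    ∃ (n : ℕ) (c : Fin (n + 1) → Sylow p G) (X : Fin n → Subgroup G) (x : Fin n → G),
      c 0 = S ∧ c (Fin.last n) = T ∧
      ∀ i : Fin n,
        X i ∈ sylowMembers p 𝓕 (c i.castSucc : Subgroup G) ∧ X i ∈ sylowMembers p 𝓕 (c i.succ : Subgroup G) ∧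
        x i ∈ X i ∧ subgroupConjRight (x i) (c i.succ : Subgroup G) = (c i.castSucc : Subgroup G) ∧
        D ≤ (c i.succ : Subgroup G) ⊓ X i := by
  induction h using Relation.ReflTransGen.head_induction_on with
  | refl => exact ⟨0, fun _ => T, Fin.elim0, Fin.elim0, rfl, rfl, fun i => i.elim0⟩
  | @head a b hab _ ih =>
    obtain ⟨n, c, X, x, h0, hn, hc⟩ := ih
    obtain ⟨Y, y, h1, h2, h3, h4, h5⟩ := hab
    refine ⟨n + 1, Fin.cons a c, Fin.cons Y X, Fin.cons y x, rfl, ?_, fun i => ?_⟩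
    · rw [show Fin.last (n + 1) = (Fin.last n).succ from rfl, Fin.cons_succ, hn]
    · cases i using Fin.cases with
      | zero =>
        simp only [Fin.castSucc_zero, Fin.cons_zero, Fin.cons_succ, h0]
        exact ⟨h1, h2, h3, h4, h5⟩
      | succ j =>
        simp only [← Fin.succ_castSucc, Fin.cons_succ]
        exact hc j

theorem controls_of_link {𝓕 : Set (Subgroup G)}
    (h : ∀ S T : Sylow p G, S ≠ T → (S : Subgroup G) ⊓ (T : Subgroup G) ≠ ⊥ →
      Link 𝓕 ((S : Subgroup G) ⊓ (T : Subgroup G)) S T) : ControlsSylowIntersections p 𝓕 :=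
  fun S T h1 h2 => exists_chain_of_link (h S T h1 h2)

/-- A Sylow subgroup contains every member which meets it in a Sylow and contains some Sylow subgroup. -/
theorem sylow_le_of_member {𝓕 : Set (Subgroup G)} {X : Subgroup G} {S P : Sylow p G}
    (hX : X ∈ sylowMembers p 𝓕 (S : Subgroup G)) (hP : (P : Subgroup G) ≤ X) : (S : Subgroup G) ≤ X := by
  obtain ⟨-, U, hU⟩ := hX
  have h1 : Nat.card (S : Subgroup G) ≤ Nat.card ↥((S : Subgroup G) ⊓ X) := by
    rw [← hU, card_map_of_injective X.subtype_injective,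
      Nat.card_congr ((U.equiv (P.subtype hP)).toEquiv), Sylow.coe_subtype,
      Nat.card_congr (subgroupOfEquivOfLe hP).toEquiv, Nat.card_congr (P.equiv S).toEquiv]
  exact inf_eq_left.1 (eq_of_le_of_card_ge inf_le_left h1)

theorem member_of_sylow_le {𝓕 : Set (Subgroup G)} {X : Subgroup G} {R : Sylow p G}
    (hX : X ∈ 𝓕) (h : (R : Subgroup G) ≤ X) : X ∈ sylowMembers p 𝓕 (R : Subgroup G) := by
  refine ⟨hX, R.subtype h, ?_⟩
  rw [Sylow.coe_subtype, map_subgroupOf_eq_of_le h, inf_eq_left.2 h]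

theorem inf_eq_map_sylow {M : Subgroup G} (Q : Sylow p ↥M) (R : Sylow p G)
    (h : (Q : Subgroup ↥M).map M.subtype ≤ (R : Subgroup G)) :
    (R : Subgroup G) ⊓ M = (Q : Subgroup ↥M).map M.subtype := by
  have h1 : ((R : Subgroup G) ⊓ M).subgroupOf M = (Q : Subgroup ↥M) :=
    Q.3 ((R.2.to_le inf_le_left).comap_of_injective M.subtype M.subtype_injective)
      (fun q hq => ⟨h ⟨q, hq, rfl⟩, q.2⟩)
  rw [← h1, map_subgroupOf_eq_of_le inf_le_right]

omit [Finite G] in
theorem exists_sylow_map_ge {M A : Subgroup G} (hA : IsPGroup p A) (h : A ≤ M) :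
    ∃ Q : Sylow p ↥M, A ≤ (Q : Subgroup ↥M).map M.subtype := by
  obtain ⟨Q, hQ⟩ := (hA.comap_of_injective M.subtype M.subtype_injective).exists_le_sylow
  exact ⟨Q, fun a ha => ⟨⟨a, h ha⟩, hQ ha, rfl⟩⟩

theorem mem_functorFamily_top (f : Subgroup G → Set (Subgroup G)) (R : Sylow p G) {F : Subgroup G}
    (hF : F ∈ f (R : Subgroup G)) : normalizer (F : Set G) ∈ functorFamily p f ⊤ := by
  refine ⟨R.subtype le_top, F, ?_, by rw [top_inf_eq]⟩
  rwa [Sylow.coe_subtype, map_subgroupOf_eq_of_le le_top]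

omit [Finite G] hp in
theorem mem_normalizerFunctor {f : Subgroup G → Set (Subgroup G)} (hf : IsNormalizerFunctor p f) {P F : Subgroup G}
    (hP : IsPGroup p P) (hF : F ∈ f P) :
    F ≤ P ∧ normalizer (P : Set G) ≤ normalizer (F : Set G) := (hf P hP).1 F hF

/-- The step data extracted from regularity of `M`. -/
theorem regular_chain {f : Subgroup G → Set (Subgroup G)} (hf : IsNormalizerFunctor p f) {M : Subgroup G}
    (hM : IsFunctorRegular p f M) {P Q : Sylow p ↥M} {D : Subgroup G} (hD : D ≠ ⊥)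
    (hP : D ≤ (P : Subgroup ↥M).map M.subtype) (hQ : D ≤ (Q : Subgroup ↥M).map M.subtype) :
    Relation.ReflTransGen (fun A A' : Sylow p ↥M => D ≤ (A : Subgroup ↥M).map M.subtype ∧
      D ≤ (A' : Subgroup ↥M).map M.subtype ∧
      ∃ (U : Sylow p ↥M) (F : Subgroup G), F ∈ f ((U : Subgroup ↥M).map M.subtype) ∧
        (A : Subgroup ↥M).map M.subtype ≤ normalizer (F : Set G) ∧
        (A' : Subgroup ↥M).map M.subtype ≤ normalizer (F : Set G) ∧
        ∃ x ∈ M, x ∈ normalizer (F : Set G) ∧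
          subgroupConjRight x ((A' : Subgroup ↥M).map M.subtype) = (A : Subgroup ↥M).map M.subtype) P Q := by
  by_cases hPQ : P = Q
  · rw [hPQ]
  have hDM : D ≤ M := hP.trans (map_subtype_le _)
  have hne : (P : Subgroup ↥M) ⊓ (Q : Subgroup ↥M) ≠ ⊥ := by
    intro h
    refine hD (eq_bot_iff.2 fun d hd => ?_)
    obtain ⟨a, ha, rfl⟩ := hP hd
    obtain ⟨b, hb, he⟩ := hQ hd
    have : a ∈ (P : Subgroup ↥M) ⊓ (Q : Subgroup ↥M) := ⟨ha, by rw [← Subtype.ext he]; exact hb⟩
    rw [h, mem_bot] at this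
    rw [mem_bot, this]; rfl
  obtain ⟨n, c, X, x, h0, hn, hc⟩ := hM P Q hPQ hne
  have hDc : ∀ j, D ≤ (c j : Subgroup ↥M).map M.subtype := by
    intro j
    cases j using Fin.cases with
    | zero => rw [h0]; exact hP
    | succ i =>
      intro d hd
      obtain ⟨a, ha, rfl⟩ := hP hd
      obtain ⟨b, hb, he⟩ := hQ hd
      exact ⟨a, ((hc i).2.2.2.2 (x := a) ⟨ha, by rw [← Subtype.ext he]; exact hb⟩).1, rfl⟩
  have hstep : ∀ j : Fin (n + 1), Relation.ReflTransGen (fun A A' : Sylow p ↥M =>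
      D ≤ (A : Subgroup ↥M).map M.subtype ∧ D ≤ (A' : Subgroup ↥M).map M.subtype ∧
      ∃ (U : Sylow p ↥M) (F : Subgroup G), F ∈ f ((U : Subgroup ↥M).map M.subtype) ∧
        (A : Subgroup ↥M).map M.subtype ≤ normalizer (F : Set G) ∧
        (A' : Subgroup ↥M).map M.subtype ≤ normalizer (F : Set G) ∧
        ∃ x ∈ M, x ∈ normalizer (F : Set G) ∧
          subgroupConjRight x ((A' : Subgroup ↥M).map M.subtype) = (A : Subgroup ↥M).map M.subtype) P (c j) := by
    intro j
    induction j using Fin.induction with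
    | zero => rw [h0]
    | succ i ih =>
      refine ih.tail ⟨hDc _, hDc _, ?_⟩
      obtain ⟨hm1, hm2, hxX, hconj, -⟩ := hc i
      obtain ⟨Z, ⟨U, F, hF, hZ⟩, hXZ⟩ := hm1.1
      have hUp : IsPGroup p ((U : Subgroup ↥M).map M.subtype) := U.2.map _
      have hUX : (U : Subgroup ↥M) ≤ X i := by
        rw [← hXZ, hZ]
        intro u hu
        exact ⟨u.2, (mem_normalizerFunctor hf hUp hF).2 (le_normalizer ⟨u, hu, rfl⟩)⟩
      have hle : ∀ A : Sylow p ↥M, (A : Subgroup ↥M) ≤ X i →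
          (A : Subgroup ↥M).map M.subtype ≤ normalizer (F : Set G) := by
        intro A hA
        rintro _ ⟨a, ha, rfl⟩
        have := hA ha
        rw [← hXZ, hZ] at this
        exact this.2
      refine ⟨U, F, hF, hle _ (sylow_le_of_member hm1 hUX), hle _ (sylow_le_of_member hm2 hUX), x i, (x i).2, ?_, ?_⟩
      · rw [← hXZ, hZ] at hxX
        exact hxX.2
      · rw [← hconj, subgroupConjRight, subgroupConjRight, map_map, map_map]
        congr 1
  exact hn ▸ hstep (Fin.last n)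

/-- A step inside the normalizer of a member of `f` of a Sylow subgroup of `G`. -/
theorem linkStep_of_top {f : Subgroup G → Set (Subgroup G)} {𝓕 : Set (Subgroup G)}
    (h𝓕 : functorFamily p f ⊤ ⊆ 𝓕) {D F : Subgroup G} {U R R' : Sylow p G} (hF : F ∈ f (U : Subgroup G))
    (hR : (R : Subgroup G) ≤ normalizer (F : Set G)) (hR' : (R' : Subgroup G) ≤ normalizer (F : Set G))
    {x : G} (hx : x ∈ normalizer (F : Set G)) (hconj : subgroupConjRight x (R' : Subgroup G) = (R : Subgroup G))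
    (hD : D ≤ (R' : Subgroup G)) : LinkStep 𝓕 D R R' :=
  ⟨normalizer (F : Set G), x, member_of_sylow_le (h𝓕 (mem_functorFamily_top f U hF)) hR,
    member_of_sylow_le (h𝓕 (mem_functorFamily_top f U hF)) hR', hx, hconj, le_inf hD (hD.trans hR')⟩

end CfsgLib.Amalgam
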