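import Mathlib.LinearAlgebra.Matrix.SpecialLinearGroup
import Mathlib.LinearAlgebra.Dimension.Free
import Mathlib.LinearAlgebra.FiniteDimensional.Defs
import Mathlib.FieldTheory.Finite.Basic
import Mathlib.Algebra.CharP.Two

/-!
# Modules for `SL₂(2ⁿ)` on which an element of order three is fixed-point-free

Higman's theorem: such a module is a sum of natural modules, exponent `4` does not occur, and
there is no nonzero equivariant bilinear map between two of them.
-/

set_option autoImplicit false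
set_option linter.unusedSectionVars false

namespace CfsgLib.Amalgam.Higman

open Matrix
open scoped MatrixGroups

variable {K : Type*} [Field K] [CharP K 2]

theorem add_self (a : K) : a + a = 0 := CharTwo.add_self_eq_zero a

theorem neg_eq (a : K) : -a = a := CharTwo.neg_eq a

/-- Upper unitriangular element. -/
def U (a : K) : SL(2, K) := ⟨!![1, a; 0, 1], by simp [Matrix.det_fin_two_of]⟩

/-- The flip, of determinant one in characteristic two. -/
def W (K : Type*) [Field K] [CharP K 2] : SL(2, K) := ⟨!![0, 1; 1, 0], by simp [Matrix.det_fin_two_of, neg_eq]⟩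

/-- Diagonal element. -/
def H (l : Kˣ) : SL(2, K) := ⟨!![(l : K), 0; 0, ((l⁻¹ : Kˣ) : K)], by simp [Matrix.det_fin_two_of]⟩

theorem U_val (a : K) : (U a).1 = !![1, a; 0, 1] := rfl

theorem W_val : (W K).1 = !![0, 1; 1, 0] := rfl

theorem H_val (l : Kˣ) : (H l).1 = !![(l : K), 0; 0, ((l⁻¹ : Kˣ) : K)] := rfl

theorem ext' {g h : SL(2, K)} (h₀ : g.1 0 0 = h.1 0 0) (h₁ : g.1 0 1 = h.1 0 1)
    (h₂ : g.1 1 0 = h.1 1 0) (h₃ : g.1 1 1 = h.1 1 1) : g = h := by
  apply Subtype.ext
  ext i j
  fin_cases i <;> fin_cases j <;> assumption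

theorem U_add (a b : K) : U (a + b) = U a * U b := by
  apply ext' <;> simp [SpecialLinearGroup.coe_mul, U_val, Matrix.mul_apply, Fin.sum_univ_two, add_comm]

theorem U_zero : U (0 : K) = 1 := by
  apply ext' <;> simp [SpecialLinearGroup.coe_mul, U_val]

theorem U_mul_self (a : K) : U a * U a = 1 := by
  rw [← U_add, add_self, U_zero]

theorem W_mul_W : (W K) * (W K) = 1 := by
  apply ext' <;> simp [SpecialLinearGroup.coe_mul, W_val, Matrix.mul_apply, Fin.sum_univ_two]

theorem H_mul (l m : Kˣ) : H (l * m) = H l * H m := by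
  apply ext' <;> simp [SpecialLinearGroup.coe_mul, H_val, Matrix.mul_apply, Fin.sum_univ_two, mul_comm]

theorem H_one : H (1 : Kˣ) = 1 := by
  apply ext' <;> simp [SpecialLinearGroup.coe_mul, H_val]

theorem H_W_H (b : Kˣ) : H b * (W K) * H b = (W K) := by
  apply ext' <;> simp [SpecialLinearGroup.coe_mul, H_val, W_val, Matrix.mul_apply, Fin.sum_univ_two]

theorem W_H (b : Kˣ) : (W K) * H b = H b⁻¹ * (W K) := by
  apply ext' <;> simp [SpecialLinearGroup.coe_mul, H_val, W_val, Matrix.mul_apply, Fin.sum_univ_two]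

theorem U_H (b : Kˣ) (a : K) : U a * H b = H b * U (a * ((b⁻¹ : Kˣ) : K) * ((b⁻¹ : Kˣ) : K)) := by
  apply ext' <;> simp [SpecialLinearGroup.coe_mul, U_val, H_val, Matrix.mul_apply, Fin.sum_univ_two]
  field_simp

variable [Fintype K]

theorem exists_sq_eq (a : K) : ∃ s : K, s * s = a := by
  obtain ⟨s, hs⟩ := FiniteField.isSquare_of_char_two (ringChar.eq K 2) a
  exact ⟨s, hs.symm⟩

theorem exists_sq_eq_unit (b : Kˣ) : ∃ s : Kˣ, s * s = b := by
  obtain ⟨s, hs⟩ := exists_sq_eq (b : K)
  have hs0 : s ≠ 0 := fun h => b.ne_zero (by rw [← hs, h, mul_zero])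
  exact ⟨Units.mk0 s hs0, Units.ext (by simpa using hs)⟩

theorem inv_cube : (U 1 * (W K) : SL(2, K))⁻¹ = (W K) * U 1 :=
  inv_eq_of_mul_eq_one_right (by
    rw [mul_assoc, ← mul_assoc (W K), W_mul_W, one_mul, U_mul_self])

/-- The element of order three satisfies `x³ = 1`. -/
theorem sq_x : (U 1 * (W K) : SL(2, K)) * (U 1 * (W K)) = (W K) * U 1 := by
  apply ext' <;> simp [SpecialLinearGroup.coe_mul, U_val, W_val, Matrix.mul_apply, Fin.sum_univ_two, add_self]

theorem conj_x (s b : Kˣ) (hs : s * s = b) :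
    H s * (U 1 * (W K)) * (H s)⁻¹ = U (b : K) * (H b * (W K)) := by
  subst hs
  rw [mul_inv_eq_iff_eq_mul]
  apply ext' <;> simp [SpecialLinearGroup.coe_mul, U_val, H_val, W_val, Matrix.mul_apply, Fin.sum_univ_two]
  all_goals field_simp

section module

variable {V : Type*} [AddCommGroup V] [DistribMulAction SL(2, K) V]

/-- The element `U 1 * W` of order three fixes only zero. -/
def Fpf (K V : Type*) [Field K] [CharP K 2] [AddCommGroup V] [DistribMulAction SL(2, K) V] : Prop :=
  ∀ v : V, (U 1 * (W K) : SL(2, K)) • v = v → v = 0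

/-- `u ↦ U a • u - u`. -/
def D (a : K) (v : V) : V := U a • v - v

theorem D_add (a : K) (v w : V) : D a (v + w) = D a v + D a w := by
  simp only [D, smul_add]; abel

theorem D_zero_left (v : V) : D (0 : K) v = 0 := by
  simp [D, U_zero]

theorem D_zero_right (a : K) : D a (0 : V) = 0 := by simp [D]

theorem D_sub (a : K) (v w : V) : D a (v - w) = D a v - D a w := by
  simp only [D, smul_sub]; abel

theorem D_neg (a : K) (v : V) : D a (-v) = -D a v := by
  simp only [D, smul_neg]; abel

theorem D_add_left (a c : K) (v : V) : D (a + c) v = D a v + D c v + D a (D c v) := by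
  simp only [D, U_add, mul_smul, smul_sub]; abel

theorem D_comm (a c : K) (v : V) : D a (D c v) = D c (D a v) := by
  simp only [D, smul_sub, smul_smul, ← U_add, add_comm a c]; abel

theorem D_D_self (a : K) (v : V) : D a (D a v) = -(D a v + D a v) := by
  simp only [D, smul_sub, smul_smul, U_mul_self, one_smul]; abel

theorem neg_of_two {v : V} (h : v + v = 0) : -v = v := neg_eq_of_add_eq_zero_left h

theorem two_smul_act {v : V} (g : SL(2, K)) (h : v + v = 0) : g • v + g • v = 0 := by
  rw [← smul_add, h, smul_zero]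

theorem two_D {v : V} (a : K) (h : v + v = 0) : D a v + D a v = 0 := by
  rw [← D_add, h, D_zero_right]

/-- Fixed points of the upper unitriangular group among the elements of order at most two. -/
def IsFix (K : Type*) {V : Type*} [Field K] [CharP K 2] [AddCommGroup V]
    [DistribMulAction SL(2, K) V] (p : V) : Prop :=
  p + p = 0 ∧ ∀ a : K, U a • p = p

theorem IsFix.D {p : V} (h : IsFix K p) (a : K) : D a p = 0 := by
  simp [Higman.D, h.2 a]

theorem IsFix.zero : IsFix K (0 : V) := ⟨add_zero 0, fun a => smul_zero _⟩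

theorem IsFix.add {p q : V} (hp : IsFix K p) (hq : IsFix K q) : IsFix K (p + q) :=
  ⟨by rw [add_add_add_comm, hp.1, hq.1, add_zero], fun a => by rw [smul_add, hp.2, hq.2]⟩

theorem IsFix.neg {p : V} (hp : IsFix K p) : IsFix K (-p) := by
  rwa [neg_of_two hp.1]

theorem isFix_of_D {p : V} (h : p + p = 0) (hD : ∀ a : K, Higman.D a p = 0) : IsFix K p :=
  ⟨h, fun a => sub_eq_zero.1 (hD a)⟩

theorem IsFix.smul_H {p : V} (hp : IsFix K p) (b : Kˣ) : IsFix K (H b • p) :=
  ⟨two_smul_act _ hp.1, fun a => by rw [smul_smul, U_H, mul_smul, hp.2]⟩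

theorem D_H (b : Kˣ) (a : K) (v : V) :
    D a (H b • v) = H b • D (a * ((b⁻¹ : Kˣ) : K) * ((b⁻¹ : Kˣ) : K)) v := by
  simp only [D, smul_sub, smul_smul, U_H]

variable (hf : Fpf K V)

include hf in
theorem fpf_y (b : Kˣ) (v : V) (hv : (U (b : K) * (H b * (W K))) • v = v) : v = 0 := by
  obtain ⟨s, hs⟩ := exists_sq_eq_unit b
  rw [← conj_x s b hs, mul_smul, mul_smul, ← eq_inv_smul_iff (g := H s)] at hv
  have := hf _ hv
  rw [inv_smul_eq_iff, smul_zero] at this; exact this

include hf in
/-- The basic relation. -/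
theorem rel (b : Kˣ) (v : V) :
    D (b : K) ((H b * (W K)) • v) + (H b * (W K)) • D (b : K) v = -v - ((H b * (W K)) • v + (H b * (W K)) • v) := by
  have hw : (H b * (W K) : SL(2, K)) * (H b * (W K)) = 1 := by
    rw [← mul_assoc, H_W_H, W_mul_W]
  set w : SL(2, K) := H b * (W K)
  set y : SL(2, K) := U (b : K) * w
  have h3 : y * (w * U (b : K)) = 1 := by
    show U (b : K) * w * (w * U (b : K)) = 1
    rw [mul_assoc, ← mul_assoc w, hw, one_mul, U_mul_self]
  have h2 : y * y = w * U (b : K) := by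
    obtain ⟨s, hs⟩ := exists_sq_eq_unit b
    have hy : H s * (U 1 * (W K)) * (H s)⁻¹ = y := conj_x s b hs
    calc y * y = H s * ((U 1 * (W K)) * (U 1 * (W K))) * (H s)⁻¹ := by rw [← hy]; group
      _ = H s * (U 1 * (W K))⁻¹ * (H s)⁻¹ := by rw [sq_x, inv_cube]
      _ = y⁻¹ := by rw [← hy]; group
      _ = w * U (b : K) := inv_eq_of_mul_eq_one_right h3
  have h0 : v + y • v + (w * U (b : K)) • v = 0 := by
    refine fpf_y hf b _ ?_
    show y • (v + y • v + (w * U (b : K)) • v) = _
    rw [smul_add, smul_add, smul_smul, smul_smul, h2, h3, one_smul]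
    abel
  simp only [D, smul_sub, y, mul_smul] at h0 ⊢
  rw [eq_sub_iff_add_eq, eq_neg_iff_add_eq_zero, ← h0]
  abel

include hf in
theorem D_W_fix (b : Kˣ) {p : V} (hp : IsFix K p) : D (b : K) ((W K) • p) = H b • p := by
  have h := rel hf b (H b • p)
  have hq := hp.smul_H b
  have he : (H b * (W K)) • H b • p = (W K) • p := by rw [smul_smul, H_W_H]
  rw [he, hq.D, smul_zero, add_zero, two_smul_act (W K) hp.1, sub_zero, neg_of_two hq.1] at h
  exact h

/-- Scalar multiplication on fixed points. -/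
def sm (a : K) (p : V) : V := D a ((W K) • p)

include hf in
theorem sm_unit (b : Kˣ) {p : V} (hp : IsFix K p) : sm (b : K) p = H b • p := D_W_fix hf b hp

theorem sm_zero (p : V) : sm (0 : K) p = 0 := D_zero_left _

include hf in
theorem sm_one {p : V} (hp : IsFix K p) : sm (1 : K) p = p := by
  rw [show (1 : K) = ((1 : Kˣ) : K) from rfl, sm_unit hf 1 hp, H_one, one_smul]

include hf in
theorem sm_fix (a : K) {p : V} (hp : IsFix K p) : IsFix K (sm a p) := by
  rcases eq_or_ne a 0 with rfl | ha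
  · rw [sm_zero]; exact IsFix.zero
  · rw [show a = ((Units.mk0 a ha : Kˣ) : K) from rfl, sm_unit hf _ hp]
    exact hp.smul_H _

include hf in
theorem sm_add (a c : K) {p : V} (hp : IsFix K p) : sm (a + c) p = sm a p + sm c p := by
  rw [sm, D_add_left]
  show sm a p + sm c p + D a (sm c p) = _
  rw [(sm_fix hf c hp).D, add_zero]

theorem sm_add_right (a : K) (p q : V) : sm a (p + q) = sm a p + sm a q := by
  simp only [sm, smul_add, D_add]

theorem sm_zero_right (a : K) : sm a (0 : V) = 0 := by simp [sm, D_zero_right]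

include hf in
theorem sm_mul (a c : K) {p : V} (hp : IsFix K p) : sm (a * c) p = sm a (sm c p) := by
  rcases eq_or_ne a 0 with rfl | ha
  · rw [zero_mul, sm_zero, sm_zero]
  rcases eq_or_ne c 0 with rfl | hc
  · rw [mul_zero, sm_zero, sm_zero_right]
  obtain ⟨u, rfl⟩ : ∃ u : Kˣ, (u : K) = a := ⟨Units.mk0 a ha, rfl⟩
  obtain ⟨w, rfl⟩ : ∃ w : Kˣ, (w : K) = c := ⟨Units.mk0 c hc, rfl⟩
  rw [← Units.val_mul, sm_unit hf _ hp, sm_unit hf _ hp, sm_unit hf _ (hp.smul_H _), H_mul, mul_smul]

include hf in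
theorem U_act (a : K) {p q : V} (hp : IsFix K p) :
    U a • (p + (W K) • q) = (p + sm a q) + (W K) • q := by
  rw [smul_add, hp.2, sm, D]; abel

include hf in
theorem eq_zero_of_W_eq {p q : V} (hp : IsFix K p) (hq : IsFix K q) (h : p + (W K) • q = 0) :
    p = 0 ∧ q = 0 := by
  have h1 : D (1 : K) (p + (W K) • q) = 0 := by rw [h, D_zero_right]
  rw [D_add, hp.D, zero_add] at h1
  have hq0 : q = 0 := by rw [← sm_one hf hq]; exact h1
  subst hq0
  simpa using h

include hf in
theorem eq_of_eq {p q p' q' : V} (hp : IsFix K p) (hq : IsFix K q) (hp' : IsFix K p')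
    (hq' : IsFix K q') (h : p + (W K) • q = p' + (W K) • q') : p = p' ∧ q = q' := by
  have h1 : (p - p') + (W K) • (q - q') = 0 := by
    rw [smul_sub, show p - p' + ((W K) • q - (W K) • q') = (p + (W K) • q) - (p' + (W K) • q') by abel, h, sub_self]
  obtain ⟨h2, h3⟩ := eq_zero_of_W_eq hf (sub_eq_add_neg p p' ▸ hp.add hp'.neg)
    (sub_eq_add_neg q q' ▸ hq.add hq'.neg) h1
  exact ⟨sub_eq_zero.1 h2, sub_eq_zero.1 h3⟩

include hf in
/-- The natural action on `V₀ + W V₀`. -/
theorem act_eq (g : SL(2, K)) : ∀ p q : V, IsFix K p → IsFix K q →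
    g • (p + (W K) • q) = (sm (g.1 0 0) p + sm (g.1 0 1) q) + (W K) • (sm (g.1 1 0) p + sm (g.1 1 1) q) := by
  let P : SL(2, K) → Prop := fun g => ∀ p q : V, IsFix K p → IsFix K q →
    g • (p + (W K) • q) = (sm (g.1 0 0) p + sm (g.1 0 1) q) + (W K) • (sm (g.1 1 0) p + sm (g.1 1 1) q)
  have hmul : ∀ g h, P g → P h → P (g * h) := by
    intro g h hg hh p q hp hq
    rw [mul_smul, hh p q hp hq,
      hg _ _ ((sm_fix hf _ hp).add (sm_fix hf _ hq)) ((sm_fix hf _ hp).add (sm_fix hf _ hq))]
    have e : ∀ i j : Fin 2, (g * h).1 i j = g.1 i 0 * h.1 0 j + g.1 i 1 * h.1 1 j := fun i j => by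
      rw [SpecialLinearGroup.coe_mul, Matrix.mul_apply, Fin.sum_univ_two]
    simp only [e, sm_add hf _ _ hp, sm_add hf _ _ hq, sm_mul hf _ _ hp, sm_mul hf _ _ hq,
      sm_add_right, smul_add]
    abel
  have hU : ∀ a, P (U a) := by
    intro a p q hp hq
    rw [U_act hf a hp]
    simp [U_val, sm_zero, sm_one hf hp, sm_one hf hq]
  have hW : P (W K) := by
    intro p q hp hq
    rw [smul_add, smul_smul, W_mul_W, one_smul]
    simp [W_val, sm_zero, sm_one hf hp, sm_one hf hq, add_comm]
  have hH : ∀ l, P (H l) := by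
    intro l p q hp hq
    rw [smul_add, smul_smul, show H l * (W K) = (W K) * H l⁻¹ by rw [W_H, inv_inv], mul_smul]
    simp only [H_val, Matrix.of_apply, Matrix.cons_val', Matrix.cons_val_zero, Matrix.cons_val_one,
      Matrix.empty_val', Matrix.cons_val_fin_one, sm_zero, add_zero, zero_add]
    rw [sm_unit hf l hp, sm_unit hf l⁻¹ hq]
  have hgen : P g := by
    have hd : g.1 0 0 * g.1 1 1 - g.1 0 1 * g.1 1 0 = 1 := by rw [← Matrix.det_fin_two]; exact g.2
    rcases eq_or_ne (g.1 1 0) 0 with hc | hc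
    · rw [hc, mul_zero, sub_zero] at hd
      have ha : g.1 0 0 ≠ 0 := left_ne_zero_of_mul_eq_one hd
      have hg : g = H (Units.mk0 _ ha) * U ((g.1 0 0)⁻¹ * g.1 0 1) := by
        apply ext' <;> simp [SpecialLinearGroup.coe_mul, H_val, U_val, Matrix.mul_apply, Fin.sum_univ_two, hc]
        · field_simp
        · exact (eq_inv_of_mul_eq_one_right hd)
      rw [hg]; exact hmul _ _ (hH _) (hU _)
    · have hg : g = U (g.1 0 0 / g.1 1 0) * ((W K) * H (Units.mk0 _ hc)) * U (g.1 1 1 / g.1 1 0) := by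
        rw [sub_eq_add_neg, neg_eq] at hd
        apply ext' <;> simp [SpecialLinearGroup.coe_mul, H_val, U_val, W_val, Matrix.mul_apply, Fin.sum_univ_two]
        all_goals field_simp
        linear_combination (norm := ring_nf) hd - add_self (g.1 0 0 * g.1 1 1)
      rw [hg]; exact hmul _ _ (hmul _ _ (hU _) (hmul _ _ hW (hH _))) (hU _)
  exact hgen

/-- `v` lies in `V₀ + W V₀`. -/
def InN (K : Type*) {V : Type*} [Field K] [CharP K 2] [AddCommGroup V]
    [DistribMulAction SL(2, K) V] (v : V) : Prop :=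
  ∃ p q : V, IsFix K p ∧ IsFix K q ∧ v = p + W K • q

include hf in
theorem InN.smul {v : V} (h : InN K v) (g : SL(2, K)) : InN K (g • v) := by
  obtain ⟨p, q, hp, hq, rfl⟩ := h
  exact ⟨_, _, (sm_fix hf _ hp).add (sm_fix hf _ hq), (sm_fix hf _ hp).add (sm_fix hf _ hq),
    act_eq hf g p q hp hq⟩

theorem InN.add {v w : V} (h : InN K v) (h' : InN K w) : InN K (v + w) := by
  obtain ⟨p, q, hp, hq, rfl⟩ := h
  obtain ⟨p', q', hp', hq', rfl⟩ := h'
  exact ⟨p + p', q + q', hp.add hp', hq.add hq', by rw [smul_add]; abel⟩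

theorem InN.two {v : V} (h : InN K v) : v + v = 0 := by
  obtain ⟨p, q, hp, hq, rfl⟩ := h
  rw [add_add_add_comm, hp.1, two_smul_act _ hq.1, add_zero]

theorem InN.zero : InN K (0 : V) := ⟨0, 0, IsFix.zero, IsFix.zero, by simp⟩

include hf in
theorem InN.D {v : V} (h : InN K v) (a : K) : InN K (Higman.D a v) := by
  have := (h.smul hf (U a)).add h
  rwa [Higman.D, sub_eq_add_neg, neg_of_two h.two]

include hf in
theorem isFix_of_InN {v : V} (h : InN K v) (hD : Higman.D (1 : K) v = 0) : IsFix K v := by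
  obtain ⟨p, q, hp, hq, rfl⟩ := h
  rw [D_add, hp.D, zero_add] at hD
  have hq0 : q = 0 := by rw [← sm_one hf hq]; exact hD
  subst hq0
  simpa using hp

variable (hK : 3 < Fintype.card K)

include hK in
theorem exists_ne_zero_one : ∃ c : K, c ≠ 0 ∧ c ≠ 1 := by
  classical
  by_contra h
  push_neg at h
  have : (Finset.univ : Finset K) ⊆ {0, 1} := fun c _ => by
    rcases eq_or_ne c 0 with rfl | hc
    · simp
    · simp [h c hc]
  have := (Finset.card_le_card this).trans Finset.card_le_two
  rw [Finset.card_univ] at this; omega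

include hf hK in
/-- The functional equation forces linearity. -/
theorem key (f : K → V) (μ : V) (hμ : IsFix K μ) (hfix : ∀ a, IsFix K (f a))
    (hadd : ∀ a b, f (a + b) = f a + f b)
    (hE : ∀ b : Kˣ, f (b : K) + sm (b : K) μ + sm (b : K) (f 1) =
      sm (b : K) (f (((b⁻¹ : Kˣ) : K) * ((b⁻¹ : Kˣ) : K))) + μ + f ((b⁻¹ : Kˣ) : K)) :
    μ = 0 ∧ ∀ a, f a = sm a (f 1) := by
  -- pass to the `K`-space of fixed points
  let V0 : AddSubgroup V :=
    { carrier := {p | IsFix K p}
      zero_mem' := IsFix.zero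
      add_mem' := fun hp hq => hp.add hq
      neg_mem' := fun hp => hp.neg }
  let _ : Module K V0 :=
    { smul := fun a p => ⟨sm a p.1, sm_fix hf a p.2⟩
      one_smul := fun p => Subtype.ext (sm_one hf p.2)
      mul_smul := fun a c p => Subtype.ext (sm_mul hf a c p.2)
      smul_zero := fun a => Subtype.ext (sm_zero_right a)
      smul_add := fun a p q => Subtype.ext (sm_add_right a p.1 q.1)
      add_smul := fun a c p => Subtype.ext (sm_add hf a c p.2)
      zero_smul := fun p => Subtype.ext (sm_zero p.1) }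
  let m : V0 := ⟨μ, hμ⟩
  let g : K → V0 := fun a => ⟨f a, hfix a⟩
  have gadd : ∀ a b, g (a + b) = g a + g b := fun a b => Subtype.ext (hadd a b)
  have two : ∀ p : V0, p + p = 0 := fun p => Subtype.ext p.2.1
  have gE : ∀ b : K, b ≠ 0 → g b + b • m + b • g 1 = b • g (b⁻¹ * b⁻¹) + m + g b⁻¹ := fun b hb =>
    Subtype.ext (hE (Units.mk0 b hb))
  suffices h : m = 0 ∧ ∀ a, g a = a • g 1 from
    ⟨congrArg Subtype.val h.1, fun a => congrArg Subtype.val (h.2 a)⟩
  -- normalise
  let h : K → V0 := fun a => g a + a • g 1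
  have hadd' : ∀ a b, h (a + b) = h a + h b := fun a b => by
    simp only [h, gadd, add_smul]; abel
  have hg : ∀ a, g a = h a + a • g 1 := fun a => by
    simp only [h, add_assoc, two, add_zero]
  have hneg : ∀ p : V0, -p = p := fun p => neg_eq_of_add_eq_zero_left (two p)
  have hsub : ∀ p q : V0, p - q = p + q := fun p q => by rw [sub_eq_add_neg, hneg]
  have h1 : h 1 = 0 := by simp only [h, one_smul, two]
  have eE : ∀ b : K, b ≠ 0 → h b + h b⁻¹ = b • h (b⁻¹ * b⁻¹) + m + b • m := by
    intro b hb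
    have e := gE b hb
    rw [hg b, hg b⁻¹, hg (b⁻¹ * b⁻¹), smul_add, smul_smul, ← mul_assoc, mul_inv_cancel₀ hb,
      one_mul, ← sub_eq_zero, hsub] at e
    rw [← sub_eq_zero, hsub, ← e]
    have : ∀ p q r s t u v : V0, p + q + (r + t + v) = p + s + v + s + (r + u + t + (q + u)) := by
      intro p q r s t u v
      rw [← sub_eq_zero, hsub]
      abel_nf
      simp [two_zsmul, two]
    exact this _ _ _ _ _ _ _
  have eT : ∀ b : K, b ≠ 0 → h (b * b) + (b * b) • m = (b * b) • h (b⁻¹ * b⁻¹) + m := by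
    intro b hb
    have e := congrArg (b • ·) ((eE b hb).symm.trans ((add_comm _ _).trans
      (show h b⁻¹ + h b = b⁻¹ • h (b * b) + m + b⁻¹ • m by
        simpa using eE b⁻¹ (inv_ne_zero hb))))
    simp only [smul_add, smul_smul, mul_inv_cancel₀ hb, one_smul] at e
    rw [← sub_eq_zero, hsub] at e ⊢
    rw [← e]
    have : ∀ p q r s t : V0, p + q + (r + s) = r + t + q + (p + t + s) := by
      intro p q r s t
      rw [← sub_eq_zero, hsub]
      abel_nf
      simp [two_zsmul, two]
    exact this _ _ _ _ _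
  let M : K → V0 := fun c => h (c * c) + (c + c * c) • m
  have Madd : ∀ a b, M (a + b) = M a + M b := fun a b => by
    have e : (a + b) * (a + b) = a * a + b * b := by linear_combination add_self (a * b)
    simp only [M, e, hadd', add_smul]; abel
  have M1 : M 1 = 0 := by simp [M, h1, add_self]
  have Minv : ∀ b : K, b ≠ 0 → M b = (b * b) • M b⁻¹ := by
    intro b hb
    have e := eT b hb
    simp only [M, smul_add, smul_smul]
    rw [mul_add, show b * b * b⁻¹ = b by rw [mul_assoc, mul_inv_cancel₀ hb, mul_one],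
      show b * b * (b⁻¹ * b⁻¹) = 1 by field_simp, add_smul, add_smul, one_smul]
    rw [← sub_eq_zero, hsub] at e ⊢
    rw [← e]
    have : ∀ p q r s t : V0, p + (t + q) + (r + (t + s)) = p + q + (r + s) := by
      intro p q r s t
      rw [← sub_eq_zero, hsub]
      abel_nf
      simp [two_zsmul, two]
    exact this _ _ _ _ _
  have Mz : ∀ c, M c = 0 := by
    intro c
    obtain ⟨d, rfl⟩ := exists_sq_eq c
    rcases eq_or_ne d 0 with rfl | hd
    · simp [M, h, hsub, gadd]
      simpa [two] using gadd 0 0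
    rcases eq_or_ne d 1 with rfl | hd1
    · rw [mul_one]; exact M1
    have hd' : d + 1 ≠ 0 := fun e => hd1 (by rw [eq_neg_of_add_eq_zero_left e, neg_eq])
    have hdd : d * (d + 1) ≠ 0 := mul_ne_zero hd hd'
    have e : (d * (d + 1))⁻¹ = d⁻¹ + (d + 1)⁻¹ := by
      field_simp
      linear_combination (norm := ring_nf) -add_self d
    have h3 := Minv (d * (d + 1)) hdd
    rw [e, Madd, smul_add,
      show d * (d + 1) * (d * (d + 1)) = ((d + 1) * (d + 1)) * (d * d) by ring,
      mul_smul ((d + 1) * (d + 1)), ← Minv d hd,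
      mul_comm ((d + 1) * (d + 1)) (d * d), mul_smul (d * d), ← Minv (d + 1) hd'] at h3
    rw [Madd d 1, M1, add_zero, ← add_smul,
      show (d + 1) * (d + 1) + d * d = 1 by linear_combination add_self d + add_self (d * d),
      one_smul, mul_add, mul_one, Madd] at h3
    simpa using h3
  have hsq : ∀ c, h (c * c) = (c + c * c) • m := fun c => by
    have := Mz c
    rw [eq_neg_of_add_eq_zero_left this, hneg]
  have hm : m = 0 := by
    obtain ⟨c, hc, hc1⟩ := exists_ne_zero_one hK
    have e := eE (c * c) (mul_ne_zero hc hc)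
    rw [mul_inv, hsq, hsq, hsq, smul_smul, ← add_smul] at e
    rw [← sub_eq_zero] at e
    replace e : ((c + c * c + (c⁻¹ + c⁻¹ * c⁻¹)) -
        (c * c * (c⁻¹ * c⁻¹ + c⁻¹ * c⁻¹ * (c⁻¹ * c⁻¹)) + 1 + c * c)) • m = 0 := by
      rw [← e, sub_smul]; simp only [add_smul, one_smul]
    rw [smul_eq_zero] at e
    refine e.resolve_left fun e => hc1 ?_
    have h1 : c * c * (c⁻¹ * c⁻¹ + c⁻¹ * c⁻¹ * (c⁻¹ * c⁻¹)) = 1 + c⁻¹ * c⁻¹ := by field_simp
    rw [h1] at e
    have h2 : c + c⁻¹ = 0 := by linear_combination e + add_self (1 : K)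
    have : (c + 1) * (c + 1) = 0 := by
      have h3 : c * c + c * c⁻¹ = 0 := by rw [← mul_add, h2, mul_zero]
      rw [mul_inv_cancel₀ hc] at h3
      linear_combination h3 + add_self c
    rw [eq_neg_of_add_eq_zero_left (mul_self_eq_zero.1 this), neg_eq]
  refine ⟨hm, fun a => ?_⟩
  obtain ⟨c, rfl⟩ := exists_sq_eq a
  rw [hg, hsq, hm, smul_zero, zero_add]

include hf hK in
/-- An element all of whose commutators with `U` are fixed has order two and lies in `V₀ + W V₀`. -/
theorem of_D_mem (v : V) (hD : ∀ a : K, IsFix K (Higman.D a v)) (hμ : IsFix K (v + v)) :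
    InN K v := by
  set f : K → V := fun a => Higman.D a v with hfdef
  have hadd : ∀ a b, f (a + b) = f a + f b := fun a b => by
    simp only [hfdef, D_add_left, (hD b).D, add_zero]
  -- `D b (W v)`
  have hz : ∀ b : Kˣ, Higman.D (b : K) (W K • v) =
      -(H b • v) + W K • (v + v) + W K • f ((b⁻¹ : Kˣ) : K) := by
    intro b
    have h := rel hf b (H b • v)
    have he : (H b * W K) • H b • v = W K • v := by rw [smul_smul, H_W_H]
    have h2 : Higman.D (b : K) (H b • v) = H b • f ((b⁻¹ : Kˣ) : K) := by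
      rw [D_H]; simp [hfdef]
    rw [he, h2, smul_smul, H_W_H, ← smul_add, eq_comm, ← sub_eq_iff_eq_add] at h
    rw [← h, sub_eq_add_neg (-(H b • v)), sub_eq_add_neg, neg_of_two (two_smul_act _ hμ.1),
      neg_of_two (two_smul_act _ (hD _).1)]
  have hz1 : Higman.D (1 : K) (W K • v) = -v + W K • (v + v) + W K • f 1 := by
    simpa [H_one] using hz 1
  have hE : ∀ b : Kˣ, f (b : K) + sm (b : K) (v + v) + sm (b : K) (f 1) =
      sm (b : K) (f (((b⁻¹ : Kˣ) : K) * ((b⁻¹ : Kˣ) : K))) + (v + v) + f ((b⁻¹ : Kˣ) : K) := by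
    intro b
    have h := D_comm (b : K) 1 (W K • v)
    rw [hz b, hz1, D_add, D_add, D_add, D_add, D_neg, D_neg, D_H, one_mul] at h
    change -f _ + sm _ _ + sm _ _ = -(H b • f _) + sm 1 _ + sm 1 _ at h
    rw [sm_one hf hμ, sm_one hf (hD _), neg_of_two (hD _).1,
      neg_of_two (two_smul_act _ (hD _).1), ← sm_unit hf b (hD _)] at h
    exact h
  obtain ⟨hm, hlin⟩ := key hf hK f (v + v) hμ hD hadd hE
  have hW : W K • f 1 + W K • f 1 = 0 := two_smul_act _ (hD 1).1
  have hfix : IsFix K (v + W K • f 1) := by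
    refine isFix_of_D (by rw [add_add_add_comm, hm, hW, add_zero]) fun a => ?_
    rw [D_add]
    show f a + sm a (f 1) = 0
    rw [← hlin a]; exact (hD a).1
  exact ⟨_, f 1, hfix, hD 1, by rw [add_assoc, hW, add_zero]⟩

include hf hK in
/-- Higman's theorem: elements of order two lie in `V₀ + W V₀`. -/
theorem inN_of_two (v : V) (hv : v + v = 0) : InN K v := by
  classical
  by_contra h
  have : ∀ s : Finset K, ∃ w : V, w + w = 0 ∧ ¬ InN K w ∧ ∀ a ∈ s, InN K (Higman.D a w) := by
    intro s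
    induction s using Finset.induction with
    | empty => exact ⟨v, hv, h, by simp⟩
    | insert a s _ ih =>
      obtain ⟨w, hw2, hw, hs⟩ := ih
      by_cases ha : InN K (Higman.D a w)
      · exact ⟨w, hw2, hw, by simpa [ha] using hs⟩
      · refine ⟨Higman.D a w, two_D a hw2, ha, fun c hc => ?_⟩
        rcases Finset.mem_insert.1 hc with rfl | hc
        · rw [D_D_self, two_D _ hw2, neg_zero]; exact InN.zero
        · rw [D_comm]; exact (hs c hc).D hf a
  obtain ⟨w, hw2, hw, hs⟩ := this Finset.univ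
  refine hw (of_D_mem hf hK w (fun a => ?_) (hw2.symm ▸ IsFix.zero))
  obtain ⟨p, q, hp, hq, he⟩ := hs a (Finset.mem_univ a)
  rcases eq_or_ne a 0 with rfl | ha
  · rw [D_zero_left]; exact IsFix.zero
  have h0 : Higman.D a (Higman.D a w) = 0 := by rw [D_D_self, two_D _ hw2, neg_zero]
  rw [he, D_add, hp.D, zero_add] at h0
  change sm a q = 0 at h0
  have hq0 : q = 0 := by
    rw [← sm_one hf hq, ← inv_mul_cancel₀ ha, sm_mul hf _ _ hq, h0, sm_zero_right]
  rw [he, hq0, smul_zero, add_zero]; exact hp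

include hf hK in
/-- Exponent four does not occur. -/
theorem two_of_four (h4 : ∀ v : V, v + v + (v + v) = 0) (v : V) : v + v = 0 := by
  classical
  by_contra h
  have : ∀ s : Finset K, ∃ w : V, w + w ≠ 0 ∧ ∀ a ∈ s, Higman.D a (w + w) = 0 := by
    intro s
    induction s using Finset.induction with
    | empty => exact ⟨v, h, by simp⟩
    | insert a s _ ih =>
      obtain ⟨w, hw, hs⟩ := ih
      by_cases ha : Higman.D a (w + w) = 0
      · exact ⟨w, hw, by simpa [ha] using hs⟩
      · refine ⟨Higman.D a w, by rwa [← D_add], fun c hc => ?_⟩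
        rw [← D_add]
        rcases Finset.mem_insert.1 hc with rfl | hc
        · rw [D_D_self, ← D_add, h4, D_zero_right, neg_zero]
        · rw [D_comm, hs c hc, D_zero_right]
  obtain ⟨w, hw, hs⟩ := this Finset.univ
  have h2 : ∀ a : K, Higman.D a w + Higman.D a w = 0 := fun a => by
    rw [← D_add]; exact hs a (Finset.mem_univ a)
  have hμ : IsFix K (w + w) := isFix_of_D (h4 w) fun a => hs a (Finset.mem_univ a)
  refine hw (InN.two (of_D_mem hf hK w (fun a => ?_) hμ))
  obtain ⟨p, q, hp, hq, he⟩ := inN_of_two hf hK _ (h2 a)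
  rcases eq_or_ne a 0 with rfl | ha
  · rw [D_zero_left]; exact IsFix.zero
  have h0 : Higman.D a (Higman.D a w) = 0 := by rw [D_D_self, h2, neg_zero]
  rw [he, D_add, hp.D, zero_add] at h0
  change sm a q = 0 at h0
  have hq0 : q = 0 := by
    rw [← sm_one hf hq, ← inv_mul_cancel₀ ha, sm_mul hf _ _ hq, h0, sm_zero_right]
  rw [he, hq0, smul_zero, add_zero]; exact hp

section bilin

variable {M : Type*} [AddCommGroup M] [DistribMulAction SL(2, K) M]

include hf hK in
/-- There is no nonzero equivariant biadditive map between such modules. -/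
theorem bilin_eq_zero (hfM : Fpf K M) (hM : ∀ m : M, m + m = 0) (hV : ∀ v : V, v + v = 0)
    (B : M → M → V) (hl : ∀ a b c, B (a + b) c = B a c + B b c)
    (hr : ∀ a b c, B a (b + c) = B a b + B a c)
    (heq : ∀ (g : SL(2, K)) a b, B (g • a) (g • b) = g • B a b) (x y : M) : B x y = 0 := by
  have B0l : ∀ c, B 0 c = 0 := fun c => by simpa using hl 0 0 c
  have B0r : ∀ c, B c 0 = 0 := fun c => by simpa using hr c 0 0
  have Bfix : ∀ p q, IsFix K p → IsFix K q → IsFix K (B p q) := fun p q hp hq =>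
    ⟨hV _, fun a => by rw [← heq, hp.2, hq.2]⟩
  have hlam : ∀ (l : K) p q, IsFix K p → IsFix K q → B (sm l p) (sm l q) = sm l (B p q) := by
    intro l p q hp hq
    rcases eq_or_ne l 0 with rfl | hl0
    · rw [sm_zero, sm_zero, sm_zero, B0l]
    · obtain ⟨u, rfl⟩ : ∃ u : Kˣ, (u : K) = l := ⟨Units.mk0 l hl0, rfl⟩
      rw [sm_unit hfM u hp, sm_unit hfM u hq, heq, sm_unit hf u (Bfix p q hp hq)]
  have hswap : ∀ (l : K) p q, IsFix K p → IsFix K q → B (sm l p) q = B p (sm l q) := by
    intro l p q hp hq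
    have h := hlam (l + 1) p q hp hq
    rw [sm_add hfM _ _ hp, sm_add hfM _ _ hq, sm_one hfM hp, sm_one hfM hq,
      sm_add hf _ _ (Bfix p q hp hq), sm_one hf (Bfix p q hp hq), hl, hr, hr, hlam l p q hp hq,
      ← add_assoc, add_left_inj, add_assoc, add_eq_left] at h
    rw [eq_neg_of_add_eq_zero_left h, neg_of_two (hV _)]
  have hdec : ∀ p q, IsFix K p → IsFix K q → B p q = 0 ∧ IsFix K (B p (W K • q)) := by
    intro p q hp hq
    obtain ⟨r, s, hr', hs', he⟩ := inN_of_two hf hK _ (hV (B p (W K • q)))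
    have hs : ∀ a : K, sm a s = B p (sm a q) := by
      intro a
      have h2 : U a • B p (W K • q) = B p (sm a q) + B p (W K • q) := by
        rw [← heq, hp.2, ← hr]; congr 1
        simp [sm, Higman.D]
      rw [he, U_act hf a hr', show r + sm a s + W K • s = sm a s + (r + W K • s) by abel] at h2
      exact add_right_cancel h2
    have hs1 : s = B p q := by
      have := hs 1; rwa [sm_one hf hs', sm_one hfM hq] at this
    obtain ⟨c, hc, hc1⟩ := exists_ne_zero_one hK
    have h0 : sm (c * c + c) s = 0 := by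
      rw [sm_add hf _ _ hs', hs, sm_mul hfM _ _ hq, ← hswap c p _ hp (sm_fix hfM c hq),
        hlam c p q hp hq, ← hs1, hV]
    have hne : c * c + c ≠ 0 := by
      rw [show c * c + c = c * (c + 1) by ring]
      exact mul_ne_zero hc fun e => hc1 (by rw [eq_neg_of_add_eq_zero_left e, neg_eq])
    have hs0 : s = 0 := by
      rw [← sm_one hf hs', ← inv_mul_cancel₀ hne, sm_mul hf _ _ hs', h0, sm_zero_right]
    refine ⟨hs1 ▸ hs0, ?_⟩
    rw [he, hs0, smul_zero, add_zero]; exact hr'
  have hmix : ∀ p q, IsFix K p → IsFix K q → B p (W K • q) = 0 ∧ B (W K • p) q = 0 := by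
    intro p q hp hq
    have h1 : IsFix K (B (W K • p) q) := ⟨hV _, fun a => by
      rw [← heq, hq.2, show U a • W K • p = sm a p + W K • p by simp [sm, Higman.D], hl,
        (hdec _ q (sm_fix hfM a hp) hq).1, zero_add]⟩
    have h2 : W K • B (W K • p) q = B p (W K • q) := by
      rw [← heq, smul_smul, W_mul_W, one_smul]
    have h3 := eq_zero_of_W_eq hf (hdec p q hp hq).2 h1 (by rw [h2, hV])
    exact ⟨h3.1, h3.2⟩
  obtain ⟨p, q, hp, hq, rfl⟩ := inN_of_two hfM hK x (hM x)
  obtain ⟨p', q', hp', hq', rfl⟩ := inN_of_two hfM hK y (hM y)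
  rw [hl, hr, hr, (hdec p p' hp hp').1, (hmix p q' hp hq').1, (hmix q p' hq hp').2, heq,
    (hdec q q' hq hq').1, smul_zero]
  simp

end bilin

include hf hK in
/-- Decomposition into natural modules. -/
theorem exists_decomp [Finite V] (h2 : ∀ v : V, v + v = 0) :
    ∃ (k : ℕ) (ι : Fin k → (Fin 2 → K) →+ V) (co : Fin k → V →+ (Fin 2 → K)),
      (∀ i (g : SL(2, K)) x, ι i (g.1.mulVec x) = g • ι i x) ∧
      (∀ i j x, co i (ι j x) = if i = j then x else 0) ∧
      ∀ v, ∑ i, ι i (co i v) = v := by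
  classical
  let V0 : AddSubgroup V :=
    { carrier := {p | IsFix K p}
      zero_mem' := IsFix.zero
      add_mem' := fun hp hq => hp.add hq
      neg_mem' := fun hp => hp.neg }
  let _ : Module K V0 :=
    { smul := fun a p => ⟨sm a p.1, sm_fix hf a p.2⟩
      one_smul := fun p => Subtype.ext (sm_one hf p.2)
      mul_smul := fun a c p => Subtype.ext (sm_mul hf a c p.2)
      smul_zero := fun a => Subtype.ext (sm_zero_right a)
      smul_add := fun a p q => Subtype.ext (sm_add_right a p.1 q.1)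
      add_smul := fun a c p => Subtype.ext (sm_add hf a c p.2)
      zero_smul := fun p => Subtype.ext (sm_zero p.1) }
  haveI : Module.Finite K V0 := Module.Finite.of_finite
  let bas := Module.finBasis K V0
  have hN := fun v => inN_of_two hf hK v (h2 v)
  choose P Q hP hQ hPQ using hN
  let P' : V → V0 := fun v => ⟨P v, hP v⟩
  let Q' : V → V0 := fun v => ⟨Q v, hQ v⟩
  have huniq : ∀ (v : V) (p q : V0), v = p.1 + W K • q.1 → P' v = p ∧ Q' v = q := by
    intro v p q h
    obtain ⟨e1, e2⟩ := eq_of_eq hf (hP v) (hQ v) p.2 q.2 ((hPQ v).symm.trans h)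
    exact ⟨Subtype.ext e1, Subtype.ext e2⟩
  let PQ : V →+ V0 × V0 := AddMonoidHom.mk' (fun v => (P' v, Q' v)) fun v w => by
    obtain ⟨e1, e2⟩ := huniq (v + w) (P' v + P' w) (Q' v + Q' w) (by
      show v + w = (P v + P w) + W K • (Q v + Q w)
      rw [smul_add]; conv_lhs => rw [hPQ v, hPQ w]
      abel)
    exact Prod.ext e1 e2
  let ι : Fin (Module.finrank K V0) → (Fin 2 → K) →+ V := fun i =>
    AddMonoidHom.mk' (fun x => (x 0 • bas i).1 + W K • (x 1 • bas i).1) fun x y => by
      simp only [Pi.add_apply, add_smul, AddSubgroup.coe_add, smul_add]; abel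
  let co : Fin (Module.finrank K V0) → V →+ (Fin 2 → K) := fun i =>
    AddMonoidHom.mk' (fun v => ![bas.repr (PQ v).1 i, bas.repr (PQ v).2 i]) fun v w => by
      ext j; fin_cases j <;> simp
  refine ⟨_, ι, co, fun i g x => ?_, fun i j x => ?_, fun v => ?_⟩
  · have hb := (bas i).2
    show sm ((g.1.mulVec x) 0) (bas i).1 + W K • sm ((g.1.mulVec x) 1) (bas i).1 =
      g • (sm (x 0) (bas i).1 + W K • sm (x 1) (bas i).1)
    rw [act_eq hf g _ _ (sm_fix hf _ hb) (sm_fix hf _ hb)]
    simp only [Matrix.mulVec, dotProduct, Fin.sum_univ_two, sm_add hf _ _ hb, sm_mul hf _ _ hb]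
  · obtain ⟨e1, e2⟩ := huniq (ι j x) (x 0 • bas j) (x 1 • bas j) rfl
    show ![bas.repr (P' (ι j x)) i, bas.repr (Q' (ι j x)) i] = _
    rw [e1, e2]
    rcases eq_or_ne i j with rfl | hij
    · ext l; fin_cases l <;> simp
    · ext l; fin_cases l <;> simp [hij.symm, hij]
  · show ∑ i, ((bas.repr (P' v) i • bas i).1 + W K • (bas.repr (Q' v) i • bas i).1) = v
    rw [Finset.sum_add_distrib, ← Finset.smul_sum, ← AddSubgroup.val_finset_sum,
      ← AddSubgroup.val_finset_sum, bas.sum_repr, bas.sum_repr]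
    exact (hPQ v).symm

end module

end CfsgLib.Amalgam.Higman
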