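import Cfsg.Prelude.Def_BaumannBlocks
import Cfsg.Agent.Lib.Amalgam.HigmanSL2
import Cfsg.Agent.Lib.Amalgam.WeaklyClosed
import Mathlib.Algebra.CharP.CharAndCard
import Mathlib.GroupTheory.QuotientGroup.Basic

/-!
# Extensions of a `2`-group by `SL₂(2ⁿ)` with a fixed-point-free element of order three
-/

set_option autoImplicit false
set_option linter.unusedSectionVars false

namespace CfsgLib.Amalgam.Higman

open Matrix Subgroup
open scoped MatrixGroups commutatorElement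

variable {K : Type*} [Field K] [CharP K 2] [Fintype K]

/-- Elements of order three are conjugate to `U 1 * W`. -/
theorem exists_conj_x {M : SL(2, K)} (h3 : M * M * M = 1) (h1 : M ≠ 1) :
    ∃ P : SL(2, K), P⁻¹ * M * P = U 1 * W K := by
  set a := M.1 0 0 with hadef
  set b := M.1 0 1 with hbdef
  set c := M.1 1 0 with hcdef
  set d := M.1 1 1 with hddef
  have hM : M.1 = !![a, b; c, d] := Matrix.eta_fin_two _
  have hdet : a * d + b * c = 1 := by
    have := M.2
    rw [Matrix.det_fin_two, sub_eq_add_neg, neg_eq] at this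
    exact this
  have ht : a + d = 1 := by
    by_contra ht
    have hsq : M.1 * M.1 = (a + d) • M.1 + 1 := by
      rw [hM, Matrix.one_fin_two]
      ext i j
      fin_cases i <;> fin_cases j <;> simp [Matrix.mul_apply, Fin.sum_univ_two]
      · linear_combination hdet - add_self (a * d)
      · ring
      · ring
      · linear_combination hdet - add_self (a * d)
    have hcube : ((a + d) * (a + d) + 1) • M.1 + (a + d) • (1 : Matrix (Fin 2) (Fin 2) K) = 1 := by
      have this : M.1 * M.1 * M.1 = 1 := congrArg Subtype.val h3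
      rw [hsq, add_mul, smul_mul_assoc, one_mul, hsq] at this
      refine Eq.trans ?_ this
      module
    have hne : (a + d) * (a + d) + 1 ≠ 0 := by
      intro e
      have : (a + d + 1) * (a + d + 1) = 0 := by linear_combination e + add_self (a + d)
      exact ht (by rw [eq_neg_of_add_eq_zero_left (mul_self_eq_zero.1 this), neg_eq])
    have e : ∀ i j, ((a + d) * (a + d) + 1) * M.1 i j +
        (a + d) * (1 : Matrix (Fin 2) (Fin 2) K) i j = (1 : Matrix (Fin 2) (Fin 2) K) i j :=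
      fun i j => congrFun (congrFun hcube i) j
    have e00 := e 0 0
    have e01 := e 0 1
    have e10 := e 1 0
    have e11 := e 1 1
    simp [Matrix.one_apply] at e00 e01 e10 e11
    rw [← hadef] at e00; rw [← hbdef] at e01; rw [← hcdef] at e10; rw [← hddef] at e11
    have had : a = d := mul_left_cancel₀ hne (by linear_combination e00 - e11)
    have ha1 : a = 1 := by
      rw [← had, add_self, zero_mul, zero_add, one_mul, add_zero] at e00
      exact e00
    refine h1 (ext' ?_ ?_ ?_ ?_) <;> simp [← hadef, ← hbdef, ← hcdef, ← hddef]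
    · exact ha1
    · exact e01.resolve_left hne
    · exact e10.resolve_left hne
    · exact had ▸ ha1
  obtain ⟨u, w, hδ⟩ : ∃ u w : K, (a * u + b * w) * w + (c * u + d * w) * u ≠ 0 := by
    by_cases hc : c = 0
    · by_cases hb : b = 0
      · exact ⟨1, 1, by simp [hb, hc, ht]⟩
      · exact ⟨0, 1, by simpa using hb⟩
    · exact ⟨1, 0, by simpa using hc⟩
  set δ := (a * u + b * w) * w + (c * u + d * w) * u with hδdef
  obtain ⟨s, hs⟩ := exists_sq_eq δ⁻¹
  have hsd : s * s * δ = 1 := by rw [hs]; exact inv_mul_cancel₀ hδ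
  let P : SL(2, K) := ⟨!![s * (a * u + b * w), s * u; s * (c * u + d * w), s * w], by
    rw [Matrix.det_fin_two_of, sub_eq_add_neg, neg_eq, ← hsd, hδdef]; ring⟩
  have hP : P.1 = !![s * (a * u + b * w), s * u; s * (c * u + d * w), s * w] := rfl
  clear_value P
  refine ⟨P, ?_⟩
  rw [mul_assoc, inv_mul_eq_iff_eq_mul]
  apply ext' <;>
    simp [hP, SpecialLinearGroup.coe_mul, U_val, W_val, hM, Matrix.mul_apply, Fin.sum_univ_two]
  · linear_combination s * u * hdet + s * (a * u + b * w) * ht - add_self (s * u * a * d)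
  · ring
  · linear_combination s * (c * u + d * w) * ht + s * w * hdet - add_self (s * w * a * d)
  · ring

/-- A commutative group on which `SL₂(K)` acts by automorphisms, as a module. -/
def Mod {A : Type*} [CommGroup A] (φ : SL(2, K) →* MulAut A) : Type _ := Additive A

section Mod

variable {A : Type*} [CommGroup A] (φ : SL(2, K) →* MulAut A)

instance instAddCommGroupMod : AddCommGroup (Mod φ) := inferInstanceAs (AddCommGroup (Additive A))

instance instDistribMulActionMod : DistribMulAction SL(2, K) (Mod φ) where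
  smul g a := Additive.ofMul (φ g (Additive.toMul (α := A) a))
  one_smul a := by show Additive.ofMul (φ 1 _) = a; rw [map_one]; rfl
  mul_smul g h a := by show Additive.ofMul (φ (g * h) _) = _; rw [map_mul]; rfl
  smul_zero g := congrArg Additive.ofMul (map_one (φ g))
  smul_add g a b := congrArg Additive.ofMul (map_mul (φ g) _ _)

variable {φ}

/-- An element of the module. -/
def Mod.of (φ : SL(2, K) →* MulAut A) (a : A) : Mod φ := Additive.ofMul a

theorem fpf_mod (h : ∀ a : A, φ (U 1 * W K) a = a → a = 1) : Fpf K (Mod φ) := fun v hv => h v hv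

theorem mod_sq_eq_one (hK : 3 < Fintype.card K) (h : ∀ a : A, φ (U 1 * W K) a = a → a = 1)
    (h4 : ∀ a : A, a * a * (a * a) = 1) (a : A) : a * a = 1 :=
  two_of_four (fpf_mod h) hK h4 (Mod.of φ a)

theorem mod_bilin_eq_one {B : Type*} [CommGroup B] {ψ : SL(2, K) →* MulAut B}
    (hK : 3 < Fintype.card K) (hA : ∀ a : A, φ (U 1 * W K) a = a → a = 1)
    (hB : ∀ b : B, ψ (U 1 * W K) b = b → b = 1) (hA2 : ∀ a : A, a * a = 1)
    (hB2 : ∀ b : B, b * b = 1) (f : A → A → B)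
    (hl : ∀ a b c, f (a * b) c = f a c * f b c) (hr : ∀ a b c, f a (b * c) = f a b * f a c)
    (heq : ∀ g a b, f (φ g a) (φ g b) = ψ g (f a b)) (x y : A) : f x y = 1 :=
  bilin_eq_zero (M := Mod φ) (V := Mod ψ) (fpf_mod hB) hK (fpf_mod hA) hA2 hB2
    (fun a b => Mod.of ψ (f a b)) hl hr heq (Mod.of φ x) (Mod.of φ y)

end Mod

variable {G : Type*} [Group G] [Finite G]

/-- Fixed-point-freeness passes to sections. -/
theorem mem_of_commutator_mem {Q N : Subgroup G} [N.Normal] (hNQ : N ≤ Q) {x : G}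
    (hfpf : ∀ q ∈ Q, x * q * x⁻¹ = q → q = 1) {q : G} (hq : q ∈ Q)
    (h : q⁻¹ * (x * q * x⁻¹) ∈ N) : q ∈ N := by
  have hmem : ∀ r : N, (r : G)⁻¹ * (x * r * x⁻¹) ∈ N := fun r =>
    mul_mem (inv_mem r.2) (Normal.conj_mem ‹N.Normal› _ r.2 x)
  have hinj : ∀ a b : G, a ∈ Q → b ∈ Q → a⁻¹ * (x * a * x⁻¹) = b⁻¹ * (x * b * x⁻¹) → a = b := by
    intro a b ha hb he
    have h1 : x * (b * a⁻¹) * x⁻¹ = b * a⁻¹ := by
      calc x * (b * a⁻¹) * x⁻¹ = x * b * x⁻¹ * (x * a * x⁻¹)⁻¹ := by group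
        _ = b * (b⁻¹ * (x * b * x⁻¹)) * (a⁻¹ * (x * a * x⁻¹))⁻¹ * a⁻¹ := by group
        _ = b * a⁻¹ := by rw [he]; group
    exact (mul_inv_eq_one.1 (hfpf _ (mul_mem hb (inv_mem ha)) h1)).symm
  let f : N → N := fun r => ⟨_, hmem r⟩
  have hf : Function.Injective f := fun r r' he =>
    Subtype.ext (hinj _ _ (hNQ r.2) (hNQ r'.2) (congrArg Subtype.val he))
  obtain ⟨r, hr⟩ := (Finite.injective_iff_surjective.1 hf) ⟨_, h⟩
  rw [hinj q r hq (hNQ r.2) (congrArg Subtype.val hr).symm]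
  exact r.2

variable {Q : Subgroup G} [Q.Normal] (e : G ⧸ Q ≃* SL(2, K))

/-- The action of `SL₂(K)` on a normal subgroup centralised by `Q`. -/
noncomputable def phi (A : Subgroup G) [A.Normal] (hA : Q ≤ centralizer (A : Set G)) :
    SL(2, K) →* MulAut ↥A :=
  (QuotientGroup.lift Q (MulAut.conjNormal (H := A)) fun q hq => by
    rw [MonoidHom.mem_ker]
    ext a
    rw [MulAut.conjNormal_apply, MulAut.one_apply]
    exact mul_inv_eq_iff_eq_mul.2 ((mem_centralizer_iff.1 (hA hq) a a.2).symm)).comp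
    e.symm.toMonoidHom

theorem phi_apply (A : Subgroup G) [A.Normal] (hA : Q ≤ centralizer (A : Set G)) (g : G) (a : ↥A) :
    (phi e A hA (e (QuotientGroup.mk' Q g)) a : G) = g * a * g⁻¹ := by
  simp [phi]

theorem phi_fpf (A : Subgroup G) [A.Normal] (hA : Q ≤ centralizer (A : Set G)) (hAQ : A ≤ Q)
    {x : G} (hex : e (QuotientGroup.mk' Q x) = U 1 * W K)
    (hfpf : ∀ q ∈ Q, x * q * x⁻¹ = q → q = 1) (a : ↥A) (ha : phi e A hA (U 1 * W K) a = a) :
    a = 1 := by
  rw [← hex] at ha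
  exact Subtype.ext (hfpf _ (hAQ a.2) (by rw [← phi_apply e A hA x a, ha]))

/-- A normal extension of elementary abelian by elementary abelian is elementary abelian. -/
theorem elementary_step (hK : 3 < Fintype.card K) {x : G}
    (hex : e (QuotientGroup.mk' Q x) = U 1 * W K)
    (hfpf : ∀ q ∈ Q, x * q * x⁻¹ = q → q = 1) (R : Subgroup G) [R.Normal] (hRQ : R ≤ Q)
    (hcent : R ≤ centralizer (Q : Set G)) (hR2 : ∀ r ∈ R, r * r = 1)
    (hcomm : ∀ a ∈ Q, ∀ b ∈ Q, ⁅a, b⁆ ∈ R) (hsq : ∀ a ∈ Q, a * a ∈ R) :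
    (∀ a ∈ Q, ∀ b ∈ Q, a * b = b * a) ∧ ∀ a ∈ Q, a * a = 1 := by
  have hQR : Q ≤ centralizer (R : Set G) := fun q hq =>
    mem_centralizer_iff.2 fun r hr => (mem_centralizer_iff.1 (hcent hr) q hq).symm
  let _ : CommGroup ↥R :=
    { (inferInstance : Group ↥R) with
      mul_comm := fun a b => Subtype.ext (mem_centralizer_iff.1 (hcent b.2) a (hRQ a.2)) }
  set Q2 := Q.map (QuotientGroup.mk' R) with hQ2
  haveI : Q2.Normal := Normal.map ‹Q.Normal› _ (QuotientGroup.mk'_surjective R)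
  let e2 : (G ⧸ R) ⧸ Q2 ≃* SL(2, K) :=
    (QuotientGroup.quotientQuotientEquivQuotient R Q hRQ).trans e
  have he2 : ∀ g : G, e2 (QuotientGroup.mk' Q2 (QuotientGroup.mk' R g)) =
      e (QuotientGroup.mk' Q g) := fun g => rfl
  have hfpf2 : ∀ q ∈ Q2, QuotientGroup.mk' R x * q * (QuotientGroup.mk' R x)⁻¹ = q → q = 1 := by
    rintro _ ⟨q, hq, rfl⟩ h
    rw [← map_inv, ← map_mul, ← map_mul, eq_comm] at h
    rw [QuotientGroup.mk'_apply, QuotientGroup.mk'_apply, QuotientGroup.eq] at h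
    exact (QuotientGroup.eq_one_iff q).2 (mem_of_commutator_mem hRQ hfpf hq h)
  have h2comm : ∀ a ∈ Q2, ∀ b ∈ Q2, a * b = b * a := by
    rintro _ ⟨a, ha, rfl⟩ _ ⟨b, hb, rfl⟩
    rw [← commutatorElement_eq_one_iff_mul_comm, ← map_commutatorElement]
    exact (QuotientGroup.eq_one_iff _).2 (hcomm a ha b hb)
  have hQ2c : Q2 ≤ centralizer (Q2 : Set (G ⧸ R)) := fun a ha =>
    mem_centralizer_iff.2 fun b hb => h2comm b hb a ha
  let _ : CommGroup ↥Q2 :=
    { (inferInstance : Group ↥Q2) with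
      mul_comm := fun a b => Subtype.ext (h2comm _ a.2 _ b.2) }
  have hlift : ∀ a : ↥Q2, ∃ q : ↥Q, QuotientGroup.mk' R (q : G) = (a : G ⧸ R) := by
    rintro ⟨_, q, hq, rfl⟩
    exact ⟨⟨q, hq⟩, rfl⟩
  choose lift hl using hlift
  -- changing a lift does not change a commutator
  have cl : ∀ q q' r : G, r ∈ Q → QuotientGroup.mk' R q = QuotientGroup.mk' R q' →
      ⁅q, r⁆ = ⁅q', r⁆ := by
    intro q q' r hr h
    rw [QuotientGroup.mk'_apply, QuotientGroup.mk'_apply, QuotientGroup.eq] at h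
    have hz := mem_centralizer_iff.1 (hcent h) r hr
    calc ⁅q, r⁆ = q * (r * (q⁻¹ * q')) * (q⁻¹ * q')⁻¹ * q⁻¹ * r⁻¹ := by
          simp only [commutatorElement_def]; group
      _ = ⁅q', r⁆ := by rw [hz]; simp only [commutatorElement_def]; group
  have cr : ∀ q r r' : G, q ∈ Q → QuotientGroup.mk' R r = QuotientGroup.mk' R r' →
      ⁅q, r⁆ = ⁅q, r'⁆ := by
    intro q r r' hq h
    rw [← commutatorElement_inv r q, ← commutatorElement_inv r' q, cl r r' q hq h]
  have cm : ∀ q q' r : G, q ∈ Q → q' ∈ Q → r ∈ Q → ⁅q * q', r⁆ = ⁅q, r⁆ * ⁅q', r⁆ := by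
    intro q q' r hq hq' hr
    have hz := hcent (hcomm q' hq' r hr)
    calc ⁅q * q', r⁆ = q * ⁅q', r⁆ * q⁻¹ * ⁅q, r⁆ := by
          simp only [commutatorElement_def]; group
      _ = ⁅q', r⁆ * ⁅q, r⁆ := by rw [mem_centralizer_iff.1 hz q hq, mul_inv_cancel_right]
      _ = ⁅q, r⁆ * ⁅q', r⁆ :=
        (mem_centralizer_iff.1 hz _ (hRQ (hcomm q hq r hr))).symm
  let B : ↥Q2 → ↥Q2 → ↥R := fun a b => ⟨_, hcomm _ (lift a).2 _ (lift b).2⟩
  have hBl : ∀ a b c, B (a * b) c = B a c * B b c := fun a b c => Subtype.ext (by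
    show ⁅((lift (a * b) : ↥Q) : G), ((lift c : ↥Q) : G)⁆ = ⁅_, _⁆ * ⁅_, _⁆
    rw [← cm _ _ _ (lift a).2 (lift b).2 (lift c).2]
    exact cl _ _ _ (lift c).2 (by rw [map_mul, hl, hl, hl]; rfl))
  have hBr : ∀ a b c, B a (b * c) = B a b * B a c := fun a b c => Subtype.ext (by
    show ⁅((lift a : ↥Q) : G), ((lift (b * c) : ↥Q) : G)⁆ = ⁅_, _⁆ * ⁅_, _⁆
    have h1 : ⁅((lift (b * c) : ↥Q) : G), ((lift a : ↥Q) : G)⁆ =
        ⁅((lift b : ↥Q) : G), ((lift a : ↥Q) : G)⁆ * ⁅((lift c : ↥Q) : G), ((lift a : ↥Q) : G)⁆ :=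
      congrArg Subtype.val (hBl b c a)
    rw [← commutatorElement_inv, h1, _root_.mul_inv_rev, commutatorElement_inv,
      commutatorElement_inv]
    exact (mem_centralizer_iff.1 (hcent (hcomm _ (lift a).2 _ (lift c).2)) _
      (hRQ (hcomm _ (lift a).2 _ (lift b).2))).symm)
  have heq : ∀ g a b, B (phi e2 Q2 hQ2c g a) (phi e2 Q2 hQ2c g b) = phi e R hQR g (B a b) := by
    intro g a b
    obtain ⟨y, rfl⟩ : ∃ y, e (QuotientGroup.mk' Q y) = g := by
      obtain ⟨y, hy⟩ := QuotientGroup.mk'_surjective Q (e.symm g)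
      exact ⟨y, by rw [hy, e.apply_symm_apply]⟩
    have hcl : ∀ c : ↥Q2, QuotientGroup.mk' R
        ((lift (phi e2 Q2 hQ2c (e (QuotientGroup.mk' Q y)) c) : ↥Q) : G) =
        QuotientGroup.mk' R (y * ((lift c : ↥Q) : G) * y⁻¹) := fun c => by
      rw [hl, ← he2, phi_apply, map_mul, map_mul, map_inv, hl]
    apply Subtype.ext
    rw [phi_apply]
    show ⁅((lift _ : ↥Q) : G), ((lift _ : ↥Q) : G)⁆ =
      y * ⁅((lift a : ↥Q) : G), ((lift b : ↥Q) : G)⁆ * y⁻¹
    rw [cl _ _ _ (lift _).2 (hcl a),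
      cr _ _ _ (Normal.conj_mem ‹Q.Normal› _ (lift a).2 y) (hcl b),
      conjugate_commutatorElement]
  have hab : ∀ a ∈ Q, ∀ b ∈ Q, a * b = b * a := by
    intro a ha b hb
    have h1 : B ⟨_, mem_map_of_mem _ ha⟩ ⟨_, mem_map_of_mem _ hb⟩ = 1 :=
      mod_bilin_eq_one hK
        (phi_fpf e2 Q2 hQ2c le_rfl ((he2 x).trans hex) hfpf2)
        (phi_fpf e R hQR hRQ hex hfpf)
        (by
          rintro ⟨_, q, hq, rfl⟩
          exact Subtype.ext ((QuotientGroup.eq_one_iff _).2 (hsq q hq)))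
        (fun r => Subtype.ext (hR2 r r.2)) B hBl hBr heq _ _
    rw [← commutatorElement_eq_one_iff_mul_comm]
    refine Eq.trans ?_ (congrArg Subtype.val h1)
    show ⁅a, b⁆ = ⁅((lift _ : ↥Q) : G), ((lift _ : ↥Q) : G)⁆
    exact ((cl _ a _ (lift _).2 (hl _)).trans (cr a _ b ha (hl _))).symm
  refine ⟨hab, fun a ha => ?_⟩
  let _ : CommGroup ↥Q :=
    { (inferInstance : Group ↥Q) with mul_comm := fun a b => Subtype.ext (hab _ a.2 _ b.2) }
  have hQc : Q ≤ centralizer (Q : Set G) := fun a ha => mem_centralizer_iff.2 fun b hb => hab b hb a ha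
  exact congrArg Subtype.val (mod_sq_eq_one (φ := phi e Q hQc) hK (phi_fpf e Q hQc le_rfl hex hfpf)
    (fun b => Subtype.ext (hR2 _ (hsq _ b.2))) ⟨a, ha⟩)

/-- Higman's theorem, first part: `Q` is elementary abelian. -/
theorem elementary.{u} (hK : 3 < Fintype.card K) : ∀ (n : ℕ) (G : Type u) [Group G] [Finite G],
    Nat.card G = n → ∀ (Q : Subgroup G) [Q.Normal], IsPGroup 2 ↥Q →
    ∀ (e : G ⧸ Q ≃* SL(2, K)) (x : G), e (QuotientGroup.mk' Q x) = U 1 * W K →
    (∀ q ∈ Q, x * q * x⁻¹ = q → q = 1) →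
    (∀ a ∈ Q, ∀ b ∈ Q, a * b = b * a) ∧ ∀ a ∈ Q, a * a = 1 := by
  intro n
  induction n using Nat.strong_induction_on with
  | _ n ih =>
  intro G _ _ hn Q _ hQ e x hex hfpf
  rcases eq_or_ne Q ⊥ with rfl | hQ1
  · exact ⟨fun a ha b hb => by rw [mem_bot.1 ha, mem_bot.1 hb],
      fun a ha => by rw [mem_bot.1 ha, one_mul]⟩
  obtain ⟨R, ⟨hRn, hR1, hRQ⟩, hmin⟩ := exists_minimal_of_wellFoundedLT
    (fun R : Subgroup G => R.Normal ∧ R ≠ ⊥ ∧ R ≤ Q) ⟨Q, inferInstance, hQ1, le_rfl⟩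
  have hRp : IsPGroup 2 ↥R := hQ.to_le hRQ
  have hnQ : Q ≤ normalizer (R : Set G) := by rw [normalizer_eq_top]; exact le_top
  haveI : Fact (Nat.Prime 2) := ⟨Nat.prime_two⟩
  have hC := CfsgLib.Amalgam.inf_centralizer_ne_bot hQ hRp hR1 hnQ
  haveI : (R ⊓ centralizer (Q : Set G)).Normal := inferInstance
  have hcent : R ≤ centralizer (Q : Set G) :=
    (hmin ⟨inferInstance, hC, inf_le_left.trans hRQ⟩ inf_le_left).trans inf_le_right
  have hRcomm : ∀ a ∈ R, ∀ b ∈ R, a * b = b * a := fun a ha b hb =>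
    mem_centralizer_iff.1 (hcent hb) a (hRQ ha)
  let R2 : Subgroup G :=
    { carrier := {r | r ∈ R ∧ r * r = 1}
      one_mem' := ⟨one_mem R, one_mul 1⟩
      mul_mem' := fun {a b} ha hb => ⟨mul_mem ha.1 hb.1, by
        calc a * b * (a * b) = a * (b * a) * b := by group
          _ = a * (a * b) * b := by rw [hRcomm b hb.1 a ha.1]
          _ = a * a * (b * b) := by group
          _ = 1 := by rw [ha.2, hb.2, one_mul]⟩
      inv_mem' := fun {a} ha => ⟨inv_mem ha.1, by rw [← _root_.mul_inv_rev, ha.2, inv_one]⟩ }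
  have hR2n : R2.Normal := ⟨fun r hr g => ⟨hRn.conj_mem r hr.1 g, by
    rw [show g * r * g⁻¹ * (g * r * g⁻¹) = g * (r * r) * g⁻¹ by group, hr.2, mul_one,
      mul_inv_cancel]⟩⟩
  have hdvd : 2 ∣ Nat.card ↥R := by
    obtain ⟨k, hk⟩ := IsPGroup.iff_card.1 hRp
    rw [hk]
    refine dvd_pow_self _ fun hk0 => hR1 ?_
    rw [hk0, pow_zero] at hk
    exact card_eq_one.1 hk
  obtain ⟨r, hr⟩ := exists_prime_orderOf_dvd_card' 2 hdvd
  have hR21 : R2 ≠ ⊥ := by
    intro h
    have hrr : (r : G) ∈ R2 :=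
      ⟨r.2, by rw [← sq, ← hr, ← Subgroup.orderOf_coe r, pow_orderOf_eq_one]⟩
    rw [h, mem_bot] at hrr
    rw [show r = 1 from Subtype.ext hrr, orderOf_one] at hr
    omega
  have hR2 : ∀ r ∈ R, r * r = 1 := fun r hr =>
    (hmin ⟨hR2n, hR21, fun s hs => hRQ hs.1⟩ (fun s hs => hs.1) hr).2
  set Q2 := Q.map (QuotientGroup.mk' R) with hQ2
  haveI : Q2.Normal := Normal.map ‹Q.Normal› _ (QuotientGroup.mk'_surjective R)
  have hlt : Nat.card (G ⧸ R) < n := by
    rw [← hn, card_eq_card_quotient_mul_card_subgroup R]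
    exact lt_mul_of_one_lt_right Nat.card_pos (by
      rw [← not_le]
      exact fun h => hR1 (card_eq_one.1 (le_antisymm h Nat.card_pos)))
  have hfpf2 : ∀ q ∈ Q2, QuotientGroup.mk' R x * q * (QuotientGroup.mk' R x)⁻¹ = q → q = 1 := by
    rintro _ ⟨q, hq, rfl⟩ h
    rw [← map_inv, ← map_mul, ← map_mul, eq_comm] at h
    rw [QuotientGroup.mk'_apply, QuotientGroup.mk'_apply, QuotientGroup.eq] at h
    exact (QuotientGroup.eq_one_iff q).2 (mem_of_commutator_mem hRQ hfpf hq h)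
  obtain ⟨hc2, hs2⟩ := ih _ hlt (G ⧸ R) rfl Q2 (hQ.map _)
    ((QuotientGroup.quotientQuotientEquivQuotient R Q hRQ).trans e) (QuotientGroup.mk' R x)
    hex hfpf2
  refine elementary_step e hK hex hfpf R hRQ hcent hR2 (fun a ha b hb => ?_) fun a ha => ?_
  · rw [← QuotientGroup.eq_one_iff]
    show QuotientGroup.mk' R ⁅a, b⁆ = 1
    rw [map_commutatorElement, commutatorElement_eq_one_iff_mul_comm]
    exact hc2 _ (mem_map_of_mem _ ha) _ (mem_map_of_mem _ hb)
  · rw [← QuotientGroup.eq_one_iff]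
    exact hs2 _ (mem_map_of_mem _ ha)

end CfsgLib.Amalgam.Higman
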