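import Cfsg.Agent.Lib.Amalgam.OmegaCentralizes
import Cfsg.Agent.Lib.InvChar.OddAct
import Cfsg.Agent.Lib.PLocal.Section
import Mathlib.GroupTheory.SpecificGroups.Cyclic

/-!
A `p'`-element acting on a `p`-group all of whose subgroups of one fixed order are invariant
centralizes it, provided it is trivial on invariant cyclic `p`-sections.
-/

set_option autoImplicit false
set_option linter.unusedSectionVars false
set_option linter.style.haveILetI false

namespace CfsgLib.Amalgam

open Subgroup
open scoped commutatorElement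

variable {G : Type*} [Group G] [Finite G] {p : ℕ} [Fact p.Prime]

theorem normalizer_le_normalizer_frattini (R : Subgroup G) :
    normalizer (R : Set G) ≤ normalizer (((frattini R).map R.subtype : Subgroup G) : Set G) := by
  intro g hg
  rw [mem_normalizer_iff_map_conj_eq]
  let e : R ≃* R := R.normalizerMonoidHom ⟨g, hg⟩
  have hφ : (frattini R).map e.toMonoidHom = frattini R := characteristic_iff_map_eq.1 inferInstance e
  show ((frattini R).map R.subtype).map (MulAut.conj g).toMonoidHom = (frattini R).map R.subtype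
  conv_rhs => rw [← hφ]
  rw [map_map, map_map]
  rfl

/-- An element of odd order fixing all `x` with `x ^ 4 = 1` of a `2`-group centralizes it. -/
theorem mem_centralizer_of_fixes_four [Fact (Nat.Prime 2)] {Q : Subgroup G} (hQ : IsPGroup 2 Q) {g : G}
    (hg : g ∈ normalizer (Q : Set G)) (hgp : (orderOf g).Coprime 2)
    (hfix : ∀ x ∈ Q, x ^ 4 = 1 → g * x * g⁻¹ = x) : ∀ x ∈ Q, g * x * g⁻¹ = x := by
  induction Q using WellFoundedLT.induction with
  | ind Q ih =>
    by_cases hQ1 : Q = ⊥
    · intro x hx; rw [hQ1, mem_bot] at hx; subst hx; group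
    haveI : Nontrivial Q := (nontrivial_iff_ne_bot Q).2 hQ1
    set Φ := (frattini Q).map Q.subtype with hΦ
    have hΦQ : Φ ≤ Q := map_subtype_le _
    have hlt : Φ < Q := lt_of_le_of_ne hΦQ fun e => frattini_ne_top' (K := Q) (eq_top_iff.2 fun x _ => by
      have hx : (x : G) ∈ Φ := e.symm ▸ x.2
      exact (mem_map_iff_mem Q.subtype_injective).1 hx)
    have hgΦ : g ∈ normalizer (Φ : Set G) := normalizer_le_normalizer_frattini Q hg
    have hΦfix : ∀ f ∈ Φ, g * f * g⁻¹ = f := ih Φ hlt (hQ.to_le hΦQ) hgΦ fun x hx => hfix x (hΦQ hx)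
    intro x hx
    have hx' : g * x * g⁻¹ ∈ Q := (mem_normalizer_iff.1 hg x).1 hx
    set e := x⁻¹ * (g * x * g⁻¹) with he
    have heQ : e ∈ Q := mul_mem (inv_mem hx) hx'
    set E := Q ⊓ centralizer (Φ : Set G) with hE
    have heE : e ∈ E := by
      refine mem_inf.2 ⟨heQ, mem_centralizer_iff.2 fun f hf => ?_⟩
      have hxn : x ∈ normalizer (Φ : Set G) := normalizer_le_normalizer_frattini Q (le_normalizer hx)
      have h1 := hΦfix _ ((mem_normalizer_iff.1 hxn f).1 hf)
      have h2 := hΦfix f hf
      have h3 : g * x * g⁻¹ * f * (g * x * g⁻¹)⁻¹ = x * f * x⁻¹ := by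
        calc g * x * g⁻¹ * f * (g * x * g⁻¹)⁻¹
            = g * x * g⁻¹ * (g * f * g⁻¹) * (g * x * g⁻¹)⁻¹ := by rw [h2]
          _ = g * (x * f * x⁻¹) * g⁻¹ := by group
          _ = x * f * x⁻¹ := h1
      have h4 := congrArg (fun w => x⁻¹ * w * (g * x * g⁻¹)) h3
      simp only [mul_assoc, inv_mul_cancel, mul_one] at h4
      rw [he]
      simp only [mul_assoc] at h4 ⊢
      rw [inv_mul_cancel_left] at h4
      exact h4.symm
    have hefix : g * e * g⁻¹ = e := by
      rcases (inf_le_left : E ≤ Q).lt_or_eq with hlt' | heq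
      · refine ih E hlt' (hQ.to_le inf_le_left) ?_ (fun y hy => hfix y (inf_le_left (a := Q) hy)) e heE
        exact CfsgLib.Comp.le_normalizer_inf (M := zpowers g) (zpowers_le.2 hg)
          (CfsgLib.Comp.le_normalizer_centralizer (zpowers_le.2 hgΦ)) (mem_zpowers g)
      · refine hfix e heQ ?_
        have hcen : ∀ z ∈ frattini Q, z ∈ center Q := fun z hz => mem_center_iff.2 fun w => Subtype.ext
          ((mem_centralizer_iff.1 (mem_inf.1 (heq.ge w.2)).2 z ⟨z, hz, rfl⟩).symm)
        have hc : ∀ a b : Q, ⁅a, b⁆ ∈ center Q := fun a b =>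
          hcen _ (CfsgLib.Transfer.commutatorElement_mem_frattini hQ a b)
        set X : Q := ⟨x, hx⟩
        set X' : Q := ⟨g * x * g⁻¹, hx'⟩
        have hX2 : X ^ 2 ∈ frattini Q := CfsgLib.Transfer.pow_mem_frattini hQ X
        have hsq : X' ^ 2 = X ^ 2 := Subtype.ext (by
          show (g * x * g⁻¹) ^ 2 = x ^ 2
          rw [conj_pow]; exact hΦfix _ ⟨X ^ 2, hX2, rfl⟩)
        have hc2 : ⁅X', X⁻¹⁆ ^ 2 = 1 := by
          rw [← CfsgLib.Transfer.commutatorElement_pow_left hc, hsq, commutatorElement_eq_one_iff_mul_comm]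
          exact (mem_center_iff.1 (hcen _ hX2) _).symm
        have hpow : (X⁻¹ * X') ^ 4 = 1 := by
          rw [show (4 : ℕ) = 2 * 2 by norm_num, pow_mul, CfsgLib.Transfer.mul_pow_class_two hc,
            show Nat.choose 2 2 = 1 by decide, pow_one, hsq, inv_pow, inv_mul_cancel, one_mul, hc2]
        exact congrArg Subtype.val hpow
    obtain ⟨k, hk⟩ := IsPGroup.iff_orderOf.1 hQ ⟨e, heQ⟩
    refine CfsgLib.InvChar.fix_of_conj_eq_mul hgp (k := k) (e := e) ?_ hefix (by rw [he]; group)
    rw [← hk, ← Subgroup.orderOf_coe, pow_orderOf_eq_one]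

/-- `y` is killed by all maps to automorphism groups of cyclic `p`-groups. -/
theorem centralizes_cyclic {T : Subgroup G} {y : T}
    (hy : ∀ m n : ℕ, m = p ^ n → ∀ f : T →* (ZMod m)ˣ, f y = 1)
    {H : Type*} [Group H] (π : T →* H) (C : Subgroup H) [hC : IsCyclic C] (hCp : IsPGroup p C) [Finite H]
    (hN : ∀ t, π t ∈ normalizer (C : Set H)) : ∀ c ∈ C, π y * c * (π y)⁻¹ = c := by
  intro c hc
  obtain ⟨n, hn⟩ := hCp.exists_card_eq
  have h := hy _ n hn ((IsCyclic.mulAutMulEquiv C).toMonoidHom.comp
    (C.normalizerMonoidHom.comp (π.codRestrict _ hN)))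
  have h2 : C.normalizerMonoidHom ⟨π y, hN y⟩ = 1 := (IsCyclic.mulAutMulEquiv C).map_eq_one_iff.1 h
  have := congrArg Subtype.val (DFunLike.congr_fun h2 ⟨c, hc⟩)
  simpa using this

theorem exists_card_between {R A : Subgroup G} (hR : IsPGroup p R) (hA : A ≤ R) {k : ℕ}
    (h1 : Nat.card A ≤ p ^ k) (h2 : p ^ k ≤ Nat.card R) :
    ∃ E, A ≤ E ∧ E ≤ R ∧ Nat.card E = p ^ k := by
  obtain ⟨n, hn⟩ := (hR.to_le hA).exists_card_eq
  obtain ⟨N, hN⟩ := hR.exists_card_eq
  have hnk : n ≤ k := (Nat.pow_le_pow_iff_right (Fact.out : p.Prime).one_lt).1 (hn ▸ h1)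
  have hkN : k ≤ N := (Nat.pow_le_pow_iff_right (Fact.out : p.Prime).one_lt).1 (hN ▸ h2)
  obtain ⟨K, hK, hle⟩ := Sylow.exists_subgroup_card_pow_prime_le p (hN ▸ pow_dvd_pow p hkN)
    (A.subgroupOf R) (by rw [Nat.card_congr (subgroupOfEquivOfLe hA).toEquiv, hn]) hnk
  refine ⟨K.map R.subtype, fun a ha => ⟨⟨a, hA ha⟩, hle (mem_subgroupOf.2 ha), rfl⟩, map_subtype_le _, ?_⟩
  rw [card_map_of_injective R.subtype_injective, hK]

theorem card_sup_zpowers_le {R : Subgroup G} (hR : IsPGroup p R) (x : R) :
    Nat.card (frattini R ⊔ zpowers x : Subgroup R) ≤ Nat.card (frattini R) * p := by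
  have hpp : (p : ℤ) ≠ 0 := by exact_mod_cast (Fact.out : p.Prime).ne_zero
  let F : frattini R × Fin p → (frattini R ⊔ zpowers x : Subgroup R) := fun a =>
    ⟨a.1 * x ^ (a.2 : ℕ), mul_mem_sup a.1.2 (pow_mem (mem_zpowers x) _)⟩
  refine (Nat.card_le_card_of_surjective F ?_).trans ?_
  · rintro ⟨z, hz⟩
    rw [← SetLike.mem_coe, normal_mul] at hz
    obtain ⟨f, hf, w, hw, rfl⟩ := hz
    obtain ⟨i, rfl⟩ := mem_zpowers_iff.1 hw
    have hr0 := Int.emod_nonneg i hpp
    have hr1 := Int.emod_lt_of_pos i (by exact_mod_cast (Fact.out : p.Prime).pos : (0 : ℤ) < p)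
    refine ⟨(⟨f * (x ^ p) ^ (i / (p : ℤ)), mul_mem hf (zpow_mem (CfsgLib.Transfer.pow_mem_frattini hR x) _)⟩,
      ⟨(i % (p : ℤ)).toNat, by omega⟩), Subtype.ext ?_⟩
    show f * (x ^ p) ^ (i / (p : ℤ)) * x ^ ((i % (p : ℤ)).toNat) = f * x ^ i
    rw [mul_assoc, ← zpow_natCast x p, ← zpow_mul, ← zpow_natCast x (i % (p : ℤ)).toNat, Int.toNat_of_nonneg hr0,
      ← zpow_add, Int.mul_ediv_add_emod]
  · rw [Nat.card_prod, Nat.card_fin]

/-- A `p'`-element `y` of `T`, killed by maps to automorphism groups of cyclic `p`-groups,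
centralizes every `T`-invariant subgroup of order `> p ^ k` of the `p`-group `P`, if in those
all subgroups of order `p ^ k` (and `4` if `p ^ k = 2`) are `T`-invariant. -/
theorem centralizes_of_invariant_subgroups {P T : Subgroup G} (hP : IsPGroup p P) {k : ℕ} (hk : 1 ≤ k)
    (y : T) (hcop : (orderOf (y : G)).Coprime p)
    (hy : ∀ m n : ℕ, m = p ^ n → ∀ f : T →* (ZMod m)ˣ, f y = 1)
    (hinv : ∀ R : Subgroup G, R ≤ P → T ≤ normalizer (R : Set G) → ∀ E : Subgroup G, E ≤ R →
      (Nat.card E = p ^ k ∨ (p ^ k = 2 ∧ Nat.card E = 4)) → T ≤ normalizer (E : Set G)) :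
    ∀ R : Subgroup G, R ≤ P → T ≤ normalizer (R : Set G) → p ^ k < Nat.card R →
      ∀ x ∈ R, (y : G) * x * (y : G)⁻¹ = x := by
  have hp1 : 1 < p := (Fact.out : p.Prime).one_lt
  intro R
  induction R using WellFoundedLT.induction with
  | ind R ih =>
    intro hRP hTR hcard
    have hR : IsPGroup p R := hP.to_le hRP
    set Φ := (frattini R).map R.subtype with hΦdef
    have hΦR : Φ ≤ R := map_subtype_le _
    have hTΦ : T ≤ normalizer (Φ : Set G) := hTR.trans (normalizer_le_normalizer_frattini R)
    have hΦc : Nat.card Φ = Nat.card (frattini R) := card_map_of_injective R.subtype_injective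
    have hcyc : ∀ C : Subgroup G, IsCyclic C → C ≤ P → T ≤ normalizer (C : Set G) →
        ∀ c ∈ C, (y : G) * c * (y : G)⁻¹ = c := fun C hC hCP hTC =>
      centralizes_cyclic (hC := hC) hy T.subtype C (hP.to_le hCP) fun t => hTC t.2
    rcases lt_or_ge (Nat.card Φ) (p ^ k) with hsmall | hbig
    · have hMinv : ∀ M : Subgroup R, IsCoatom M → T ≤ normalizer ((M.map R.subtype : Subgroup G) : Set G) := by
        intro M hM
        obtain ⟨hMn, hMi⟩ := CfsgLib.Transfer.coatom_index_eq_prime hR hM
        obtain ⟨j, hj⟩ := (hR.to_le hΦR).exists_card_eq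
        have hjk : j + 1 ≤ k := (Nat.pow_lt_pow_iff_right hp1).1 (hj ▸ hsmall)
        have hMk : p ^ k ≤ Nat.card M := by
          obtain ⟨N, hN⟩ := hR.exists_card_eq
          have h1 := M.card_mul_index
          rw [hMi, hN] at h1
          have h2 : k < N := (Nat.pow_lt_pow_iff_right hp1).1 (hN ▸ hcard)
          have h3 : p ^ k * p ≤ Nat.card M * p := by
            rw [h1, ← pow_succ]; exact Nat.pow_le_pow_right hp1.le h2
          exact Nat.le_of_mul_le_mul_right h3 (by omega)
        refine fun t ht => mem_normalizer_iff_map_conj_eq.2 ?_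
        refine eq_of_le_of_card_ge ?_ (card_map_of_injective (MulEquiv.injective _)).ge
        rintro _ ⟨_, ⟨m, hm, rfl⟩, rfl⟩
        set L := frattini R ⊔ zpowers m with hL
        have hLM : L ≤ M := sup_le (frattini_le_coatom hM) (zpowers_le.2 hm)
        have hLc : Nat.card (L.map R.subtype) ≤ p ^ k := by
          rw [card_map_of_injective R.subtype_injective]
          refine (card_sup_zpowers_le hR m).trans ?_
          rw [← hΦc, hj, ← pow_succ]
          exact Nat.pow_le_pow_right hp1.le hjk
        obtain ⟨E, hLE, hEM, hEc⟩ := exists_card_between (hR.to_le (map_subtype_le M)) (map_mono hLM) hLc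
          (by rw [card_map_of_injective R.subtype_injective]; exact hMk)
        have hmE : (m : G) ∈ E := hLE (mem_map_of_mem _ (mem_sup_right (mem_zpowers m)))
        exact hEM ((mem_normalizer_iff.1 (hinv R hRP hTR E (hEM.trans (map_subtype_le M)) (Or.inl hEc) ht) _).1 hmE)
      have htriv : ∀ x ∈ R, x⁻¹ * (y : G)⁻¹ * x * y ∈ Φ := by
        intro x hx
        have hx' : (y : G)⁻¹ * x * y ∈ R := by
          simpa using (mem_normalizer_iff.1 (inv_mem (hTR y.2)) x).1 hx
        refine ⟨⟨x⁻¹ * (y : G)⁻¹ * x * y, by simpa [mul_assoc] using mul_mem (inv_mem hx) hx'⟩, ?_, rfl⟩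
        rw [SetLike.mem_coe, frattini, Order.radical]
        simp only [mem_iInf]
        intro M hM
        obtain ⟨hMn, hMi⟩ := CfsgLib.Transfer.coatom_index_eq_prime hR hM
        set M' := M.map R.subtype with hM'
        set N := normalizer (M' : Set G)
        have hM'R : M' ≤ R := map_subtype_le M
        have hM'N : M' ≤ N := le_normalizer
        have hRN : R ≤ N := by
          intro r hr
          rw [mem_normalizer_iff_map_conj_eq]
          refine eq_of_le_of_card_ge ?_ (card_map_of_injective (MulEquiv.injective _)).ge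
          rintro _ ⟨_, ⟨m, hm, rfl⟩, rfl⟩
          exact ⟨_, hMn.conj_mem m hm ⟨r, hr⟩, rfl⟩
        let q := QuotientGroup.mk' (M'.subgroupOf N)
        set C := (R.subgroupOf N).map q with hC
        have hCc : Nat.card C = p := by
          rw [hC, ← relIndex_ker, QuotientGroup.ker_mk', relIndex_subgroupOf hRN,
            relIndex, hM', subgroupOf, comap_map_eq_self_of_injective R.subtype_injective, hMi]
        haveI : IsCyclic C := isCyclic_of_prime_card hCc
        let π : T →* N ⧸ M'.subgroupOf N := q.comp (inclusion (hMinv M hM))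
        have hπ : ∀ t, π t ∈ normalizer (C : Set (N ⧸ M'.subgroupOf N)) := fun t =>
          le_normalizer_map (f := q) (H := R.subgroupOf N) (mem_map_of_mem q (x := inclusion (hMinv M hM) t)
            (mem_normalizer_iff.2 fun r => by simp only [mem_subgroupOf, Subgroup.coe_mul, InvMemClass.coe_inv, coe_inclusion]; exact mem_normalizer_iff.1 (hTR t.2) (r : G)))
        have h1 := centralizes_cyclic hy π C (IsPGroup.of_card (n := 1) (by rw [hCc, pow_one])) hπ
          (q (⟨x, hRN hx⟩ : N)) (mem_map_of_mem q (mem_subgroupOf.2 hx))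
        have h2 : q (⟨x, hRN hx⟩⁻¹ * (inclusion (hMinv M hM) y)⁻¹ * ⟨x, hRN hx⟩ * inclusion (hMinv M hM) y) = 1 := by
          have h3 : π y * q ⟨x, hRN hx⟩ = q ⟨x, hRN hx⟩ * π y := mul_inv_eq_iff_eq_mul.1 h1
          simp only [π, MonoidHom.comp_apply] at h3
          simp only [map_mul, map_inv, mul_assoc, ← h3, inv_mul_cancel_left, inv_mul_cancel]
        obtain ⟨m, hm, hmx⟩ := mem_subgroupOf.1 ((QuotientGroup.eq_one_iff _).1 h2)
        have e : m = ⟨x⁻¹ * (y : G)⁻¹ * x * y, by simpa [mul_assoc] using mul_mem (inv_mem hx) hx'⟩ :=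
          Subtype.ext hmx
        exact e ▸ hm
      exact fun x hx => mul_inv_eq_iff_eq_mul.2 ((mem_centralizer_iff.1
        (CfsgLib.PLocal.centralizes_of_trivial_on_frattini_quotient hR (hTR y.2) hcop htriv) x hx).symm)
    · -- all elements with `x ^ (p ^ k) = 1` are fixed
      have hfix : ∀ x ∈ R, x ^ p ^ k = 1 → (y : G) * x * (y : G)⁻¹ = x := by
        have hnc : ∀ E, E ≤ R → E ⊔ Φ = R → E = R := by
          intro E hE he
          refine le_antisymm hE (subgroupOf_eq_top.1 (frattini_nongenerating ?_))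
          rw [← map_subtype_inj, Subgroup.map_sup, subgroupOf_map_subtype, inf_eq_left.2 hE, ← hΦdef, he,
            ← MonoidHom.range_eq_map, range_subtype]
        have hstep : ∀ x ∈ R, x ^ p ^ k = 1 → (x ∉ Φ ∨ p ^ k < Nat.card Φ) →
            ∀ z, z ∈ Φ ∨ z = x → (y : G) * z * (y : G)⁻¹ = z := by
          intro x hx hxk hor z hz
          obtain ⟨E, hxE, hER, hEc⟩ := exists_card_between hR (zpowers_le.2 hx)
            (by rw [Nat.card_zpowers]; exact orderOf_le_of_pow_eq_one (pow_pos (by omega) k) hxk) hcard.le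
          have hTE := hinv R hRP hTR E hER (Or.inl hEc)
          have hne : E ⊔ Φ ≠ R := fun he => absurd ((hnc E hER he) ▸ hEc) hcard.ne'
          refine ih _ (lt_of_le_of_ne (sup_le hER hΦR) hne) ((sup_le hER hΦR).trans hRP) ?_ ?_ z ?_
          · exact fun t ht => mem_normalizer_iff_map_conj_eq.2 (by
              rw [Subgroup.map_sup, mem_normalizer_iff_map_conj_eq.1 (hTE ht),
                mem_normalizer_iff_map_conj_eq.1 (hTΦ ht)])
          · rcases hor with h | h
            · rw [← hEc]
              refine lt_of_le_of_ne (card_le_of_le le_sup_left) fun e => h ?_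
              have h1 : Φ ≤ E := le_sup_right.trans (eq_of_le_of_card_ge le_sup_left e.ge).ge
              rw [eq_of_le_of_card_ge h1 (hEc ▸ hbig)]
              exact hxE (mem_zpowers x)
            · exact h.trans_le (card_le_of_le le_sup_right)
          · rcases hz with hz | rfl
            · exact mem_sup_right hz
            · exact mem_sup_left (hxE (mem_zpowers _))
        by_cases hex : ∃ x ∈ R, x ^ p ^ k = 1 ∧ (x ∉ Φ ∨ p ^ k < Nat.card Φ)
        · obtain ⟨x₀, hx₀, hx₀k, hor⟩ := hex
          intro x hx hxk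
          by_cases hxΦ : x ∈ Φ
          · exact hstep x₀ hx₀ hx₀k hor x (Or.inl hxΦ)
          · exact hstep x hx hxk (Or.inl hxΦ) x (Or.inr rfl)
        · push Not at hex
          intro x hx hxk
          have hΦeq : Nat.card Φ = p ^ k := le_antisymm (hex x hx hxk).2 hbig
          by_cases hcy : IsCyclic Φ
          · exact hcyc Φ hcy (hΦR.trans hRP) hTΦ x (hex x hx hxk).1
          · exfalso
            have hall : ∀ r ∈ R, r ∈ Φ := by
              intro r hr
              refine (hex r hr ?_).1
              set f : frattini R := ⟨(⟨r, hr⟩ : R) ^ p, CfsgLib.Transfer.pow_mem_frattini hR _⟩ with hf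
              obtain ⟨n, rfl⟩ : ∃ n, k = n + 1 := ⟨k - 1, by omega⟩
              have h2 : f ^ p ^ n = 1 := by
                obtain ⟨j, hj⟩ := IsPGroup.iff_orderOf.1 (hR.to_subgroup (frattini R)) f
                have hle : j ≤ n + 1 := (Nat.pow_le_pow_iff_right hp1).1
                  (hj ▸ (hΦc.symm.trans hΦeq) ▸ Nat.le_of_dvd Nat.card_pos (orderOf_dvd_natCard f))
                rcases hle.lt_or_eq with h | h
                · exact orderOf_dvd_iff_pow_eq_one.1 (hj ▸ pow_dvd_pow p (Nat.le_of_lt_succ h))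
                · exfalso
                  apply hcy
                  haveI : IsCyclic (frattini R) :=
                    isCyclic_of_orderOf_eq_card f (by rw [hj, h, ← hΦc, hΦeq])
                  exact (equivMapOfInjective (frattini R) R.subtype R.subtype_injective).isCyclic.1 inferInstance
              have h3 := congrArg (fun z : frattini R => ((z : R) : G)) h2
              simp only [hf] at h3
              push_cast at h3
              rwa [← pow_mul, ← pow_succ'] at h3
            have : R ≤ Φ := hall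
            exact absurd (card_le_of_le this) (by omega)
      by_cases hp2 : p = 2
      · subst hp2
        refine mem_centralizer_of_fixes_four hR (hTR y.2) hcop fun x hx hx4 => ?_
        by_cases h2 : x ^ 2 ^ k = 1
        · exact hfix x hx h2
        · have hk1 : k = 1 := by
            by_contra hne
            obtain ⟨j, rfl⟩ : ∃ j, k = 2 + j := ⟨k - 2, by omega⟩
            exact h2 (by rw [pow_add, pow_mul, show (2 : ℕ) ^ 2 = 4 by norm_num, hx4, one_pow])
          subst hk1
          have ho : orderOf x = 4 := by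
            have := orderOf_eq_prime_pow (p := 2) (n := 1) (x := x) h2 (by simpa using hx4)
            simpa using this
          exact hcyc _ (inferInstance : IsCyclic (zpowers x)) ((zpowers_le.2 hx).trans hRP)
            (hinv R hRP hTR _ (zpowers_le.2 hx) (Or.inr ⟨by norm_num, by rw [Nat.card_zpowers, ho]⟩)) x
            (mem_zpowers x)
      · intro x hx
        have h1 := mem_centralizer_of_fixes_omega hp2 hR (hTR y.2) hcop (fun z hz hzp =>
          mul_inv_eq_iff_eq_mul.1 (hfix z hz (by
            obtain ⟨n, rfl⟩ : ∃ n, k = n + 1 := ⟨k - 1, by omega⟩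
            rw [pow_succ', pow_mul, hzp, one_pow])))
        exact mul_inv_eq_iff_eq_mul.2 (mem_centralizer_iff.1 h1 x hx).symm

end CfsgLib.Amalgam
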