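import Cfsg.Agent.Lib.Amalgam.StronglyClosedComplement
import Cfsg.Agent.Lib.Solvable.SupersolvableAction

/-!
Supersolvability from strongly closed subgroups of one fixed order in the Sylow subgroups of a
normal subgroup with supersolvable quotient.
-/

set_option autoImplicit false
set_option linter.unusedSectionVars false
set_option linter.style.haveILetI false

namespace CfsgLib.Amalgam

open Subgroup
open scoped commutatorElement

universe u

variable {p : ℕ} [hp : Fact p.Prime]

/-- `G' G ^ (p - 1)`. -/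
def expResidual (p : ℕ) (G : Type u) [Group G] : Subgroup G :=
  commutator G ⊔ closure (Set.range fun a : G => a ^ (p - 1))

theorem map_expResidual {G H : Type u} [Group G] [Group H] (f : G →* H) (hf : Function.Surjective f) :
    (expResidual p G).map f = expResidual p H := by
  unfold expResidual
  rw [Subgroup.map_sup, commutator_def, map_commutator, map_top_of_surjective f hf, ← commutator_def,
    MonoidHom.map_closure]
  congr 2
  ext b
  constructor
  · rintro ⟨_, ⟨a, rfl⟩, rfl⟩
    exact ⟨f a, (map_pow f a _).symm⟩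
  · rintro ⟨a, rfl⟩
    obtain ⟨a, rfl⟩ := hf a
    exact ⟨_, ⟨a, rfl⟩, map_pow f a _⟩

variable {G : Type u} [Group G] [Finite G]

theorem expResidual_normal : (expResidual p G).Normal := ⟨fun n hn g => by
  have h1 : ⁅g, n⁆ ∈ expResidual p G := le_sup_left (a := commutator G)
    (commutator_def G ▸ commutator_mem_commutator (mem_top g) (mem_top n))
  have h2 := mul_mem h1 hn
  simpa [commutatorElement_def, mul_assoc] using h2⟩

theorem hom_units_eq_one_of_mem_expResidual {y : G} (hy : y ∈ expResidual p G)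
    (hcop : (orderOf y).Coprime p) :
    ∀ m n : ℕ, m = p ^ n → ∀ f : (⊤ : Subgroup G) →* (ZMod m)ˣ, f ⟨y, mem_top y⟩ = 1 := by
  rintro _ n rfl f
  haveI : NeZero (p ^ n) := ⟨pow_ne_zero n hp.out.ne_zero⟩
  let f' : G →* (ZMod (p ^ n))ˣ := f.comp (Subgroup.topEquiv (G := G)).symm.toMonoidHom
  show f' y = 1
  have hu : ∀ u : (ZMod (p ^ n))ˣ, u ^ ((p - 1) * p ^ n) = 1 := by
    intro u
    have h := orderOf_dvd_natCard u
    rw [Nat.card_eq_fintype_card, ZMod.card_units_eq_totient] at h
    refine orderOf_dvd_iff_pow_eq_one.1 (h.trans ?_)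
    rcases Nat.eq_zero_or_pos n with rfl | hn
    · simp
    · rw [Nat.totient_prime_pow hp.out hn, mul_comm]
      exact mul_dvd_mul_left _ (pow_dvd_pow p (Nat.sub_le n 1))
  have h1 : expResidual p G ≤ ((powMonoidHom (p ^ n)).comp f').ker := by
    refine sup_le (Abelianization.commutator_subset_ker _) ((closure_le _).2 ?_)
    rintro _ ⟨a, rfl⟩
    show (f' (a ^ (p - 1))) ^ p ^ n = 1
    rw [map_pow, ← pow_mul, hu]
  have h2 : (f' y) ^ p ^ n = 1 := h1 hy
  refine orderOf_eq_one_iff.1 (Nat.eq_one_of_dvd_coprimes (hcop.pow_right n) (orderOf_map_dvd f' y)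
    (orderOf_dvd_of_pow_eq_one h2))

/-- `P` normal, all subgroups of order `p ^ k` (and `4`) normal: `p'`-elements of the residual centralize `P`. -/
theorem expResidual_centralizes {P : Subgroup G} [P.Normal] (hP : IsPGroup p P) {k : ℕ} (hk : 1 ≤ k)
    (hlt : p ^ k < Nat.card P)
    (hF : ∀ F : Subgroup G, F ≤ P → (Nat.card F = p ^ k ∨ (p ^ k = 2 ∧ Nat.card F = 4)) → F.Normal)
    {y : G} (hy : y ∈ expResidual p G) (hcop : (orderOf y).Coprime p) :
    y ∈ centralizer (P : Set G) := by
  have htop : ∀ F : Subgroup G, F.Normal → (⊤ : Subgroup G) ≤ normalizer (F : Set G) := fun F hn =>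
    (normalizer_eq_top_iff.2 hn).ge
  have h1 := centralizes_of_invariant_subgroups (T := ⊤) hP hk ⟨y, mem_top y⟩ hcop
    (hom_units_eq_one_of_mem_expResidual hy hcop)
    (fun R hRP _ E hER hEc => htop E (hF E (hER.trans hRP) hEc)) P le_rfl (htop P inferInstance) hlt
  exact mem_centralizer_iff.2 fun x hx => (mul_inv_eq_iff_eq_mul.1 (h1 x hx)).symm

/-- If `G / P` is supersolvable and the `p'`-elements of `G' G ^ (p - 1)` centralize the normal
`p`-subgroup `P`, then `G` is supersolvable. -/
theorem isSupersolvable_of_residual_centralizes : ∀ (n : ℕ) {G : Type u} [Group G] [Finite G],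
    Nat.card G = n → ∀ (P : Subgroup G) [P.Normal], IsPGroup p P → Cfsg.IsSupersolvable (G ⧸ P) →
    (∀ y ∈ expResidual p G, (orderOf y).Coprime p → y ∈ centralizer (P : Set G)) →
    Cfsg.IsSupersolvable G := by
  intro n
  induction n using Nat.strong_induction_on with
  | _ n ih =>
    intro G _ _ hn P _ hP hq hA
    by_cases hb : P = ⊥
    · subst hb
      exact CfsgLib.Solvable.isSupersolvable_of_surjective (QuotientGroup.quotientBot (G := G)).toMonoidHom
        QuotientGroup.quotientBot.surjective hq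
    obtain ⟨N, hNn, hNne, hNP, hmin⟩ := CfsgLib.Solvable.exists_minimal_normal_le ‹P.Normal› hb
    set A := expResidual p G with hAdef
    haveI : A.Normal := expResidual_normal
    -- `A` centralizes `N`
    let φ : G →* MulAut N := MulAut.conjNormal
    have hIm : IsPGroup p (A.map φ) := by
      rintro ⟨_, a, ha, rfl⟩
      obtain ⟨s, m, hm, hsm⟩ := Nat.exists_eq_pow_mul_and_not_dvd (orderOf_pos a).ne' p hp.out.ne_one
      refine ⟨s, Subtype.ext ?_⟩
      have hco : (orderOf (a ^ p ^ s)).Coprime p := by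
        rw [orderOf_pow_of_dvd (pow_ne_zero _ hp.out.ne_zero) (hsm ▸ Dvd.intro m rfl), hsm,
          Nat.mul_div_cancel_left _ (pow_pos hp.out.pos s)]
        exact ((Nat.Prime.coprime_iff_not_dvd hp.out).2 hm).symm
      have hc := hA _ (pow_mem ha _) hco
      show φ a ^ p ^ s = 1
      rw [← map_pow]
      refine MulEquiv.ext fun x => Subtype.ext ?_
      show (MulAut.conjNormal (H := N) (a ^ p ^ s) x : G) = x
      rw [MulAut.conjNormal_apply, ← mem_centralizer_iff.1 hc x (hNP x.2), mul_inv_cancel_right]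
    have hNp : p ∣ Nat.card N := by
      obtain ⟨j, hj⟩ := (hP.to_le hNP).exists_card_eq
      rcases Nat.eq_zero_or_pos j with rfl | hj0
      · exact absurd (Subgroup.card_eq_one.1 (by rw [hj, pow_zero])) hNne
      · exact hj ▸ dvd_pow_self p hj0.ne'
    obtain ⟨b, hb1, hb2⟩ := hIm.exists_fixed_point_of_prime_dvd_card_of_fixed_point (α := N) hNp
      (a := 1) (fun a => map_one (a : MulAut N))
    have hbA : (b : G) ∈ N ⊓ centralizer (A : Set G) := by
      refine mem_inf.2 ⟨b.2, mem_centralizer_iff.2 fun a ha => ?_⟩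
      have h1 : φ a b = b := hb1 ⟨φ a, mem_map_of_mem φ ha⟩
      have h2 := congrArg Subtype.val h1
      simp [φ] at h2
      exact mul_inv_eq_iff_eq_mul.1 h2
    have hNA : N ⊓ centralizer (A : Set G) = N := by
      rcases hmin (N ⊓ centralizer (A : Set G)) inferInstance inf_le_left with h | h
      · rw [h, mem_bot] at hbA
        exact absurd (Subtype.ext hbA.symm) hb2
      · exact h
    have hAN : ∀ a ∈ A, a ∈ centralizer (N : Set G) := fun a ha => mem_centralizer_iff.2 fun x hx =>
      (mem_centralizer_iff.1 (mem_inf.1 (hNA.ge hx)).2 a ha).symm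
    have hcard := CfsgLib.Solvable.card_minimal_normal_eq (P := P) (H := ⊤) hP (sup_top_eq P) hNP hNne hmin
      (fun a _ b _ => hAN _ (le_sup_left (a := commutator G)
        (commutator_def G ▸ commutator_mem_commutator (mem_top a) (mem_top b))))
      (fun a _ => hAN _ (le_sup_right (a := commutator G) (subset_closure ⟨a, rfl⟩)))
    haveI : IsCyclic N := CfsgLib.Solvable.isCyclic_of_card_prime (hcard ▸ hp.out)
    set π := QuotientGroup.mk' N
    have hs : Function.Surjective π := QuotientGroup.mk'_surjective N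
    haveI : (P.map π).Normal := Subgroup.Normal.map ‹_› π hs
    refine CfsgLib.Solvable.isSupersolvable_of_cyclic_normal N
      (ih _ (hn ▸ CfsgLib.Solvable.card_quotient_lt hNne) rfl (P.map π) (hP.map π) ?_ ?_)
    · refine CfsgLib.Solvable.isSupersolvable_of_surjective
        (QuotientGroup.map P (P.map π) π (le_comap_map π P)) ?_ hq
      exact QuotientGroup.map_surjective_of_surjective P (P.map π) π
        ((QuotientGroup.mk'_surjective _).comp hs) _
    · intro y hy hyc
      rw [← map_expResidual π hs] at hy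
      obtain ⟨a, ha, rfl⟩ := hy
      obtain ⟨s, m, hm, hsm⟩ := Nat.exists_eq_pow_mul_and_not_dvd (orderOf_pos a).ne' p hp.out.ne_one
      have hco : (orderOf (a ^ p ^ s)).Coprime p := by
        rw [orderOf_pow_of_dvd (pow_ne_zero _ hp.out.ne_zero) (hsm ▸ Dvd.intro m rfl), hsm,
          Nat.mul_div_cancel_left _ (pow_pos hp.out.pos s)]
        exact ((Nat.Prime.coprime_iff_not_dvd hp.out).2 hm).symm
      have hc := hA _ (pow_mem ha _) hco
      obtain ⟨t, ht⟩ := exists_pow_eq_self_of_coprime (x := π a) (n := p ^ s) ((hyc.pow_right s).symm)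
      rw [← ht, mem_centralizer_iff]
      rintro _ ⟨w, hw, rfl⟩
      rw [← map_pow, ← map_pow, ← map_mul, ← map_mul, mem_centralizer_iff.1 (pow_mem hc t) w hw]

/-- The hypothesis on the non-cyclic Sylow subgroups of `E`. -/
def FixedOrderClosed (E : Subgroup G) : Prop :=
  ∀ (p : ℕ), p.Prime → ∀ P : Subgroup G, P ≤ E → IsPGroup p P → ¬ p ∣ P.relIndex E → ¬ IsCyclic ↥P →
    ∃ D : Subgroup G, D ≤ P ∧ 1 < Nat.card D ∧ Nat.card D < Nat.card P ∧
      ∀ F : Subgroup G, F ≤ P → (Nat.card F = Nat.card D ∨ (Nat.card D = 2 ∧ Nat.card F = 4)) →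
        ∀ g : G, F.map (MulAut.conj g).toMonoidHom ⊓ normalizer (F : Set G) ≤ F

/-- A nontrivial normal subgroup with closed fixed-order subgroups has a nontrivial normal Sylow
subgroup which is normal in the group. -/
theorem exists_normal_sylow_of_fixedOrderClosed : ∀ E : Subgroup G, E.Normal → E ≠ ⊥ → FixedOrderClosed E →
    ∃ (q : ℕ) (P : Subgroup G), q.Prime ∧ P.Normal ∧ P ≠ ⊥ ∧ P ≤ E ∧ IsPGroup q P ∧ ¬ q ∣ P.relIndex E := by
  intro E
  induction E using WellFoundedLT.induction with
  | ind E ih =>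
    intro hEn hE1 hE
    have hEc : Nat.card E ≠ 1 := fun h => hE1 (Subgroup.card_eq_one.1 h)
    set p := (Nat.card E).minFac with hpdef
    haveI hp : Fact p.Prime := ⟨Nat.minFac_prime hEc⟩
    obtain ⟨S⟩ := (inferInstance : Nonempty (Sylow p E))
    set P := (S : Subgroup E).map E.subtype with hPdef
    have hPE : P ≤ E := map_subtype_le _
    have hPS : P.subgroupOf E = S := comap_map_eq_self_of_injective E.subtype_injective _
    have hPi : ¬ p ∣ P.relIndex E := by rw [relIndex, hPS]; exact S.not_dvd_index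
    have hnpc : Cfsg.HasNormalPComplement p E := by
      refine hasNormalPComplement_of_strongly_closed_in_normalizer
        (fun q hq h => Nat.minFac_le_of_dvd hq.two_le h) S ?_
      by_cases hc : IsCyclic P
      · exact Or.inl (((S : Subgroup E).equivMapOfInjective E.subtype E.subtype_injective).isCyclic.2 hc)
      obtain ⟨D, hDP, hD1, hDlt, hD⟩ := hE p hp.out P hPE (S.2.map _) hPi hc
      refine Or.inr ⟨D.subgroupOf E, hPS ▸ comap_mono hDP, ?_, ?_, ?_⟩
      · rwa [Nat.card_congr (subgroupOfEquivOfLe (hDP.trans hPE)).toEquiv]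
      · rw [Nat.card_congr (subgroupOfEquivOfLe (hDP.trans hPE)).toEquiv]
        rwa [hPdef, card_map_of_injective E.subtype_injective] at hDlt
      · rw [Nat.card_congr (subgroupOfEquivOfLe (hDP.trans hPE)).toEquiv]
        intro F hF hFc g w hw
        obtain ⟨⟨f, hf, rfl⟩, hwN⟩ := mem_inf.1 hw
        have h := hD (F.map E.subtype) (map_mono hF)
          (by rw [card_map_of_injective E.subtype_injective]; exact hFc) (g : G)
          (mem_inf.2 ⟨mem_map_of_mem _ (mem_map_of_mem E.subtype hf),
            le_normalizer_map _ (mem_map_of_mem E.subtype hwN)⟩)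
        obtain ⟨v, hv, e⟩ := h
        have e' : v = (MulAut.conj g).toMonoidHom f := Subtype.ext e
        exact e' ▸ hv
    haveI := CfsgLib.Transfer.pResidual_characteristic (G := E) (p := p)
    haveI := hEn
    set K := (Cfsg.pResidual p E).map E.subtype with hKdef
    have hKn : K.Normal := ConjAct.normal_of_characteristic_of_normal
    have hKE : K ≤ E := map_subtype_le _
    obtain ⟨n, hn⟩ := CfsgLib.Transfer.pResidual_index_eq_pow (G := E) (p := p)
    have hKrel : K.relIndex E = p ^ n := by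
      rw [relIndex, hKdef, subgroupOf, comap_map_eq_self_of_injective E.subtype_injective, hn]
    have hcop := CfsgLib.Transfer.hasNormalPComplement_iff_coprime_pResidual.1 hnpc
    have hKc : Nat.card K = Nat.card (Cfsg.pResidual p E) := card_map_of_injective E.subtype_injective
    by_cases hK1 : K = ⊥
    · refine ⟨p, E, hp.out, hEn, hE1, le_rfl, ?_, by rw [relIndex_self]; exact hp.out.not_dvd_one⟩
      exact IsPGroup.of_card (n := n) (by rw [← relIndex_bot_left, ← hK1, hKrel])
    have hKlt : K < E := by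
      refine lt_of_le_of_ne hKE fun e => ?_
      have h1 : p ∣ Nat.card K := by rw [e]; exact Nat.minFac_dvd _
      exact hp.out.coprime_iff_not_dvd.1 ((hKc ▸ hcop).symm) h1
    have hKcl : FixedOrderClosed K := by
      intro q hq Q hQK hQq hQi hQc
      haveI : Fact q.Prime := ⟨hq⟩
      refine hE q hq Q (hQK.trans hKE) hQq ?_ hQc
      rw [← relIndex_mul_relIndex Q K E hQK hKE, hKrel]
      intro hd
      rcases hq.dvd_mul.1 hd with h | h
      · exact hQi h
      · have hqp := (Nat.prime_dvd_prime_iff_eq hq hp.out).1 (hq.dvd_of_dvd_pow h)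
        apply hQc
        obtain ⟨j, hj⟩ := hQq.exists_card_eq
        have h2 : Nat.card Q = 1 := Nat.eq_one_of_dvd_coprimes (((hKc ▸ hcop : (Nat.card K).Coprime p)).pow_right j)
          (card_dvd_of_le hQK) (by rw [hj, hqp])
        rw [Subgroup.card_eq_one] at h2
        subst h2
        infer_instance
    obtain ⟨q, Q, hq, hQn, hQ1, hQK, hQq, hQi⟩ := ih K hKlt hKn hK1 hKcl
    haveI : Fact q.Prime := ⟨hq⟩
    refine ⟨q, Q, hq, hQn, hQ1, hQK.trans hKE, hQq, ?_⟩
    rw [← relIndex_mul_relIndex Q K E hQK hKE, hKrel]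
    intro hd
    rcases hq.dvd_mul.1 hd with h | h
    · exact hQi h
    · have hqp := (Nat.prime_dvd_prime_iff_eq hq hp.out).1 (hq.dvd_of_dvd_pow h)
      obtain ⟨j, hj⟩ := hQq.exists_card_eq
      exact hQ1 (Subgroup.card_eq_one.1 (Nat.eq_one_of_dvd_coprimes
        (((hKc ▸ hcop : (Nat.card K).Coprime p)).pow_right j) (card_dvd_of_le hQK) (by rw [hj, hqp])))

/-- In `F P`, with `F` an `r`-group, `P` normal and `r ∤ |P|`: every `r`-subgroup is under a conjugate of `F`. -/
theorem exists_conj_mem_of_sup {r : ℕ} [Fact r.Prime] {F P R : Subgroup G} [P.Normal]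
    (hF : IsPGroup r F) (hP : ¬ r ∣ Nat.card P) (hR : IsPGroup r R) (hRW : R ≤ F ⊔ P) :
    ∃ u ∈ P, ∀ x ∈ R, u⁻¹ * x * u ∈ F := by
  set W := F ⊔ P
  have hFW : F ≤ W := le_sup_left
  have hi : ¬ r ∣ (F.subgroupOf W).index := by
    rw [← relIndex]
    obtain ⟨j, hj⟩ := hF.exists_card_eq
    have hb : P.subgroupOf F = ⊥ := by
      rw [subgroupOf_eq_bot, disjoint_iff, ← Subgroup.card_eq_one]
      exact Nat.eq_one_of_dvd_coprimes (((Nat.Prime.coprime_iff_not_dvd Fact.out).2 hP).symm.pow_right j)
        (card_dvd_of_le inf_le_left) (hj ▸ card_dvd_of_le inf_le_right)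
    have h1 : Nat.card F * F.relIndex W = Nat.card P * Nat.card F := by
      conv_rhs => rw [← index_bot (G := F), ← hb, ← relIndex, ← relIndex_sup_right F P]
      rw [← relIndex_bot_left, ← relIndex_bot_left P, relIndex_mul_relIndex _ _ _ bot_le hFW,
        relIndex_mul_relIndex _ _ _ bot_le le_sup_right]
    rwa [mul_left_cancel₀ Nat.card_pos.ne' (h1.trans (mul_comm _ _))]
  let SF := (hF.of_equiv (subgroupOfEquivOfLe hFW).symm).toSylow hi
  obtain ⟨S, hS⟩ := (hR.of_equiv (subgroupOfEquivOfLe hRW).symm).exists_le_sylow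
  obtain ⟨w, hw⟩ := MulAction.exists_smul_eq W SF S
  have hwm : (w : G) ∈ ((P ⊔ F : Subgroup G) : Set G) := sup_comm P F ▸ w.2
  rw [normal_mul] at hwm
  obtain ⟨u, hu, f, hf, huf⟩ := hwm
  refine ⟨u, hu, fun x hx => ?_⟩
  have h1 : (⟨x, hRW hx⟩ : W) ∈ w • SF := hw ▸ hS (mem_subgroupOf.2 hx)
  rw [CfsgLib.Transfer.sylow_smul_mem_iff] at h1
  have h2 : (w : G)⁻¹ * x * w ∈ F := mem_subgroupOf.1 h1
  rw [← huf] at h2
  have h3 := mul_mem (mul_mem hf h2) (inv_mem hf)
  simpa [mul_assoc] using h3

/-- Main theorem. -/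
theorem isSupersolvable_of_fixedOrderClosed : ∀ (n : ℕ) {G : Type u} [Group G] [Finite G],
    Nat.card G = n → ∀ (E : Subgroup G) [E.Normal], Cfsg.IsSupersolvable (G ⧸ E) → FixedOrderClosed E →
    Cfsg.IsSupersolvable G := by
  intro n
  induction n using Nat.strong_induction_on with
  | _ n ih =>
    intro G _ _ hn E _ hGE hE
    by_cases hb : E = ⊥
    · subst hb
      exact CfsgLib.Solvable.isSupersolvable_of_surjective (QuotientGroup.quotientBot (G := G)).toMonoidHom
        QuotientGroup.quotientBot.surjective hGE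
    obtain ⟨q, P, hq, hPn, hP1, hPE, hPq, hPi⟩ := exists_normal_sylow_of_fixedOrderClosed E ‹_› hb hE
    haveI : Fact q.Prime := ⟨hq⟩
    set π := QuotientGroup.mk' P
    have hs : Function.Surjective π := QuotientGroup.mk'_surjective P
    haveI : (E.map π).Normal := Subgroup.Normal.map ‹_› π hs
    have hEbar : Nat.card (E.map π) = P.relIndex E := by rw [← relIndex_ker, QuotientGroup.ker_mk']
    have hcomap : (E.map π).comap π = E := by rw [comap_map_eq, QuotientGroup.ker_mk', sup_eq_left.2 hPE]
    have hGP : Cfsg.IsSupersolvable (G ⧸ P) := by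
      refine ih _ (hn ▸ CfsgLib.Solvable.card_quotient_lt hP1) rfl (E.map π) ?_ ?_
      · refine CfsgLib.Solvable.isSupersolvable_of_surjective
          (QuotientGroup.map E (E.map π) π (le_comap_map π E)) ?_ hGE
        exact QuotientGroup.map_surjective_of_surjective E (E.map π) π
          ((QuotientGroup.mk'_surjective _).comp hs) _
      intro r hr Qb hQbE hQbr hQbi hQbc
      haveI : Fact r.Prime := ⟨hr⟩
      have hrq : r ≠ q := by
        rintro rfl
        apply hQbc
        obtain ⟨j, hj⟩ := hQbr.exists_card_eq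
        have h2 : Nat.card Qb = 1 := Nat.eq_one_of_dvd_coprimes
          (((Nat.Prime.coprime_iff_not_dvd hr).2 hPi).symm.pow_right j) (hEbar ▸ card_dvd_of_le hQbE) (by rw [hj])
        rw [Subgroup.card_eq_one] at h2
        subst h2
        infer_instance
      have hrP : ¬ r ∣ Nat.card P := by
        obtain ⟨j, hj⟩ := hPq.exists_card_eq
        rw [hj]
        exact fun h => hrq ((Nat.prime_dvd_prime_iff_eq hr hq).1 (hr.dvd_of_dvd_pow h))
      set Q' := Qb.comap π with hQ'
      have hQ'E : Q' ≤ E := hcomap ▸ comap_mono hQbE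
      obtain ⟨S⟩ := (inferInstance : Nonempty (Sylow r Q'))
      set Q := (S : Subgroup Q').map Q'.subtype with hQdef
      have hQQ' : Q ≤ Q' := map_subtype_le _
      have hπQ : Q.map π = Qb := by
        have hsur : Function.Surjective (π.subgroupComap Qb) := fun ⟨b, hb⟩ => by
          obtain ⟨a, rfl⟩ := hs b
          exact ⟨⟨a, hb⟩, rfl⟩
        refine le_antisymm (map_le_iff_le_comap.2 hQQ') fun b hb => ?_
        have h1 : (⟨b, hb⟩ : Qb) ∈ (S.mapSurjective hsur : Subgroup Qb) := by
          have htop : ((S.mapSurjective hsur : Sylow r Qb) : Subgroup Qb) = ⊤ :=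
            ((S.mapSurjective hsur).is_maximal' (hQbr.to_subgroup ⊤) le_top).symm
          rw [htop]; exact mem_top _
        rw [Sylow.coe_mapSurjective] at h1
        obtain ⟨s, hs', e⟩ := h1
        exact ⟨s, mem_map_of_mem _ hs', congrArg Subtype.val e⟩
      have hQi : ¬ r ∣ Q.relIndex E := by
        rw [← relIndex_mul_relIndex Q Q' E hQQ' hQ'E, hQ', relIndex_comap, relIndex, hQdef, subgroupOf,
          comap_map_eq_self_of_injective Q'.subtype_injective]
        exact fun h => (hr.dvd_mul.1 h).elim S.not_dvd_index hQbi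
      have hQc : ¬ IsCyclic Q := fun h => by
        apply hQbc
        rw [← hπQ]
        exact isCyclic_of_surjective (π.subgroupMap Q) (π.subgroupMap_surjective Q)
      have hinj : ∀ X : Subgroup G, X ≤ Q → Nat.card (X.map π) = Nat.card X := by
        intro X hX
        obtain ⟨j, hj⟩ := ((S.2.map Q'.subtype).to_le hX).exists_card_eq
        have hb' : P.subgroupOf X = ⊥ := by
          rw [subgroupOf_eq_bot, disjoint_iff, ← Subgroup.card_eq_one]
          exact Nat.eq_one_of_dvd_coprimes ((((Nat.Prime.coprime_iff_not_dvd hr).2 hrP)).symm.pow_right j)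
            (card_dvd_of_le inf_le_left) (hj ▸ card_dvd_of_le inf_le_right)
        rw [← relIndex_ker, QuotientGroup.ker_mk', relIndex, hb', index_bot]
      obtain ⟨D, hDQ, hD1, hDlt, hD⟩ := hE r hr Q (hQQ'.trans hQ'E) (S.2.map _) hQi hQc
      refine ⟨D.map π, hπQ ▸ map_mono hDQ, by rwa [hinj D hDQ], ?_, ?_⟩
      · rw [hinj D hDQ, ← hπQ, hinj Q le_rfl]; exact hDlt
      intro Fb hFb hFbc g
      set F := Q ⊓ Fb.comap π with hFdef
      have hπF : F.map π = Fb := by
        refine le_antisymm ((map_mono inf_le_right).trans (map_comap_le π Fb)) fun b hb => ?_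
        obtain ⟨a, ha, rfl⟩ := hπQ.ge (hFb hb)
        exact mem_map_of_mem π (mem_inf.2 ⟨ha, hb⟩)
      have hFr : IsPGroup r F := (S.2.map Q'.subtype).to_le inf_le_left
      have hFc : Nat.card F = Nat.card Fb := by rw [← hinj F inf_le_left, hπF]
      have hFb' : Fb.comap π = F ⊔ P := by rw [← hπF, comap_map_eq, QuotientGroup.ker_mk']
      have hFhyp := hD F inf_le_left (by rw [hFc]; rwa [hinj D hDQ] at hFbc)
      intro x hx
      obtain ⟨g, rfl⟩ := hs g
      obtain ⟨x, rfl⟩ := hs x
      obtain ⟨⟨f, hf, hfe⟩, hxN⟩ := mem_inf.1 hx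
      -- move `x` into the normalizer of `F`
      have hxW : ∀ w ∈ F ⊔ P, x * w * x⁻¹ ∈ F ⊔ P := by
        intro w hw
        rw [← hFb', mem_comap] at hw ⊢
        rw [map_mul, map_mul, map_inv]
        exact (mem_normalizer_iff.1 hxN _).1 hw
      obtain ⟨v, hv, hvF⟩ := exists_conj_mem_of_sup hFr hrP (hFr.map (MulAut.conj x).toMonoidHom)
        (by rintro _ ⟨w, hw, rfl⟩; exact hxW w (mem_sup_left hw))
      set x₁ := v⁻¹ * x with hx₁
      have hx₁N : x₁ ∈ normalizer (F : Set G) := by
        refine mem_normalizer_iff_map_conj_eq.2 (eq_of_le_of_card_ge ?_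
          (card_map_of_injective (MulEquiv.injective _)).ge)
        rintro _ ⟨w, hw, rfl⟩
        have h := hvF _ (mem_map_of_mem _ hw)
        simpa [hx₁, mul_assoc] using h
      have hπx₁ : π x₁ = π x := by
        rw [hx₁, map_mul, map_inv, show π v = 1 from (QuotientGroup.eq_one_iff v).2 hv, inv_one, one_mul]
      obtain ⟨j, hj⟩ := hFr.exists_card_eq
      obtain ⟨i, hi⟩ := hPq.exists_card_eq
      have hfo : f ^ r ^ j = 1 := by
        have h1 : Nat.card Fb = r ^ j := hFc ▸ hj
        have h2 := pow_card_eq_one' (x := (⟨f, hf⟩ : Fb))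
        rw [h1] at h2
        exact congrArg Subtype.val h2
      have hxo : π x ^ r ^ j = 1 := by
        rw [← hfe]
        show (π g * f * (π g)⁻¹) ^ r ^ j = 1
        rw [conj_pow, hfo, mul_one, mul_inv_cancel]
      set x₂ := x₁ ^ Nat.card P with hx₂
      have hx₂o : x₂ ^ r ^ j = 1 := by
        rw [hx₂, ← pow_mul, mul_comm, pow_mul]
        have h1 : x₁ ^ r ^ j ∈ P := (QuotientGroup.eq_one_iff _).1 (by
          show π (x₁ ^ r ^ j) = 1
          rw [map_pow, hπx₁, hxo])
        exact congrArg Subtype.val (pow_card_eq_one' (x := (⟨_, h1⟩ : P)))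
      have hR : IsPGroup r (zpowers (g⁻¹ * x₂ * g)) := by
        have h1 : (g⁻¹ * x₂ * g) ^ r ^ j = 1 := by
          have := conj_pow (a := g⁻¹) (b := x₂) (i := r ^ j)
          rw [inv_inv, hx₂o, mul_one, inv_mul_cancel] at this
          exact this
        obtain ⟨l, -, hl⟩ := (Nat.dvd_prime_pow hr).1 (orderOf_dvd_of_pow_eq_one h1)
        exact IsPGroup.of_card (n := l) (by rw [Nat.card_zpowers, hl])
      obtain ⟨u, hu, huF⟩ := exists_conj_mem_of_sup hFr hrP hR (zpowers_le.2 (by
        rw [← hFb', mem_comap, map_mul, map_mul, map_inv, hx₂, map_pow, hπx₁, ← hfe]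
        show (π g)⁻¹ * (π g * f * (π g)⁻¹) ^ Nat.card P * π g ∈ Fb
        rw [conj_pow]
        simpa [mul_assoc] using pow_mem hf (Nat.card P)))
      have h2 : x₂ ∈ F := by
        refine hFhyp (g * u) (mem_inf.2 ⟨⟨u⁻¹ * (g⁻¹ * x₂ * g) * u, huF _ (mem_zpowers _), ?_⟩, pow_mem hx₁N _⟩)
        simp [mul_assoc]
      have h3 : π x ^ Nat.card P ∈ Fb := by
        rw [← hπx₁, ← map_pow, ← hπF]
        exact mem_map_of_mem π h2
      have hcop : (Nat.card P).Coprime (orderOf (π x)) :=
        ((((Nat.Prime.coprime_iff_not_dvd hr).2 hrP)).symm.pow_right j).coprime_dvd_right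
          (orderOf_dvd_of_pow_eq_one hxo)
      obtain ⟨t, ht⟩ := exists_pow_eq_self_of_coprime hcop
      rw [← ht]
      exact pow_mem h3 t
    by_cases hPc : IsCyclic P
    · exact CfsgLib.Solvable.isSupersolvable_of_cyclic_normal P hGP
    obtain ⟨D, hDP, hD1, hDlt, hD⟩ := hE q hq P hPE hPq hPi hPc
    obtain ⟨k, hk⟩ := (hPq.to_le hDP).exists_card_eq
    rw [hk] at hD1 hDlt hD
    have hk1 : 1 ≤ k := by
      rcases Nat.eq_zero_or_pos k with rfl | h
      · simp at hD1
      · exact h
    refine isSupersolvable_of_residual_centralizes (p := q) _ rfl P hPq hGP fun y hy hyc =>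
      expResidual_centralizes hPq hk1 hDlt (fun F hFP hFc => ⟨fun w hw g => ?_⟩) hy hyc
    exact hD F hFP hFc g (mem_inf.2 ⟨mem_map_of_mem _ hw,
      le_normalizer_of_strongly_closed_in_normalizer hPq hFP (hD F hFP hFc) (hPn.conj_mem w (hFP hw) g)⟩)

end CfsgLib.Amalgam
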