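import Cfsg.Agent.S2758
import Cfsg.Agent.Lib.PLocal.QdInvolve
import Cfsg.Agent.Lib.PLocal.QdStable
import Cfsg.Agent.Lib.PLocal.Section
import Cfsg.Agent.Lib.StructC.BurnsideBasis
import Cfsg.Agent.Lib.Complement.TwoTools

/-!
# Inverted `p`-elements: sections, `Qd(p)`, and quadratic elements

`Inverts p H` says that `H` has a nontrivial `p`-element inverted by an element of `H`.
-/

set_option autoImplicit false

namespace CfsgLib.Amalgam

open Subgroup CfsgLib.PLocal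
open scoped MatrixGroups

universe u v

variable {p : ℕ} [hp : Fact p.Prime]

/-- `H` has a nontrivial `p`-element inverted in `H`. -/
def Inverts (p : ℕ) {G : Type u} [Group G] (H : Subgroup G) : Prop :=
  ∃ x ∈ H, ∃ y ∈ H, y ≠ 1 ∧ (∃ k : ℕ, orderOf y = p ^ k) ∧ x * y * x⁻¹ = y⁻¹

section Basic

variable {G : Type u} [Group G]

omit hp in
theorem Inverts.mono {H K : Subgroup G} (hle : H ≤ K) (h : Inverts p H) : Inverts p K := by
  obtain ⟨x, hx, y, hy, rest⟩ := h
  exact ⟨x, hle hx, y, hle hy, rest⟩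

omit hp in
theorem Inverts.map_injective {H : Subgroup G} (h : Inverts p H) {G₂ : Type v} [Group G₂] (f : G →* G₂)
    (hf : Function.Injective f) : Inverts p (H.map f) := by
  obtain ⟨x, hx, y, hy, h1, ⟨k, hk⟩, hinv⟩ := h
  refine ⟨f x, mem_map_of_mem f hx, f y, mem_map_of_mem f hy, fun e => h1 (hf (e.trans (map_one f).symm)),
    ⟨k, by rw [orderOf_injective f hf, hk]⟩, ?_⟩
  rw [← map_inv, ← map_mul, ← map_mul, hinv, map_inv]

omit hp in
/-- The inverting element can be taken to be a `2`-element. -/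
theorem Inverts.exists_two [Finite G] {H : Subgroup G} (h : Inverts p H) :
    ∃ x ∈ H, (∃ k : ℕ, orderOf x = 2 ^ k) ∧ ∃ y ∈ H, y ≠ 1 ∧ (∃ k : ℕ, orderOf y = p ^ k) ∧
      x * y * x⁻¹ = y⁻¹ := by
  obtain ⟨x, hx, y, hy, h1, h2, hinv⟩ := h
  set m := ordCompl[2] (orderOf x) with hm
  refine ⟨x ^ m, pow_mem hx m, ⟨(orderOf x).factorization 2, ?_⟩, y, hy, h1, h2, ?_⟩
  · rw [hm, orderOf_pow_of_dvd (Nat.ordCompl_pos 2 (orderOf_pos x).ne').ne' (Nat.ordCompl_dvd _ _)]
    exact Nat.div_div_self (Nat.ordProj_dvd _ _) (orderOf_pos x).ne'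
  · obtain ⟨j, hj⟩ : Odd m :=
      Nat.odd_iff.2 (Nat.two_dvd_ne_zero.1 (Nat.not_dvd_ordCompl Nat.prime_two (orderOf_pos x).ne'))
    have hc : Commute (x * x) y := by
      refine mul_inv_eq_iff_eq_mul.1 ?_
      calc x * x * y * (x * x)⁻¹ = x * (x * y * x⁻¹) * x⁻¹ := by group
        _ = x * y⁻¹ * x⁻¹ := by rw [hinv]
        _ = (x * y * x⁻¹)⁻¹ := by simp [mul_assoc]
        _ = y := by rw [hinv, inv_inv]
    rw [hj, pow_succ, pow_mul, pow_two]
    calc (x * x) ^ j * x * y * ((x * x) ^ j * x)⁻¹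
        = (x * x) ^ j * (x * y * x⁻¹) * ((x * x) ^ j)⁻¹ := by group
      _ = y⁻¹ := by rw [hinv, (hc.pow_left j).inv_right.eq, mul_inv_cancel_right]

theorem inverts_iff_involves [Finite G] (h2 : p ≠ 2) (H : Subgroup G) :
    Inverts p H ↔ Cfsg.Involves (DihedralGroup p) ↥H := by
  rw [(Cfsg.Agent.S2758.result (G := ↥H) h2).2]
  constructor
  · intro h
    obtain ⟨x, hx, ⟨k, hk⟩, y, hy, h1, ⟨l, hl⟩, hinv⟩ := h.exists_two
    exact ⟨⟨x, hx⟩, ⟨y, hy⟩, ⟨k, by rw [Subgroup.orderOf_mk, hk]⟩, ⟨l, by rw [Subgroup.orderOf_mk, hl]⟩,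
      fun e => h1 (congrArg Subtype.val e), Subtype.ext hinv⟩
  · rintro ⟨x, y, -, ⟨l, hl⟩, h1, hinv⟩
    exact ⟨x, x.2, y, y.2, fun e => h1 (Subtype.ext e), ⟨l, by rw [Subgroup.orderOf_coe, hl]⟩,
      congrArg Subtype.val hinv⟩

/-- An inverted element of a homomorphic image lifts. -/
theorem inverts_of_map [Finite G] (h2 : p ≠ 2) {G₂ : Type v} [Group G₂] [Finite G₂] (f : G →* G₂)
    {H : Subgroup G} (h : Inverts p (H.map f)) : Inverts p H := by
  rw [inverts_iff_involves h2] at h ⊢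
  obtain ⟨K, φ, hφ⟩ := Complement.involves_iff_exists_hom.1 h
  have hsurj := f.subgroupMap_surjective H
  refine Complement.involves_iff_exists_hom.2 ⟨K.comap (f.subgroupMap H),
    φ.comp ((f.subgroupMap H).subgroupComap K), hφ.comp fun y => ?_⟩
  obtain ⟨x, hx⟩ := hsurj y.1
  exact ⟨⟨x, show f.subgroupMap H x ∈ K from hx ▸ y.2⟩, Subtype.ext hx⟩

/-- A `2`-element normalizing but not centralizing a `p`-subgroup gives an inverted element. -/
theorem inverts_of_moves [Finite G] (h2 : p ≠ 2) {H P : Subgroup G} {x : G} (hxH : x ∈ H)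
    (hx : ∃ k : ℕ, orderOf x = 2 ^ k) (hPH : P ≤ H) (hP : IsPGroup p P)
    (hn : x ∈ normalizer (P : Set G)) (hc : x ∉ centralizer (P : Set G)) : Inverts p H := by
  rw [inverts_iff_involves h2, (Cfsg.Agent.S2758.result (G := ↥H) h2).1]
  refine ⟨⟨x, hxH⟩, P.subgroupOf H, hx.imp fun k hk => by rw [Subgroup.orderOf_mk, hk],
    hP.comap_subtype, ?_, fun h => hc fun y hy => congrArg Subtype.val (h ⟨y, hPH hy⟩ hy)⟩
  rw [mem_normalizer_iff]
  exact fun y => mem_normalizer_iff.1 hn (y : G)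

/-- `Qd(p)` has an inverted translation. -/
theorem inverts_qd : Inverts p (⊤ : Subgroup ↥(Cfsg.qd p)) := by
  let x : ↥(Cfsg.qd p) := ⟨affMat 0 (-1), affMat_mem_qd _ _⟩
  let y : ↥(Cfsg.qd p) := ⟨affMat ![1, 0] 1, affMat_mem_qd _ _⟩
  have hpow : ∀ n : ℕ, ((y : SL(3, ZMod p))) ^ n = affMat ((n : ZMod p) • ![1, 0]) 1 := by
    intro n
    induction n with
    | zero => rw [pow_zero, Nat.cast_zero, zero_smul]; exact affMat_zero_one.symm
    | succ n ih =>
      rw [pow_succ, ih]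
      show affMat ((n : ZMod p) • ![1, 0]) 1 * affMat ![1, 0] 1 = _
      rw [affMat_mul, one_mul, Nat.cast_succ, add_smul, one_smul]
      simp
  have hy1 : y ≠ 1 := by
    intro e
    have h1 : affMat (p := p) ![1, 0] 1 = affMat 0 1 := (congrArg Subtype.val e).trans affMat_zero_one.symm
    have := congrFun (affMat_injective h1).1 0
    simp at this
  refine ⟨x, mem_top _, y, mem_top _, hy1, ⟨1, ?_⟩, ?_⟩
  · rw [pow_one]
    refine orderOf_eq_prime (Subtype.ext ?_) hy1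
    rw [SubmonoidClass.coe_pow, hpow, ZMod.natCast_self, zero_smul]
    exact affMat_zero_one
  · rw [eq_inv_iff_mul_eq_one, mul_assoc, mul_assoc]
    have hxx : x⁻¹ = x := inv_eq_of_mul_eq_one_left (Subtype.ext (by
      show affMat 0 (-1) * affMat 0 (-1) = 1
      rw [affMat_mul, Matrix.mulVec_zero, add_zero, neg_mul_neg, mul_one]
      exact affMat_zero_one))
    rw [hxx]
    apply Subtype.ext
    show affMat 0 (-1) * (affMat ![1, 0] 1 * (affMat 0 (-1) * affMat ![1, 0] 1)) = 1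
    rw [affMat_mul, affMat_mul, affMat_mul]
    refine Eq.trans ?_ affMat_zero_one
    congr 1
    · rw [Matrix.SpecialLinearGroup.coe_neg, Matrix.SpecialLinearGroup.coe_one]
      simp [Matrix.neg_mulVec]
    · simp

/-- A section `Qd(p)` gives an inverted element. -/
theorem inverts_of_qd_hom [Finite G] (h2 : p ≠ 2) {L : Subgroup G} (K : Subgroup ↥L)
    (f : K →* ↥(Cfsg.qd p)) (hf : Function.Surjective f) : Inverts p L := by
  have h1 : Inverts p (⊤ : Subgroup K) := inverts_of_map h2 f (by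
    rw [map_top_of_surjective f hf]; exact inverts_qd)
  have h3 := h1.map_injective (L.subtype.comp K.subtype)
    (L.subtype_injective.comp K.subtype_injective)
  refine h3.mono ?_
  rintro _ ⟨k, -, rfl⟩
  exact (k : L).2

end Basic

section Quadratic

variable {G : Type u} [Group G] [Finite G]

/-- An involution of `SL₂` in odd characteristic is scalar. -/
theorem slTwo_invol_commute {F : Type v} [Field F] (h2 : (2 : F) ≠ 0) {τ : SL(2, F)} (hτ : τ * τ = 1)
    (g : SL(2, F)) : τ * g = g * τ := by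
  set a := (τ : Matrix (Fin 2) (Fin 2) F) 0 0
  set b := (τ : Matrix (Fin 2) (Fin 2) F) 0 1
  set c := (τ : Matrix (Fin 2) (Fin 2) F) 1 0
  set d := (τ : Matrix (Fin 2) (Fin 2) F) 1 1
  have hd : a * d - b * c = 1 := by
    have := τ.det_coe
    rwa [Matrix.det_fin_two] at this
  have e : ∀ i j, ((τ : Matrix (Fin 2) (Fin 2) F) * (τ : Matrix (Fin 2) (Fin 2) F)) i j =
      (1 : Matrix (Fin 2) (Fin 2) F) i j := fun i j => by
    rw [← Matrix.SpecialLinearGroup.coe_mul, hτ]; rfl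
  have e00 := e 0 0
  have e01 := e 0 1
  have e10 := e 1 0
  have e11 := e 1 1
  simp [Matrix.mul_apply, Fin.sum_univ_two] at e00 e01 e10 e11
  have hs : a + d ≠ 0 := by
    intro h
    apply h2
    linear_combination a * h - hd - e00
  have hb : b = 0 := by
    have : b * (a + d) = 0 := by linear_combination e01
    exact (mul_eq_zero.1 this).resolve_right hs
  have hc : c = 0 := by
    have : c * (a + d) = 0 := by linear_combination e10
    exact (mul_eq_zero.1 this).resolve_right hs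
  have had : a = d := by
    have h1 : a * a = 1 := by linear_combination e00 - c * hb
    have h3 : a * d = 1 := by linear_combination hd + c * hb
    have : a * (a - d) = 0 := by linear_combination h1 - h3
    rcases mul_eq_zero.1 this with h | h
    · rw [h, zero_mul] at h1; exact absurd h1 zero_ne_one
    · exact sub_eq_zero.1 h
  apply Subtype.ext
  show (τ : Matrix (Fin 2) (Fin 2) F) * (g : Matrix (Fin 2) (Fin 2) F) = (g : Matrix (Fin 2) (Fin 2) F) * τ
  have hτe : (τ : Matrix (Fin 2) (Fin 2) F) = a • (1 : Matrix (Fin 2) (Fin 2) F) := by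
    ext i j
    fin_cases i <;> fin_cases j <;> simp [a, b, c, d] at hb hc had ⊢
    · exact hb
    · exact hc
    · exact had.symm
  rw [hτe, Matrix.smul_mul, Matrix.mul_smul, one_mul, mul_one]

/-- A quadratic element outside `O_p` of the induced group lies in a `p`-subgroup normalized by a
nontrivial `2`-element. -/
theorem exists_two_element_normalizing (h2 : p ≠ 2) {B : Subgroup G} [hBn : B.Normal]
    (hB : IsPGroup p B) {a : G} (ha : ∃ k : ℕ, orderOf a = p ^ k)
    (hq : ⁅⁅B, zpowers a⁆, zpowers a⁆ = ⊥)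
    (hna : (QuotientGroup.mk a : G ⧸ centralizer (B : Set G)) ∉ Cfsg.pCore p (G ⧸ centralizer (B : Set G))) :
    ∃ (t : G) (U : Subgroup G), (∃ k : ℕ, orderOf t = 2 ^ k) ∧ t ≠ 1 ∧ IsPGroup p U ∧ a ∈ U ∧
      t ∈ normalizer (U : Set G) := by
  classical
  set Φ := (frattini B).map B.subtype with hΦ
  set q := QuotientGroup.mk' Φ with hqdef
  set V := B.map q with hV
  haveI : V.Normal := hBn.map q (QuotientGroup.mk'_surjective _)
  have hVe : Cfsg.IsElementaryAbelian p V := by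
    refine ⟨⟨⟨fun u v => Subtype.ext ?_⟩⟩, ?_⟩
    · obtain ⟨u', hu, hu'⟩ := u.2
      obtain ⟨v', hv, hv'⟩ := v.2
      show (u : G ⧸ Φ) * v = v * u
      rw [← hu', ← hv', ← map_mul, ← map_mul]
      refine QuotientGroup.eq.2 ⟨(⟨v', hv⟩ : B)⁻¹ * (⟨u', hu⟩ : B)⁻¹ * ⟨v', hv⟩ * ⟨u', hu⟩,
        StructC.comm_mem_frattini hB ⟨v', hv⟩ ⟨u', hu⟩, ?_⟩
      show v'⁻¹ * u'⁻¹ * v' * u' = (u' * v')⁻¹ * (v' * u')
      group
    · rintro _ ⟨u', hu, rfl⟩
      rw [← map_pow]
      exact (QuotientGroup.eq_one_iff _).2 ⟨(⟨u', hu⟩ : B) ^ p, StructC.pow_mem_frattini hB _, rfl⟩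
  obtain ⟨W, _, _, _, ρ', hker', hsq'⟩ := exists_conjRep (H := (⊤ : Subgroup (G ⧸ Φ))) hVe
    (by rw [normalizer_eq_top])
  let ρ : G →* Module.End (ZMod p) W := ρ'.comp (Subgroup.topEquiv.symm.toMonoidHom.comp q)
  have hker : ∀ g, ρ g = 1 ↔ q g ∈ centralizer (V : Set (G ⧸ Φ)) := fun g => by
    show ρ' ⟨q g, mem_top _⟩ = 1 ↔ _
    rw [← MonoidHom.mem_ker, hker', mem_subgroupOf]
  have hsq : (ρ a - 1) * (ρ a - 1) = 0 := by
    refine hsq' ⟨q a, mem_top _⟩ ?_
    show ⁅⁅V, zpowers (q a)⁆, zpowers (q a)⁆ = ⊥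
    rw [hV, ← MonoidHom.map_zpowers, ← map_commutator, ← map_commutator, hq, Subgroup.map_bot]
  set C := ρ.ker with hC
  set π := QuotientGroup.mk' C with hπ
  have htriv : ∀ g : G, ρ g = 1 → (orderOf g).Coprime p → g ∈ centralizer (B : Set G) := by
    intro g hg hco
    refine centralizes_of_trivial_on_frattini_quotient hB (by rw [normalizer_eq_top]; exact mem_top g) hco
      fun k hk => ?_
    have h1 := (hker g).1 hg (q k) (mem_map_of_mem q hk)
    refine (QuotientGroup.eq_one_iff (N := Φ) _).1 ?_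
    show q (k⁻¹ * g⁻¹ * k * g) = 1
    rw [map_mul, map_mul, map_mul, map_inv, map_inv, mul_assoc _ (q k) (q g), h1]
    group
  have hna' : π a ∉ Cfsg.pCore p (G ⧸ C) := by
    intro hmem
    haveI := Cfsg.pCore_normal p (G ⧸ C)
    set D := (Cfsg.pCore p (G ⧸ C)).comap π with hD
    haveI : D.Normal := Normal.comap inferInstance π
    set f := QuotientGroup.mk' (centralizer (B : Set G))
    have hDp : IsPGroup p (D.map f) := by
      rintro ⟨_, d, hd, rfl⟩
      set e := (orderOf d).factorization p with he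
      obtain ⟨k, hk⟩ := CfsgLib.Solvable.pCore_isPGroup (G := G ⧸ C) p ⟨π d, hd⟩
      refine ⟨e, Subtype.ext ?_⟩
      show f d ^ p ^ e = 1
      rw [← map_pow]
      refine (QuotientGroup.eq_one_iff _).2 (htriv _ ?_ ?_)
      · have hco : (orderOf (d ^ p ^ e)).Coprime (p ^ k) := by
          refine Nat.Coprime.pow_right k ?_
          rw [orderOf_pow' d (pow_ne_zero _ hp.out.ne_zero), Nat.gcd_eq_right (Nat.ordProj_dvd (orderOf d) p)]
          exact (Nat.coprime_ordCompl hp.out (orderOf_pos d).ne').symm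
        have h1 : π (d ^ p ^ e) = 1 := by
          refine orderOf_eq_one_iff.1 (Nat.eq_one_of_dvd_coprimes hco (orderOf_map_dvd π _) ?_)
          refine orderOf_dvd_of_pow_eq_one ?_
          rw [map_pow, ← pow_mul, mul_comm, pow_mul,
            show π d ^ p ^ k = 1 from congrArg Subtype.val hk, one_pow]
        exact (QuotientGroup.eq_one_iff _).1 h1
      · rw [orderOf_pow' d (pow_ne_zero _ hp.out.ne_zero), Nat.gcd_eq_right (Nat.ordProj_dvd (orderOf d) p)]
        exact (Nat.coprime_ordCompl hp.out (orderOf_pos d).ne').symm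
    exact hna (CfsgLib.Solvable.le_pCore (Normal.map inferInstance f (QuotientGroup.mk'_surjective _)) hDp
      (mem_map_of_mem f hmem))
  obtain ⟨g', hg'⟩ : ∃ g : G ⧸ C, ¬ IsPGroup p
      ↥(zpowers (π a) ⊔ (zpowers (π a)).map (MulAut.conj g).toMonoidHom) := by
    by_contra hall
    push Not at hall
    obtain ⟨N, hN, hNp, hle⟩ := CfsgLib.Trans3.baer_suzuki (zpowers (π a)) hall
    exact hna' (CfsgLib.Solvable.le_pCore hN hNp (hle (mem_zpowers _)))
  obtain ⟨g, rfl⟩ := QuotientGroup.mk'_surjective C g'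
  set b := g * a * g⁻¹ with hb
  set L := closure ({a, b} : Set G) with hL
  have haL : a ∈ L := subset_closure (Set.mem_insert _ _)
  have hbL : b ∈ L := subset_closure (Set.mem_insert_of_mem _ rfl)
  have hgen : closure {(⟨a, haL⟩ : L), ⟨b, hbL⟩} = ⊤ := by
    apply Subgroup.map_injective L.subtype_injective
    rw [MonoidHom.map_closure, Set.image_pair, ← MonoidHom.range_eq_map, range_subtype]
    rfl
  have hle : zpowers (π a) ⊔ (zpowers (π a)).map (MulAut.conj (π g)).toMonoidHom ≤ L.map π := by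
    rw [MonoidHom.map_zpowers, sup_le_iff, zpowers_le, zpowers_le]
    exact ⟨⟨a, haL, rfl⟩, ⟨b, hbL, by simp [hb]⟩⟩
  have hbq : (ρ b - 1) * (ρ b - 1) = 0 := by
    have e : ρ b - 1 = ρ g * (ρ a - 1) * ρ g⁻¹ := by
      rw [hb, map_mul, map_mul, mul_sub, sub_mul, mul_one, ← map_mul ρ g g⁻¹, mul_inv_cancel, map_one]
    rw [e, show ρ g * (ρ a - 1) * ρ g⁻¹ * (ρ g * (ρ a - 1) * ρ g⁻¹) =
      ρ g * (ρ a - 1) * (ρ g⁻¹ * ρ g) * (ρ a - 1) * ρ g⁻¹ by simp only [mul_assoc],
      ← map_mul ρ g⁻¹ g, inv_mul_cancel, map_one, mul_one, mul_assoc (ρ g), hsq, mul_zero, zero_mul]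
  -- extend the scalars
  haveI : Module.Finite (ZMod p) W := Module.Finite.of_finite
  set a₁ : L := ⟨a, haL⟩
  set b₁ : L := ⟨b, hbL⟩
  set n := orderOf (a₁ * b₁) with hn
  have hn0 : n ≠ 0 := (orderOf_pos (a₁ * b₁)).ne'
  set k := ordCompl[p] n with hk
  have hkpos : 0 < k := Nat.ordCompl_pos p hn0
  set m := Nat.totient k with hm
  have hm0 : m ≠ 0 := (Nat.totient_pos.2 hkpos).ne'
  have hcop : Nat.Coprime p k := Nat.coprime_ordCompl hp.out hn0
  haveI : Fintype (GaloisField p m) := Fintype.ofFinite _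
  have hdvd : k ∣ Fintype.card (GaloisField p m) - 1 := by
    rw [← Nat.card_eq_fintype_card, GaloisField.card p m hm0,
      ← Nat.modEq_iff_dvd' (Nat.one_le_pow _ _ hp.out.pos)]
    exact (Nat.ModEq.pow_totient hcop).symm
  let bas := Module.finBasis (ZMod p) W
  let Ψ : Module.End (ZMod p) W →+*
      Module.End (GaloisField p m) (Fin (Module.finrank (ZMod p) W) → GaloisField p m) :=
    ((Matrix.toLinAlgEquiv' (R := GaloisField p m)).toRingEquiv.toRingHom.comp
      (algebraMap (ZMod p) (GaloisField p m)).mapMatrix).comp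
      (LinearMap.toMatrixAlgEquiv bas).toRingEquiv.toRingHom
  have hΨ : Function.Injective Ψ :=
    ((Matrix.toLinAlgEquiv' (R := GaloisField p m)).injective.comp
      (Matrix.map_injective (algebraMap (ZMod p) (GaloisField p m)).injective)).comp
      (LinearMap.toMatrixAlgEquiv bas).injective
  have hq' : ∀ g, (ρ g - 1) * (ρ g - 1) = 0 → (Ψ (ρ g) - 1) * (Ψ (ρ g) - 1) = 0 := fun g hg => by
    rw [← map_one Ψ, ← map_sub, ← map_mul, hg, map_zero]
  obtain ⟨φ, x, hx, hφa, hφb, -⟩ :=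
    exists_slTwo_hom (p := p) hgen ((Ψ.toMonoidHom.comp ρ).comp L.subtype) (hq' a hsq) (hq' b hbq)
      (fun hall => hg' (IsPGroup.to_le (by
        rintro ⟨_, y, hy, rfl⟩
        obtain ⟨i, hi⟩ := hall ⟨y, hy⟩
        refine ⟨i, Subtype.ext ?_⟩
        show π y ^ p ^ i = 1
        rw [← map_pow]
        refine (QuotientGroup.eq_one_iff _).2 (hΨ ?_)
        show Ψ (ρ (y ^ p ^ i)) = Ψ 1
        rw [map_pow, map_pow, map_one]
        exact hi) hle))
      ⟨n.factorization p, k, by rw [hk, Nat.ordProj_mul_ordCompl_eq_self, hn, pow_orderOf_eq_one],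
        hdvd⟩
  obtain ⟨ψ, hψ, hψle⟩ := exists_slTwo_le_of_two_sylow h2 φ.range
    (one_lt_card_sylow_of_opposite φ.range hx ⟨a₁, hφa⟩ ⟨b₁, hφb⟩)
  have h2F : (2 : GaloisField p m) ≠ 0 := by
    intro e
    have := (CharP.cast_eq_zero_iff (GaloisField p m) p 2).1 (by exact_mod_cast e)
    exact h2 ((Nat.prime_dvd_prime_iff_eq hp.out Nat.prime_two).1 this)
  set τ := ψ (-1) with hτ
  have hττ : τ * τ = 1 := by rw [hτ, ← map_mul, neg_mul_neg, one_mul, map_one]
  have hτ1 : τ ≠ 1 := by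
    intro e
    have h1 : (-1 : SL(2, ZMod p)) = 1 := hψ (e.trans (map_one ψ).symm)
    have h3 := congrArg (fun M : SL(2, ZMod p) => (M : Matrix (Fin 2) (Fin 2) (ZMod p)) 0 0) h1
    simp at h3
    have h4 : (2 : ZMod p) = 0 := by linear_combination (-1) * h3
    have := (CharP.cast_eq_zero_iff (ZMod p) p 2).1 (by exact_mod_cast h4)
    exact h2 ((Nat.prime_dvd_prime_iff_eq hp.out Nat.prime_two).1 this)
  -- Frattini argument inside `L`
  set Z₁ := zpowers (φ a₁) with hZ₁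
  set Y := Z₁.comap φ with hY
  set Y₁ := (centralizer ({φ a₁} : Set SL(2, GaloisField p m))).comap φ with hY₁
  have hYle : Y ≤ Y₁ := fun y hy => by
    obtain ⟨i, hi⟩ := mem_zpowers_iff.1 (mem_comap.1 hy)
    refine mem_comap.2 (mem_centralizer_singleton_iff.2 ?_)
    rw [← hi]
    exact ((Commute.refl (φ a₁)).zpow_left i).eq
  obtain ⟨t₀, ht₀⟩ := hψle ⟨-1, rfl⟩
  have ht₀Y : t₀ ∈ Y₁ := by
    refine mem_comap.2 (mem_centralizer_singleton_iff.2 ?_)
    rw [ht₀]
    exact slTwo_invol_commute h2F hττ _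
  set Y' := Y.subgroupOf Y₁
  haveI : Y'.Normal := ⟨fun y hy z => by
    rw [mem_subgroupOf, hY, mem_comap] at hy ⊢
    obtain ⟨i, hi⟩ := mem_zpowers_iff.1 hy
    refine mem_zpowers_iff.2 ⟨i, ?_⟩
    have hz : Commute (φ (z : L)) (φ a₁) := mem_centralizer_singleton_iff.1 (mem_comap.1 z.2)
    show φ a₁ ^ i = φ ((z : L) * y * (z : L)⁻¹)
    rw [map_mul, map_mul, map_inv, ← hi, (hz.zpow_right i).eq, mul_inv_cancel_right]⟩
  have haY : a₁ ∈ Y := mem_comap.2 (mem_zpowers _)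
  let a₂ : Y' := ⟨⟨a₁, hYle haY⟩, haY⟩
  have hap : IsPGroup p (zpowers a₂) := by
    obtain ⟨i, hi⟩ := ha
    refine IsPGroup.of_card (n := i) ?_
    rw [Nat.card_zpowers, ← hi, ← Subgroup.orderOf_coe, ← Subgroup.orderOf_coe, ← Subgroup.orderOf_coe]
  obtain ⟨U, hU⟩ := hap.exists_le_sylow
  set U' := (U : Subgroup Y').map Y'.subtype with hU'
  have htop : normalizer (U' : Set Y₁) ⊔ Y' = ⊤ := Sylow.normalizer_sup_eq_top U
  have hmem : (⟨t₀, ht₀Y⟩ : Y₁) ∈ ((normalizer (U' : Set Y₁) ⊔ Y' : Subgroup Y₁) : Set Y₁) := by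
    rw [htop]; trivial
  rw [mul_normal] at hmem
  obtain ⟨nn, hnn, y, hy, hny⟩ := hmem
  obtain ⟨i, hi⟩ := mem_zpowers_iff.1 (mem_comap.1 (mem_subgroupOf.1 hy))
  have hφn : φ (nn : L) = τ * (φ a₁ ^ i)⁻¹ := by
    rw [hi, eq_mul_inv_iff_mul_eq, ← map_mul, hτ, ← ht₀]
    exact congrArg (fun z : Y₁ => φ (z : L)) hny
  set M := ordCompl[2] (orderOf nn) with hM
  have hModd : Odd M :=
    Nat.odd_iff.2 (Nat.two_dvd_ne_zero.1 (Nat.not_dvd_ordCompl Nat.prime_two (orderOf_pos nn).ne'))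
  have hne1 : φ ((nn ^ M : Y₁) : L) ≠ 1 := by
    rw [SubmonoidClass.coe_pow, map_pow, hφn,
      Commute.mul_pow (show Commute τ (φ a₁ ^ i)⁻¹ from slTwo_invol_commute h2F hττ _)]
    obtain ⟨j, hj⟩ := hModd
    rw [show τ ^ M = τ by rw [hj, pow_succ, pow_mul, pow_two, hττ, one_pow, one_mul], inv_pow]
    intro e
    have h1 : τ = (φ a₁ ^ i) ^ M := mul_inv_eq_one.1 e
    obtain ⟨r, hr⟩ := ha
    have hz : (φ a₁ ^ i) ^ p ^ r = 1 := by
      rw [show (φ a₁ ^ i) ^ p ^ r = (φ a₁ ^ p ^ r) ^ i by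
        rw [← zpow_natCast, ← zpow_natCast, ← zpow_mul, ← zpow_mul, mul_comm],
        ← map_pow, show a₁ ^ p ^ r = 1 from Subtype.ext (by
          rw [SubmonoidClass.coe_pow, ← hr]; exact pow_orderOf_eq_one a), map_one, one_zpow]
    have h3 : τ ^ p ^ r = 1 := by rw [h1, ← pow_mul, mul_comm, pow_mul, hz, one_pow]
    have h4 := Nat.eq_one_of_dvd_coprimes (((Nat.coprime_primes hp.out Nat.prime_two).2 h2).pow_left r)
      (orderOf_dvd_of_pow_eq_one h3) (orderOf_dvd_of_pow_eq_one (show τ ^ 2 = 1 by rw [pow_two, hττ]))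
    exact hτ1 (orderOf_eq_one_iff.1 h4)
  refine ⟨(((nn ^ M : Y₁) : L) : G), U'.map (L.subtype.comp Y₁.subtype), ⟨(orderOf nn).factorization 2, ?_⟩,
    fun e => hne1 ?_, U.2.map _ |>.map _, ⟨⟨a₁, hYle haY⟩, ⟨a₂, hU (mem_zpowers _), rfl⟩, rfl⟩, ?_⟩
  · rw [Subgroup.orderOf_coe, Subgroup.orderOf_coe, hM,
      orderOf_pow_of_dvd (Nat.ordCompl_pos 2 (orderOf_pos nn).ne').ne' (Nat.ordCompl_dvd _ _)]
    exact Nat.div_div_self (Nat.ordProj_dvd _ _) (orderOf_pos nn).ne'
  · rw [show ((nn ^ M : Y₁) : L) = 1 from Subtype.ext e, map_one]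
  · exact le_normalizer_map (H := U') (L.subtype.comp Y₁.subtype) (mem_map_of_mem _ (pow_mem hnn M))

end Quadratic

end CfsgLib.Amalgam
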