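import Cfsg.Agent.Lib.PLocal.ZJTheorem

/-!
# `Z(J(S)) ⊓ B` is normal: stability only for quadratic elements of largest abelian subgroups

The argument of `CfsgLib.PLocal.centerThompsonAOf_inf_normal`, with the stability hypothesis
restricted to the elements the argument uses.
-/

set_option autoImplicit false

namespace CfsgLib.Amalgam

open Subgroup CfsgLib.PLocal
open scoped commutatorElement

universe u

variable {G : Type u} [Group G] [Finite G] {p : ℕ} [hp : Fact p.Prime]

/-- Glauberman: `Z(J(S)) ⊓ B` is normal, needing stability only for elements of largest abelian subgroups. -/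
theorem centerThompsonAOf_inf_normal_of_quadratic (hp2 : p ≠ 2) (S : Sylow p G)
    (hstab : ∀ (B : Subgroup G) [B.Normal], IsPGroup p B →
      normalClosure ((Cfsg.centerThompsonAOf (S : Subgroup G) ⊓ B : Subgroup G) : Set G) = B →
      ∀ A ∈ maxAbIn (S : Subgroup G), ∀ a ∈ A, ⁅⁅B, zpowers a⁆, zpowers a⁆ = ⊥ →
        (QuotientGroup.mk a : G ⧸ centralizer (B : Set G)) ∈ Cfsg.pCore p (G ⧸ centralizer (B : Set G))) :
    ∀ B : Subgroup G, B.Normal → IsPGroup p B →
      (Cfsg.centerThompsonAOf (S : Subgroup G) ⊓ B).Normal := by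
  intro B
  induction hn : Nat.card B using Nat.strong_induction_on generalizing B with
  | _ n ih =>
    subst hn
    intro hBn hBp
    set J := Cfsg.thompsonSubgroupAOf (S : Subgroup G) with hJ
    set Z := Cfsg.centerThompsonAOf (S : Subgroup G) with hZ
    set X := Z ⊓ B with hX
    by_cases hB1 : B = ⊥
    · have : X = ⊥ := le_bot_iff.mp (inf_le_right.trans hB1.le)
      rw [this]; infer_instance
    have hBS : B ≤ (S : Subgroup G) := CfsgLib.Solvable.normal_pgroup_le_sylow hBp S
    have hZS : Z ≤ (S : Subgroup G) := centerThompsonAOf_le _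
    have hSX : (S : Subgroup G) ≤ normalizer (X : Set G) := fun s hs => by
      rw [mem_normalizer_iff_map_conj_eq, map_inf _ _ _ (MulAut.conj s).injective,
        mem_normalizer_iff_map_conj_eq.mp
          (normalizer_le_normalizer_centerThompsonAOf _ (le_normalizer hs)),
        mem_normalizer_iff_map_conj_eq.mp (normalizer_eq_top B ▸ mem_top s)]
    set N := normalClosure (X : Set G)
    have hNB : N ≤ B := normalClosure_le_normal (inf_le_right : X ≤ B)
    by_cases hNlt : N = B
    swap
    · have hcard : Nat.card N < Nat.card B := lt_of_le_of_ne (card_le_of_le hNB)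
        fun h => hNlt (eq_of_le_of_card_ge hNB h.ge)
      have := ih _ hcard N rfl normalClosure_normal (hBp.to_le hNB)
      rwa [show Z ⊓ N = X from le_antisymm (inf_le_inf_left Z hNB)
        (le_inf inf_le_left le_normalClosure)] at this
    have hDn : (⁅B, B⁆ : Subgroup G).Normal := commutator_normal B B
    have hDB : ⁅B, B⁆ ≤ B := commutator_le_left B B
    have hDlt : Nat.card ↥⁅B, B⁆ < Nat.card B := by
      refine lt_of_le_of_ne (card_le_of_le hDB) fun h => ?_
      have hBB : ⁅B, B⁆ = B := eq_of_le_of_card_ge hDB h.ge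
      have : Nontrivial B := (nontrivial_iff_ne_bot B).mpr hB1
      have := hBp.isNilpotent
      refine (Group.IsSolvable.commutator_lt_top_of_nontrivial (G := B)).ne ?_
      apply Subgroup.map_injective B.subtype_injective
      rw [← MonoidHom.range_eq_map, range_subtype, _root_.commutator_def,
        map_commutator, ← MonoidHom.range_eq_map, range_subtype, hBB]
    set W := Z ⊓ ⁅B, B⁆
    have hWn : W.Normal := ih _ hDlt _ rfl hDn (hBp.to_le hDB)
    have hDW : ⁅B, B⁆ ≤ W := by
      rw [commutator_le]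
      intro s hs t ht
      rw [← hNlt] at hs
      have key : N ≤ (centralizer ((B.map (QuotientGroup.mk' W) : Subgroup (G ⧸ W)) : Set (G ⧸ W))).comap
          (QuotientGroup.mk' W) := by
        have : (B.map (QuotientGroup.mk' W)).Normal := hBn.map _ (QuotientGroup.mk'_surjective W)
        refine normalClosure_le_normal ?_
        intro x hx
        rw [SetLike.mem_coe, mem_comap, mem_centralizer_iff]
        rintro _ ⟨b, hb, rfl⟩
        rw [← map_mul, ← map_mul]
        refine QuotientGroup.eq.mpr ?_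
        have hbX : b⁻¹ * x * b ∈ X := (mem_normalizer_iff''.mp (hSX (hBS hb)) x).mp hx
        refine ⟨?_, ?_⟩
        · have : (b * x)⁻¹ * (x * b) = x⁻¹ * (b⁻¹ * x * b) := by group
          rw [this]
          exact Z.mul_mem (Z.inv_mem hx.1) hbX.1
        · have : (b * x)⁻¹ * (x * b) = ⁅x⁻¹, b⁻¹⁆ := by rw [commutatorElement_def]; group
          rw [this]
          exact commutator_mem_commutator (B.inv_mem hx.2) (B.inv_mem hb)
      have h := mem_centralizer_iff.mp (key hs) _ ⟨t, ht, rfl⟩
      rw [← QuotientGroup.eq_one_iff]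
      show QuotientGroup.mk' W ⁅s, t⁆ = 1
      rw [map_commutatorElement, commutatorElement_eq_one_iff_commute]
      exact h.symm
    -- the largest normal subgroup normalizing `X`
    set L := (normalizer (X : Set G)).normalCore
    have hLn : L.Normal := normalCore_normal _
    by_contra hnot
    set R := (S : Subgroup G) ⊓ L
    have hLX : L ≤ normalizer (X : Set G) := normalCore_le _
    have htop : ∀ Y : Subgroup G, L ≤ Y → normalizer (R : Set G) ≤ Y → Y = ⊤ := fun Y h1 h2 =>
      top_le_iff.mp fun g _ => by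
        obtain ⟨c, hc, n, hn, rfl⟩ := CfsgLib.PLocal.frattini_mul S L g
        exact Y.mul_mem (h1 hc) (h2 hn)
    have hAL : ∃ A ∈ maxAbIn (S : Subgroup G), ¬ A ≤ L := by
      by_contra hall
      apply hnot
      have hall' : J ≤ R := by
        refine le_inf (thompsonAOf_le _) ?_
        rw [hJ, thompsonAOf_eq]
        exact sSup_le fun A hA => by_contra fun h => hall ⟨A, hA, h⟩
      refine normalizer_eq_top_iff.mp (htop _ hLX ?_)
      intro g hg
      have h2 : g ∈ normalizer (Z : Set G) := by
        have := normalizer_le_normalizer_centerThompsonAOf R hg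
        rwa [show Cfsg.centerThompsonAOf R = Z by
          rw [hZ, Cfsg.centerThompsonAOf, Cfsg.centerThompsonAOf,
            thompsonAOf_eq_of_le hall' inf_le_left]] at this
      rw [mem_normalizer_iff_map_conj_eq, map_inf _ _ _ (MulAut.conj g).injective,
        mem_normalizer_iff_map_conj_eq.mp h2,
        mem_normalizer_iff_map_conj_eq.mp (normalizer_eq_top B ▸ mem_top g)]
    have hquadL : ∀ A ∈ maxAbIn (S : Subgroup G), ∀ a ∈ A, ⁅⁅B, zpowers a⁆, zpowers a⁆ = ⊥ → a ∈ L := by
      intro A hA a haA hq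
      set C := centralizer (B : Set G)
      have hmem := hstab B hBp hNlt A hA a haA hq
      set f := QuotientGroup.mk' C
      have := Cfsg.pCore_normal p (G ⧸ C)
      have hPL : (Cfsg.pCore p (G ⧸ C)).comap f ≤ L := by
        refine (normal_le_normalCore (hN := Normal.comap inferInstance f)).mpr ?_
        intro g hg
        obtain ⟨s, hs, hsg⟩ :=
          CfsgLib.Solvable.pCore_le_sylow (S.mapSurjective (QuotientGroup.mk'_surjective C)) hg
        have h1 : s⁻¹ * g ∈ C := QuotientGroup.eq.mp hsg
        have h2 : s⁻¹ * g ∈ normalizer (X : Set G) :=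
          centralizer_le_normalizer _ (centralizer_le (inf_le_right : X ≤ B) h1)
        simpa using Subgroup.mul_mem _ (hSX hs) h2
      exact hPL hmem
    have hDA : ∀ A ∈ maxAbIn (S : Subgroup G), ⁅B, B⁆ ≤ A := fun A hA w hw =>
      mem_maxAbIn_of_centralizes hA (hBS (hDB hw))
        (centralizer_le (le_thompsonAOf hA) (hDW hw).1.2)
    obtain ⟨A, ⟨hAmem, hAnL⟩, hAmax⟩ := Set.exists_max_image
      {A | A ∈ maxAbIn (S : Subgroup G) ∧ ¬ A ≤ L}
      (fun A => Nat.card ↥(A ⊓ B)) (Set.toFinite _) (by obtain ⟨A, h1, h2⟩ := hAL; exact ⟨A, h1, h2⟩)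
    obtain ⟨a, haA, haL⟩ := SetLike.not_le_iff_exists.mp hAnL
    have hnn : ¬ B ≤ normalizer (A : Set G) := fun h =>
      haL (hquadL A hAmem a haA (quad_zpowers_of_normalizes hAmem.2.1 haA h))
    obtain ⟨x, hR', hx, -⟩ := exists_replData S.2 hAmem.2.1 hAmem.1 hBS
      (le_top.trans (normalizer_eq_top B).ge) (hDA A hAmem) (fun h => absurd h hp2) hnn
    set A' := replA A x with hA'def
    have hA'S : A' ≤ (S : Subgroup G) := by
      refine hR'.le_sup_conj.trans (sup_le hAmem.1 ?_)
      rintro _ ⟨b, hb, rfl⟩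
      exact (S : Subgroup G).mul_mem ((S : Subgroup G).mul_mem (hBS hR'.mem) (hAmem.1 hb))
        ((S : Subgroup G).inv_mem (hBS hR'.mem))
    have hA' : A' ∈ maxAbIn (S : Subgroup G) :=
      ⟨hA'S, hR'.isMulCommutative, fun E hE hEc => (hAmem.2.2 E hE hEc).trans hR'.card_eq.ge⟩
    have hA'L : A' ≤ L := by
      by_contra h
      exact absurd (eq_of_le_of_card_ge (hR'.inf_lt hx).le (hAmax A' ⟨hA', h⟩)) (hR'.inf_lt hx).ne
    have hA'R : A' ≤ R := le_inf hA'.1 hA'L
    set JR := Cfsg.thompsonSubgroupAOf R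
    have hJR : JR ≤ J := by
      rw [show JR = _ from thompsonAOf_eq R, hJ, thompsonAOf_eq]
      refine sSup_le fun E hE => le_sSup ?_
      exact ((maxAbIn_of_le inf_le_left hA' hA'R).mp hE).1
    have hA'JR : A' ≤ JR := le_thompsonAOf
      ((maxAbIn_of_le inf_le_left hA' hA'R).mpr ⟨hA', hA'R⟩)
    have hXJR : X ≤ centralizer (JR : Set G) :=
      inf_le_left.trans (inf_le_right.trans (centralizer_le hJR))
    have hBc : B ≤ centralizer (JR : Set G) := by
      rw [← hNlt]
      refine (closure_le _).mpr ?_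
      intro y hy
      obtain ⟨z, hz, hzy⟩ := Group.mem_conjugatesOfSet_iff.mp hy
      obtain ⟨g, rfl⟩ := isConj_iff.mp hzy
      obtain ⟨c, hc, n, hn, he⟩ := CfsgLib.PLocal.frattini_mul S L g⁻¹
      obtain ⟨r, hr, l, hl, rfl⟩ : ∃ r ∈ normalizer (R : Set G), ∃ l ∈ L, g = r * l :=
        ⟨n⁻¹, inv_mem hn, c⁻¹, L.inv_mem hc, by rw [← inv_inv g, he]; group⟩
      have h1 : l * z * l⁻¹ ∈ X := (mem_normalizer_iff.mp (hLX hl) z).mp hz
      have h2 := normalizer_le_normalizer_thompsonAOf R hr
      intro j hj
      have h3 : r⁻¹ * j * r ∈ JR := (mem_normalizer_iff''.mp h2 j).mp hj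
      have h4 : Commute (r⁻¹ * j * r) (l * z * l⁻¹) := hXJR h1 _ h3
      have := (h4.map (MulAut.conj r).toMonoidHom).eq
      simpa [mul_assoc] using this
    have hBA' : B ≤ A' := fun z hz => mem_maxAbIn_of_centralizes hA' (hBS hz)
      (fun b hb => hBc hz b (hA'JR hb))
    exact hx (hR'.le_normalizer_self (hBA' hR'.mem))

end CfsgLib.Amalgam
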