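import Cfsg.Agent.Lib.Amalgam.InvertFree
import Cfsg.Agent.Lib.Amalgam.InvertZJ
import Cfsg.Agent.Lib.PLocal.ZJAbove
import Cfsg.Agent.Lib.Complement.AbelianThompson
import Cfsg.Agent.Lib.Complement.Functors

/-!
# `N(Z(J(T)))` detects inverted `p`-elements, `p` odd

If no nontrivial `p`-element of `N(Z(J(T)))` is inverted there, none is inverted in `G`.
-/

set_option autoImplicit false

namespace CfsgLib.Amalgam

open Subgroup CfsgLib.PLocal
open scoped MatrixGroups Pointwise

universe u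

variable {p : ℕ} [hp : Fact p.Prime] {G : Type u} [Group G] [Finite G]

omit [Finite G] hp in
theorem isPGroup_zpowers_of_orderOf {y : G} {k : ℕ} (hk : orderOf y = p ^ k) : IsPGroup p (zpowers y) :=
  IsPGroup.of_card (n := k) (by rw [Nat.card_zpowers, hk])

theorem zjA_ne_bot {R : Subgroup G} (hR : IsPGroup p R) (h1 : R ≠ ⊥) :
    Cfsg.centerThompsonAOf R ≠ ⊥ :=
  Complement.center_inf_ne_bot (hR.to_le (thompsonAOf_le R)) (Complement.thompsonAOf_ne_bot h1)

theorem zjA_map_conj (g : G) (R : Subgroup G) :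
    (normalizer (Cfsg.centerThompsonAOf R : Set G)).map (MulAut.conj g).toMonoidHom =
      normalizer (Cfsg.centerThompsonAOf (R.map (MulAut.conj g).toMonoidHom) : Set G) := by
  rw [← centerThompsonAOf_map_equiv, ← map_equiv_normalizer_eq]

/-- abelian subgroups of largest order inside conjugates of `T`. -/
theorem maxAbIn_transfer {T R A : Subgroup G} {g : G} (hA : A ∈ maxAbIn T)
    (hRg : R ≤ T.map (MulAut.conj g).toMonoidHom) (hAR : A ≤ R) : A ∈ maxAbIn R := by
  refine ⟨hAR, hA.2.1, fun E hE hEc => ?_⟩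
  have h1 : E.map (MulAut.conj g⁻¹).toMonoidHom ≤ T := by
    rintro _ ⟨e, he, rfl⟩
    obtain ⟨t, ht, rfl⟩ := hRg (hE he)
    simpa [mul_assoc] using ht
  calc Nat.card E = Nat.card ↥(E.map (MulAut.conj g⁻¹).toMonoidHom) :=
        (card_map_of_injective (MulAut.conj g⁻¹).injective).symm
    _ ≤ Nat.card A := hA.2.2 _ h1 (isMulCommutative_map _ hEc)

theorem thompsonAOf_eq_of_conj {T R : Subgroup G} {g : G} (hJ : Cfsg.thompsonSubgroupAOf T ≤ R)
    (hRg : R ≤ T.map (MulAut.conj g).toMonoidHom) :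
    Cfsg.thompsonSubgroupAOf R = Cfsg.thompsonSubgroupAOf T := by
  set S' := T.map (MulAut.conj g).toMonoidHom
  obtain ⟨A₀, hA₀⟩ := exists_maxAbIn T
  have hA₀R : A₀ ≤ R := (le_thompsonAOf hA₀).trans hJ
  have h1 : Cfsg.thompsonSubgroupAOf T ≤ Cfsg.thompsonSubgroupAOf R := by
    rw [thompsonAOf_eq T]
    exact sSup_le fun A hA => le_thompsonAOf (maxAbIn_transfer hA hRg ((le_thompsonAOf hA).trans hJ))
  have h2 : Cfsg.thompsonSubgroupAOf R ≤ Cfsg.thompsonSubgroupAOf S' := by
    rw [thompsonAOf_eq R]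
    exact sSup_le fun E hE => le_thompsonAOf
      ((maxAbIn_of_le hRg (maxAbIn_transfer hA₀ le_rfl (hA₀R.trans hRg)) hA₀R).1 hE).1
  have h3 : Nat.card ↥(Cfsg.thompsonSubgroupAOf S') = Nat.card ↥(Cfsg.thompsonSubgroupAOf T) := by
    rw [← thompsonAOf_map _ (fun x _ hx => (MulAut.conj g).injective (hx.trans (map_one _).symm))]
    exact card_map_of_injective (MulAut.conj g).injective
  refine le_antisymm ?_ h1
  rw [eq_of_le_of_card_ge (h1.trans h2) h3.le]
  exact h2

theorem exists_le_conj_sylow (T : Sylow p G) {R : Subgroup G} (hR : IsPGroup p R) :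
    ∃ g : G, R ≤ (T : Subgroup G).map (MulAut.conj g).toMonoidHom := by
  obtain ⟨S, hS⟩ := hR.exists_le_sylow
  obtain ⟨g, hg⟩ := MulAction.exists_smul_eq G T S
  refine ⟨g, hS.trans (le_of_eq ?_)⟩
  rw [← hg, Sylow.coe_subgroup_smul]
  rfl

omit [Finite G] in
theorem not_dvd_relIndex_sylow_map [Finite G] {L : Subgroup G} (P : Sylow p L) :
    ¬ p ∣ ((P : Subgroup L).map L.subtype).relIndex L := by
  show ¬ p ∣ (((P : Subgroup L).map L.subtype).comap L.subtype).index
  rw [comap_map_eq_self_of_injective L.subtype_injective]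
  exact P.not_dvd_index

/-- an element acting like an element of `O_p` on a self-centralizing `p`-group lies in `O_p`. -/
theorem mem_pCore_of_image (hc : centralizer (Cfsg.pCore p G : Set G) ≤ Cfsg.pCore p G) {a : G}
    (hmem : (QuotientGroup.mk a : G ⧸ centralizer (Cfsg.pCore p G : Set G)) ∈
      Cfsg.pCore p (G ⧸ centralizer (Cfsg.pCore p G : Set G))) : a ∈ Cfsg.pCore p G := by
  haveI := Cfsg.pCore_normal p G
  set C := centralizer (Cfsg.pCore p G : Set G)
  haveI := Cfsg.pCore_normal p (G ⧸ C)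
  set D := (Cfsg.pCore p (G ⧸ C)).comap (QuotientGroup.mk' C)
  have hDp : IsPGroup p D := by
    rintro ⟨d, hd⟩
    obtain ⟨k, hk⟩ := CfsgLib.Solvable.pCore_isPGroup (G := G ⧸ C) p ⟨_, hd⟩
    have h1 : d ^ p ^ k ∈ C := (QuotientGroup.eq_one_iff _).1 (by simpa using congrArg Subtype.val hk)
    obtain ⟨j, hj⟩ := CfsgLib.Solvable.pCore_isPGroup (G := G) p ⟨_, hc h1⟩
    refine ⟨k + j, Subtype.ext ?_⟩
    show d ^ p ^ (k + j) = 1
    rw [pow_add, pow_mul]
    simpa using congrArg Subtype.val hj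
  exact CfsgLib.Solvable.le_pCore (Normal.comap inferInstance _) hDp hmem

theorem two_pow_eq_self {x : G} (hx : ∃ k : ℕ, orderOf x = 2 ^ k) {m : ℕ} (hm : Odd m) :
    x ∈ zpowers (x ^ m) := by
  obtain ⟨k, hk⟩ := hx
  obtain ⟨j, hj⟩ := (exists_pow_eq_self_of_coprime (x := x) (n := m) (by
    rw [hk]; exact Nat.Coprime.pow_right k (Nat.coprime_two_right.2 hm)))
  exact ⟨j, by simpa using hj⟩

/-- `N(Z(J(T)))` detects inverted `p`-elements. -/
theorem not_inverts_of_zjA_aux (h2 : p ≠ 2) : ∀ (n : ℕ) (G : Type u) [Group G] [Finite G],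
    Nat.card G = n → ∀ T : Sylow p G,
      ¬ Inverts p (normalizer (Cfsg.centerThompsonAOf (T : Subgroup G) : Set G)) →
      ¬ Inverts p (⊤ : Subgroup G) := by
  intro n
  induction n using Nat.strong_induction_on with
  | _ n ih =>
  intro G _ _ hn T hM hinv
  subst hn
  set M := normalizer (Cfsg.centerThompsonAOf (T : Subgroup G) : Set G) with hMdef
  set Q := Cfsg.pCore p G with hQdef
  haveI hQn := Cfsg.pCore_normal p G
  have hQp : IsPGroup p Q := CfsgLib.Solvable.pCore_isPGroup p
  have hQT : Q ≤ (T : Subgroup G) := CfsgLib.Solvable.pCore_le_sylow T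
  have hTM : (T : Subgroup G) ≤ M :=
    le_normalizer.trans (normalizer_le_normalizer_centerThompsonAOf _)
  -- the statement in proper subgroups
  have hsub : ∀ L : Subgroup G, L ≠ ⊤ → ∀ R : Subgroup G, R ≤ L → IsPGroup p R → ¬ p ∣ R.relIndex L →
      Inverts p L → Inverts p (L ⊓ normalizer (Cfsg.centerThompsonAOf R : Set G)) := by
    intro L hL R hRL hR hidx hiL
    by_contra hno
    have hlt : Nat.card L < Nat.card G :=
      lt_of_le_of_ne (card_le_card_group L) fun e => hL (eq_top_of_card_eq L e)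
    let P : Sylow p L := IsPGroup.toSylow (hR.comap_subtype (H := R) (K := L)) hidx
    refine ih _ hlt L rfl P ?_ ?_
    · intro hP
      have h1 := hP.map_injective L.subtype L.subtype_injective
      refine hno (h1.mono (le_inf (map_subtype_le _) ((le_normalizer_map L.subtype).trans ?_)))
      rw [centerThompsonAOf_map _ (fun x _ hx => L.subtype_injective (hx.trans (map_one _).symm))]
      rw [show ((P : Subgroup L).map L.subtype) = R from map_subgroupOf_eq_of_le hRL]
    · obtain ⟨x, hx, y, hy, h1, ⟨k, hk⟩, he⟩ := hiL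
      exact ⟨⟨x, hx⟩, mem_top _, ⟨y, hy⟩, mem_top _, fun e => h1 (congrArg Subtype.val e),
        ⟨k, by rw [Subgroup.orderOf_mk, hk]⟩, Subtype.ext he⟩
  have hTidx : ∀ L : Subgroup G, (T : Subgroup G) ≤ L → ¬ p ∣ (T : Subgroup G).relIndex L := fun L hL hd =>
    T.not_dvd_index (hd.trans (relIndex_dvd_index_of_le hL))
  have hover : ∀ L : Subgroup G, L ≠ ⊤ → (T : Subgroup G) ≤ L → ¬ Inverts p L := fun L hL hTL hiL =>
    hM ((hsub L hL _ hTL T.isPGroup' (hTidx L hTL) hiL).mono inf_le_right)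
  -- climbing
  have climb : ∀ R : Subgroup G, IsPGroup p R → ∀ L : Subgroup G, L ≠ ⊤ → R ≤ L → ¬ p ∣ R.relIndex L →
      Inverts p L → ∃ T' : Subgroup G, IsPGroup p T' ∧ R ≤ T' ∧ (Cfsg.centerThompsonAOf T').Normal := by
    intro R
    induction hi : R.index using Nat.strong_induction_on generalizing R with
    | _ i ihR =>
    subst hi
    intro hR L hL hRL hidx hiL
    set N := normalizer (Cfsg.centerThompsonAOf R : Set G) with hN
    have hiN : Inverts p N := (hsub L hL R hRL hR hidx hiL).mono inf_le_right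
    by_cases htop : N = ⊤
    · exact ⟨R, hR, le_rfl, normalizer_eq_top_iff.1 htop⟩
    obtain ⟨S, hRS⟩ := hR.exists_le_sylow
    rcases lt_or_eq_of_le hRS with hlt | heq
    swap
    · exfalso
      obtain ⟨g, hg⟩ := MulAction.exists_smul_eq G T S
      have hNM : N = M.map (MulAut.conj g).toMonoidHom := by
        rw [hN, hMdef, zjA_map_conj, heq, ← hg, Sylow.coe_subgroup_smul]
        rfl
      refine hM ?_
      have h1 := hiN.map_injective (MulAut.conj g⁻¹).toMonoidHom (MulAut.conj g⁻¹).injective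
      refine h1.mono ?_
      rw [hNM]
      rintro _ ⟨_, ⟨m, hm, rfl⟩, rfl⟩
      simpa [mul_assoc] using hm
    haveI := S.isPGroup'.isNilpotent
    have hlt' : R < (S : Subgroup G) ⊓ normalizer (R : Set G) := by
      have hne : R.subgroupOf (S : Subgroup G) < ⊤ := lt_top_iff_ne_top.2 fun e =>
        hlt.not_ge (subgroupOf_eq_top.1 e)
      have h1 := Group.normalizerCondition_of_isNilpotent _ hne
      refine lt_of_le_of_ne (le_inf hRS le_normalizer) fun e => ?_
      obtain ⟨z, hz, hzR⟩ := SetLike.exists_of_lt h1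
      refine hzR (mem_subgroupOf.2 (e.symm.le ⟨z.2, ?_⟩))
      refine mem_normalizer_iff.2 fun y => ?_
      constructor
      · intro hy
        exact mem_subgroupOf.1 ((mem_normalizer_iff.1 hz ⟨y, hRS hy⟩).1 (mem_subgroupOf.2 hy))
      · intro hy
        have hyS : y ∈ (S : Subgroup G) := by
          have := mul_mem (mul_mem (inv_mem z.2) (hRS hy)) z.2
          simpa [mul_assoc] using this
        exact mem_subgroupOf.1 ((mem_normalizer_iff.1 hz ⟨y, hyS⟩).2 (mem_subgroupOf.2 hy))
    set R' := (S : Subgroup G) ⊓ normalizer (R : Set G)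
    have hR'N : R' ≤ N := inf_le_right.trans (normalizer_le_normalizer_centerThompsonAOf R)
    obtain ⟨P, hP⟩ := ((S.isPGroup'.to_le (inf_le_left : R' ≤ _)).comap_subtype (K := N)).exists_le_sylow
    set R₂ := (P : Subgroup N).map N.subtype with hR₂
    have hR'R₂ : R' ≤ R₂ := fun z hz => ⟨⟨z, hR'N hz⟩, hP hz, rfl⟩
    have hidx₂ : ¬ p ∣ R₂.relIndex N := by
      exact not_dvd_relIndex_sylow_map P
    obtain ⟨T', hT', hle, hnorm⟩ := ihR R₂.index (index_strictAnti (lt_of_lt_of_le hlt' hR'R₂)) R₂ rfl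
      (P.2.map _) N htop (map_subtype_le _) hidx₂ hiN
    exact ⟨T', hT', (hlt'.le.trans hR'R₂).trans hle, hnorm⟩
  obtain ⟨x, -, hx2, y, -, hy1, ⟨ky, hky⟩, hxy⟩ := hinv.exists_two
  -- step: `O_{p'}(G) = 1`
  have hO : Cfsg.pPrimeCore p G = ⊥ := by
    by_contra hne
    set N := Cfsg.pPrimeCore p G
    haveI := CfsgLib.Solvable.pPrimeCore_normal p G
    set π := QuotientGroup.mk' N with hπ
    have hπs := QuotientGroup.mk'_surjective N
    have hcopN : (Nat.card N).Coprime p := CfsgLib.Solvable.pPrimeCore_coprime p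
    have hTN : (T : Subgroup G) ⊓ N = ⊥ := by
      refine eq_bot_iff.2 fun z hz => mem_bot.2 ?_
      obtain ⟨k, hk⟩ := IsPGroup.iff_orderOf.1 T.isPGroup' ⟨z, hz.1⟩
      rw [Subgroup.orderOf_mk] at hk
      exact orderOf_eq_one_iff.1 (Nat.eq_one_of_dvd_coprimes ((hcopN.symm.pow_left k)) hk.dvd
        (orderOf_dvd_natCard N hz.2))
    have hlt : Nat.card (G ⧸ N) < Nat.card G := by
      have h1 : 1 < Nat.card N := by
        haveI := (nontrivial_iff_ne_bot N).2 hne
        exact Finite.one_lt_card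
      rw [card_eq_card_quotient_mul_card_subgroup N]
      exact lt_mul_of_one_lt_right Nat.card_pos h1
    have hyN : y ∉ N := fun h => hy1 (orderOf_eq_one_iff.1 (Nat.eq_one_of_dvd_coprimes
      (hcopN.symm.pow_left ky) hky.dvd (orderOf_dvd_natCard N h)))
    set Z := Cfsg.centerThompsonAOf (T : Subgroup G) with hZ
    have hZbar : Cfsg.centerThompsonAOf ((T.mapSurjective hπs : Sylow p (G ⧸ N)) : Subgroup (G ⧸ N)) =
        Z.map π := by
      rw [hZ, centerThompsonAOf_map π fun z hz he => ?_]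
      · rfl
      · have : z ∈ (T : Subgroup G) ⊓ N := ⟨hz, (QuotientGroup.eq_one_iff z).1 he⟩
        rw [hTN] at this
        exact this
    refine ih _ hlt (G ⧸ N) rfl (T.mapSurjective hπs) ?_ ?_
    · rw [hZbar]
      intro hI
      refine hM (inverts_of_map h2 π (hI.mono ?_))
      intro gb hgb
      obtain ⟨g, rfl⟩ := hπs gb
      set X := (Z.map π).comap π with hX
      set G₀ := normalizer (X : Set G) with hG₀
      have hgG : g ∈ G₀ := by
        rw [hG₀, mem_normalizer_iff]
        intro z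
        rw [hX, mem_comap, mem_comap, map_mul, map_mul, map_inv]
        exact mem_normalizer_iff.1 hgb (π z)
      have hTG : (T : Subgroup G) ≤ G₀ := by
        intro t ht
        rw [hG₀, mem_normalizer_iff]
        intro z
        rw [hX, mem_comap, mem_comap, map_mul, map_mul, map_inv]
        exact mem_normalizer_iff.1 (le_normalizer_map π (mem_map_of_mem π (hTM ht))) (π z)
      haveI : (X.subgroupOf G₀).Normal := normal_in_normalizer
      obtain ⟨c, hc, w, hw, he⟩ := frattini_mul (T.subtype hTG) (X.subgroupOf G₀) ⟨g, hgG⟩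
      have hinf : ((T : Subgroup G).subgroupOf G₀ ⊓ X.subgroupOf G₀).map G₀.subtype = Z := by
        apply le_antisymm
        · rintro _ ⟨z, ⟨hzT, hzX⟩, rfl⟩
          obtain ⟨z', hz', he'⟩ := hzX
          have hzT : (z : G) ∈ (T : Subgroup G) := hzT
          have h1 : (z : G)⁻¹ * z' ∈ (T : Subgroup G) ⊓ N :=
            ⟨(T : Subgroup G).mul_mem ((T : Subgroup G).inv_mem hzT) (centerThompsonAOf_le (T : Subgroup G) hz'),
              QuotientGroup.eq.1 he'.symm⟩
          rw [hTN, mem_bot] at h1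
          show (z : G) ∈ Z
          rw [inv_mul_eq_one.1 h1]
          exact hz'
        · intro z hz
          have hzT : z ∈ (T : Subgroup G) := centerThompsonAOf_le (T : Subgroup G) hz
          exact ⟨⟨z, hTG hzT⟩, ⟨hzT, mem_map_of_mem π hz⟩, rfl⟩
      have hwM : (w : G) ∈ M := by
        have := le_normalizer_map G₀.subtype (mem_map_of_mem G₀.subtype hw)
        rw [show ((T.subtype hTG : Sylow p G₀) : Subgroup G₀) = (T : Subgroup G).subgroupOf G₀ from rfl,
          hinf] at this
        exact this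
      obtain ⟨c', hc', hce⟩ := hc
      have he' : g = (c : G) * w := congrArg Subtype.val he
      rw [he', map_mul, show π (c : G) = π c' from hce.symm]
      exact mul_mem (mem_map_of_mem π (hTM (centerThompsonAOf_le _ hc'))) (mem_map_of_mem π hwM)
    · refine ⟨π x, mem_top _, π y, mem_top _, fun e => hyN ((QuotientGroup.eq_one_iff y).1 e), ?_, ?_⟩
      · obtain ⟨i, -, hi⟩ := (Nat.dvd_prime_pow hp.out).1 ((orderOf_map_dvd π y).trans hky.dvd)
        exact ⟨i, hi⟩
      · rw [← map_inv, ← map_inv, ← map_mul, ← map_mul, hxy]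
  -- case `O_p(G) = 1`
  by_cases hQ : Q = ⊥
  · obtain ⟨g, hg⟩ := exists_le_conj_sylow T (isPGroup_zpowers_of_orderOf hky)
    obtain ⟨y', hy'T, hy'⟩ := hg (mem_zpowers y)
    have hy'' : g * y' * g⁻¹ = y := hy'
    have hT1 : (T : Subgroup G) ≠ ⊥ := fun e => hy1 (by
      rw [← hy'', mem_bot.1 (e ▸ hy'T : y' ∈ (⊥ : Subgroup G))]; simp)
    have hno : ∀ P : Subgroup G, IsPGroup p P → P ≠ ⊥ → ¬ Inverts p (normalizer (P : Set G)) := by
      intro P hP hP1 hI
      have hNtop : normalizer (P : Set G) ≠ ⊤ := fun e => hP1 (le_bot_iff.1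
        (hQ ▸ CfsgLib.Solvable.le_pCore (normalizer_eq_top_iff.1 e) hP))
      obtain ⟨U, hU⟩ := (hP.comap_subtype (K := normalizer (P : Set G))).exists_le_sylow
      have hidx : ¬ p ∣ ((U : Subgroup ↥(normalizer (P : Set G))).map (normalizer (P : Set G)).subtype).relIndex
          (normalizer (P : Set G)) := by
        exact not_dvd_relIndex_sylow_map U
      obtain ⟨T', hT', hle, hnorm⟩ := climb _ (U.2.map _) _ hNtop (map_subtype_le _) hidx hI
      have hT'1 : T' ≠ ⊥ := fun e => hP1 (le_bot_iff.1 fun z hz => by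
        rw [← e]; exact hle ⟨⟨z, le_normalizer hz⟩, hU hz, rfl⟩)
      exact zjA_ne_bot hT' hT'1 (le_bot_iff.1
        (hQ ▸ CfsgLib.Solvable.le_pCore hnorm (hT'.to_le (centerThompsonAOf_le _))))
    have hctrl := controls_zj_of_locals h2 T (fun P hZP hPT g K f hf => by
      refine hno (conjMap g P) ((T.isPGroup'.to_le hPT).map _) ?_ (inverts_of_qd_hom h2 K f hf)
      intro e
      have h1 := (map_eq_bot_iff_of_injective P (MulAut.conj g).injective).1 e
      exact Complement.center_inf_ne_bot T.isPGroup' hT1 (le_bot_iff.1 (h1 ▸ hZP)))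
    set x' := g⁻¹ * x * g with hx'
    have hxy' : x' * y' * x'⁻¹ = y'⁻¹ := by
      rw [hx', show g⁻¹ * x * g * y' * (g⁻¹ * x * g)⁻¹ = g⁻¹ * (x * (g * y' * g⁻¹) * x⁻¹) * g by group,
        hy'', hxy, ← hy'']
      group
    obtain ⟨m, hm, hmy⟩ := (hctrl {y'} (Set.singleton_subset_iff.2 hy'T)).2 x' (by
      rintro _ ⟨a, rfl, rfl⟩
      show x' * a * x'⁻¹ ∈ _
      rw [hxy']; exact inv_mem hy'T)
    refine hM ⟨m, hm, y', hTM hy'T, fun e => hy1 (by rw [← hy'', e]; simp), ⟨ky, ?_⟩, ?_⟩
    · rw [← hky, ← hy'']; exact (MulEquiv.orderOf_eq (MulAut.conj g) y').symm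
    · rw [← hmy y' rfl, hxy']
  -- `G / Q` inverts nothing
  set π := QuotientGroup.mk' Q with hπ
  have hπs := QuotientGroup.mk'_surjective Q
  have hMne : M ≠ ⊤ := fun e => hM (e ▸ hinv)
  have hfree : ¬ Inverts p (⊤ : Subgroup (G ⧸ Q)) := by
    have hlt : Nat.card (G ⧸ Q) < Nat.card G := by
      have h1 : 1 < Nat.card Q := by
        haveI := (nontrivial_iff_ne_bot Q).2 hQ
        exact Finite.one_lt_card
      rw [card_eq_card_quotient_mul_card_subgroup Q]
      exact lt_mul_of_one_lt_right Nat.card_pos h1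
    set T₁ : Sylow p (G ⧸ Q) := T.mapSurjective hπs with hT₁
    set N₁ := normalizer (Cfsg.centerThompsonAOf (T₁ : Subgroup (G ⧸ Q)) : Set (G ⧸ Q))
    have hTG₁ : (T : Subgroup G) ≤ N₁.comap π := fun t ht =>
      normalizer_le_normalizer_centerThompsonAOf _ (le_normalizer (mem_map_of_mem π ht))
    refine ih _ hlt (G ⧸ Q) rfl T₁ fun hI => ?_
    by_cases htop : N₁.comap π = ⊤
    · -- `T` would be normal
      have hN₁ : N₁ = ⊤ := by
        rw [← map_comap_eq_self_of_surjective hπs N₁, htop, map_top_of_surjective π hπs]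
      have h1 : Cfsg.centerThompsonAOf (T₁ : Subgroup (G ⧸ Q)) = ⊥ := le_bot_iff.1 (by
        rw [← CfsgLib.Solvable.pCore_quotient_eq_bot (G := G) p]
        exact CfsgLib.Solvable.le_pCore (normalizer_eq_top_iff.1 hN₁)
          (T₁.isPGroup'.to_le (centerThompsonAOf_le _)))
      have h3 : (T₁ : Subgroup (G ⧸ Q)) = ⊥ := by
        by_contra hne
        exact zjA_ne_bot T₁.isPGroup' hne h1
      have h4 : (T : Subgroup G) = Q := le_antisymm (fun t ht => (QuotientGroup.eq_one_iff t).1 (by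
        have : π t ∈ (T₁ : Subgroup (G ⧸ Q)) := mem_map_of_mem π ht
        rwa [h3, mem_bot] at this)) hQT
      refine hMne (top_le_iff.1 (le_trans ?_ (normalizer_le_normalizer_centerThompsonAOf _)))
      rw [h4, normalizer_eq_top]
    · refine hover _ htop hTG₁ (inverts_of_map h2 π ?_)
      rwa [map_comap_eq_self_of_surjective hπs]
  have hQ2 : ∀ (t : G), (∃ k : ℕ, orderOf t = 2 ^ k) → ∀ U : Subgroup G, IsPGroup p U →
      t ∈ normalizer (U : Set G) → ∀ v ∈ U, π t * π v = π v * π t := by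
    intro t ht U hU htU v hv
    by_contra hne
    refine hfree (inverts_of_moves h2 (x := π t) (P := U.map π) (mem_top _) ?_ le_top (hU.map π)
      (le_normalizer_map π (mem_map_of_mem π htU)) fun hc => hne (hc _ (mem_map_of_mem π hv)).symm)
    obtain ⟨k, hk⟩ := ht
    obtain ⟨i, -, hi⟩ := (Nat.dvd_prime_pow Nat.prime_two).1 ((orderOf_map_dvd π t).trans hk.dvd)
    exact ⟨i, hi⟩
  have hxQ : ¬ ∀ t : G, (∃ k : ℕ, orderOf t = 2 ^ k) → t ∈ centralizer (Q : Set G) := by
    intro hall
    have hnY : x ∈ normalizer (zpowers y : Set G) := by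
      rw [mem_normalizer_iff_map_conj_eq, MonoidHom.map_zpowers]
      show zpowers (x * y * x⁻¹) = _
      rw [hxy, zpowers_inv]
    have h1 := hQ2 x hx2 _ (isPGroup_zpowers_of_orderOf hky) hnY y (mem_zpowers y)
    have h3 : y ^ 2 ∈ Q := by
      refine (QuotientGroup.eq_one_iff _).1 ?_
      show π (y ^ 2) = 1
      have h4 : π (y⁻¹) = π y := by rw [← hxy, map_mul, map_mul, map_inv, h1, mul_inv_cancel_right]
      rw [pow_two, map_mul]
      conv_lhs => arg 1; rw [← h4]
      rw [← map_mul, inv_mul_cancel, map_one]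
    obtain ⟨j, hj⟩ := exists_pow_eq_self_of_coprime (x := y) (n := 2) (by
      rw [hky]; exact Nat.Coprime.pow_right ky ((Nat.coprime_primes Nat.prime_two hp.out).2 (Ne.symm h2)))
    have hyQ : y ∈ Q := hj ▸ pow_mem h3 j
    have h5 : x * y * x⁻¹ = y := by rw [← hall x hx2 y hyQ, mul_inv_cancel_right]
    have h6 : y ^ 2 = 1 := by rw [pow_two, ← eq_inv_iff_mul_eq_one]; exact h5.symm.trans hxy
    exact hy1 (by rw [← hj, h6, one_pow])
  -- `C(Q) ≤ Q`
  have hc : centralizer (Q : Set G) ≤ Q := by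
    set C := centralizer (Q : Set G) with hC
    haveI : C.Normal := inferInstance
    set R := (T : Subgroup G) ⊓ C with hR
    by_cases hRQ : R ≤ Q
    · -- a central Sylow subgroup
      set Z0 := Q.subgroupOf C
      haveI : Z0.Normal := normal_subgroupOf
      obtain ⟨W, hW⟩ := Transfer.exists_sylow_eq_subgroupOf T C
      have hWidx : ¬ p ∣ ((T : Subgroup G) ⊓ C).relIndex C := by
        rw [Subgroup.relIndex, inf_subgroupOf_right, ← hW]
        exact W.not_dvd_index
      have hcopI : (Nat.card Z0).Coprime Z0.index := by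
        obtain ⟨k, hk⟩ := (hQp.comap_subtype (K := C)).exists_card_eq
        rw [show Nat.card Z0 = p ^ k from hk]
        refine ((hp.out.coprime_iff_not_dvd).2 fun hd => hWidx ?_).pow_left k
        exact hd.trans (relIndex_dvd_of_le_left C hRQ)
      obtain ⟨H, hH⟩ := exists_right_complement'_of_coprime hcopI
      have hcen : ∀ z ∈ Z0, ∀ w : C, z * w = w * z := fun z hz w =>
        Subtype.ext (w.2 (z : G) hz)
      haveI hHn : H.Normal := by
        rw [← normalizer_eq_top_iff, ← top_le_iff, ← hH.sup_eq_top]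
        refine sup_le (fun z hz => mem_normalizer_iff.2 fun w => ?_) le_normalizer
        rw [hcen z hz w, mul_inv_cancel_right]
      have hHcard : Nat.card H = Z0.index := by
        rw [← hH.symm.index_eq_card]
      have hHbot : H = ⊥ := by
        have h1 : H ≤ Cfsg.pPrimeCore p C := CfsgLib.Solvable.le_pPrimeCore hHn (by
          rw [hHcard]
          refine ((hp.out.coprime_iff_not_dvd).2 fun hd => hWidx ?_).symm
          exact hd.trans (relIndex_dvd_of_le_left C hRQ))
        have h2' : H.map C.subtype ≤ ⊥ :=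
          hO ▸ (map_mono h1).trans (CfsgLib.Solvable.map_pPrimeCore_le p C)
        exact (map_eq_bot_iff_of_injective H C.subtype_injective).1 (le_bot_iff.1 h2')
      have h3 : Z0 = ⊤ := by
        have := hH.sup_eq_top
        rwa [hHbot, sup_bot_eq] at this
      exact subgroupOf_eq_top.1 h3
    · exfalso
      have hRp : IsPGroup p R := T.isPGroup'.to_le inf_le_left
      have hNtop : normalizer (R : Set G) ≠ ⊤ := fun e =>
        hRQ (CfsgLib.Solvable.le_pCore (normalizer_eq_top_iff.1 e) hRp)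
      have hTN : (T : Subgroup G) ≤ normalizer (R : Set G) := fun t ht => by
        rw [mem_normalizer_iff_map_conj_eq, hR, Subgroup.map_inf _ _ _ (MulAut.conj t).injective,
          mem_normalizer_iff_map_conj_eq.1 (le_normalizer ht),
          mem_normalizer_iff_map_conj_eq.1 (normalizer_eq_top C ▸ mem_top t)]
      refine hxQ fun t ht => ?_
      obtain ⟨c, hc, w, hw, he⟩ := frattini_mul T C t
      set m := ordCompl[2] (orderOf w) with hm
      have hmo : Odd m :=
        Nat.odd_iff.2 (Nat.two_dvd_ne_zero.1 (Nat.not_dvd_ordCompl Nat.prime_two (orderOf_pos w).ne'))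
      have hwm : w ^ m ∈ centralizer (Q : Set G) := by
        by_contra hne
        refine hover _ hNtop hTN (inverts_of_moves h2 (x := w ^ m) (P := Q) (pow_mem hw m)
          ⟨(orderOf w).factorization 2, ?_⟩ (hQT.trans hTN) hQp ?_ hne)
        · rw [hm, orderOf_pow_of_dvd (Nat.ordCompl_pos 2 (orderOf_pos w).ne').ne' (Nat.ordCompl_dvd _ _)]
          exact Nat.div_div_self (Nat.ordProj_dvd _ _) (orderOf_pos w).ne'
        · rw [normalizer_eq_top]; exact mem_top _
      have htm : t ^ m ∈ centralizer (Q : Set G) := by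
        haveI := (inferInstance : C.Normal)
        rw [← QuotientGroup.eq_one_iff (N := C), QuotientGroup.mk_pow, he, QuotientGroup.mk_mul,
          (QuotientGroup.eq_one_iff c).2 hc, one_mul, ← QuotientGroup.mk_pow]
        exact (QuotientGroup.eq_one_iff _).2 hwm
      exact zpowers_le.2 htm (two_pow_eq_self ht hmo)
  -- an overgroup with a `2`-element
  have esc : ∀ (B : Subgroup G) [B.Normal], IsPGroup p B → ∀ a ∈ (T : Subgroup G),
      ⁅⁅B, zpowers a⁆, zpowers a⁆ = ⊥ →
      (QuotientGroup.mk a : G ⧸ centralizer (B : Set G)) ∉ Cfsg.pCore p (G ⧸ centralizer (B : Set G)) →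
      ∀ W : Subgroup G, W ≤ (T : Subgroup G) → W ≤ centralizer ({a} : Set G) →
        ∃ T' : Subgroup G, IsPGroup p T' ∧ W ⊔ Q ≤ T' ∧ (Cfsg.centerThompsonAOf T').Normal := by
    intro B _ hB a haT hq hna W hWT hWa
    have hao : ∃ k : ℕ, orderOf a = p ^ k := by
      obtain ⟨k, hk⟩ := IsPGroup.iff_orderOf.1 T.isPGroup' ⟨a, haT⟩
      exact ⟨k, by rwa [Subgroup.orderOf_mk] at hk⟩
    obtain ⟨t, U, ht, ht1, hU, haU, htU⟩ := exists_two_element_normalizing h2 hB hao hq hna
    set L := (centralizer ({π a} : Set (G ⧸ Q))).comap π with hL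
    have htL : t ∈ L := mem_comap.2 (mem_centralizer_singleton_iff.2 (hQ2 t ht U hU htU a haU))
    have hQL : Q ≤ L := fun z hz => by
      rw [hL, mem_comap, show π z = 1 from (QuotientGroup.eq_one_iff z).2 hz]
      exact one_mem _
    have hLI : Inverts p L := by
      refine inverts_of_moves h2 htL ht hQL hQp (by rw [normalizer_eq_top]; exact mem_top t) fun hcQ => ht1 ?_
      obtain ⟨k, hk⟩ := IsPGroup.iff_orderOf.1 hQp ⟨t, hc hcQ⟩
      obtain ⟨j, hj⟩ := ht
      rw [Subgroup.orderOf_mk] at hk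
      exact orderOf_eq_one_iff.1 (Nat.eq_one_of_dvd_coprimes
        (((Nat.coprime_primes Nat.prime_two hp.out).2 (Ne.symm h2)).pow j k) hj.dvd hk.dvd)
    have hLtop : L ≠ ⊤ := by
      intro e
      haveI := Cfsg.pCore_normal p (G ⧸ Q)
      have hπa : π a ∈ Cfsg.pCore p (G ⧸ Q) := by
        obtain ⟨k, hk⟩ := hao
        refine CfsgLib.Solvable.le_pCore (N := zpowers (π a)) ⟨fun z hz w => ?_⟩ ?_ (mem_zpowers _)
        · obtain ⟨w', rfl⟩ := hπs w
          obtain ⟨i, rfl⟩ := mem_zpowers_iff.1 hz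
          have hw' : Commute (π w') (π a) :=
            mem_centralizer_singleton_iff.1 (mem_comap.1 (e.ge (mem_top w')))
          rw [(hw'.zpow_right i).eq, mul_inv_cancel_right]
          exact zpow_mem (mem_zpowers _) i
        · rw [← MonoidHom.map_zpowers]
          exact (isPGroup_zpowers_of_orderOf hk).map π
      rw [CfsgLib.Solvable.pCore_quotient_eq_bot, mem_bot] at hπa
      refine hna (CfsgLib.Solvable.le_pCore (Normal.map hQn (QuotientGroup.mk' _)
        (QuotientGroup.mk'_surjective _)) (hQp.map _) (mem_map_of_mem _ ((QuotientGroup.eq_one_iff a).1 hπa)))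
    have hWQ : W ⊔ Q ≤ L := sup_le (fun w hw => mem_comap.2 (mem_centralizer_singleton_iff.2 (by
      rw [← map_mul, ← map_mul, mem_centralizer_singleton_iff.1 (hWa hw)]))) hQL
    obtain ⟨P, hP⟩ := ((T.isPGroup'.to_le (sup_le hWT hQT)).comap_subtype (K := L)).exists_le_sylow
    have hidx : ¬ p ∣ ((P : Subgroup L).map L.subtype).relIndex L := by
      exact not_dvd_relIndex_sylow_map P
    obtain ⟨T', hT', hle, hnorm⟩ := climb _ (P.2.map _) L hLtop (map_subtype_le _) hidx hLI
    exact ⟨T', hT', fun z hz => hle ⟨⟨z, hWQ hz⟩, hP hz, rfl⟩, hnorm⟩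
  have hZnot : ¬ (Cfsg.centerThompsonAOf (T : Subgroup G)).Normal := fun h =>
    hMne (normalizer_eq_top_iff.2 h)
  -- `Z(J(T)) ≤ Q`
  have hZQ : Cfsg.centerThompsonAOf (T : Subgroup G) ≤ Q := by
    intro a ha
    refine mem_pCore_of_image hc ?_
    by_contra hna
    have hJa : Cfsg.thompsonSubgroupAOf (T : Subgroup G) ≤ centralizer ({a} : Set G) := fun j hj =>
      mem_centralizer_singleton_iff.2 (ha.2 j hj)
    obtain ⟨T', hT', hle, hnorm⟩ := esc Q hQp a (centerThompsonAOf_le _ ha)
      (quad_zpowers_of_normalizes (centerThompsonAOf_comm _) ha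
        (hQT.trans (le_normalizer.trans (normalizer_le_normalizer_centerThompsonAOf _)))) hna
      (Cfsg.thompsonSubgroupAOf (T : Subgroup G)) (thompsonAOf_le _) hJa
    obtain ⟨g, hg⟩ := exists_le_conj_sylow T hT'
    refine hZnot ?_
    have hJ := thompsonAOf_eq_of_conj (le_sup_left.trans hle) hg
    have : Cfsg.centerThompsonAOf (T : Subgroup G) = Cfsg.centerThompsonAOf T' := by
      unfold Cfsg.centerThompsonAOf
      rw [hJ]
    rw [this]; exact hnorm
  refine hZnot ?_
  have hZ := centerThompsonAOf_inf_normal_of_quadratic h2 T ?_ Q hQn hQp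
  · rwa [inf_eq_left.2 hZQ] at hZ
  intro B hBn hB hclos A hA a haA hq
  by_contra hna
  have hAa : A ≤ centralizer ({a} : Set G) := fun z hz =>
    mem_centralizer_singleton_iff.2 (comm_of_isMulCommutative hA.2.1 hz haA)
  obtain ⟨T', hT', hle, hnorm⟩ := esc B hB a (hA.1 haA) hq hna A hA.1 hAa
  obtain ⟨g, hg⟩ := exists_le_conj_sylow T hT'
  have hAT' : A ∈ maxAbIn T' := maxAbIn_transfer hA hg (le_sup_left.trans hle)
  set Z' := Cfsg.centerThompsonAOf T' with hZ'
  -- the conjugate of `T'` inside `T`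
  set T'' := T'.map (MulAut.conj g⁻¹).toMonoidHom with hT''
  have hT''T : T'' ≤ (T : Subgroup G) := by
    rintro _ ⟨z, hz, rfl⟩
    obtain ⟨t, ht, rfl⟩ := hg hz
    show g⁻¹ * (g * t * g⁻¹) * g⁻¹⁻¹ ∈ (T : Subgroup G)
    rw [show g⁻¹ * (g * t * g⁻¹) * g⁻¹⁻¹ = t by group]
    exact ht
  have hZ'' : Cfsg.centerThompsonAOf T'' = Z' := by
    rw [hT'', ← centerThompsonAOf_map_equiv]
    exact mem_normalizer_iff_map_conj_eq.1 (normalizer_eq_top_iff.2 hnorm ▸ mem_top g⁻¹)
  have hBQ : B ≤ Q := CfsgLib.Solvable.le_pCore hBn hB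
  have hXZ : Cfsg.centerThompsonAOf (T : Subgroup G) ⊓ B ≤ Z' := by
    intro z hz
    rw [← hZ'']
    refine mem_centerThompsonAOf ?_ ?_
    · refine ⟨g * z * g⁻¹, ?_, by simp [mul_assoc]⟩
      exact hle (mem_sup_right (hQn.conj_mem z (hBQ hz.2) g))
    · refine centralizer_le ?_ hz.1.2
      rw [thompsonAOf_eq T'']
      refine sSup_le fun E hE => le_thompsonAOf ?_
      have hA'' : A.map (MulAut.conj g⁻¹).toMonoidHom ≤ T'' := map_mono hAT'.1
      refine ((maxAbIn_of_le hT''T ?_ hA'').1 hE).1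
      exact ⟨hA''.trans hT''T, isMulCommutative_map _ hA.2.1, fun E' hE' hE'c =>
        (hA.2.2 E' hE' hE'c).trans (card_map_of_injective (MulAut.conj g⁻¹).injective).ge⟩
  have hBZ : B ≤ Z' := by
    rw [← hclos]
    exact normalClosure_le_normal hXZ
  apply hna
  rw [show (QuotientGroup.mk a : G ⧸ centralizer (B : Set G)) = 1 from
    (QuotientGroup.eq_one_iff a).2 fun b hb => ((hBZ hb).2 a (le_thompsonAOf hAT' haA)).symm]
  exact one_mem _

/-- If no nontrivial `p`-element of `N(Z(J(T)))` is inverted there, none is inverted in `G`. -/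
theorem not_inverts_of_zjA (h2 : p ≠ 2) (T : Sylow p G)
    (h : ¬ Inverts p (normalizer (Cfsg.centerThompsonAOf (T : Subgroup G) : Set G))) :
    ¬ Inverts p (⊤ : Subgroup G) :=
  not_inverts_of_zjA_aux h2 _ G rfl T h

end CfsgLib.Amalgam
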