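import Cfsg.Agent.Lib.BlockB.DefectCount
import Cfsg.Agent.S0205
import Cfsg.Agent.Lib.Solvable.HallHigman
import Cfsg.Agent.Lib.Solvable.PCore
import Mathlib.GroupTheory.Perm.Cycle.Type

/-!
Transitive groups of prime power degree with no element of order twice the prime: class
multiplication congruences and the fixed points of involutions.
-/

set_option autoImplicit false
set_option linter.style.haveILetI false
set_option linter.unusedSectionVars false

namespace CfsgLib.Amalgam.InvolutionPoints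

open scoped ComplexConjugate Pointwise
open CfsgLib.Char CfsgLib.BlockB

section Count

variable {G : Type*} [Group G] [Finite G]

/-- Without a character of `p`-defect zero, every class multiplication count is divisible by `p`. -/
theorem dvd_card_pairs {p : ℕ} [Fact p.Prime]
    (h : ∀ χ : Cfsg.IrrCharacter G,
      (Cfsg.charDegree (χ : G → ℂ)).factorization p ≠ (Nat.card G).factorization p)
    (a b y : G) : p ∣ Nat.card {q : G × G // q.1 * a * q.1⁻¹ * (q.2 * b * q.2⁻¹) = y} := by
  classical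
  have := Fintype.ofFinite G
  have := Fintype.ofFinite (Cfsg.IrrCharacter G)
  let θ : G → ℂ := fun g => (Nat.card {k : G // k * g * k⁻¹ = y} : ℂ)
  have hθ : Cfsg.IsClassFunction G θ := by
    intro g k
    simp only [θ, Nat.cast_inj]
    refine Nat.card_congr (Equiv.subtypeEquiv (Equiv.mulRight k) fun l => ?_)
    simp [mul_assoc]
  have hin : ∀ χ : Cfsg.IrrCharacter G,
      Cfsg.classInner θ (χ : G → ℂ) = conj ((χ : G → ℂ) y) := by
    intro χ
    rw [classInner_def]
    have h1 : ∑ g : G, θ g * conj ((χ : G → ℂ) g) =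
        ∑ k : G, ∑ g : G, (if k * g * k⁻¹ = y then conj ((χ : G → ℂ) g) else 0) := by
      rw [Finset.sum_comm]
      refine Finset.sum_congr rfl fun g _ => ?_
      simp only [θ, Nat.card_eq_fintype_card, Fintype.card_subtype]
      rw [← Finset.sum_filter, Finset.sum_const, nsmul_eq_mul]
    have h2 : ∀ k : G, ∑ g : G, (if k * g * k⁻¹ = y then conj ((χ : G → ℂ) g) else 0) =
        conj ((χ : G → ℂ) y) := by
      intro k
      have e : ∀ g : G, k * g * k⁻¹ = y ↔ g = k⁻¹ * y * k := fun g =>
        ⟨fun e => by rw [← e]; group, fun e => by rw [e]; group⟩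
      simp only [e, Finset.sum_ite_eq', Finset.mem_univ, if_true]
      rw [show (χ : G → ℂ) (k⁻¹ * y * k) = (χ : G → ℂ) y by
        simpa using irr_isClassFunction χ.2 y k⁻¹]
    rw [h1, Finset.sum_congr rfl (fun k _ => h2 k), Finset.sum_const, Finset.card_univ,
      nsmul_eq_mul, ← mul_assoc, ← Nat.card_eq_fintype_card, inv_mul_cancel₀ natCard_ne_zero,
      one_mul]
  have hcard : Nat.card {q : G × G // q.1 * a * q.1⁻¹ * (q.2 * b * q.2⁻¹) = y} =
      ∑ t : G, Nat.card {k : G // k * (a * (t * b * t⁻¹)) * k⁻¹ = y} := by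
    rw [← Nat.card_sigma]
    refine Nat.card_congr ?_
    exact
      { toFun := fun q => ⟨q.1.1⁻¹ * q.1.2, ⟨q.1.1, by
          refine Eq.trans ?_ q.2; simp only [mul_inv_rev, inv_inv]; group⟩⟩
        invFun := fun z => ⟨(z.2.1, z.2.1 * z.1), by
          refine Eq.trans ?_ z.2.2; simp only [mul_inv_rev]; group⟩
        left_inv := fun q => Subtype.ext (Prod.ext rfl (by simp))
        right_inv := fun z => Sigma.subtype_ext (by simp) rfl }
  refine CfsgLib.Char.dvd_of_isIntegral_div (Fact.out : p.Prime).pos ?_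
  have hsum := sum_classFun_mul_conj hθ a b
  simp only [hin] at hsum
  simp only [θ] at hsum
  rw [hcard, Nat.cast_sum, hsum, Finset.mul_sum, Finset.sum_div]
  refine IsIntegral.sum _ fun χ _ => ?_
  obtain ⟨m, hm⟩ := degree_mul_prime_dvd_card χ (h χ)
  have e : (Nat.card G : ℂ) * (conj ((χ : G → ℂ) y) * (χ : G → ℂ) a * (χ : G → ℂ) b /
      (χ : G → ℂ) 1) / (p : ℂ) =
        (m : ℂ) * conj ((χ : G → ℂ) y) * (χ : G → ℂ) a * (χ : G → ℂ) b := by
    rw [← irr_degree_cast χ, hm]
    have h1 : (Cfsg.charDegree (χ : G → ℂ) : ℂ) ≠ 0 := by exact_mod_cast irr_degree_ne_zero χ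
    have h2 : (p : ℂ) ≠ 0 := by exact_mod_cast (Fact.out : p.Prime).ne_zero
    push_cast
    field_simp
  rw [e]
  have h7 : IsIntegral ℤ (m : ℂ) := by
    simpa using isIntegral_algebraMap (R := ℤ) (A := ℂ) (x := (m : ℤ))
  have h8 : IsIntegral ℤ (conj ((χ : G → ℂ) y)) :=
    (irr_isIntegral χ y).map ((starRingEnd ℂ).toIntAlgHom)
  exact ((h7.mul h8).mul (irr_isIntegral χ a)).mul (irr_isIntegral χ b)

/-- Pairs of conjugates of `a` and `b` with product `y`, counted through the fibres. -/
theorem card_pairs (a b y : G) :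
    Nat.card {q : G × G // q.1 * a * q.1⁻¹ * (q.2 * b * q.2⁻¹) = y} =
      Nat.card (Subgroup.centralizer ({a} : Set G)) *
        Nat.card (Subgroup.centralizer ({b} : Set G)) *
          Nat.card {z : G // IsConj a z ∧ IsConj b (z⁻¹ * y)} := by
  classical
  have := Fintype.ofFinite G
  let C := Subgroup.centralizer ({a} : Set G)
  let D := Subgroup.centralizer ({b} : Set G)
  let Z := {z : G // IsConj a z ∧ IsConj b (z⁻¹ * y)}
  have hk : ∀ (c : G) {g k l : G}, g * c * g⁻¹ = l → (k * c * k⁻¹ = l ↔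
      g⁻¹ * k ∈ Subgroup.centralizer ({c} : Set G)) := by
    intro c g k l hg
    rw [Subgroup.mem_centralizer_singleton_iff, ← hg]
    constructor
    · intro e
      calc g⁻¹ * k * c = g⁻¹ * (k * c * k⁻¹) * k := by group
        _ = g⁻¹ * (g * c * g⁻¹) * k := by rw [e]
        _ = c * (g⁻¹ * k) := by group
    · intro e
      calc k * c * k⁻¹ = g * (g⁻¹ * k * c) * k⁻¹ := by group
        _ = g * (c * (g⁻¹ * k)) * k⁻¹ := by rw [e]
        _ = g * c * g⁻¹ := by group
  choose f hf using fun z : Z => isConj_iff.1 z.2.1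
  choose g hg using fun z : Z => isConj_iff.1 z.2.2
  have e : {q : G × G // q.1 * a * q.1⁻¹ * (q.2 * b * q.2⁻¹) = y} ≃ (C × D) × Z :=
    { toFun := fun q =>
        let z : Z := ⟨q.1.1 * a * q.1.1⁻¹, isConj_iff.2 ⟨_, rfl⟩,
          isConj_iff.2 ⟨q.1.2, eq_inv_mul_iff_mul_eq.2 q.2⟩⟩
        ((⟨(f z)⁻¹ * q.1.1, (hk a (hf z)).1 rfl⟩,
          ⟨(g z)⁻¹ * q.1.2, (hk b (hg z)).1 (eq_inv_mul_iff_mul_eq.2 q.2)⟩), z)
      invFun := fun w => ⟨(f w.2 * w.1.1, g w.2 * w.1.2), by
        rw [(hk a (hf w.2)).2 (by simp), (hk b (hg w.2)).2 (by simp), mul_inv_cancel_left]⟩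
      left_inv := fun q => Subtype.ext (Prod.ext (by simp) (by simp))
      right_inv := fun w => by
        have hz : f w.2 * (w.1.1 : G) * a * (f w.2 * (w.1.1 : G))⁻¹ = (w.2 : G) :=
          (hk a (hf w.2)).2 (by simp)
        refine Prod.ext ?_ (Subtype.ext hz)
        have hz' : (⟨_, isConj_iff.2 ⟨_, rfl⟩, isConj_iff.2 ⟨g w.2 * (w.1.2 : G),
            eq_inv_mul_iff_mul_eq.2 (by
              rw [hz, (hk b (hg w.2)).2 (by simp), mul_inv_cancel_left])⟩⟩ : Z) = w.2 :=
          Subtype.ext hz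
        simp only [hz']
        exact Prod.ext (Subtype.ext (by simp)) (Subtype.ext (by simp)) }
  rw [Nat.card_congr e, Nat.card_prod, Nat.card_prod]

/-- An element with odd centralizer whose conjugates commute pairwise gives a character of
two-defect zero. -/
theorem exists_two_defect_zero {x : G}
    (hodd : Odd (Nat.card (Subgroup.centralizer ({x} : Set G)))) {A : Subgroup G} [A.Normal]
    (hA : ∀ u ∈ A, ∀ v ∈ A, u * v = v * u) (hxA : x ∈ A)
    (hA2 : Odd (Nat.card A)) :
    ∃ χ : Cfsg.IrrCharacter G,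
      (Cfsg.charDegree (χ : G → ℂ)).factorization 2 = (Nat.card G).factorization 2 := by
  classical
  by_contra hne
  push Not at hne
  haveI : Fact (Nat.Prime 2) := ⟨Nat.prime_two⟩
  have := Fintype.ofFinite G
  have h := dvd_card_pairs (p := 2) hne x x (x * x)
  rw [card_pairs] at h
  have hZ : Odd (Nat.card {z : G // IsConj x z ∧ IsConj x (z⁻¹ * (x * x))}) := by
    let Z := {z : G // IsConj x z ∧ IsConj x (z⁻¹ * (x * x))}
    have hm : ∀ {z : G}, IsConj x z → z ∈ A := fun {z} hz => by
      obtain ⟨k, rfl⟩ := isConj_iff.1 hz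
      exact Subgroup.Normal.conj_mem ‹_› x hxA k
    have hswap : ∀ z : Z, ((z : G)⁻¹ * (x * x))⁻¹ * (x * x) = z := fun z => by
      have hc : (x * x) * (z : G) = (z : G) * (x * x) :=
        hA _ (mul_mem hxA hxA) _ (hm z.2.1)
      rw [mul_inv_rev, inv_inv, mul_assoc, ← hc, ← mul_assoc, inv_mul_cancel, one_mul]
    let σ : Equiv.Perm Z := Function.Involutive.toPerm
      (fun z => ⟨(z : G)⁻¹ * (x * x), z.2.2, (hswap z).symm ▸ z.2.1⟩)
      (fun z => Subtype.ext (hswap z))
    have hσ : σ ^ 2 ^ 1 = 1 := by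
      ext z : 1
      simp only [pow_one, pow_two, Equiv.Perm.mul_apply, Equiv.Perm.one_apply]
      exact Subtype.ext (hswap z)
    have hfix : ∀ z : Z, σ z = z → (z : G) = x := by
      intro z hz
      have hz' : (z : G)⁻¹ * (x * x) = z := congrArg Subtype.val hz
      rw [inv_mul_eq_iff_eq_mul] at hz'
      have hcm : Commute (z : G) x := hA _ (hm z.2.1) _ hxA
      have h2 : ((z : G) * x⁻¹) ^ 2 = 1 := by
        rw [hcm.inv_right.mul_pow, inv_pow, pow_two, pow_two, ← hz', mul_inv_cancel]
      have h3 : (⟨(z : G) * x⁻¹, mul_mem (hm z.2.1) (inv_mem hxA)⟩ : A) = 1 :=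
        orderOf_eq_one_iff.1 (Nat.eq_one_of_dvd_coprimes hA2.coprime_two_left
          (orderOf_dvd_of_pow_eq_one (Subtype.ext h2)) (orderOf_dvd_natCard _))
      exact mul_inv_eq_one.1 (congrArg Subtype.val h3)
    rw [← Nat.not_even_iff_odd, even_iff_two_dvd]
    intro hd
    have z0 : Z := ⟨x, IsConj.refl x, by rw [inv_mul_cancel_left]⟩
    rw [Nat.card_eq_fintype_card] at hd
    have hx0 : σ ⟨x, IsConj.refl x, by rw [inv_mul_cancel_left]⟩ = ⟨x, IsConj.refl x, by rw [inv_mul_cancel_left]⟩ :=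
      Subtype.ext (by simp [σ, Function.Involutive.toPerm])
    obtain ⟨w, hw, hw0⟩ := Equiv.Perm.exists_fixed_point_of_prime' hd hσ hx0
    exact hw0 (Subtype.ext (hfix w hw))
  exact Nat.not_even_iff_odd.2 ((hodd.mul hodd).mul hZ) (even_iff_two_dvd.2 h)

end Count

/-- An involution commuting with a subgroup-normalised even group fixes an involution of it. -/
theorem exists_involution_fixed {G : Type*} [Group G] [Finite G] {C : Subgroup G} {u : G}
    (hu : u * u = 1) (hn : ∀ c ∈ C, u * c * u ∈ C) (h2 : Even (Nat.card C)) :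
    ∃ w ∈ C, orderOf w = 2 ∧ u * w = w * u := by
  classical
  haveI : Fact (Nat.Prime 2) := ⟨Nat.prime_two⟩
  have := Fintype.ofFinite G
  have hinv : ∀ c : G, u * (u * c * u) * u = c := fun c => by
    rw [← mul_assoc, ← mul_assoc, hu, one_mul, mul_assoc, hu, mul_one]
  let σ : Equiv.Perm C := Function.Involutive.toPerm
    (fun c => ⟨u * c * u, hn c c.2⟩) (fun c => Subtype.ext (hinv c))
  have hσ : σ ^ 2 ^ 1 = 1 := by
    ext c : 1
    simp only [pow_one, pow_two, Equiv.Perm.mul_apply, Equiv.Perm.one_apply]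
    exact Subtype.ext (hinv c)
  let F : Subgroup G := C ⊓ Subgroup.centralizer ({u} : Set G)
  have hsupp : σ.supportᶜ.card = Nat.card F := by
    have e : σ.supportᶜ = Finset.univ.filter fun c : C => (c : G) ∈ Subgroup.centralizer ({u} : Set G) := by
      ext c
      simp only [Finset.mem_compl, Equiv.Perm.notMem_support, Finset.mem_filter, Finset.mem_univ,
        true_and, Subgroup.mem_centralizer_singleton_iff]
      constructor
      · intro hc
        have hc' : u * (c : G) * u = c := congrArg Subtype.val hc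
        nth_rw 1 [← hc']
        rw [mul_assoc, hu, mul_one]
      · intro hc
        refine Subtype.ext ?_
        show u * (c : G) * u = c
        rw [mul_assoc, hc, ← mul_assoc, hu, one_mul]
    rw [e, ← Fintype.card_subtype, ← Nat.card_eq_fintype_card]
    exact Nat.card_congr (Equiv.subtypeSubtypeEquivSubtypeInter (· ∈ C) (· ∈ _))
  have hF : 2 ∣ Nat.card F := by
    rw [← hsupp]
    refine (Nat.ModEq.dvd_iff (Equiv.Perm.card_compl_support_modEq hσ) dvd_rfl).2 ?_
    rw [← Nat.card_eq_fintype_card]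
    exact even_iff_two_dvd.1 h2
  obtain ⟨w, hw⟩ := exists_prime_orderOf_dvd_card' 2 hF
  exact ⟨w, w.2.1, by rw [Subgroup.orderOf_coe, hw],
    (Subgroup.mem_centralizer_singleton_iff.1 w.2.2).symm⟩

section Odd

variable {G : Type*} [Group G] [Finite G]

/-- The conjugates of an involution `u` lying in `u C`, for `u`-invariant `C` of odd order,
are as many as the cosets of the fixed points. -/
theorem card_inverted {C : Subgroup G} {u : G} (hu : u * u = 1) (hn : ∀ c ∈ C, u * c * u ∈ C)
    (hodd : Odd (Nat.card C)) :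
    Nat.card {c : G // c ∈ C ∧ u * c * u = c⁻¹} ∣ Nat.card C := by
  have hui : u⁻¹ = u := inv_eq_of_mul_eq_one_right hu
  have h3 : ∀ w : G, u * (u * w) = w := fun w => by rw [← mul_assoc, hu, one_mul]
  let F : Subgroup C := (Subgroup.centralizer ({u} : Set G)).subgroupOf C
  let e : C → {c : G // c ∈ C ∧ u * c * u = c⁻¹} := fun d =>
    ⟨(d : G) * (u * (d : G)⁻¹ * u), mul_mem d.2 (hn _ (inv_mem d.2)), by
      simp only [mul_inv_rev, inv_inv, hui, mul_assoc, hu, mul_one]⟩
  have hiff : ∀ a b : C, e a = e b ↔ a⁻¹ * b ∈ F := by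
    intro a b
    rw [Subgroup.mem_subgroupOf, Subgroup.mem_centralizer_singleton_iff, Subtype.ext_iff]
    show (a : G) * (u * (a : G)⁻¹ * u) = b * (u * (b : G)⁻¹ * u) ↔ _
    constructor
    · intro h
      calc ((a : G)⁻¹ * b) * u = (a : G)⁻¹ * (b * (u * (b : G)⁻¹ * u)) * (u * b) := by
            simp only [mul_assoc, h3, inv_mul_cancel, mul_one]
        _ = (a : G)⁻¹ * (a * (u * (a : G)⁻¹ * u)) * (u * b) := by rw [h]
        _ = u * ((a : G)⁻¹ * b) := by simp only [mul_assoc, h3, inv_mul_cancel_left]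
    · intro h
      have hb : (b : G) * u = (a : G) * u * (a : G)⁻¹ * b := by
        simp only [Subgroup.coe_mul, Subgroup.coe_inv] at h
        calc (b : G) * u = (a : G) * ((a : G)⁻¹ * b * u) := by group
          _ = _ := by rw [h]; group
      calc (a : G) * (u * (a : G)⁻¹ * u)
          = ((a : G) * u * (a : G)⁻¹ * b) * (b : G)⁻¹ * u := by group
        _ = _ := by rw [← hb]; group
  have hsurj : Function.Surjective e := by
    rintro ⟨c, hc, hcu⟩
    obtain ⟨k, hk⟩ := hodd.of_dvd_nat (Subgroup.orderOf_dvd_natCard C hc)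
    refine ⟨⟨c ^ (k + 1), pow_mem hc _⟩, Subtype.ext ?_⟩
    show c ^ (k + 1) * (u * (c ^ (k + 1))⁻¹ * u) = c
    have h4 : u * c⁻¹ * u = c := by
      have := congrArg (·⁻¹) hcu
      simpa [mul_inv_rev, hui, mul_assoc] using this
    have h5 : u * (c ^ (k + 1))⁻¹ * u = c ^ (k + 1) := by
      rw [← inv_pow]
      conv_lhs => rw [show u * c⁻¹ ^ (k + 1) * u = u * c⁻¹ ^ (k + 1) * u⁻¹ by rw [hui]]
      rw [← conj_pow, hui, h4]
    rw [h5, ← pow_add, show k + 1 + (k + 1) = (2 * k + 1) + 1 by ring, ← hk, pow_succ,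
      pow_orderOf_eq_one, one_mul]
  let q : C ⧸ F → {c : G // c ∈ C ∧ u * c * u = c⁻¹} := Quotient.lift e fun a b hab =>
    (hiff a b).2 (QuotientGroup.leftRel_apply.1 hab)
  have hq : Function.Bijective q := by
    constructor
    · intro a b
      induction a using QuotientGroup.induction_on with
      | _ a =>
        induction b using QuotientGroup.induction_on with
        | _ b => intro h; exact QuotientGroup.eq.2 ((hiff a b).1 h)
    · exact fun c => let ⟨d, hd⟩ := hsurj c; ⟨(d : C ⧸ F), hd⟩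
  rw [← Nat.card_congr (Equiv.ofBijective q hq)]
  exact Subgroup.card_quotient_dvd_card F

end Odd

section Action

variable {G Ω : Type*} [Group G] [Finite G] [MulAction G Ω] [Fintype Ω] {p r : ℕ} [Fact p.Prime]
  (htr : MulAction.IsPretransitive G Ω) (hΩ : Fintype.card Ω = p ^ r)

include htr hΩ

/-- A Sylow subgroup is transitive on a set of prime power size. -/
theorem sylow_transitive (P : Sylow p G) (a b : Ω) : ∃ x ∈ (P : Subgroup G), x • a = b := by
  classical
  have hp : p.Prime := Fact.out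
  set H := MulAction.stabilizer G a with hH
  have hidx : H.index = p ^ r := by
    rw [hH, MulAction.index_stabilizer_of_transitive, Nat.card_eq_fintype_card, hΩ]
  set S := MulAction.stabilizer ↥(P : Subgroup G) a with hS
  have hSH : Nat.card S ∣ Nat.card H := by
    have h1 : S.map (P : Subgroup G).subtype ≤ H := by
      rintro _ ⟨x, hx, rfl⟩
      rw [hH, MulAction.mem_stabilizer_iff]
      exact MulAction.mem_stabilizer_iff.1 hx
    have := Subgroup.card_dvd_of_le h1
    rwa [Subgroup.card_map_of_injective (P : Subgroup G).subtype_injective] at this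
  obtain ⟨k, hk⟩ := IsPGroup.iff_card.1 (P.isPGroup'.to_subgroup S)
  have hdiv : p ^ (k + r) ∣ Nat.card G := by
    rw [← H.card_mul_index, hidx, pow_add, ← hk]
    exact Nat.mul_dvd_mul_right hSH _
  have hle : k + r ≤ (Nat.card G).factorization p :=
    (hp.pow_dvd_iff_le_factorization Nat.card_pos.ne').1 hdiv
  have horb : p ^ r ≤ Nat.card (MulAction.orbit ↥(P : Subgroup G) a) := by
    have h2 := MulAction.index_stabilizer ↥(P : Subgroup G) a
    rw [← Nat.card_coe_set_eq] at h2
    rw [← h2]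
    have h3 := S.card_mul_index
    rw [P.card_eq_multiplicity, hk] at h3
    have h4 : p ^ k * p ^ r ≤ p ^ k * S.index := by
      rw [h3, ← pow_add]; exact Nat.pow_le_pow_right hp.pos hle
    exact Nat.le_of_mul_le_mul_left h4 (pow_pos hp.pos k)
  have huniv : MulAction.orbit ↥(P : Subgroup G) a = Set.univ := by
    refine Set.eq_of_subset_of_ncard_le (Set.subset_univ _) ?_
    rw [Set.ncard_univ, Nat.card_eq_fintype_card, hΩ, ← Nat.card_coe_set_eq]
    exact horb
  have hb : b ∈ MulAction.orbit ↥(P : Subgroup G) a := huniv ▸ Set.mem_univ b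
  obtain ⟨x, hx⟩ := hb
  exact ⟨x, x.2, hx⟩

end Action

end CfsgLib.Amalgam.InvolutionPoints
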