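import Cfsg.Agent.Lib.Fusion.PEmbedded
import Cfsg.Agent.Lib.Trans3.Sylow2
import Cfsg.Agent.Lib.Solvable.PCore
import Cfsg.Agent.Lib.Coprime.Basic
import Cfsg.Agent.Lib.PLocal.Sylow
import Cfsg.Prelude.Def_SylowChains

/-!
Strongly `p`-embedded subgroups: equivalence of the definitions.
-/

set_option autoImplicit false
set_option linter.unusedSectionVars false

namespace CfsgLib.Amalgam

open Cfsg Subgroup
open scoped Pointwise

variable {G : Type*} [Group G] [Finite G] {p : ℕ} [Fact p.Prime]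

/-- `H` contains the normalizers of its nontrivial `p`-subgroups. -/
def PLocalsLe (p : ℕ) (H : Subgroup G) : Prop :=
  ∀ A : Subgroup G, A ≤ H → IsPGroup p A → A ≠ ⊥ → Subgroup.normalizer (A : Set G) ≤ H

/-- `H` meets its other conjugates in `p'`-groups. -/
def PTrivialMeet (p : ℕ) (H : Subgroup G) : Prop :=
  ∀ g : G, g ∉ H → ¬ p ∣ Nat.card (H ⊓ H.map (MulAut.conj g).toMonoidHom : Subgroup G)

theorem closure_normal_of_conj {G : Type*} [Group G] {s : Set G}
    (h : ∀ g ∈ s, ∀ x : G, x * g * x⁻¹ ∈ s) : (Subgroup.closure s).Normal := by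
  refine ⟨fun n hn x => ?_⟩
  have h1 : (Subgroup.closure s).map (MulAut.conj x).toMonoidHom ≤ Subgroup.closure s := by
    rw [MonoidHom.map_closure]
    refine Subgroup.closure_mono ?_
    rintro _ ⟨g, hg, rfl⟩
    exact h g hg x
  exact h1 ⟨n, hn, rfl⟩

theorem sylow_ne_bot (h : p ∣ Nat.card G) (P : Sylow p G) : (P : Subgroup G) ≠ ⊥ :=
  P.ne_bot_of_dvd_card h

/-- conjugate a `p`-subgroup of `H` into a given Sylow subgroup of `G` lying in `H`. -/
theorem exists_conj_le (P : Sylow p G) {H : Subgroup G} (hP : (P : Subgroup G) ≤ H) {A : Subgroup G}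
    (hA : A ≤ H) (hAp : IsPGroup p A) :
    ∃ h ∈ H, ∀ a ∈ A, h * a * h⁻¹ ∈ (P : Subgroup G) := by
  obtain ⟨W, hW⟩ := (hAp.of_equiv (Subgroup.subgroupOfEquivOfLe hA).symm).exists_le_sylow
  obtain ⟨y, hy⟩ := MulAction.exists_smul_eq H W (P.subtype hP)
  refine ⟨y, y.2, fun a ha => ?_⟩
  have h1 : (y * ⟨a, hA ha⟩ * y⁻¹ : H) ∈ (P.subtype hP : Subgroup H) := by
    rw [← hy, Sylow.coe_subgroup_smul, Subgroup.mem_pointwise_smul_iff_inv_smul_mem]
    have h2 : (MulAut.conj y)⁻¹ • (y * ⟨a, hA ha⟩ * y⁻¹ : H) = ⟨a, hA ha⟩ := by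
      rw [MulAut.smul_def, MulAut.conj_inv_apply]; group
    rw [h2]
    exact hW (show (⟨a, hA ha⟩ : H) ∈ A.subgroupOf H from ha)
  exact h1

theorem exists_mem_prime_order {K : Subgroup G} (h : p ∣ Nat.card K) :
    ∃ x ∈ K, orderOf x = p := by
  obtain ⟨x, hx⟩ := exists_prime_orderOf_dvd_card' (G := K) p h
  exact ⟨x, x.2, by rwa [Subgroup.orderOf_coe]⟩

theorem dvd_card_of_mem {K : Subgroup G} {x : G} (hx : x ∈ K) (ho : orderOf x = p) :
    p ∣ Nat.card K := ho ▸ Subgroup.orderOf_dvd_natCard K hx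

theorem isPGroup_zpowers {x : G} (ho : orderOf x = p) : IsPGroup p (Subgroup.zpowers x) :=
  IsPGroup.of_card (n := 1) (by rw [Nat.card_zpowers, ho, pow_one])

theorem zpowers_ne_bot_of_order {x : G} (ho : orderOf x = p) : Subgroup.zpowers x ≠ ⊥ := by
  intro h
  rw [Subgroup.zpowers_eq_bot] at h
  rw [h, orderOf_one] at ho
  exact (Fact.out : p.Prime).one_lt.ne ho

theorem exists_sylow_le {H : Subgroup G} (h : PLocalsLe p H) (hp : p ∣ Nat.card H) :
    ∃ P : Sylow p G, (P : Subgroup G) ≤ H := by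
  obtain ⟨x, hx, ho⟩ := exists_mem_prime_order hp
  obtain ⟨S, hS⟩ := ((isPGroup_zpowers ho).of_equiv
    (Subgroup.subgroupOfEquivOfLe ((Subgroup.zpowers_le).2 hx)).symm).exists_le_sylow
  set T := (S : Subgroup H).map H.subtype with hTdef
  have hTH : T ≤ H := Subgroup.map_subtype_le _
  have hTp : IsPGroup p T := S.isPGroup'.map _
  have hxT : x ∈ T := ⟨⟨x, hx⟩, hS (Subgroup.mem_zpowers x), rfl⟩
  have hT1 : T ≠ ⊥ := fun hb => zpowers_ne_bot_of_order ho (by
    rw [Subgroup.zpowers_eq_bot]; exact Subgroup.mem_bot.1 (hb ▸ hxT))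
  obtain ⟨P, hTP⟩ := hTp.exists_le_sylow
  refine ⟨P, ?_⟩
  by_cases hPT : (P : Subgroup G) ≤ T
  · exact hPT.trans hTH
  exfalso
  have hlt : T < (P : Subgroup G) := lt_of_le_not_ge hTP hPT
  haveI := P.isPGroup'.isNilpotent
  have hlt' : T.subgroupOf (P : Subgroup G) < ⊤ := by
    rw [lt_top_iff_ne_top, Ne, Subgroup.subgroupOf_eq_top]; exact hPT
  obtain ⟨y, hy1, hy2⟩ := SetLike.exists_of_lt (Group.normalizerCondition_of_isNilpotent _ hlt')
  have hyN : (y : G) ∈ Subgroup.normalizer (T : Set G) := by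
    refine Subgroup.mem_normalizer_fintype fun u hu => ?_
    exact (Subgroup.mem_normalizer_iff.1 hy1 ⟨u, hTP hu⟩).1 hu
  have hyH : (y : G) ∈ H := h T hTH hTp hT1 hyN
  -- the p-group `T ⊔ zpowers y` lies in `H`
  have hsup : T ⊔ Subgroup.zpowers (y : G) ≤ (P : Subgroup G) :=
    sup_le hTP (Subgroup.zpowers_le.2 y.2)
  have hsupH : T ⊔ Subgroup.zpowers (y : G) ≤ H := sup_le hTH (Subgroup.zpowers_le.2 hyH)
  have := S.is_maximal' ((P.isPGroup'.to_le hsup).of_equiv (Subgroup.subgroupOfEquivOfLe hsupH).symm)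
    (fun s hs => Subgroup.mem_sup_left (⟨s, hs, rfl⟩ : (s : G) ∈ T))
  apply hy2
  have hyS : (⟨y, hyH⟩ : H) ∈ (S : Subgroup H) :=
    this.le (show (y : G) ∈ T ⊔ Subgroup.zpowers (y : G) from Subgroup.mem_sup_right (Subgroup.mem_zpowers _))
  exact ⟨⟨y, hyH⟩, hyS, rfl⟩

theorem containsLocals_of_pLocalsLe {H : Subgroup G} (h : PLocalsLe p H) (P : Sylow p G)
    (hP : (P : Subgroup G) ≤ H) : Fusion.ContainsLocals (P : Subgroup G) H :=
  fun U hU hne => h U (hU.trans hP) (P.isPGroup'.to_le hU) hne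

theorem pLocalsLe_of_containsLocals {H : Subgroup G} (P : Sylow p G) (hP1 : (P : Subgroup G) ≠ ⊥)
    (h : Fusion.ContainsLocals (P : Subgroup G) H) : PLocalsLe p H := by
  intro A hA hAp hA1 n hn
  obtain ⟨m, hm, hc⟩ := exists_conj_le P (Fusion.containsLocals_le h hP1) hA hAp
  have hA' : A.map (MulAut.conj m).toMonoidHom ≤ P := by
    rintro _ ⟨a, ha, rfl⟩; exact hc a ha
  have hne : A.map (MulAut.conj m).toMonoidHom ≠ ⊥ := by
    rw [Ne, Subgroup.map_eq_bot_iff_of_injective _ (MulAut.conj m).injective]; exact hA1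
  have h2 : m * n * m⁻¹ ∈ H :=
    h _ hA' hne (Subgroup.le_normalizer_map _ ⟨n, hn, rfl⟩)
  simpa [mul_assoc] using mul_mem (mul_mem (inv_mem hm) h2) hm

theorem isStronglyPEmbedded_iff {H : Subgroup G} :
    IsStronglyPEmbedded p H ↔ H ≠ ⊤ ∧ p ∣ Nat.card H ∧ PLocalsLe p H := by
  constructor
  · rintro ⟨hdvd, hH, P, hP⟩
    rw [Fusion.kGeneratedCore_le_iff P.isPGroup'] at hP
    have hP1 := sylow_ne_bot hdvd P
    exact ⟨hH, (P.dvd_card_of_dvd_card hdvd).trans
      (Subgroup.card_dvd_of_le (Fusion.containsLocals_le hP hP1)), pLocalsLe_of_containsLocals P hP1 hP⟩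
  · rintro ⟨hH, hdvd, h⟩
    obtain ⟨P, hP⟩ := exists_sylow_le h hdvd
    exact Fusion.isStronglyPEmbedded_of_containsLocals P
      (sylow_ne_bot (hdvd.trans (Subgroup.card_subgroup_dvd_card H)) P) hH
      (containsLocals_of_pLocalsLe h P hP)

/-- an element moving an element of order `p` of `H` into `H` lies in `H`. -/
theorem mem_of_conj_mem {H : Subgroup G} (h : PLocalsLe p H) {x g : G} (ho : orderOf x = p)
    (hx : x ∈ H) (hgx : g⁻¹ * x * g ∈ H) : g ∈ H := by
  obtain ⟨P, hP⟩ := exists_sylow_le h (dvd_card_of_mem hx ho)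
  obtain ⟨m, hm, hmx⟩ := exists_conj_le P hP (Subgroup.zpowers_le.2 hx) (isPGroup_zpowers ho)
  have hoy : orderOf (g⁻¹ * x * g) = p := by
    rw [show g⁻¹ * x * g = MulAut.conj g⁻¹ x by simp, MulEquiv.orderOf_eq, ho]
  obtain ⟨k, hk, hky⟩ := exists_conj_le P hP (Subgroup.zpowers_le.2 hgx) (isPGroup_zpowers hoy)
  have hx' := hmx x (Subgroup.mem_zpowers x)
  have hox : orderOf (m * x * m⁻¹) = p := by
    rw [show m * x * m⁻¹ = MulAut.conj m x by simp, MulEquiv.orderOf_eq, ho]
  have hmem : m * g * k⁻¹ ∈ H := Fusion.mem_of_containsLocals (containsLocals_of_pLocalsLe h P hP)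
    (Subgroup.zpowers_le.2 hx') (zpowers_ne_bot_of_order hox) (fun u hu => by
      obtain ⟨i, rfl⟩ := hu
      have := (P : Subgroup G).zpow_mem (hky _ (Subgroup.mem_zpowers _)) i
      simp only [conj_zpow] at this ⊢
      have e : (m * g * k⁻¹)⁻¹ * (m * x ^ i * m⁻¹) * (m * g * k⁻¹) = k * (g⁻¹ * x * g) ^ i * k⁻¹ := by
        rw [show g⁻¹ * x * g = g⁻¹ * x * (g⁻¹)⁻¹ by rw [inv_inv], conj_zpow, inv_inv]
        group
      rw [e]; exact this)
  simpa [mul_assoc] using mul_mem (mul_mem (inv_mem hm) hmem) hk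

theorem pLocalsLe_iff_trivialMeet {H : Subgroup G} : PLocalsLe p H ↔ PTrivialMeet p H := by
  constructor
  · intro h g hg hdvd
    obtain ⟨x, ⟨hx, hxg⟩, ho⟩ := exists_mem_prime_order hdvd
    exact hg (mem_of_conj_mem h ho hx (Coprime.mem_map_conj.1 hxg))
  · intro h A hA hAp hA1 n hn
    by_contra hnH
    have hA' : A ≤ H ⊓ H.map (MulAut.conj n).toMonoidHom := by
      refine le_inf hA fun a ha => Coprime.mem_map_conj.2 ?_
      have := (Subgroup.mem_normalizer_iff.1 (inv_mem hn) a).1 ha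
      rw [inv_inv] at this
      exact hA this
    haveI : Nontrivial A := (Subgroup.nontrivial_iff_ne_bot A).2 hA1
    obtain ⟨m, hm, hcard⟩ := hAp.nontrivial_iff_card.1 inferInstance
    exact h n hnH ((hcard ▸ dvd_pow_self p hm.ne').trans (Subgroup.card_dvd_of_le hA'))

theorem isStronglyPEmbedded_iff_trivialMeet {H : Subgroup G} :
    IsStronglyPEmbedded p H ↔ H ≠ ⊤ ∧ p ∣ Nat.card H ∧ PTrivialMeet p H := by
  rw [isStronglyPEmbedded_iff, pLocalsLe_iff_trivialMeet]

theorem isStronglyPEmbedded_of_le {H K : Subgroup G} (hH : IsStronglyPEmbedded p H) (hle : H ≤ K)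
    (hK : K ≠ ⊤) : IsStronglyPEmbedded p K :=
  ⟨hH.1, hK, hH.2.2.imp fun _ h => h.trans hle⟩

/-- A normal subgroup of order divisible by `p` is not contained in such a subgroup. -/
theorem not_normal_le {H N : Subgroup G} [N.Normal] (h : PTrivialMeet p H) (hH : H ≠ ⊤)
    (hN : p ∣ Nat.card N) : ¬ N ≤ H := by
  intro hle
  obtain ⟨g, hg⟩ : ∃ g, g ∉ H := by
    by_contra hall
    push Not at hall
    exact hH (eq_top_iff.2 fun g _ => hall g)
  refine h g hg (hN.trans (Subgroup.card_dvd_of_le (le_inf hle ?_)))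
  intro x hx
  exact Coprime.mem_map_conj.2 (hle (by simpa using ‹N.Normal›.conj_mem x hx g⁻¹))

theorem sylow_inf_normal_ne_bot (P : Sylow p G) (N : Subgroup G) [N.Normal] (hN : p ∣ Nat.card N) :
    (P : Subgroup G) ⊓ N ≠ ⊥ := by
  intro hb
  obtain ⟨x, hx, ho⟩ := exists_mem_prime_order hN
  obtain ⟨W, hW⟩ := (isPGroup_zpowers ho).exists_le_sylow
  obtain ⟨g, hg⟩ := MulAction.exists_smul_eq G W P
  have h1 : g * x * g⁻¹ ∈ (P : Subgroup G) ⊓ N := by
    refine ⟨?_, ‹N.Normal›.conj_mem x hx g⟩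
    show g * x * g⁻¹ ∈ (P : Subgroup G)
    rw [← hg, Sylow.coe_subgroup_smul, Subgroup.mem_pointwise_smul_iff_inv_smul_mem,
      MulAut.smul_def, MulAut.conj_inv_apply]
    convert hW (Subgroup.mem_zpowers x) using 1
    group
  rw [hb, Subgroup.mem_bot] at h1
  have : x = 1 := by simpa [mul_assoc] using congrArg (fun y => g⁻¹ * y * g) h1
  rw [this, orderOf_one] at ho
  exact (Fact.out : p.Prime).one_lt.ne ho

theorem sup_normal_eq_top {H N : Subgroup G} [N.Normal] (h : PLocalsLe p H) (hp : p ∣ Nat.card H)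
    (hN : p ∣ Nat.card N) : H ⊔ N = ⊤ := by
  obtain ⟨P, hP⟩ := exists_sylow_le h hp
  refine eq_top_iff.2 fun g _ => ?_
  obtain ⟨c, hc, n, hn, rfl⟩ := PLocal.frattini_mul P N g
  exact mul_mem (Subgroup.mem_sup_right hc) (Subgroup.mem_sup_left (h _ (inf_le_left.trans hP)
    (P.isPGroup'.to_le inf_le_left) (sylow_inf_normal_ne_bot P N hN) hn))

theorem mem_conj_smul_iff (P : Sylow p G) (g x : G) :
    x ∈ ((g • P : Sylow p G) : Subgroup G) ↔ g⁻¹ * x * g ∈ (P : Subgroup G) :=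
  Coprime.mem_map_conj (A := (P : Subgroup G))

theorem orderOf_conj (g x : G) : orderOf (g * x * g⁻¹) = orderOf x :=
  MulEquiv.orderOf_eq (MulAut.conj g) x

theorem sylow_nontrivial_of_not_connected (h : ¬ IsSylowChainConnected p G) (P : Sylow p G) :
    (P : Subgroup G) ≠ ⊥ := by
  intro hb
  apply h
  intro S T
  have hcard : ∀ R : Sylow p G, (R : Subgroup G) = ⊥ := fun R => by
    rw [← Subgroup.card_eq_one, Nat.card_congr (R.equiv P).toEquiv, hb, Subgroup.card_bot]
  have hST : S = T := Sylow.ext ((hcard S).trans (hcard T).symm)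
  exact ⟨0, fun _ => S, rfl, hST, fun _ => inf_le_left, fun i => i.elim0⟩

/-- adjacency of Sylow subgroups: distinct, nontrivial intersection. -/
def SylowAdj (S T : Sylow p G) : Prop := S ≠ T ∧ (S : Subgroup G) ⊓ (T : Subgroup G) ≠ ⊥

theorem sylowAdj_smul {S T : Sylow p G} (g : G) (h : SylowAdj S T) : SylowAdj (g • S) (g • T) := by
  refine ⟨fun he => h.1 (MulAction.injective g he), fun hb => h.2 (eq_bot_iff.2 fun x hx => ?_)⟩
  have h1 : g * x * g⁻¹ ∈ ((g • S : Sylow p G) : Subgroup G) ⊓ (g • T : Sylow p G) :=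
    ⟨(mem_conj_smul_iff S g _).2 (by rw [show g⁻¹ * (g * x * g⁻¹) * g = x by group]; exact hx.1),
      (mem_conj_smul_iff T g _).2 (by rw [show g⁻¹ * (g * x * g⁻¹) * g = x by group]; exact hx.2)⟩
  rw [hb, Subgroup.mem_bot] at h1
  rw [Subgroup.mem_bot]
  simpa [mul_assoc] using congrArg (fun y => g⁻¹ * y * g) h1

theorem exists_chain_of_reflTransGen {S T : Sylow p G} (h : Relation.ReflTransGen SylowAdj S T) :
    ∃ (n : ℕ) (c : Fin (n + 1) → Sylow p G), c 0 = S ∧ c (Fin.last n) = T ∧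
      ∀ i : Fin n, SylowAdj (c i.castSucc) (c i.succ) := by
  induction h with
  | refl => exact ⟨0, fun _ => S, rfl, rfl, fun i => i.elim0⟩
  | @tail U V _ hUV ih =>
    obtain ⟨n, c, h0, hl, hc⟩ := ih
    refine ⟨n + 1, Fin.snoc c V, ?_, Fin.snoc_last _ _, fun i => ?_⟩
    · rw [show (0 : Fin (n + 2)) = (0 : Fin (n + 1)).castSucc from rfl, Fin.snoc_castSucc, h0]
    · refine Fin.lastCases ?_ (fun j => ?_) i
      · rw [Fin.snoc_castSucc, Fin.succ_last, Fin.snoc_last, hl]
        exact hUV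
      · rw [Fin.snoc_castSucc, ← Fin.castSucc_succ, Fin.snoc_castSucc]
        exact hc j

theorem reflTransGen_sylowAdj_symm {S T : Sylow p G} (h : Relation.ReflTransGen SylowAdj S T) :
    Relation.ReflTransGen SylowAdj T S := by
  induction h with
  | refl => exact Relation.ReflTransGen.refl
  | tail _ hUV ih => exact Relation.ReflTransGen.head ⟨hUV.1.symm, by rw [inf_comm]; exact hUV.2⟩ ih

theorem reflTransGen_sylowAdj_smul {S T : Sylow p G} (g : G)
    (h : Relation.ReflTransGen SylowAdj S T) : Relation.ReflTransGen SylowAdj (g • S) (g • T) := by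
  induction h with
  | refl => exact Relation.ReflTransGen.refl
  | tail _ hUV ih => exact ih.tail (sylowAdj_smul g hUV)

/-- A disconnected Sylow graph gives a strongly `p`-embedded subgroup. -/
theorem exists_trivialMeet_of_not_connected (h : ¬ IsSylowChainConnected p G) :
    ∃ H : Subgroup G, H ≠ ⊤ ∧ p ∣ Nat.card H ∧ PTrivialMeet p H := by
  have hP := sylow_nontrivial_of_not_connected h
  obtain ⟨S, T, hST⟩ : ∃ S T : Sylow p G, ¬ Relation.ReflTransGen SylowAdj S T := by
    by_contra hall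
    push Not at hall
    refine h fun S T => ?_
    by_cases hb : (S : Subgroup G) ⊓ (T : Subgroup G) = ⊥
    · obtain ⟨n, c, h0, hl, hc⟩ := exists_chain_of_reflTransGen (hall S T)
      exact ⟨n, c, h0, hl, fun i => hb ▸ bot_le, hc⟩
    · by_cases he : S = T
      · exact ⟨0, fun _ => S, rfl, he, fun _ => inf_le_left, fun i => i.elim0⟩
      · refine ⟨1, ![S, T], rfl, rfl, fun i => ?_, fun i => ?_⟩
        · fin_cases i
          · exact inf_le_left
          · exact inf_le_right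
        · fin_cases i
          exact ⟨he, hb⟩
  let R : Sylow p G → Sylow p G → Prop := Relation.ReflTransGen SylowAdj
  let H : Subgroup G :=
    { carrier := {g | R S (g • S)}
      one_mem' := by
        show R S ((1 : G) • S)
        rw [one_smul]
      mul_mem' := fun {a b} ha hb => by
        show R S ((a * b) • S)
        rw [mul_smul]
        exact Relation.ReflTransGen.trans ha (reflTransGen_sylowAdj_smul a hb)
      inv_mem' := fun {a} ha => by
        have := reflTransGen_sylowAdj_smul a⁻¹ (reflTransGen_sylowAdj_symm ha)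
        show R S (a⁻¹ • S)
        rwa [inv_smul_smul] at this }
  have hSH : (S : Subgroup G) ≤ H := fun s hs => by
    show R S (s • S)
    rw [Sylow.smul_eq_iff_mem_normalizer.2 (Subgroup.le_normalizer hs)]
  have hpH : p ∣ Nat.card H := by
    haveI : Nontrivial S := (Subgroup.nontrivial_iff_ne_bot _).2 (hP S)
    obtain ⟨n, hn, hcard⟩ := S.isPGroup'.nontrivial_iff_card.1 inferInstance
    exact (hcard ▸ dvd_pow_self p hn.ne' : p ∣ Nat.card S).trans (Subgroup.card_dvd_of_le hSH)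
  refine ⟨H, fun htop => ?_, hpH, fun g hg hdvd => ?_⟩
  · obtain ⟨g, hg⟩ := MulAction.exists_smul_eq G S T
    exact hST (hg ▸ (htop ▸ Subgroup.mem_top g : g ∈ H))
  · obtain ⟨x, ⟨hx1, hx2⟩, ho⟩ := exists_mem_prime_order hdvd
    have hx2' := Coprime.mem_map_conj.1 hx2
    obtain ⟨a, ha, hax⟩ := exists_conj_le S hSH (Subgroup.zpowers_le.2 hx1) (isPGroup_zpowers ho)
    have hoy : orderOf (g⁻¹ * x * g) = p := by
      have := orderOf_conj g⁻¹ x
      rw [inv_inv] at this
      rw [this, ho]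
    obtain ⟨b, hb, hbx⟩ := exists_conj_le S hSH (Subgroup.zpowers_le.2 hx2') (isPGroup_zpowers hoy)
    have hW1 : x ∈ ((a⁻¹ • S : Sylow p G) : Subgroup G) := by
      rw [mem_conj_smul_iff, inv_inv]; exact hax x (Subgroup.mem_zpowers x)
    have hW2 : x ∈ (((g * b⁻¹) • S : Sylow p G) : Subgroup G) := by
      rw [mem_conj_smul_iff, show (g * b⁻¹)⁻¹ * x * (g * b⁻¹) = b * (g⁻¹ * x * g) * b⁻¹ by group]
      exact hbx _ (Subgroup.mem_zpowers _)
    have hR : R S ((g * b⁻¹) • S) := by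
      have h1 : R S (a⁻¹ • S) := inv_mem ha
      by_cases he : a⁻¹ • S = (g * b⁻¹) • S
      · rwa [← he]
      · refine Relation.ReflTransGen.tail h1 ⟨he, fun hb0 => ?_⟩
        have : x ∈ (⊥ : Subgroup G) := hb0 ▸ ⟨hW1, hW2⟩
        rw [Subgroup.mem_bot] at this
        rw [this, orderOf_one] at ho
        exact (Fact.out : p.Prime).one_lt.ne ho
    exact hg (by simpa using mul_mem (show g * b⁻¹ ∈ H from hR) hb)

theorem zpowers_eq_of_isCyclic {A : Subgroup G} (hc : IsCyclic A) {a b : G} (ha : a ∈ A) (hb : b ∈ A)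
    (hao : orderOf a = p) (hbo : orderOf b = p) : Subgroup.zpowers a = Subgroup.zpowers b := by
  classical
  haveI := Fintype.ofFinite A
  have huniq := IsCyclic.card_pow_eq_one_le (α := A) (Fact.out : p.Prime).pos
  have hfin : ∀ {c : G}, c ∈ A → orderOf c = p → ∀ d : A, (d : G) ∈ Subgroup.zpowers c → d ^ p = 1 := by
    intro c _ ho d hd
    obtain ⟨i, hi⟩ := hd
    refine Subtype.ext ?_
    show (d : G) ^ p = 1
    rw [← hi, ← zpow_natCast, zpow_comm, zpow_natCast, ← ho, pow_orderOf_eq_one, one_zpow]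
  have heq : ∀ {c : G}, c ∈ A → orderOf c = p →
      ((Finset.univ.filter fun d : A => (d : G) ∈ Subgroup.zpowers c) = Finset.univ.filter fun d : A => d ^ p = 1) := by
    intro c hcA ho
    refine Finset.eq_of_subset_of_card_le (fun d hd => ?_) (huniq.trans ?_)
    · simp only [Finset.mem_filter, Finset.mem_univ, true_and] at hd ⊢
      exact hfin hcA ho d hd
    · haveI := Fintype.ofFinite (Subgroup.zpowers c)
      rw [← ho, ← Nat.card_zpowers, Nat.card_eq_fintype_card]
      refine Finset.card_le_card_of_injOn (fun d : Subgroup.zpowers c => (⟨d, Subgroup.zpowers_le.2 hcA d.2⟩ : A))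
        (fun d _ => by simp) (fun d _ e _ h => by simpa using h)
  ext x
  constructor
  · intro hx
    have hxA : x ∈ A := Subgroup.zpowers_le.2 ha hx
    have h1 : (⟨x, hxA⟩ : A) ∈ Finset.univ.filter fun d : A => (d : G) ∈ Subgroup.zpowers a := by simp [hx]
    rw [heq ha hao, ← heq hb hbo] at h1
    simpa using h1
  · intro hx
    have hxA : x ∈ A := Subgroup.zpowers_le.2 hb hx
    have h1 : (⟨x, hxA⟩ : A) ∈ Finset.univ.filter fun d : A => (d : G) ∈ Subgroup.zpowers b := by simp [hx]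
    rw [heq hb hbo, ← heq ha hao] at h1
    simpa using h1

end CfsgLib.Amalgam
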