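import Cfsg.Prelude.Def_IsolatedElements
import Cfsg.Agent.Lib.Coprime.Generation
import Cfsg.Agent.Lib.Amalgam.PEmbed
import Cfsg.Agent.Lib.Transfer.Frobenius

/-!
Isolated elements of prime power order.
-/

set_option autoImplicit false
set_option linter.unusedSectionVars false

namespace CfsgLib.Amalgam

open Cfsg Subgroup

variable {G : Type*} [Group G] [Finite G] {p : ℕ} [Fact p.Prime]

theorem isolated_central_of_isPGroup {x : G} (hiso : IsIsolated x) {R : Subgroup G} (hR : IsPGroup p R)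
    (hxR : x ∈ R) : R ≤ centralizer ({x} : Set G) := by
  by_contra hne
  set K := R ⊓ centralizer ({x} : Set G)
  have hlt : K < R := lt_of_le_not_ge inf_le_left fun h => hne (h.trans inf_le_right)
  obtain ⟨g, hg, hgN, hgK⟩ := CfsgLib.Transfer.exists_mem_normalizer_not_mem hR hlt
  have hxK : x ∈ K := ⟨hxR, mem_centralizer_singleton_iff.2 rfl⟩
  have h1 := ((mem_normalizer_iff.1 hgN x).1 hxK).2
  have h2 := hiso g (mem_centralizer_singleton_iff.1 h1).symm
  exact hgK ⟨hg, mem_centralizer_singleton_iff.2 (mul_inv_eq_iff_eq_mul.1 h2)⟩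

theorem isolated_conj_eq_of_mem {x g : G} (hiso : IsIsolated x) {R : Subgroup G} (hR : IsPGroup p R)
    (hxR : x ∈ R) (hg : g * x * g⁻¹ ∈ R) : g * x * g⁻¹ = x :=
  hiso g (mem_centralizer_singleton_iff.1 (isolated_central_of_isPGroup hiso hR hxR hg)).symm

theorem isPGroup_zpowers_of_ppow {x : G} (hx : ∃ k : ℕ, orderOf x = p ^ k) :
    IsPGroup p (zpowers x) := by
  obtain ⟨k, hk⟩ := hx
  exact IsPGroup.of_card (n := k) (by rw [Nat.card_zpowers, hk])

/-- In a subgroup, an isolated element is conjugate only to itself modulo its centralizer. -/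
theorem isolated_exists_mem {x g : G} (hx : ∃ k : ℕ, orderOf x = p ^ k) (hiso : IsIsolated x)
    {H : Subgroup G} (hxH : x ∈ H) (hg : g * x * g⁻¹ ∈ H) :
    ∃ n ∈ H, n * g ∈ centralizer ({x} : Set G) := by
  obtain ⟨S, hS⟩ := ((isPGroup_zpowers_of_ppow hx).of_equiv
    (subgroupOfEquivOfLe ((zpowers_le).2 hxH)).symm).exists_le_sylow
  have hxp' : ∃ k : ℕ, orderOf (g * x * g⁻¹) = p ^ k := by rw [orderOf_conj]; exact hx
  obtain ⟨T, hT⟩ := ((isPGroup_zpowers_of_ppow hxp').of_equiv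
    (subgroupOfEquivOfLe ((zpowers_le).2 hg)).symm).exists_le_sylow
  obtain ⟨n, hn⟩ := MulAction.exists_smul_eq H T S
  refine ⟨n, n.2, ?_⟩
  have h1 : (n * ⟨_, hg⟩ * n⁻¹ : H) ∈ ((n • T : Sylow p H) : Subgroup H) := by
    rw [mem_conj_smul_iff, show n⁻¹ * (n * (⟨_, hg⟩ : H) * n⁻¹) * n = ⟨_, hg⟩ by group]
    exact hT (mem_zpowers (g * x * g⁻¹))
  rw [hn] at h1
  have h2 := isolated_conj_eq_of_mem (g := (n : G) * g) hiso (S.isPGroup'.map H.subtype)
    ⟨⟨x, hxH⟩, hS (mem_zpowers x), rfl⟩ ⟨_, h1, by simp [mul_assoc]⟩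
  exact mem_centralizer_singleton_iff.2 (mul_inv_eq_iff_eq_mul.1 h2)

/-- Powers of an isolated element are only fused to themselves in a Sylow subgroup. -/
theorem isolated_pow_conj_eq {x : G} (hx : ∃ k : ℕ, orderOf x = p ^ k) (hiso : IsIsolated x)
    (P : Sylow p G) (hxP : x ∈ (P : Subgroup G)) {i : ℤ} {g : G}
    (hg : g * x ^ i * g⁻¹ ∈ (P : Subgroup G)) : g * x ^ i * g⁻¹ = x ^ i := by
  set y := g * x ^ i * g⁻¹ with hy
  have hxC : x ∈ centralizer ({y} : Set G) := by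
    rw [mem_centralizer_singleton_iff]
    exact ((mem_centralizer_singleton_iff.1 (isolated_central_of_isPGroup hiso P.isPGroup' hxP hg))).symm
  have hgxC : g * x * g⁻¹ ∈ centralizer ({y} : Set G) := by
    rw [mem_centralizer_singleton_iff, hy, ← conj_zpow]
    exact ((Commute.refl (g * x * g⁻¹)).zpow_right i).eq
  obtain ⟨n, hn, hng⟩ := isolated_exists_mem hx hiso hxC hgxC
  have hc : Commute (n * g) (x ^ i) := Commute.zpow_right (mem_centralizer_singleton_iff.1 hng) i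
  calc y = n * y * n⁻¹ := by rw [mem_centralizer_singleton_iff.1 hn, mul_inv_cancel_right]
    _ = (n * g) * x ^ i * (n * g)⁻¹ := by rw [hy]; group
    _ = x ^ i := by rw [hc.eq, mul_inv_cancel_right]

theorem isolated_image {x : G} (hx : ∃ k : ℕ, orderOf x = p ^ k) (hiso : IsIsolated x)
    (N : Subgroup G) [N.Normal] : IsIsolated (QuotientGroup.mk x : G ⧸ N) := by
  intro q hq
  obtain ⟨g, rfl⟩ := QuotientGroup.mk_surjective q
  set y : G ⧸ N := QuotientGroup.mk x with hy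
  set y' : G ⧸ N := (g : G ⧸ N) * y * (g : G ⧸ N)⁻¹ with hy'
  let D : Subgroup (G ⧸ N) := closure {y, y'}
  have hD : D ≤ centralizer ({y} : Set (G ⧸ N)) := by
    refine (closure_le _).2 ?_
    rintro z (rfl | rfl)
    · exact mem_centralizer_singleton_iff.2 rfl
    · exact mem_centralizer_singleton_iff.2 hq.eq.symm
  obtain ⟨n, hn, hng⟩ := isolated_exists_mem (g := g) hx hiso (H := D.comap (QuotientGroup.mk' N))
    (subset_closure (Or.inl rfl)) (subset_closure (Or.inr rfl))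
  have h1 : (n : G ⧸ N) ∈ D := hn
  have h2 := mem_centralizer_singleton_iff.1 (hD h1)
  have h3 : ((n : G ⧸ N) * (g : G ⧸ N)) * y = y * ((n : G ⧸ N) * (g : G ⧸ N)) := by
    rw [hy, ← QuotientGroup.mk_mul, ← QuotientGroup.mk_mul, ← QuotientGroup.mk_mul,
      mem_centralizer_singleton_iff.1 hng]
  calc y' = (n : G ⧸ N)⁻¹ * (((n : G ⧸ N) * (g : G ⧸ N)) * y) * (g : G ⧸ N)⁻¹ := by rw [hy']; group
    _ = (n : G ⧸ N)⁻¹ * y * (n : G ⧸ N) := by rw [h3]; group
    _ = y := by rw [mul_assoc, ← h2]; group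

theorem hasNormalPComplement_of_isolated {x : G} (hx : ∃ k : ℕ, orderOf x = p ^ k) (hiso : IsIsolated x)
    (hx1 : x ≠ 1) (hcyc : ∀ P : Sylow p G, IsCyclic (P : Subgroup G)) :
    Cfsg.HasNormalPComplement p G := by
  rw [CfsgLib.Transfer.hasNormalPComplement_iff_frobenius]
  intro D hD n hn hnp
  by_cases hD1 : D = ⊥
  · rw [hD1]; intro y hy; rw [mem_bot.1 hy, one_mul, mul_one]
  obtain ⟨P, hP⟩ := hD.exists_le_sylow
  obtain ⟨Q, hQ⟩ := (isPGroup_zpowers_of_ppow hx).exists_le_sylow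
  obtain ⟨a, ha⟩ := MulAction.exists_smul_eq G Q P
  set x' := a * x * a⁻¹ with hx'
  have hx'P : x' ∈ (P : Subgroup G) := by
    rw [← ha, mem_conj_smul_iff, hx', show a⁻¹ * (a * x * a⁻¹) * a = x by group]
    exact hQ (mem_zpowers x)
  have hx'p : ∃ k : ℕ, orderOf x' = p ^ k := by rw [hx', orderOf_conj]; exact hx
  have hx'iso : IsIsolated x' := by
    intro g hg
    have := hiso (a⁻¹ * g * a) (by
      have h1 := hg.map (MulAut.conj a⁻¹).toMonoidHom
      simp only [hx', MulEquiv.coe_toMonoidHom, MulAut.conj_apply] at h1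
      convert h1 using 1 <;> group)
    rw [hx']
    calc g * (a * x * a⁻¹) * g⁻¹ = a * (a⁻¹ * g * a * x * (a⁻¹ * g * a)⁻¹) * a⁻¹ := by group
      _ = a * x * a⁻¹ := by rw [this]
  -- an element of order `p` of `⟨x'⟩` is the one of `D`
  have : Nontrivial (zpowers x') := (nontrivial_iff_ne_bot _).2 (by simpa [zpowers_eq_bot, hx'] using hx1)
  obtain ⟨k, hk, hcard⟩ := (isPGroup_zpowers_of_ppow hx'p).nontrivial_iff_card.1 inferInstance
  obtain ⟨u, hu, huo⟩ := exists_mem_prime_order (p := p) (K := zpowers x') (hcard ▸ dvd_pow_self p hk.ne')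
  obtain ⟨i, rfl⟩ := hu
  have : Nontrivial D := (nontrivial_iff_ne_bot _).2 hD1
  obtain ⟨l, hl, hcardD⟩ := hD.nontrivial_iff_card.1 inferInstance
  obtain ⟨d, hd, hdo⟩ := exists_mem_prime_order (p := p) (K := D) (hcardD ▸ dvd_pow_self p hl.ne')
  have heq := zpowers_eq_of_isCyclic (hcyc P) ((P : Subgroup G).zpow_mem hx'P i) (hP hd) huo hdo
  have hmem : n * x' ^ i * n⁻¹ ∈ (P : Subgroup G) := by
    have h1 : x' ^ i ∈ D := zpowers_le.2 hd (heq.le (mem_zpowers _))
    exact hP ((mem_normalizer_iff.1 hn _).1 h1)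
  have hfix := isolated_pow_conj_eq hx'p hx'iso P hx'P hmem
  -- coprime action on the cyclic group `D`
  have hDcyc : IsMulCommutative D := ⟨⟨fun a b => Subtype.ext
    (congrArg Subtype.val ((hcyc P).isMulCommutative.is_comm.comm ⟨a, hP a.2⟩ ⟨b, hP b.2⟩) :)⟩⟩
  have hcop : (Nat.card (zpowers n)).Coprime (Nat.card D) := by
    rw [Nat.card_zpowers, hcardD]; exact hnp.pow_right l
  have hs : Group.IsSolvable (zpowers n) ∨ Group.IsSolvable D :=
    Or.inl (Group.isSolvable_of_comm fun a b => mul_comm' a b)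
  have hnD : zpowers n ≤ normalizer (D : Set G) := zpowers_le.2 hn
  have hbot : ⁅D, zpowers n⁆ = ⊥ := by
    by_contra hne
    have : Nontrivial (⁅D, zpowers n⁆ : Subgroup G) := (nontrivial_iff_ne_bot _).2 hne
    have hle : ⁅D, zpowers n⁆ ≤ D := le_normalizer_iff_commutator_le_left.mp hnD
    obtain ⟨j, hj, hcardj⟩ := (hD.to_le hle).nontrivial_iff_card.1 inferInstance
    obtain ⟨c, hc, hco⟩ := exists_mem_prime_order (p := p) (K := (⁅D, zpowers n⁆ : Subgroup G))
      (hcardj ▸ dvd_pow_self p hj.ne')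
    have heq' := zpowers_eq_of_isCyclic (hcyc P) ((P : Subgroup G).zpow_mem hx'P i) (hP (hle hc)) huo hco
    have hu1 : x' ^ i ∈ ⁅D, zpowers n⁆ ⊓ centralizer ((zpowers n : Subgroup G) : Set G) := by
      refine ⟨zpowers_le.2 hc (heq'.le (mem_zpowers _)), ?_⟩
      rintro _ ⟨j, rfl⟩
      exact ((show Commute n (x' ^ i) from mul_inv_eq_iff_eq_mul.1 hfix).zpow_left j).eq
    rw [CfsgLib.Coprime.commutator_inf_centralizer_eq_bot hDcyc hnD hcop, mem_bot] at hu1
    simp only [hu1, orderOf_one] at huo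
    exact (Fact.out : p.Prime).one_lt.ne huo
  rw [commutator_comm, commutator_eq_bot_iff_le_centralizer] at hbot
  exact hbot (mem_zpowers n)

end CfsgLib.Amalgam
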