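import Cfsg.Agent.Lib.Amalgam.IsolatedMinimal

/-!
From an isolated `p`-minimal subgroup of `G` to the configuration in `G / O_p(G)`.
-/

set_option autoImplicit false
set_option linter.unusedSectionVars false
set_option linter.style.haveILetI false

namespace CfsgLib.Amalgam.Isol

open Cfsg Subgroup
open scoped commutatorElement

variable {G : Type*} [Group G] [Finite G] {p : ℕ} [Fact p.Prime]

/-- `L` contains the normalizer of `S` and the `p`-minimal subgroups over `S` other than `P`. -/
structure Env (p : ℕ) [Fact p.Prime] (S : Sylow p G) (P L : Subgroup G) : Prop where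
  hSP : (S : Subgroup G) ≤ P
  hN : normalizer ((S : Subgroup G) : Set G) ≤ L
  hP : ∀ P' : Subgroup G, (S : Subgroup G) ≤ P' → IsPMinimal p ↥P' → P' ≠ P → P' ≤ L
  hiso : ¬ (pCore p ↥L).map L.subtype ≤ (pCore p ↥P).map P.subtype

theorem env_of {S : Sylow p G} {P L : Subgroup G} (hSP : (S : Subgroup G) ≤ P)
    (hL : L = normalizer ((S : Subgroup G) : Set G) ⊔
      ⨆ P' : {P' : Subgroup G // (S : Subgroup G) ≤ P' ∧ IsPMinimal p ↥P' ∧ P' ≠ P}, (P' : Subgroup G))
    (hiso : ¬ (pCore p ↥L).map L.subtype ≤ (pCore p ↥P).map P.subtype) : Env p S P L :=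
  ⟨hSP, hL ▸ le_sup_left, fun P' h1 h2 h3 => hL ▸ le_sup_of_le_right
    (le_iSup (fun Q : {P' : Subgroup G // (S : Subgroup G) ≤ P' ∧ IsPMinimal p ↥P' ∧ P' ≠ P} => (Q : Subgroup G))
      ⟨P', h1, h2, h3⟩), hiso⟩

variable {S : Sylow p G} {P L : Subgroup G} (e : Env p S P L)
include e

/-- `O^p(P)`. -/
abbrev res (p : ℕ) (P : Subgroup G) : Subgroup G := (pResidual p ↥P).map P.subtype

theorem Env.SL : (S : Subgroup G) ≤ L := le_normalizer.trans e.hN

theorem Env.P_le : P ≤ res p P ⊔ (S : Subgroup G) :=
  le_pResidual_sup_of_isSylIn ((isSylIn_top S).mono e.hSP le_top)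

theorem Env.dich {D : Subgroup G} (hD : (S : Subgroup G) ≤ normalizer (D : Set G)) :
    res p P ≤ D ∨ D ≤ L := by
  by_cases hP : P ≤ D ⊔ (S : Subgroup G)
  · left
    exact pResidual_map_le fun x hx hxp => mem_of_coprime_sup hD S.isPGroup' (hP hx) hxp
  · refine Or.inr (le_sup_left.trans (le_of_pMinimals S _ (D ⊔ (S : Subgroup G)) rfl le_sup_right
      (inf_le_right.trans e.hN) fun P' h1 h2 h3 => e.hP P' h1 h3 ?_))
    rintro rfl
    exact hP h2

theorem Env.gen : normalClosure (res p P : Set G) ⊔ L = ⊤ := by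
  refine eq_top_iff.2 (le_of_pMinimals S _ ⊤ rfl le_top (inf_le_right.trans (e.hN.trans le_sup_right))
    fun P' h1 _ h3 => ?_)
  by_cases h : P' = P
  · subst h
    exact e.P_le.trans (sup_le (le_trans (fun x hx => le_normalClosure hx) le_sup_left) (e.SL.trans le_sup_right))
  · exact (e.hP P' h1 h3 h).trans le_sup_right

theorem Env.core_le_S : pCore p G ≤ (S : Subgroup G) := pCore_le_sylow S

theorem Env.core_le_P : pCore p G ≤ pCoreOf p P :=
  le_pCoreOf (e.core_le_S.trans e.hSP) (by
    haveI := normal_pCore (p := p) (G := G)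
    exact CfsgLib.Comp.le_normalizer_of_normal' _ _) isPGroup_pCore

theorem Env.pCoreL_le_S : pCoreOf p L ≤ (S : Subgroup G) :=
  ((isSylIn_top S).mono e.SL le_top).pCoreOf_le

theorem Env.S_normalizes : (S : Subgroup G) ≤ normalizer ((res p P : Subgroup G) : Set G) :=
  e.hSP.trans (le_normalizer_pResidual_map P)

theorem Env.not_res_le : ¬ res p P ≤ L := fun h => e.hiso (by
  have hPL : P ≤ L := e.P_le.trans (sup_le h e.SL)
  exact le_pCoreOf (e.pCoreL_le_S.trans e.hSP) (hPL.trans (le_normalizer_pCoreOf L)) (isPGroup_pCoreOf L))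

theorem Env.data [(pCore p G).Normal] :
    Data p ((S : Subgroup G).map (QuotientGroup.mk' (pCore p G)))
      ((res p P).map (QuotientGroup.mk' (pCore p G))) (L.map (QuotientGroup.mk' (pCore p G)))
      ((pCoreOf p L).map (QuotientGroup.mk' (pCore p G))) := by
  set π := QuotientGroup.mk' (pCore p G)
  have hπ : Function.Surjective π := QuotientGroup.mk'_surjective _
  have hker : π.ker = pCore p G := QuotientGroup.ker_mk' _
  have hback : ∀ B : Subgroup G, (B.map π).comap π = B ⊔ pCore p G := fun B => by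
    rw [comap_map_eq, hker]
  refine ⟨CfsgLib.Solvable.pCore_quotient_eq_bot p, S.isPGroup'.map _, (isPGroup_pCoreOf L).map _,
    map_mono e.SL, map_mono e.pCoreL_le_S, ?_, ?_, ?_, ?_, ?_, ?_⟩
  · exact (map_mono (le_normalizer_pCoreOf L)).trans (le_normalizer_map π)
  · intro D hD
    have hS : (S : Subgroup G) ≤ normalizer ((D.comap π : Subgroup G) : Set G) :=
      fun s hs => AsymL.mem_normalizer_of_conj' fun x hx => mem_comap.2 (by
        rw [map_mul, map_mul, map_inv]
        exact (mem_normalizer_iff.1 (hD ⟨s, hs, rfl⟩) _).1 hx)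
    rcases e.dich hS with h | h
    · exact Or.inl (map_le_iff_le_comap.2 h)
    · exact Or.inr ((map_comap_eq_self_of_surjective hπ D).ge.trans (map_mono h))
  · intro h
    rw [← commutator_eq_bot_iff_le_centralizer, ← Subgroup.map_commutator, Subgroup.map_eq_bot_iff, hker] at h
    apply e.hiso
    set J := pCoreOf p L ⊔ pCoreOf p P
    have hRP : pCoreOf p L ≤ P := e.pCoreL_le_S.trans e.hSP
    have hJP : J ≤ P := sup_le hRP (pCoreOf_le P)
    have hJp : IsPGroup p J := (isPGroup_pCoreOf L).to_sup_of_normal_right' (isPGroup_pCoreOf P)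
      (hRP.trans (le_normalizer_pCoreOf P))
    have hJS : (S : Subgroup G) ≤ normalizer (J : Set G) := CfsgLib.Comp.le_normalizer_sup
      (e.SL.trans (le_normalizer_pCoreOf L)) (e.hSP.trans (le_normalizer_pCoreOf P))
    have hJA : res p P ≤ normalizer (J : Set G) := fun x hx => AsymL.mem_normalizer_of_conj' fun y hy => by
      obtain ⟨b, hb, a, ha, rfl⟩ := CfsgLib.Comp.exists_mul_of_mem_sup
        (hRP.trans (le_normalizer_pCoreOf P)) ((sup_comm (pCoreOf p L) (pCoreOf p P)).le hy)
      rw [show x * (b * a) * x⁻¹ = (x * b * x⁻¹) * (⁅x, a⁆ * a) by rw [commutatorElement_def]; group]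
      refine mul_mem (mem_sup_right ((mem_normalizer_iff.1 (le_normalizer_pCoreOf P (map_subtype_le _ hx)) b).1 hb))
        (mul_mem (mem_sup_right (e.core_le_P ?_)) (mem_sup_left ha))
      rw [← commutatorElement_inv]
      exact inv_mem (h (commutator_mem_commutator ha hx))
    exact le_sup_left.trans (le_pCoreOf hJP (e.P_le.trans (sup_le hJA hJS)) hJp)
  · intro h
    rw [map_le_iff_le_comap, hback, sup_eq_left.2 (e.core_le_S.trans e.SL)] at h
    exact e.not_res_le h
  · exact (map_mono e.S_normalizes).trans (le_normalizer_map π)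
  · show normalClosure (((res p P).map π : Subgroup _) : Set _) ⊔ L.map π = ⊤
    rw [Subgroup.coe_map, ← map_normalClosure _ _ hπ, ← Subgroup.map_sup, e.gen, map_top_of_surjective π hπ]

theorem Env.clos_map [(pCore p G).Normal] :
    (normalClosure (res p P : Set G)).map (QuotientGroup.mk' (pCore p G)) =
      clos ((res p P).map (QuotientGroup.mk' (pCore p G))) := by
  show _ = normalClosure _
  rw [Subgroup.coe_map (f := QuotientGroup.mk' (pCore p G))]
  exact map_normalClosure _ _ (QuotientGroup.mk'_surjective _)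

/-- If `A` is normal modulo `O_p(G)` then `O^p(P)` is normal. -/
theorem Env.res_eq_closure [(pCore p G).Normal]
    (h : (res p P).map (QuotientGroup.mk' (pCore p G)) = clos ((res p P).map (QuotientGroup.mk' (pCore p G)))) :
    res p P = normalClosure (res p P : Set G) := by
  refine le_antisymm (fun x hx => le_normalClosure hx) ?_
  set D := res p P ⊔ pCore p G
  have hD : normalClosure (res p P : Set G) ≤ D := by
    have h1 : (normalClosure (res p P : Set G)).map (QuotientGroup.mk' (pCore p G)) ≤
        (res p P).map (QuotientGroup.mk' (pCore p G)) := e.clos_map.le.trans h.ge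
    rwa [map_le_iff_le_comap, comap_map_eq, QuotientGroup.ker_mk'] at h1
  have hn : pCore p G ≤ normalizer ((res p P : Subgroup G) : Set G) := e.core_le_S.trans e.S_normalizes
  haveI : (res p P).Normal := ⟨fun x hx g => by
    have h2 : res p P ≤ (res p P).comap (MulAut.conj g).toMonoidHom := pResidual_map_le fun y hy hyp =>
      mem_comap.2 (mem_of_coprime_sup hn isPGroup_pCore
        (hD (Subgroup.Normal.conj_mem normalClosure_normal y
          (le_normalClosure (mem_pResidual_map hy hyp)) g))
        (by rwa [orderOf_injective (MulAut.conj g).toMonoidHom (MulAut.conj g).injective]))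
    exact h2 hx⟩
  exact normalClosure_le_normal le_rfl

end CfsgLib.Amalgam.Isol

namespace CfsgLib.Amalgam.Isol

open Cfsg Subgroup

variable {G : Type*} [Group G] [Finite G] {p : ℕ} [Fact p.Prime] {S : Sylow p G} {P L : Subgroup G}

/-- The normal closure modulo its `O_p` is the normal closure in `G / O_p(G)`. -/
theorem Env.exists_equiv (e : Env p S P L) [(pCore p G).Normal] {Y : Subgroup G}
    (hY : Y = normalClosure (res p P : Set G)) :
    ∃ _ : (pCore p ↥Y).Normal,
      ∃ φ : (↥Y ⧸ pCore p ↥Y) ≃* ↥(clos ((res p P).map (QuotientGroup.mk' (pCore p G)))),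
        ∀ y : ↥Y, (φ (QuotientGroup.mk' _ y) : G ⧸ pCore p G) = QuotientGroup.mk' (pCore p G) (y : G) := by
  subst hY
  set Y := normalClosure (res p P : Set G)
  set π := QuotientGroup.mk' (pCore p G)
  set Yb := clos ((res p P).map π)
  haveI hpn : (pCore p ↥Y).Normal := normal_pCore
  refine ⟨hpn, ?_⟩
  let f : ↥Y →* ↥Yb := (π.comp Y.subtype).codRestrict Yb fun y => e.clos_map.le ⟨y, y.2, rfl⟩
  have hf : Function.Surjective f := fun z => by
    obtain ⟨y, hy, h⟩ := e.clos_map.ge z.2
    exact ⟨⟨y, hy⟩, Subtype.ext h⟩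
  have hk : f.ker = pCore p ↥Y := by
    haveI := normal_pCore (p := p) (G := G)
    refine le_antisymm (le_pCore inferInstance ?_) ?_
    · refine (isPGroup_pCore.comap_of_injective Y.subtype Y.subtype_injective).to_le (K := (pCore p G).comap Y.subtype) ?_
      intro y hy
      show (y : G) ∈ pCore p G
      exact (QuotientGroup.eq_one_iff _).1 (congrArg Subtype.val (MonoidHom.mem_ker.1 hy) :)
    · rw [← Subgroup.map_eq_bot_iff]
      haveI hn : ((pCore p ↥Y).map f).Normal := hpn.map f hf
      have hp := (isPGroup_pCore (p := p) (G := ↥Y)).map f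
      have hbot : pCore p ↥Yb = ⊥ := by
        haveI : (pCore p ↥Yb).Characteristic :=
          characteristic_iff_map_eq.2 fun e => map_pCore_eq e
        haveI : ((pCore p ↥Yb).map Yb.subtype).Normal := ConjAct.normal_of_characteristic_of_normal
        refine Subgroup.map_injective Yb.subtype_injective ?_
        rw [Subgroup.map_bot, eq_bot_iff, ← CfsgLib.Solvable.pCore_quotient_eq_bot (G := G) p]
        exact le_pCore inferInstance (isPGroup_pCore.map _)
      exact le_bot_iff.1 (hbot ▸ le_pCore hn hp)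
  exact ⟨(QuotientGroup.quotientMulEquivOfEq hk.symm).trans (QuotientGroup.quotientKerEquivOfSurjective f hf),
    fun y => rfl⟩

end CfsgLib.Amalgam.Isol
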