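import Cfsg.Agent.Lib.Solvable.FrobeniusKernel
import Cfsg.Agent.Lib.Transfer.Basic
import Cfsg.Agent.Lib.Transfer.Frobenius

/-!
# An isolated `p`-element centralizing the `p'`-subgroups it normalizes is central
-/

set_option autoImplicit false

namespace CfsgLib.Amalgam.IsolatedCentral

open Subgroup
open scoped Pointwise

variable {p : ℕ} [Fact p.Prime]

/-- The minimal case: every proper subgroup containing `x` centralizes it. -/
theorem mem_center_of_minimal {H : Type*} [Group H] [Finite H] (x : H) (hxp : ∃ k, orderOf x = p ^ k)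
    (hiso : ∀ g : H, Commute x (g * x * g⁻¹) → g * x * g⁻¹ = x)
    (hb : ∀ L : Subgroup H, (Nat.card L).Coprime p → (∀ l ∈ L, x * l * x⁻¹ ∈ L) → ∀ l ∈ L, x * l = l * x)
    (hind : ∀ L : Subgroup H, L ≠ ⊤ → x ∈ L → ∀ l ∈ L, x * l = l * x) : x ∈ center H := by
  classical
  by_contra hxc
  set M : Subgroup H := centralizer ({x} : Set H) with hM
  have hxM : x ∈ M := mem_centralizer_singleton_iff.2 rfl
  have hmemM : ∀ g : H, g * x * g⁻¹ = x → g ∈ M := fun g hg =>
    mem_centralizer_singleton_iff.2 (mul_inv_eq_iff_eq_mul.1 hg)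
  -- trivial intersection modulo the centre
  have hTI : ∀ g d : H, d ∈ M → g * d * g⁻¹ ∈ M → g ∉ M → d ∈ center H := by
    intro g d hd hgd hg
    by_contra hdc
    have hne : centralizer ({g * d * g⁻¹} : Set H) ≠ ⊤ := fun h => hdc (mem_center_iff.2 fun w => by
      have := mem_centralizer_singleton_iff.1 (h ▸ mem_top (g * w * g⁻¹))
      calc w * d = g⁻¹ * ((g * w * g⁻¹) * (g * d * g⁻¹)) * g := by group
        _ = g⁻¹ * ((g * d * g⁻¹) * (g * w * g⁻¹)) * g := by rw [this]
        _ = d * w := by group)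
    have hx1 : x ∈ centralizer ({g * d * g⁻¹} : Set H) :=
      mem_centralizer_singleton_iff.2 (mem_centralizer_singleton_iff.1 hgd).symm
    have hx2 : g * x * g⁻¹ ∈ centralizer ({g * d * g⁻¹} : Set H) := by
      refine mem_centralizer_singleton_iff.2 ?_
      calc g * x * g⁻¹ * (g * d * g⁻¹) = g * (x * d) * g⁻¹ := by group
        _ = g * (d * x) * g⁻¹ := by rw [← mem_centralizer_singleton_iff.1 hd]
        _ = g * d * g⁻¹ * (g * x * g⁻¹) := by group
    exact hg (hmemM g (hiso g (hind _ hne hx1 _ hx2)))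
  set Z := center H with hZ
  set π := QuotientGroup.mk' Z with hπ
  have hπs : Function.Surjective π := QuotientGroup.mk'_surjective Z
  have hπ1 : ∀ w, π w = 1 ↔ w ∈ Z := fun w => QuotientGroup.eq_one_iff w
  have hZM : Z ≤ M := fun w hw => mem_centralizer_singleton_iff.2 (mem_center_iff.1 hw x).symm
  set F := M.map π with hF
  have hmemF : ∀ w : H, π w ∈ F ↔ w ∈ M := fun w => by
    rw [← mem_comap, hF, comap_map_eq, hπ, QuotientGroup.ker_mk', sup_eq_left.2 hZM]
  have hFrob : Cfsg.IsFrobeniusComplement F := by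
    refine ⟨fun h => hxc ((hπ1 x).1 (mem_bot.1 (h ▸ mem_map_of_mem π hxM))), fun h => hxc ?_, ?_⟩
    · refine mem_center_iff.2 fun w => ?_
      exact mem_centralizer_singleton_iff.1 ((hmemF w).1 (h ▸ mem_top _))
    · intro g' hg'
      obtain ⟨g, rfl⟩ := hπs g'
      refine (Subgroup.eq_bot_iff_forall _).2 fun t ht => ?_
      obtain ⟨ht1, ht2⟩ := mem_inf.1 ht
      obtain ⟨d, rfl⟩ := hπs t
      rw [Subgroup.mem_pointwise_smul_iff_inv_smul_mem, ← map_inv, MulAut.smul_def, MulAut.conj_apply,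
        inv_inv, ← map_inv, ← map_mul, ← map_mul, hmemF] at ht2
      refine (hπ1 d).2 (hTI g⁻¹ d ((hmemF d).1 ht1) (by rwa [inv_inv]) fun h => hg' ?_)
      exact (hmemF g).2 (inv_mem_iff.1 h)
  obtain ⟨N, hNset, hNn, hcompl⟩ := CfsgLib.Solvable.exists_frobeniusKernel hFrob
  have hNcard : Nat.card N = F.index := by
    rw [← CfsgLib.Solvable.card_kernel_of_isFrobeniusComplement hFrob, ← hNset]
    rfl
  have hpN : (Nat.card N).Coprime p := by
    have hmod := CfsgLib.Solvable.index_mod_card_of_isFrobeniusComplement hFrob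
    have hpF : p ∣ Nat.card F := by
      obtain ⟨k, hk⟩ := hxp
      have h1 : orderOf (π x) ∣ p ^ k := hk ▸ orderOf_map_dvd π x
      obtain ⟨j, -, hj⟩ := (Nat.dvd_prime_pow Fact.out).1 h1
      have hj0 : j ≠ 0 := fun h0 => hxc ((hπ1 x).1 (orderOf_eq_one_iff.1 (by rw [hj, h0, pow_zero])))
      exact (hj ▸ dvd_pow_self p hj0).trans (F.orderOf_dvd_natCard (mem_map_of_mem π hxM))
    rw [hNcard, Nat.coprime_comm, (Fact.out : p.Prime).coprime_iff_not_dvd]
    intro hdvd
    have : F.index % p = 1 % p := by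
      rw [← Nat.mod_mod_of_dvd F.index hpF, hmod, Nat.mod_mod_of_dvd 1 hpF]
    rw [Nat.mod_eq_zero_of_dvd hdvd, Nat.one_mod_eq_one.2 (Fact.out : p.Prime).ne_one] at this
    exact zero_ne_one this
  -- `x` centralizes the preimage of the kernel
  set K := N.comap π with hK
  haveI : K.Normal := hNn.comap π
  haveI := CfsgLib.Transfer.pResidual_characteristic (G := K) (p := p)
  set K₀ := (Cfsg.pResidual p K).map K.subtype with hK₀
  haveI : K₀.Normal := ConjAct.normal_of_characteristic_of_normal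
  have hcop : (Nat.card K₀).Coprime p := by
    rw [hK₀, card_map_of_injective K.subtype_injective]
    refine CfsgLib.Transfer.hasNormalPComplement_iff_coprime_pResidual.1 ?_
    obtain ⟨S⟩ : Nonempty (Sylow p K) := inferInstance
    refine CfsgLib.Transfer.hasNormalPComplement_of_normalizer_le_centralizer S fun y _ => ?_
    refine mem_centralizer_iff.2 fun s hs => Subtype.ext ?_
    show (s : H) * y = (y : H) * s
    have hsZ : (s : H) ∈ Z := by
      obtain ⟨k, hk⟩ := S.2 ⟨s, hs⟩
      refine (hπ1 _).1 (orderOf_eq_one_iff.1 ?_)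
      have hsk : (s : H) ^ p ^ k = 1 := congrArg (fun w : (S : Subgroup K) => ((w : K) : H)) hk
      exact Nat.eq_one_of_dvd_coprimes (hpN.pow_right k) (N.orderOf_dvd_natCard s.2)
        (orderOf_dvd_of_pow_eq_one (by rw [← map_pow, hsk, map_one]))
    exact (mem_center_iff.1 hsZ y).symm
  have hK₀M : K₀ ≤ M := fun l hl => mem_centralizer_singleton_iff.2
    (hb K₀ hcop (fun w hw => (inferInstance : K₀.Normal).conj_mem w hw x) l hl).symm
  have hKM : K ≤ M := by
    intro w hw
    -- modulo `K₀` and the centre, `K` is a `p`-group of `p'`-order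
    refine (hmemF w).1 ?_
    have h1 : IsPGroup p (K ⧸ Cfsg.pResidual p K) :=
      CfsgLib.Transfer.isPGroup_quotient_of_pResidual_le le_rfl
    obtain ⟨k, hk⟩ := h1 ((⟨w, hw⟩ : K) : K ⧸ Cfsg.pResidual p K)
    rw [← QuotientGroup.mk_pow, QuotientGroup.eq_one_iff] at hk
    have h2 : π w ^ p ^ k ∈ F := by
      rw [← map_pow]
      exact mem_map_of_mem π (hK₀M ⟨_, hk, by simp⟩)
    obtain ⟨m, hm⟩ := exists_pow_eq_self_of_coprime (x := π w) (n := p ^ k)
      (Nat.Coprime.coprime_dvd_right (N.orderOf_dvd_natCard hw) (hpN.pow_right k).symm)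
    rw [← hm]
    exact pow_mem h2 m
  refine hxc (mem_center_iff.2 fun w => mem_centralizer_singleton_iff.1 ?_)
  have hw : π w ∈ ((N : Set (H ⧸ Z)) * (F : Set (H ⧸ Z))) := by rw [hcompl.mul_eq]; trivial
  obtain ⟨a, ha, b, hb', hab⟩ := hw
  obtain ⟨a', rfl⟩ := hπs a
  refine (hmemF w).1 ?_
  rw [← hab]
  exact mul_mem ((hmemF a').2 (hKM ha)) hb'

/-- An isolated `p`-element centralizing every `p'`-subgroup it normalizes is central. -/
theorem mem_center {G : Type*} [Group G] [Finite G] (S : Sylow p G) (x : G) (hx : x ∈ S)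
    (hU : ∀ g : G, g⁻¹ * x * g ∈ S → g⁻¹ * x * g = x)
    (hb : ∀ H : Subgroup G, (Nat.card H).Coprime p → (∀ h ∈ H, x * h * x⁻¹ ∈ H) → ∀ h ∈ H, x * h = h * x) :
    x ∈ center G := by
  have hxp : IsPGroup p (zpowers x) := S.2.to_le (zpowers_le.2 hx)
  have hiso : ∀ g : G, Commute x (g * x * g⁻¹) → g * x * g⁻¹ = x := by
    intro g hg
    set y := g * x * g⁻¹ with hy
    have hyp : IsPGroup p (zpowers y) := by
      rw [hy, show zpowers (g * x * g⁻¹) = (zpowers x).map (MulAut.conj g).toMonoidHom by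
        rw [MonoidHom.map_zpowers]; rfl]
      exact hxp.map _
    have hn : zpowers x ≤ normalizer (zpowers y : Set G) := by
      refine le_trans (zpowers_le.2 (mem_centralizer_iff.2 ?_)) (centralizer_le_normalizer _)
      intro w hw
      obtain ⟨i, rfl⟩ := mem_zpowers_iff.1 hw
      exact (hg.zpow_right i).symm.eq
    obtain ⟨P, hP⟩ := (hxp.to_sup_of_normal_right' hyp hn).exists_le_sylow
    obtain ⟨c, rfl⟩ := MulAction.exists_smul_eq G S P
    have hc : ∀ a ∈ ((c • S : Sylow p G) : Subgroup G), c⁻¹ * a * c ∈ S := by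
      rintro _ ⟨b, hb', rfl⟩
      show c⁻¹ * (c * b * c⁻¹) * c ∈ S
      rwa [show c⁻¹ * (c * b * c⁻¹) * c = b by group]
    have h1 := hU c (hc x (hP (mem_sup_left (mem_zpowers x))))
    have h2 := hc y (hP (mem_sup_right (mem_zpowers y)))
    have h3 : c⁻¹ * y * c = (g⁻¹ * c)⁻¹ * x * (g⁻¹ * c) := by rw [hy]; group
    rw [h3] at h2
    have h4 := h3.trans ((hU _ h2).trans h1.symm)
    exact mul_left_cancel (a := c⁻¹) (mul_right_cancel h4)
  suffices H : ∀ H : Subgroup G, x ∈ H → ∀ h ∈ H, x * h = h * x from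
    mem_center_iff.2 fun h => (H ⊤ (mem_top _) h (mem_top _)).symm
  intro H
  induction H using WellFoundedLT.induction with
  | _ H ih =>
    intro hxH h hh
    have hc := mem_center_of_minimal (p := p) (⟨x, hxH⟩ : H) ?_ ?_ ?_ ?_
    · exact (congrArg Subtype.val (mem_center_iff.1 hc ⟨h, hh⟩)).symm
    · rw [Subgroup.orderOf_mk]
      obtain ⟨k, hk⟩ := hxp.exists_card_eq
      exact ⟨k, by rw [← Nat.card_zpowers]; exact hk⟩
    · exact fun g hg => Subtype.ext (hiso g (congrArg Subtype.val hg.eq))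
    · intro L hL hLx l hl
      refine Subtype.ext (hb (L.map H.subtype) ?_ ?_ l ⟨l, hl, rfl⟩)
      · rwa [card_map_of_injective H.subtype_injective]
      · rintro _ ⟨w, hw, rfl⟩
        exact ⟨_, hLx w hw, rfl⟩
    · intro L hL hxL l hl
      refine Subtype.ext (ih (L.map H.subtype) ?_ ⟨_, hxL, rfl⟩ l ⟨l, hl, rfl⟩)
      refine lt_of_le_of_ne (map_subtype_le L) fun e => hL ?_
      exact map_injective H.subtype_injective (e.trans ((MonoidHom.range_eq_map H.subtype).symm.trans H.range_subtype).symm)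

end CfsgLib.Amalgam.IsolatedCentral
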