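import Cfsg.Prelude.Def_LocalEven
import Cfsg.Agent.Lib.PLocal.SubnormalJoin
import Cfsg.Agent.Lib.PLocal.Sylow
import Cfsg.Agent.Lib.Comp.Subnormal
import Cfsg.Agent.Lib.Solvable.PCore
import Cfsg.Agent.Lib.Transfer.Basic

/-!
Structure of `p`-minimal groups.
-/

set_option autoImplicit false
set_option linter.unusedSectionVars false
set_option linter.style.haveILetI false

namespace CfsgLib.Amalgam

open Cfsg Subgroup

variable {P : Type*} [Group P] [Finite P] {p : ℕ} [Fact p.Prime]

theorem pmin_le_of_ne_top (hP : IsPMinimal p P) {S : Sylow p P} {M H : Subgroup P} (hM : IsCoatom M)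
    (hSM : (S : Subgroup P) ≤ M) (hSH : (S : Subgroup P) ≤ H) (hH : H ≠ ⊤) : H ≤ M := by
  obtain ⟨-, M₀, -, huniq⟩ := hP S
  obtain ⟨N, hN, hHN⟩ := (eq_top_or_exists_le_coatom H).resolve_left hH
  rw [huniq M ⟨hM, hSM⟩, ← huniq N ⟨hN, hSH.trans hHN⟩]
  exact hHN

theorem pmin_normal_inf_le_pCore (hP : IsPMinimal p P) {S : Sylow p P} {M N : Subgroup P} (hM : IsCoatom M)
    (hSM : (S : Subgroup P) ≤ M) [N.Normal] (hN : N ≤ M) : N ⊓ (S : Subgroup P) ≤ pCore p P := by
  have hf := CfsgLib.PLocal.frattini_sup S N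
  have hle : (S : Subgroup P) ≤ normalizer (((S : Subgroup P) ⊓ N : Subgroup P) : Set P) := by
    intro s hs
    have hs1 := le_normalizer hs
    have hs2 : s ∈ normalizer (N : Set P) := by rw [normalizer_eq_top]; trivial
    exact inf_normalizer_le_normalizer_inf ⟨hs1, hs2⟩
  by_cases htop : normalizer (((S : Subgroup P) ⊓ N : Subgroup P) : Set P) = ⊤
  · rw [inf_comm]
    exact CfsgLib.Solvable.le_pCore (normalizer_eq_top_iff.1 htop) (S.isPGroup'.to_le inf_le_left)
  · exfalso
    refine hM.1 (eq_top_iff.2 ?_)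
    rw [← hf]
    exact sup_le hN (pmin_le_of_ne_top hP hM hSM hle htop)

theorem pmin_normal_dichotomy (hP : IsPMinimal p P) {S : Sylow p P} {M : Subgroup P} (hM : IsCoatom M)
    (hSM : (S : Subgroup P) ≤ M) (N : Subgroup P) [N.Normal] :
    pResidual p P ≤ N ∨ N ≤ M.normalCore := by
  by_cases htop : N ⊔ (S : Subgroup P) = ⊤
  · left
    refine CfsgLib.Transfer.pResidual_le_of_isPGroup_quotient (IsPGroup.of_surjective S.isPGroup'
      ((QuotientGroup.mk' N).comp (S : Subgroup P).subtype) fun q => ?_)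
    obtain ⟨x, rfl⟩ := QuotientGroup.mk'_surjective N q
    have hx : x ∈ N ⊔ (S : Subgroup P) := htop ▸ mem_top x
    obtain ⟨a, ha, b, hb, rfl⟩ := mem_sup_of_normal_left.1 hx
    exact ⟨⟨b, hb⟩, by simp [(QuotientGroup.eq_one_iff a).2 ha]⟩
  · exact Or.inr (normal_le_normalCore.2
      (le_sup_left.trans (pmin_le_of_ne_top hP hM hSM le_sup_right htop)))

theorem pmin_not_residual_le (hP : IsPMinimal p P) {S : Sylow p P} {M : Subgroup P} (hM : IsCoatom M)
    (hSM : (S : Subgroup P) ≤ M) : ¬ pResidual p P ≤ M.normalCore := by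
  intro h
  refine hM.1 (eq_top_iff.2 ?_)
  rw [← CfsgLib.Transfer.pResidual_sup_sylow S]
  exact sup_le (h.trans (normalCore_le M)) hSM

/-- The subgroup generated by the conjugates of a subnormal subgroup by elements of `S` is subnormal. -/
theorem isSubnormal_iSup_conj {N : Subgroup P} (hN : N.IsSubnormal) (A : Subgroup P) :
    (⨆ s : A, N.map (MulAut.conj (s : P)).toMonoidHom).IsSubnormal := by
  haveI := Fintype.ofFinite A
  rw [← Finset.sup_univ_eq_iSup]
  exact Finset.sup_induction (p := Subgroup.IsSubnormal) IsSubnormal.bot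
    (fun a ha b hb => CfsgLib.PLocal.isSubnormal_sup ha hb)
    (fun s _ => CfsgLib.Comp.isSubnormal_map_conj hN s)

/-- A subnormal subgroup inside the unique maximal subgroup lies in its core. -/
theorem pmin_subnormal_le_normalCore (hP : IsPMinimal p P) {S : Sylow p P} {M N : Subgroup P} (hM : IsCoatom M)
    (hSM : (S : Subgroup P) ≤ M) (hN : N.IsSubnormal) (hNM : N ≤ M) : N ≤ M.normalCore := by
  set L := ⨆ s : (S : Subgroup P), N.map (MulAut.conj (s : P)).toMonoidHom with hL
  have hNL : N ≤ L := fun n hn => le_iSup (fun s : (S : Subgroup P) => N.map (MulAut.conj (s : P)).toMonoidHom)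
    1 ⟨n, hn, by simp⟩
  have hLM : L ≤ M := iSup_le fun s => by
    rintro _ ⟨n, hn, rfl⟩
    exact mul_mem (mul_mem (hSM s.2) (hNM hn)) (inv_mem (hSM s.2))
  have hLS : ∀ s ∈ (S : Subgroup P), ∀ l ∈ L, s * l * s⁻¹ ∈ L := by
    intro s hs
    have : L ≤ L.comap (MulAut.conj s).toMonoidHom := iSup_le fun t => by
      rintro _ ⟨n, hn, rfl⟩
      exact le_iSup (fun s : (S : Subgroup P) => N.map (MulAut.conj (s : P)).toMonoidHom)
        ⟨s * t, mul_mem hs t.2⟩ ⟨n, hn, by simp [mul_assoc]⟩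
    exact fun l hl => this hl
  have hLsn : L.IsSubnormal := isSubnormal_iSup_conj hN _
  suffices key : ∀ k, ∀ K : Subgroup P, Nat.card K = k → L ≤ K →
      (∀ s ∈ (S : Subgroup P), ∀ l ∈ K, s * l * s⁻¹ ∈ K) → K ⊔ (S : Subgroup P) = ⊤ → L ≤ M.normalCore from
    hNL.trans (key _ ⊤ rfl le_top (fun _ _ _ _ => mem_top _) (top_sup_eq _))
  intro k
  induction k using Nat.strong_induction_on with
  | _ k ih =>
    intro K hk hLK hKS hKtop
    have hne : L.subgroupOf K ≠ ⊤ := by
      rw [Ne, subgroupOf_eq_top]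
      exact fun e => hM.1 (eq_top_iff.2 (hKtop ▸ sup_le (e.trans hLM) hSM))
    obtain ⟨R, hRn, hLR, hRtop⟩ := (hLsn.subgroupOf (K := K)).exists_normal_and_le_and_lt_top_of_ne hne
    set C := (normalClosure (L.subgroupOf K : Set K)).map K.subtype with hC
    have hCK : C ≤ K := map_subtype_le _
    have hLC : L ≤ C := fun l hl => ⟨⟨l, hLK hl⟩, le_normalClosure (mem_subgroupOf.2 hl), rfl⟩
    have hcardC : Nat.card C < k := by
      rw [hC, card_map_of_injective K.subtype_injective, ← hk]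
      refine lt_of_le_of_ne (card_le_card_group _) (fun e => hRtop.ne (eq_top_iff.2 ?_))
      rw [← eq_top_of_card_eq _ e]
      exact normalClosure_le_normal hLR
    have hCK' : ∀ c ∈ C, ∀ a ∈ K, a * c * a⁻¹ ∈ C := by
      rintro _ ⟨c, hc, rfl⟩ a ha
      exact ⟨⟨a, ha⟩ * c * ⟨a, ha⟩⁻¹, normalClosure_normal.conj_mem c hc _, rfl⟩
    have hCS : ∀ s ∈ (S : Subgroup P), ∀ l ∈ C, s * l * s⁻¹ ∈ C := by
      intro s hs
      let φ : K →* K :=
        { toFun := fun a => ⟨s * a * s⁻¹, hKS s hs _ a.2⟩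
          map_one' := Subtype.ext (by simp)
          map_mul' := fun a b => Subtype.ext (by simp [mul_assoc]) }
      haveI hn : ((normalClosure (L.subgroupOf K : Set K)).comap φ).Normal := normalClosure_normal.comap _
      have h1 : normalClosure (L.subgroupOf K : Set K) ≤ (normalClosure (L.subgroupOf K : Set K)).comap φ :=
        normalClosure_le_normal fun a ha => le_normalClosure (mem_subgroupOf.2 (hLS s hs _ (mem_subgroupOf.1 ha)))
      rintro _ ⟨l, hl, rfl⟩
      exact ⟨φ l, h1 hl, rfl⟩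
    by_cases hCtop : C ⊔ (S : Subgroup P) = ⊤
    · exact ih _ hcardC C rfl hLC hCS hCtop
    have hCM : C ≤ M := le_sup_left.trans (pmin_le_of_ne_top hP hM hSM le_sup_right hCtop)
    haveI : C.Normal := by
      rw [← normalizer_eq_top_iff, eq_top_iff, ← hKtop]
      have h1 : ∀ (A : Subgroup P), (∀ a ∈ A, ∀ c ∈ C, a * c * a⁻¹ ∈ C) → A ≤ normalizer (C : Set P) := by
        intro A hA a ha
        refine mem_normalizer_iff.2 fun c => ⟨hA a ha c, fun hc => ?_⟩
        have := hA a⁻¹ (inv_mem ha) _ hc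
        simpa [mul_assoc] using this
      exact sup_le (h1 K fun a ha c hc => hCK' c hc a ha) (h1 _ hCS)
    exact hLC.trans (normal_le_normalCore.2 hCM)

theorem pmin_subnormal_inf_le_pCore (hP : IsPMinimal p P) {S : Sylow p P} {M N : Subgroup P} (hM : IsCoatom M)
    (hSM : (S : Subgroup P) ≤ M) (hN : N.IsSubnormal) (hNM : N ≤ M) : N ⊓ (S : Subgroup P) ≤ pCore p P := by
  haveI := M.normalCore_normal
  exact (inf_le_inf_right _ (pmin_subnormal_le_normalCore hP hM hSM hN hNM)).trans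
    (pmin_normal_inf_le_pCore hP hM hSM (normalCore_le M))

end CfsgLib.Amalgam
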