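import Cfsg.Agent.Lib.Amalgam.FrakH
import Cfsg.Agent.Lib.Amalgam.PMinimal
import Cfsg.Agent.Lib.Comp.Components
import Cfsg.Agent.Lib.Comp.FStar
import Cfsg.Agent.Lib.Comp.Quasisimple
import Cfsg.Agent.Lib.Coprime.MaschkeAbelian
import Cfsg.Agent.Lib.Coprime.Sylow
import Cfsg.Agent.Lib.StructB.Kazarin
import Cfsg.Agent.Lib.Solvable.Frattini2
import Cfsg.Agent.Lib.Transfer.ClassTwo
import Cfsg.Agent.Lib.StructC.BurnsideBasis
import Cfsg.Agent.Lib.Amalgam.AsymmetricL
import Cfsg.Agent.Lib.Comp.PComponentEquiv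

/-!
An isolated `p`-minimal subgroup: generation by the minimal parabolic subgroups, and the normal
closure of its `O^p` modulo `O_p`.
-/

set_option autoImplicit false
set_option linter.unusedSectionVars false
set_option linter.style.haveILetI false

namespace CfsgLib.Amalgam.Isol

open Cfsg Subgroup
open scoped commutatorElement

variable {G : Type*} [Group G] [Finite G] {p : ℕ} [Fact p.Prime]

/-- A group with exactly one maximal subgroup over a non-normal Sylow subgroup is `p`-minimal. -/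
theorem isPMinimal_of_sylow {H : Type*} [Group H] [Finite H] (S : Sylow p H)
    (hn : ¬ (S : Subgroup H).Normal) (hu : ∀ M₁ M₂ : Subgroup H, IsCoatom M₁ → (S : Subgroup H) ≤ M₁ →
      IsCoatom M₂ → (S : Subgroup H) ≤ M₂ → M₁ = M₂) : IsPMinimal p H := by
  intro T
  have hne : (S : Subgroup H) ≠ ⊤ := fun h => hn (h ▸ inferInstance)
  obtain ⟨g, -, hg⟩ := (CfsgLib.Amalgam.isSylIn_top S).exists_conj (CfsgLib.Amalgam.isSylIn_top T)
  let e : H ≃* H := MulAut.conj g
  have hco : ∀ M : Subgroup H, IsCoatom M → IsCoatom (M.map e.toMonoidHom) := fun M hM => by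
    have h := (e.mapSubgroup).isCoatom_iff M
    exact h.2 hM
  have hback : ∀ M : Subgroup H, (M.map e.symm.toMonoidHom).map e.toMonoidHom = M := fun M => by
    rw [Subgroup.map_map, show e.toMonoidHom.comp e.symm.toMonoidHom = MonoidHom.id _ by ext x; simp,
      Subgroup.map_id]
  obtain ⟨M, hM, hSM⟩ := (eq_top_or_exists_le_coatom (S : Subgroup H)).resolve_left hne
  refine ⟨fun hT => hn ?_, M.map e.toMonoidHom, ⟨hco M hM, hg ▸ map_mono hSM⟩, ?_⟩
  · have : ((S : Subgroup H).map e.toMonoidHom).map e.symm.toMonoidHom = (S : Subgroup H) := by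
      rw [Subgroup.map_map, show e.symm.toMonoidHom.comp e.toMonoidHom = MonoidHom.id _ by ext x; simp,
        Subgroup.map_id]
    rw [← this, hg]
    exact hT.map _ e.symm.surjective
  · rintro N ⟨hN, hTN⟩
    have h1 : IsCoatom (N.map e.symm.toMonoidHom) := (e.symm.mapSubgroup.isCoatom_iff N).2 hN
    have h2 : (S : Subgroup H) ≤ N.map e.symm.toMonoidHom := fun s hs =>
      ⟨e s, hTN (hg ▸ mem_map_of_mem e.toMonoidHom hs), e.symm_apply_apply s⟩
    rw [hu M _ hM hSM h1 h2, hback]

/-- A group is generated by the normalizer of a Sylow subgroup and the `p`-minimal subgroups over it. -/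
theorem le_of_pMinimals (S : Sylow p G) {L : Subgroup G} : ∀ (n : ℕ) (X : Subgroup G), Nat.card X = n →
    (S : Subgroup G) ≤ X → X ⊓ normalizer ((S : Subgroup G) : Set G) ≤ L →
    (∀ P' : Subgroup G, (S : Subgroup G) ≤ P' → P' ≤ X → IsPMinimal p ↥P' → P' ≤ L) → X ≤ L := by
  intro n
  induction n using Nat.strong_induction_on with
  | _ n ih =>
    intro X hn hSX hN hP
    let S' : Sylow p X := S.subtype hSX
    have hS' : (S' : Subgroup X) = (S : Subgroup G).subgroupOf X := rfl
    by_cases hnor : (S' : Subgroup X).Normal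
    · refine le_trans (le_inf le_rfl ?_) hN
      exact (normal_subgroupOf_iff_le_normalizer hSX).1 hnor
    by_cases hu : ∀ M₁ M₂ : Subgroup X, IsCoatom M₁ → (S' : Subgroup X) ≤ M₁ →
        IsCoatom M₂ → (S' : Subgroup X) ≤ M₂ → M₁ = M₂
    · exact hP X hSX le_rfl (isPMinimal_of_sylow S' hnor hu)
    push Not at hu
    obtain ⟨M₁, M₂, h1, h1S, h2, h2S, hne⟩ := hu
    have key : ∀ M : Subgroup X, IsCoatom M → (S' : Subgroup X) ≤ M → M.map X.subtype ≤ L := by
      intro M hM hSM
      have hlt : M.map X.subtype < X := by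
        refine lt_of_le_of_ne (map_subtype_le M) fun h => hM.1 (Subgroup.map_injective X.subtype_injective ?_)
        rw [h, ← MonoidHom.range_eq_map, range_subtype]
      refine ih _ (hn ▸ Set.Finite.card_lt_card (Set.toFinite _) hlt) _ rfl ?_
        ((inf_le_inf_right _ hlt.le).trans hN) fun P' hS hP' hmin => hP P' hS (hP'.trans hlt.le) hmin
      exact fun s hs => ⟨⟨s, hSX hs⟩, hSM (mem_subgroupOf.2 hs), rfl⟩
    have htop : M₁ ⊔ M₂ = ⊤ := h1.2 _ (lt_of_le_of_ne le_sup_left fun h =>
      hne ((h2.le_iff.1 (h ▸ le_sup_right)).resolve_left h1.1))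
    rw [← range_subtype X, MonoidHom.range_eq_map, ← htop, Subgroup.map_sup]
    exact sup_le (key M₁ h1 h1S) (key M₂ h2 h2S)

/-! ### The quotient by `O_p` -/

/-- The configuration in `X = G / O_p(G)`: `A` the image of `O^p(P)`, `R` that of `O_p(L)`. -/
structure Data (p : ℕ) (S A L R : Subgroup G) : Prop where
  core : pCore p G = ⊥
  pS : IsPGroup p S
  pR : IsPGroup p R
  SL : S ≤ L
  RS : R ≤ S
  LR : L ≤ normalizer (R : Set G)
  dich : ∀ D : Subgroup G, S ≤ normalizer (D : Set G) → A ≤ D ∨ D ≤ L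
  notC : ¬ R ≤ centralizer (A : Set G)
  notL : ¬ A ≤ L
  SA : S ≤ normalizer (A : Set G)
  gen : normalClosure (A : Set G) ⊔ L = ⊤

variable {S A L R : Subgroup G} (d : Data p S A L R)
include d

/-- The normal closure of `A`. -/
abbrev clos (A : Subgroup G) : Subgroup G := normalClosure (A : Set G)

omit d in
theorem le_clos : A ≤ clos A := fun a ha => le_normalClosure ha

theorem Data.SN (N : Subgroup G) [N.Normal] : S ≤ normalizer (N : Set G) :=
  CfsgLib.Comp.le_normalizer_of_normal' N S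

theorem Data.normal_dichotomy (N : Subgroup G) [N.Normal] : clos A ≤ N ∨ N ≤ L :=
  (d.dich N (d.SN N)).imp (fun h => normalClosure_le_normal h) id

theorem Data.not_clos_le : ¬ clos A ≤ L := fun h => d.notL (le_clos.trans h)

theorem Data.normal_of_normalized {N : Subgroup G} (h1 : clos A ≤ normalizer (N : Set G))
    (h2 : L ≤ normalizer (N : Set G)) : N.Normal :=
  normalizer_eq_top_iff.1 (eq_top_iff.2 (d.gen.ge.trans (sup_le h1 h2)))

theorem Data.le_centralizer_R (N : Subgroup G) [N.Normal] (hN : N ≤ L) :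
    N ≤ centralizer (R : Set G) := by
  rw [← commutator_eq_bot_iff_le_centralizer]
  refine le_bot_iff.1 (le_trans ?_ d.core.le)
  have h1 : ⁅N, R⁆ ≤ N ⊓ R := le_inf
    (CfsgLib.Comp.commutator_le_of_le_normalizer (CfsgLib.Comp.le_normalizer_of_normal' N R))
    (by rw [Subgroup.commutator_comm]
        exact CfsgLib.Comp.commutator_le_of_le_normalizer (hN.trans d.LR))
  refine h1.trans ?_
  have h2 : N ⊓ R ≤ pCoreOf p N := le_pCoreOf inf_le_left
    ((le_inf le_normalizer (hN.trans d.LR)).trans inf_normalizer_le_normalizer_inf) (d.pR.to_le inf_le_right)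
  refine h2.trans (le_trans (pCoreOf_le_of_normal (H := (⊤ : Subgroup G)) le_top
    (CfsgLib.Comp.le_normalizer_of_normal' N ⊤)) ?_)
  rw [pCoreOf_top]

theorem Data.R_ne_bot : R ≠ ⊥ := fun h => d.notC (h ▸ bot_le)

/-- A normal subgroup in `L` is centralized by the normal closure of `A`. -/
theorem Data.clos_centralizes (N : Subgroup G) [N.Normal] (hN : N ≤ L) :
    clos A ≤ centralizer (N : Set G) := by
  haveI hC : (centralizer (N : Set G)).Normal := inferInstance
  refine (d.normal_dichotomy _).resolve_right fun hCL => d.R_ne_bot ?_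
  refine le_bot_iff.1 (le_trans ?_ d.core.le)
  have h : R ≤ centralizer (N : Set G) := le_centralizer_iff.1 (d.le_centralizer_R N hN)
  refine (le_pCoreOf h (hCL.trans d.LR) d.pR).trans
    ((pCoreOf_le_of_normal (H := (⊤ : Subgroup G)) le_top
      (CfsgLib.Comp.le_normalizer_of_normal' _ ⊤)).trans ?_)
  rw [pCoreOf_top]

theorem Data.commutator_cases : ⁅clos A, clos A⁆ = clos A ∨ ⁅clos A, clos A⁆ ≤ L :=
  (d.normal_dichotomy ⁅clos A, clos A⁆).imp
    (fun h => le_antisymm (Subgroup.commutator_le_self _) h) id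

theorem Data.clos_ne_bot : clos A ≠ ⊥ := fun h => d.not_clos_le (h ▸ bot_le)

/-! #### The nilpotent case -/

theorem Data.isNilpotent (hD : ⁅clos A, clos A⁆ ≤ L) : Group.IsNilpotent ↥(clos A) := by
  rw [isNilpotent_iff_lowerCentralSeries]
  refine ⟨2, ?_⟩
  have h := d.clos_centralizes ⁅clos A, clos A⁆ hD
  show ⁅⁅clos A, clos A⁆, clos A⁆ = ⊥
  rw [Subgroup.commutator_comm, commutator_eq_bot_iff_le_centralizer]
  exact h

theorem Data.class_le_two (hD : ⁅clos A, clos A⁆ ≤ L) [Group.IsNilpotent ↥(clos A)] :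
    Group.nilpotencyClass ↥(clos A) ≤ 2 := by
  rw [← Subgroup.lowerCentralSeries_eq_bot_iff_nilpotencyClass_le]
  refine Subgroup.map_injective (clos A).subtype_injective ?_
  have h := d.clos_centralizes ⁅clos A, clos A⁆ hD
  show Subgroup.map _ ⁅⁅(⊤ : Subgroup ↥(clos A)), ⊤⁆, ⊤⁆ = _
  rw [Subgroup.map_bot, Subgroup.map_commutator, Subgroup.map_commutator, ← MonoidHom.range_eq_map,
    range_subtype, Subgroup.commutator_comm, commutator_eq_bot_iff_le_centralizer]
  exact h

theorem Data.exists_prime (hD : ⁅clos A, clos A⁆ ≤ L) :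
    ∃ t : ℕ, t.Prime ∧ t ≠ p ∧ IsPGroup t ↥(clos A) := by
  haveI := d.isNilpotent hD
  set Y := clos A
  by_cases hall : ∀ (t : ℕ) [Fact t.Prime] (T : Sylow t Y), (T : Subgroup Y).map Y.subtype ≤ L
  · refine absurd ?_ d.not_clos_le
    have htop : ∀ q : Subgroup Y, (∀ (t : ℕ) [Fact t.Prime] (T : Sylow t Y), (T : Subgroup Y) ≤ q) →
        q = ⊤ := fun q hq => by
      refine eq_top_of_card_eq _ (Nat.dvd_antisymm (card_subgroup_dvd_card q) ?_)
      refine (Nat.dvd_iff_prime_pow_dvd_dvd _ _).2 fun t k ht hk => ?_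
      haveI := Fact.mk ht
      obtain ⟨T⟩ := (inferInstance : Nonempty (Sylow t Y))
      exact (T.pow_dvd_card_of_pow_dvd_card hk).trans (card_dvd_of_le (hq t T))
    intro y hy
    have := (htop (L.subgroupOf Y) fun t _ T x hx => mem_subgroupOf.2 (hall t T ⟨x, hx, rfl⟩)).ge
      (mem_top (⟨y, hy⟩ : Y))
    exact mem_subgroupOf.1 this
  push Not at hall
  obtain ⟨t, ht, T, hT⟩ := hall
  have hTn : (T : Subgroup Y).Normal := by
    have := (Group.isNilpotent_of_finite_tfae (G := Y)).out 0 3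
    exact this.1 inferInstance t ht T
  haveI : ((T : Subgroup Y).map Y.subtype).Normal := by
    haveI := Sylow.characteristic_of_normal T hTn
    exact ConjAct.normal_of_characteristic_of_normal
  have hY : Y ≤ (T : Subgroup Y).map Y.subtype := (d.normal_dichotomy _).resolve_right hT
  have hYt : IsPGroup t Y := (T.isPGroup'.map Y.subtype).to_le hY
  refine ⟨t, ht.out, ?_, hYt⟩
  rintro rfl
  exact d.clos_ne_bot (le_bot_iff.1 (d.core ▸ le_pCore inferInstance hYt))

/-- In the nilpotent case `A` is the normal closure. -/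
theorem Data.eq_clos (hD : ⁅clos A, clos A⁆ ≤ L) : A = clos A := by
  classical
  obtain ⟨t, ht, htp, hYt⟩ := d.exists_prime hD
  haveI := Fact.mk ht
  set Y := clos A with hYdef
  have hcop : ∀ {B : Subgroup G}, IsPGroup p B → (Nat.card B).Coprime (Nat.card Y) := by
    intro B hB
    obtain ⟨k, hk⟩ := hB.exists_card_eq
    obtain ⟨m, hm⟩ := hYt.exists_card_eq
    rw [hk, hm]
    exact Nat.Coprime.pow _ _ ((Nat.coprime_primes Fact.out ht).2 (Ne.symm htp))
  -- `Y = [Y, R]`
  have hsolvR : Group.IsSolvable R ∨ Group.IsSolvable Y := by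
    haveI := d.pR.isNilpotent; exact Or.inl inferInstance
  have hRn : R ≤ normalizer (Y : Set G) := CfsgLib.Comp.le_normalizer_of_normal' Y R
  have hYR : ⁅Y, R⁆ = Y := by
    haveI : (⁅Y, R⁆ : Subgroup G).Normal := d.normal_of_normalized
      (normalizer_commutator_ge_left Y R) (fun l hl => CfsgLib.PLocal.mem_normalizer_map_conj.2 (by
        rw [Subgroup.map_commutator, CfsgLib.Coprime.map_conj_of_mem_normalizer
          (CfsgLib.Comp.le_normalizer_of_normal' Y L hl), CfsgLib.Coprime.map_conj_of_mem_normalizer (d.LR hl)]))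
    refine le_antisymm (CfsgLib.Comp.commutator_le_of_le_normalizer hRn)
      ((d.normal_dichotomy _).resolve_right fun h => d.notC ?_)
    have h2 : ⁅⁅Y, R⁆, R⁆ = ⊥ := commutator_eq_bot_iff_le_centralizer.2 (d.le_centralizer_R _ h)
    rw [CfsgLib.Coprime.commutator_commutator_eq hRn (hcop d.pR) hsolvR,
      commutator_eq_bot_iff_le_centralizer] at h2
    exact (le_centralizer_iff.1 h2).trans (centralizer_le le_clos)
  -- `Y / C₀` is elementary abelian
  set C₀ := Y ⊓ L
  haveI hC₀n : C₀.Normal := d.normal_of_normalized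
    (fun y hy => AsymL.mem_normalizer_of_conj' fun c hc => mem_inf.2
      ⟨mul_mem (mul_mem hy (mem_inf.1 hc).1) (inv_mem hy), by
        rw [show y * c * y⁻¹ = ⁅y, c⁆ * c by rw [commutatorElement_def]; group]
        exact mul_mem (hD (commutator_mem_commutator hy (mem_inf.1 hc).1)) (mem_inf.1 hc).2⟩)
    ((le_inf (CfsgLib.Comp.le_normalizer_of_normal' Y L) le_normalizer).trans inf_normalizer_le_normalizer_inf)
  have hfr : (frattini ↥Y).map Y.subtype ≤ C₀ := by
    haveI : ((frattini ↥Y).map Y.subtype).Normal := ConjAct.normal_of_characteristic_of_normal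
    refine le_inf (map_subtype_le _) ((d.normal_dichotomy _).resolve_left fun h => ?_)
    haveI : Nontrivial ↥Y := (nontrivial_iff_ne_bot _).2 d.clos_ne_bot
    have hco : ∃ M : Subgroup ↥Y, IsCoatom M :=
      ((eq_top_or_exists_le_coatom (⊥ : Subgroup ↥Y)).resolve_left bot_ne_top).imp fun M h => h.1
    refine (ne_top_of_le_ne_top (?_ : (Classical.choose hco) ≠ ⊤)
      (frattini_le_coatom (Classical.choose_spec hco))) ?_
    · exact (Classical.choose_spec hco).1
    · refine Subgroup.map_injective Y.subtype_injective ?_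
      rw [← MonoidHom.range_eq_map, range_subtype]
      exact le_antisymm (map_subtype_le _) h
  set N := C₀.subgroupOf Y
  have hcomm : ∀ a b : ↥Y ⧸ N, a * b = b * a := by
    intro a b
    obtain ⟨a, rfl⟩ := QuotientGroup.mk'_surjective N a
    obtain ⟨b, rfl⟩ := QuotientGroup.mk'_surjective N b
    rw [← commutatorElement_eq_one_iff_mul_comm, ← map_commutatorElement]
    exact (QuotientGroup.eq_one_iff _).2 (mem_subgroupOf.2
      ⟨(⁅a, b⁆ : Y).2, hD (commutator_mem_commutator a.2 b.2)⟩)
  letI : CommGroup (↥Y ⧸ N) := { (inferInstance : Group (↥Y ⧸ N)) with mul_comm := hcomm }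
  have hSY : S ≤ normalizer (Y : Set G) := d.SN Y
  -- the action of `S`
  let φ : ↥S →* MulAut (↥Y ⧸ N) :=
    { toFun := fun s => QuotientGroup.congr N N (MulAut.conjNormal (s : G)) (by
        ext y
        constructor
        · rintro ⟨z, hz, rfl⟩
          exact mem_subgroupOf.2 (Subgroup.Normal.conj_mem inferInstance _ (mem_subgroupOf.1 hz) (s : G))
        · intro hy
          refine ⟨(MulAut.conjNormal (s : G)).symm y, mem_subgroupOf.2 ?_, (MulAut.conjNormal (s : G)).apply_symm_apply y⟩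
          rw [MulAut.conjNormal_symm_apply]
          have := Subgroup.Normal.conj_mem hC₀n _ (mem_subgroupOf.1 hy) (s : G)⁻¹
          rwa [inv_inv] at this)
      map_one' := by
        ext y
        obtain ⟨y, rfl⟩ := QuotientGroup.mk'_surjective N y
        simp
      map_mul' := fun s s' => by
        ext y
        obtain ⟨y, rfl⟩ := QuotientGroup.mk'_surjective N y
        simp }
  have hφ : ∀ (s : ↥S) (y : ↥Y), φ s (QuotientGroup.mk' N y) = QuotientGroup.mk' N (MulAut.conjNormal (s : G) y) :=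
    fun s y => rfl
  have hexp : ∀ v : ↥Y ⧸ N, v ^ t = 1 := by
    intro v
    obtain ⟨y, rfl⟩ := QuotientGroup.mk'_surjective N v
    rw [← map_pow]
    exact (QuotientGroup.eq_one_iff _).2 (mem_subgroupOf.2
      (hfr (mem_map_of_mem _ (CfsgLib.StructC.pow_mem_frattini hYt y))))
  set W : Subgroup (↥Y ⧸ N) := (A.subgroupOf Y).map (QuotientGroup.mk' N)
  have hcopS : (Nat.card S).Coprime t := by
    obtain ⟨k, hk⟩ := d.pS.exists_card_eq
    rw [hk]; exact ((Nat.coprime_primes Fact.out ht).2 (Ne.symm htp)).pow_left k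
  have hWi : ∀ s : ↥S, ∀ w ∈ W, φ s w ∈ W := by
    rintro s _ ⟨a, ha, rfl⟩
    rw [hφ]
    refine ⟨_, mem_subgroupOf.2 ?_, rfl⟩
    rw [MulAut.conjNormal_apply]
    exact (mem_normalizer_iff.1 (d.SA s.2) _).1 (mem_subgroupOf.1 ha)
  obtain ⟨U, -, hUW, hWU, hUi⟩ := CfsgLib.Coprime.exists_invariant_compl ht φ hcopS
    (T := ⊤) (W := W) (fun v _ => hexp v) le_top (fun _ _ _ => mem_top _) hWi
  -- the preimage of `U` lies in `L`
  set D := (U.comap (QuotientGroup.mk' N)).map Y.subtype
  have hSD : S ≤ normalizer (D : Set G) := fun s hs => AsymL.mem_normalizer_of_conj' (by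
    rintro _ ⟨y, hy, rfl⟩
    refine ⟨MulAut.conjNormal s y, mem_comap.2 ?_, MulAut.conjNormal_apply _ _⟩
    have := hUi ⟨s, hs⟩ _ (mem_comap.1 hy)
    rwa [hφ] at this)
  have hDL : D ≤ L := (d.dich D hSD).resolve_left fun hAD => d.notL ?_
  · have hU0 : U = ⊥ := by
      rw [eq_bot_iff]
      intro u hu
      obtain ⟨y, rfl⟩ := QuotientGroup.mk'_surjective N u
      exact (QuotientGroup.eq_one_iff _).2 (mem_subgroupOf.2 ⟨y.2, hDL ⟨y, hu, rfl⟩⟩)
    rw [hU0, sup_bot_eq] at hWU
    have hYA : Y ≤ A ⊔ C₀ := by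
      intro y hy
      obtain ⟨a, ha, e⟩ := hWU.ge (mem_top (QuotientGroup.mk' N ⟨y, hy⟩))
      rw [QuotientGroup.mk'_apply, QuotientGroup.mk'_apply, QuotientGroup.eq] at e
      rw [show y = (a : G) * ((a : G)⁻¹ * y) by group]
      exact mul_mem (mem_sup_left (mem_subgroupOf.1 ha)) (mem_sup_right (mem_subgroupOf.1 e))
    refine le_antisymm le_clos ?_
    rw [← hYR]
    rw [Subgroup.commutator_le]
    intro y hy r hr
    obtain ⟨a, ha, c, hc, rfl⟩ := CfsgLib.Comp.exists_mul_of_mem_sup
      ((le_centralizer_iff.1 (le_clos.trans (d.clos_centralizes C₀ inf_le_right))).trans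
        (CfsgLib.Comp.centralizer_le_normalizer A)) (hYA hy)
    have hcr : r * c = c * r := d.le_centralizer_R C₀ inf_le_right hc r hr
    have e : ⁅a * c, r⁆ = ⁅a, r⁆ := by
      rw [commutatorElement_def, commutatorElement_def]
      calc a * c * r * (a * c)⁻¹ * r⁻¹ = a * (c * r) * c⁻¹ * a⁻¹ * r⁻¹ := by group
        _ = _ := by rw [← hcr]; group
    rw [e]
    exact CfsgLib.Comp.commutator_le_of_le_normalizer (d.SA.trans' d.RS) (commutator_mem_commutator ha hr)
  · intro a ha
    obtain ⟨y, hy, rfl⟩ := hAD ha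
    have hmem : QuotientGroup.mk' N y ∈ U ⊓ W := mem_inf.2 ⟨hy, ⟨y, mem_subgroupOf.2 ha, rfl⟩⟩
    rw [hUW, mem_bot] at hmem
    exact (mem_subgroupOf.1 ((QuotientGroup.eq_one_iff _).1 hmem)).2

/-! #### The perfect case -/

theorem Data.layer_eq (hD : ⁅clos A, clos A⁆ = clos A) : layer ↥(clos A) = ⊤ := by
  set Y := clos A with hY
  haveI hP : Group.IsPerfect ↥Y := ⟨by
    rw [_root_.commutator_def]
    refine Subgroup.map_injective Y.subtype_injective ?_
    rw [Subgroup.map_commutator, ← MonoidHom.range_eq_map, range_subtype, hD]⟩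
  haveI : Nontrivial ↥Y := (nontrivial_iff_ne_bot _).2 d.clos_ne_bot
  have hna : ¬ IsMulCommutative ↥Y := Group.IsPerfect.not_isMulCommutative _
  have central : ∀ C : Subgroup ↥Y, C.Characteristic → C ≠ ⊤ → C ≤ center ↥Y := by
    intro C hC hne x hx
    haveI := hC
    haveI : (C.map Y.subtype).Normal := ConjAct.normal_of_characteristic_of_normal
    have hL : C.map Y.subtype ≤ L := (d.normal_dichotomy _).resolve_left fun h => hne
      (Subgroup.map_injective Y.subtype_injective (by
        rw [← MonoidHom.range_eq_map, range_subtype]; exact le_antisymm (map_subtype_le _) h))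
    rw [mem_center_iff]
    intro y
    exact Subtype.ext (d.clos_centralizes _ hL y.2 _ ⟨x, hx, rfl⟩).symm
  have hFit : fittingSubgroup ↥Y ≤ center ↥Y := by
    refine central _ (CfsgLib.Solvable.fittingSubgroup_characteristic _) fun h => ?_
    have := CfsgLib.Comp.isNilpotent_fittingSubgroup ↥Y
    rw [h] at this
    haveI : Group.IsNilpotent ↥Y := (Group.isNilpotent_congr Subgroup.topEquiv).1 this
    exact Group.IsPerfect.not_isSolvable ↥Y inferInstance
  have hlayc : (layer ↥Y).Characteristic :=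
    characteristic_iff_map_eq.2 fun e => CfsgLib.Comp.layer_map_equiv e
  refine CfsgLib.Comp.eq_top_of_sup_center_eq_top ?_
  by_contra hne
  refine hna (center_eq_top_iff.1 (eq_top_iff.2 ?_))
  have hF : generalizedFittingSubgroup ↥Y ≤ center ↥Y := by
    refine sup_le (central _ hlayc fun h => hne (by rw [h, top_sup_eq])) hFit
  intro y _
  exact hF (CfsgLib.Comp.centralizer_generalizedFitting_le _
    (fun f hf => mem_center_iff.1 (hF hf) y |>.symm))

theorem Data.clos_not_abelian (hD : ⁅clos A, clos A⁆ = clos A) : ¬ clos A ≤ centralizer (A : Set G) := by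
  intro h
  have h1 : clos A ≤ centralizer ((clos A : Subgroup G) : Set G) := by
    refine le_centralizer_iff.1 (normalClosure_le_normal (N := centralizer ((clos A : Subgroup G) : Set G)) ?_)
    exact le_centralizer_iff.1 h
  rw [← commutator_eq_bot_iff_le_centralizer, hD] at h1
  exact d.clos_ne_bot h1

theorem Data.sSup_components (hD : ⁅clos A, clos A⁆ = clos A) :
    sSup {K : Subgroup G | IsComponent K ∧ K ≤ clos A} = clos A := by
  have h := d.layer_eq hD
  have := CfsgLib.Comp.layer_map_subtype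
    (normalClosure_normal.isSubnormal : (clos A).IsSubnormal)
  rw [h, ← MonoidHom.range_eq_map, range_subtype] at this
  exact this.symm

/-- `S` is transitive on the components of the normal closure. -/
theorem Data.transitive (hD : ⁅clos A, clos A⁆ = clos A) {K₁ K₂ : Subgroup G} (h1 : IsComponent K₁)
    (h1Y : K₁ ≤ clos A) (h2 : IsComponent K₂) (h2Y : K₂ ≤ clos A) :
    ∃ s ∈ S, K₂ = K₁.map (MulAut.conj s).toMonoidHom := by
  classical
  set Y := clos A
  let orb : Subgroup G → Subgroup G := fun K => ⨆ s : S, K.map (MulAut.conj (s : G)).toMonoidHom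
  have horbS : ∀ K, S ≤ normalizer ((orb K : Subgroup G) : Set G) := by
    intro K s hs
    apply CfsgLib.PLocal.mem_normalizer_map_conj.2
    refine eq_of_le_of_card_ge ?_ (CfsgLib.Coprime.card_map_conj s _).ge
    rw [Subgroup.map_iSup]
    refine iSup_le fun u => ?_
    rw [CfsgLib.Coprime.map_conj_conj]
    exact le_iSup_of_le (⟨s, hs⟩ * u : S) le_rfl
  have hself : ∀ K, K ≤ orb K := fun K =>
    le_iSup_of_le (1 : S) (by rw [OneMemClass.coe_one, map_conj_one'])
  have hcomp : ∀ {K : Subgroup G}, IsComponent K → ∀ g : G, IsComponent (K.map (MulAut.conj g).toMonoidHom) :=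
    fun hK g => CfsgLib.Comp.isComponent_map_conj hK g
  have hconjY : ∀ {K : Subgroup G}, K ≤ Y → ∀ g : G, K.map (MulAut.conj g).toMonoidHom ≤ Y := fun hK g =>
    (map_mono hK).trans (CfsgLib.Coprime.map_conj_of_mem_normalizer
      (CfsgLib.Comp.le_normalizer_of_normal' Y ⊤ (mem_top g))).le
  -- components not conjugate under `S` generate commuting orbits
  have horth : ∀ {K K' : Subgroup G}, IsComponent K → IsComponent K' →
      (¬ ∃ s ∈ S, K' = K.map (MulAut.conj s).toMonoidHom) → orb K ≤ centralizer ((orb K' : Subgroup G) : Set G) := by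
    intro K K' hK hK' hne
    refine iSup_le fun s => le_centralizer_iff.1 (iSup_le fun u => ?_)
    refine le_centralizer_iff.1 ((CfsgLib.Comp.component_eq_or_le_centralizer (hcomp hK _) (hcomp hK' _)).resolve_left
      fun e => hne ⟨(u : G)⁻¹ * s, mul_mem (inv_mem u.2) s.2, ?_⟩)
    rw [← CfsgLib.Coprime.map_conj_conj, e, CfsgLib.Coprime.map_conj_conj, inv_mul_cancel, map_conj_one']
  -- the components outside `L` are conjugate under `S`
  have hbig : ∀ {K K' : Subgroup G}, IsComponent K → K ≤ Y → ¬ K ≤ L → IsComponent K' → K' ≤ Y → ¬ K' ≤ L →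
      ∃ s ∈ S, K' = K.map (MulAut.conj s).toMonoidHom := by
    intro K K' hK hKY hKL hK' hK'Y hK'L
    by_contra hne
    have hA1 : A ≤ orb K := (d.dich _ (horbS K)).resolve_right fun h => hKL ((hself K).trans h)
    have hA2 : A ≤ orb K' := (d.dich _ (horbS K')).resolve_right fun h => hK'L ((hself K').trans h)
    refine d.clos_not_abelian hD (le_centralizer_iff.1 ?_)
    refine le_centralizer_iff.1 ((d.sSup_components hD).ge.trans (sSup_le fun J hJ => le_centralizer_iff.1 ?_))
    by_cases hJK : ∃ s ∈ S, J = K.map (MulAut.conj s).toMonoidHom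
    · refine hA2.trans (le_centralizer_iff.1 (le_trans ?_ (horth hK hK' hne)))
      obtain ⟨s, hs, rfl⟩ := hJK
      exact le_iSup_of_le (⟨s, hs⟩ : S) le_rfl
    · exact hA1.trans ((horth hK hJ.1 hJK).trans (centralizer_le (hself J)))
  obtain ⟨K, hK, hKY, hKL⟩ : ∃ K, IsComponent K ∧ K ≤ Y ∧ ¬ K ≤ L := by
    by_contra hcon
    push Not at hcon
    exact d.not_clos_le ((d.sSup_components hD).ge.trans (sSup_le fun J hJ => hcon J hJ.1 hJ.2))
  -- the orbit of `K` is normal, hence everything
  have hsL : ∀ {s : G}, s ∈ S → ∀ {J : Subgroup G}, J.map (MulAut.conj s).toMonoidHom ≤ L → J ≤ L := by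
    intro s hs J h
    have := map_mono (f := (MulAut.conj s⁻¹).toMonoidHom) h
    rw [CfsgLib.Coprime.map_conj_conj, inv_mul_cancel, map_conj_one',
      CfsgLib.Coprime.map_conj_of_mem_normalizer (le_normalizer (inv_mem (d.SL hs)))] at this
    exact this
  haveI : (orb K).Normal := by
    refine d.normal_of_normalized ((d.sSup_components hD).ge.trans (sSup_le fun J hJ =>
      CfsgLib.Comp.le_normalizer_iSup _ fun s => (CfsgLib.Comp.le_layer hJ.1).trans
        (CfsgLib.Comp.layer_le_normalizer_component (hcomp hK _)))) fun l hl => ?_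
    apply CfsgLib.PLocal.mem_normalizer_map_conj.2
    refine eq_of_le_of_card_ge ?_ (CfsgLib.Coprime.card_map_conj l _).ge
    rw [Subgroup.map_iSup]
    refine iSup_le fun s => ?_
    rw [CfsgLib.Coprime.map_conj_conj]
    obtain ⟨u, hu, e⟩ := hbig hK hKY hKL (hcomp hK (l * s)) (hconjY hKY _) fun h => hKL (by
      refine hsL s.2 ?_
      have := map_mono (f := (MulAut.conj l⁻¹).toMonoidHom) h
      rwa [CfsgLib.Coprime.map_conj_conj, inv_mul_cancel_left,
        CfsgLib.Coprime.map_conj_of_mem_normalizer (le_normalizer (inv_mem hl))] at this)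
    exact le_iSup_of_le (⟨u, hu⟩ : S) e.le
  have hYorb : Y ≤ orb K :=
    (d.normal_dichotomy (orb K)).resolve_right fun h => hKL ((hself K).trans h)
  have hall : ∀ {J : Subgroup G}, IsComponent J → J ≤ Y → ∃ s ∈ S, J = K.map (MulAut.conj s).toMonoidHom := by
    intro J hJ hJY
    by_contra hne
    have h1 : J ≤ centralizer (J : Set G) :=
      (hJY.trans hYorb).trans ((horth hK hJ hne).trans (centralizer_le (hself J)))
    rw [← commutator_eq_bot_iff_le_centralizer, CfsgLib.Comp.commutator_self_of_isComponent hJ] at h1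
    haveI := CfsgLib.Comp.nontrivial_of_isQuasisimple hJ.2
    exact (nontrivial_iff_ne_bot _).1 inferInstance h1
  obtain ⟨a, ha, rfl⟩ := hall h1 h1Y
  obtain ⟨b, hb, rfl⟩ := hall h2 h2Y
  refine ⟨b * a⁻¹, mul_mem hb (inv_mem ha), ?_⟩
  rw [CfsgLib.Coprime.map_conj_conj, inv_mul_cancel_right]

/-- In the perfect case `p` divides the order of the normal closure. -/
theorem Data.dvd_card (hD : ⁅clos A, clos A⁆ = clos A) : p ∣ Nat.card ↥(clos A) := by
  classical
  by_contra hp
  set Y := clos A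
  haveI hYn : Y.Normal := normalClosure_normal
  have hcop : ∀ {B : Subgroup G}, IsPGroup p B → (Nat.card B).Coprime (Nat.card Y) := by
    intro B hB
    obtain ⟨k, hk⟩ := hB.exists_card_eq
    rw [hk]
    exact ((Nat.Prime.coprime_iff_not_dvd Fact.out).2 hp).pow_left k
  have hsolvS : Group.IsSolvable S ∨ Group.IsSolvable Y := by
    haveI := d.pS.isNilpotent; exact Or.inl inferInstance
  have hsyl : ∀ (t : ℕ) [Fact t.Prime], ∃ T : Sylow t Y,
      A ≤ (T : Subgroup Y).map Y.subtype ∨ (T : Subgroup Y).map Y.subtype ≤ L := fun t _ => by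
    obtain ⟨T, hT⟩ := CfsgLib.Coprime.exists_invariant_sylow (d.SN Y) (hcop d.pS) hsolvS t
    exact ⟨T, d.dich _ hT⟩
  -- the index of `Y ∩ L` is a power of one prime
  obtain ⟨r, hr, k, hk⟩ : ∃ r : ℕ, r.Prime ∧ ∃ k : ℕ, (Y ⊓ L).relIndex Y ∣ r ^ k := by
    by_cases hall : ∀ (t : ℕ) [Fact t.Prime] (T : Sylow t Y),
        A ≤ (T : Subgroup Y).map Y.subtype ∨ (T : Subgroup Y).map Y.subtype ≤ L →
        (T : Subgroup Y).map Y.subtype ≤ L
    · refine ⟨p, Fact.out, 0, ?_⟩
      rw [pow_zero, Nat.dvd_one, relIndex_eq_one]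
      intro y hy
      have htop : (Y ⊓ L).subgroupOf Y = ⊤ := by
        refine eq_top_of_card_eq _ (Nat.dvd_antisymm (card_subgroup_dvd_card _) ?_)
        refine (Nat.dvd_iff_prime_pow_dvd_dvd _ _).2 fun t k ht hk => ?_
        haveI := Fact.mk ht
        obtain ⟨T, hT⟩ := hsyl t
        exact (T.pow_dvd_card_of_pow_dvd_card hk).trans (card_dvd_of_le fun x hx =>
          mem_subgroupOf.2 ⟨x.2, hall t T hT ⟨x, hx, rfl⟩⟩)
      exact mem_subgroupOf.1 (htop.ge (mem_top (⟨y, hy⟩ : Y)))
    push Not at hall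
    obtain ⟨r, hr, T, hT, hTL⟩ := hall
    have hAT : A ≤ (T : Subgroup Y).map Y.subtype := hT.resolve_right hTL
    refine ⟨r, hr.out, (Nat.card Y).factorization r, ?_⟩
    refine (Nat.dvd_iff_prime_pow_dvd_dvd _ _).2 fun t k ht hk => ?_
    rcases Nat.eq_zero_or_pos k with rfl | hk0
    · simp
    haveI := Fact.mk ht
    by_cases htr : t = r
    · subst htr
      refine pow_dvd_pow _ ((Nat.Prime.pow_dvd_iff_le_factorization ht Nat.card_pos.ne').1 ?_)
      exact hk.trans (index_dvd_card ((Y ⊓ L).subgroupOf Y))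
    exfalso
    obtain ⟨T', hT'⟩ := hsyl t
    have hT'L : (T' : Subgroup Y).map Y.subtype ≤ L := hT'.elim (fun h => absurd (?_ : A ≤ L) d.notL) id
    · have h1 : (T' : Subgroup Y) ≤ (Y ⊓ L).subgroupOf Y := fun x hx =>
        mem_subgroupOf.2 ⟨x.2, hT'L ⟨x, hx, rfl⟩⟩
      exact T'.not_dvd_index ((dvd_pow_self t hk0.ne').trans (hk.trans (index_dvd_of_le h1)))
    · have h2 := IsPGroup.disjoint_of_ne r t (Ne.symm htr) _ _ (T.isPGroup'.map Y.subtype) (T'.isPGroup'.map Y.subtype)
      exact ((le_inf hAT h).trans (disjoint_iff.1 h2).le).trans bot_le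
  -- an element in the centre of `R`
  haveI := d.pR.isNilpotent
  haveI : Nontrivial R := (nontrivial_iff_ne_bot _).2 d.R_ne_bot
  obtain ⟨z, hz, hz1⟩ : ∃ z ∈ center R, z ≠ 1 := by
    haveI := d.pR.center_nontrivial
    obtain ⟨z, hz⟩ := exists_ne (1 : center R)
    exact ⟨z, z.2, fun e => hz (Subtype.ext e)⟩
  set Γ := Y ⊔ R
  have haΓ : (z : G) ∈ Γ := mem_sup_right z.2
  set a : Γ := ⟨z, haΓ⟩
  have hcent : (Y ⊓ L) ≤ centralizer (R : Set G) := by
    rw [← commutator_eq_bot_iff_le_centralizer]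
    refine le_bot_iff.1 ?_
    have h1 : ⁅Y ⊓ L, R⁆ ≤ Y ⊓ R := le_inf
      ((commutator_mono inf_le_left le_rfl).trans
        (CfsgLib.Comp.commutator_le_of_le_normalizer (CfsgLib.Comp.le_normalizer_of_normal' Y R)))
      (by rw [Subgroup.commutator_comm]
          exact CfsgLib.Comp.commutator_le_of_le_normalizer (inf_le_right.trans d.LR))
    refine h1.trans (le_of_eq ?_)
    rw [inf_comm]
    exact inf_eq_bot_of_coprime (hcop d.pR)
  have hidx : (centralizer ({a} : Set Γ)).index ∣ r ^ k := by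
    refine dvd_trans ?_ hk
    haveI : (Y.subgroupOf Γ).Normal := Subgroup.normal_subgroupOf
    have h1 : ((Y ⊓ L).subgroupOf Γ ⊔ R.subgroupOf Γ) ≤ centralizer ({a} : Set Γ) := by
      refine sup_le ?_ ?_ <;> intro x hx <;> rw [mem_centralizer_singleton_iff] <;> apply Subtype.ext
      · exact (hcent (mem_subgroupOf.1 hx) z z.2).symm
      · exact (congrArg Subtype.val (mem_center_iff.1 hz ⟨x, mem_subgroupOf.1 hx⟩) :)
    have htop : Y.subgroupOf Γ ⊔ centralizer ({a} : Set Γ) = ⊤ := by
      rw [eq_top_iff]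
      refine le_trans ?_ (sup_le_sup_left (le_sup_right.trans h1) _)
      rw [← subgroupOf_sup le_sup_left le_sup_right, subgroupOf_self]
    have h2 := CfsgLib.StructB.Kazarin.relIndex_sup_normal_eq (Y.subgroupOf Γ) (centralizer ({a} : Set Γ))
    rw [htop, relIndex_top_right] at h2
    rw [h2, ← relIndex_subgroupOf (le_sup_left : Y ≤ Γ)]
    exact relIndex_dvd_of_le_left _ (le_sup_left.trans h1)
  have hsolv := CfsgLib.StructB.Kazarin.isSolvable_normalClosure hr k _ Γ rfl a hidx
  -- its commutator with `Y` is a solvable normal subgroup of `Y`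
  set Na := (normalClosure ({a} : Set Γ)).map Γ.subtype
  haveI hNas : Group.IsSolvable Na := Group.isSolvable_of_surjective
    (f := Γ.subtype.subgroupMap (normalClosure ({a} : Set Γ))) (MonoidHom.subgroupMap_surjective _ _)
  have hNan : Γ ≤ normalizer (Na : Set G) := fun g hg => AsymL.mem_normalizer_of_conj' (by
    rintro _ ⟨x, hx, rfl⟩
    exact ⟨⟨g, hg⟩ * x * ⟨g, hg⟩⁻¹, normalClosure_normal.conj_mem x hx _, rfl⟩)
  have haN : (z : G) ∈ Na := ⟨a, subset_normalClosure rfl, rfl⟩
  haveI hYP : Group.IsPerfect ↥Y := ⟨by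
    rw [_root_.commutator_def]
    refine Subgroup.map_injective Y.subtype_injective ?_
    rw [Subgroup.map_commutator, ← MonoidHom.range_eq_map, range_subtype, hD]⟩
  have hYY : ⁅Y, Y⁆ = Y := hD
  have hcy : Y ≤ centralizer ((⁅Na, Y⁆ : Subgroup G) : Set G) := by
    haveI : Group.IsSolvable ((⁅Na, Y⁆ : Subgroup G).subgroupOf Y) :=
      Group.isSolvable_of_isSolvable_injective (f := ((Y.subtype.comp ((⁅Na, Y⁆ : Subgroup G).subgroupOf Y).subtype).codRestrict Na
        fun x => CfsgLib.Comp.commutator_le_of_le_normalizer (le_sup_left.trans hNan) (mem_subgroupOf.1 x.2)))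
        fun x y h => Subtype.ext (Subtype.ext (congrArg Subtype.val h :))
    haveI : ((⁅Na, Y⁆ : Subgroup G).subgroupOf Y).Normal :=
      normal_subgroupOf_of_le_normalizer (normalizer_commutator_ge_right Na Y)
    have h1 := CfsgLib.Comp.layer_le_centralizer_of_isSolvable
      (inferInstance : ((⁅Na, Y⁆ : Subgroup G).subgroupOf Y).Normal).isSubnormal inferInstance
    rw [d.layer_eq hD] at h1
    intro y hy n hn
    have hnY : n ∈ Y := by
      have := CfsgLib.Comp.commutator_le_of_le_normalizer (H := Y) (K := Na)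
        (CfsgLib.Comp.le_normalizer_of_normal' Y Na)
      rw [Subgroup.commutator_comm] at this
      exact this hn
    exact congrArg Subtype.val (h1 (mem_top (⟨y, hy⟩ : Y)) ⟨n, hnY⟩ (mem_subgroupOf.2 hn))
  have hNaC : ⁅Na, Y⁆ = ⊥ := CfsgLib.Comp.commutator_eq_bot_of_perfect hYY
    (commutator_eq_bot_iff_le_centralizer.2 (le_centralizer_iff.1 hcy))
  rw [commutator_eq_bot_iff_le_centralizer] at hNaC
  -- the centralizer of `Y` is a normal subgroup inside `L`
  haveI : (centralizer (Y : Set G)).Normal := inferInstance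
  have hCL : centralizer (Y : Set G) ≤ L := (d.normal_dichotomy _).resolve_left fun h =>
    d.clos_not_abelian hD (h.trans (centralizer_le le_clos))
  have hzC : (z : G) ∈ R ⊓ centralizer (Y : Set G) := mem_inf.2 ⟨z.2, hNaC haN⟩
  have h3 : R ⊓ centralizer (Y : Set G) ≤ ⊥ := by
    refine le_trans ?_ d.core.le
    refine (le_pCoreOf inf_le_right ((le_inf (hCL.trans d.LR) le_normalizer).trans
      inf_normalizer_le_normalizer_inf) (d.pR.to_le inf_le_left)).trans
      ((pCoreOf_le_of_normal (H := (⊤ : Subgroup G)) le_top (CfsgLib.Comp.le_normalizer_of_normal' _ ⊤)).trans ?_)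
    rw [pCoreOf_top]
  exact hz1 (Subtype.ext (mem_bot.1 (h3 hzC)))

end CfsgLib.Amalgam.Isol
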