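import Cfsg.Agent.Lib.Amalgam.JDegree
import Cfsg.Agent.Lib.PLocal.TransferReduce
import Cfsg.Agent.Lib.PLocal.ChiefBound
import Cfsg.Agent.Lib.Fusion.ThompsonQuad
import Cfsg.Agent.Lib.Transfer.PGroupNormal

/-!
# The abelian Thompson subgroup controls transfer for `p ≥ 7`
-/

set_option autoImplicit false

namespace CfsgLib.Amalgam.JTransfer

open Subgroup CfsgLib.PLocal
open scoped commutatorElement

universe u

variable {p : ℕ} [hp : Fact p.Prime]

/-- The functor `Q ↦ J(Q)`. -/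
abbrev JA : ∀ (Q : Type u) [Group Q], Subgroup Q := fun Q _ => Cfsg.thompsonSubgroupA Q

theorem JA_isCharPFunctor : Cfsg.IsCharPFunctor.{u} p JA := by
  refine ⟨fun Q _ _ hQ hnt => ?_, fun Q R _ _ _ _ φ => CfsgLib.Fusion.thompsonA_map Q R φ⟩
  intro h
  have h1 := CfsgLib.Fusion.center_le_thompsonA Q
  rw [show Cfsg.thompsonSubgroupA Q = ⊥ from h] at h1
  haveI := hnt
  haveI := hQ.center_nontrivial
  exact (nontrivial_iff_ne_bot _).1 ‹_› (le_bot_iff.1 h1)

theorem iter_mono_right {G : Type u} [Group G] {U K K' : Subgroup G} (h : K ≤ K') :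
    ∀ k, Cfsg.iterCommutator U K k ≤ Cfsg.iterCommutator U K' k
  | 0 => le_rfl
  | k + 1 => commutator_mono (iter_mono_right h k) h

variable {G : Type u} [Group G] [Finite G]

/-- If `J(T)` is not normal, an element of `T` outside `O_p(G)` acts with degree at most `6` on the
chief factors below `O_p(G)`. -/
theorem exists_sextic_element (T : Sylow p G)
    (hn : ¬ (Cfsg.thompsonSubgroupAOf (T : Subgroup G)).Normal) :
    ∃ g : G, g ∈ (T : Subgroup G) ∧ g ∉ Cfsg.pCore p G ∧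
      ∀ U V : Subgroup G, Cfsg.IsChiefFactor U V → U ≤ Cfsg.pCore p G →
        Cfsg.iterCommutator U (zpowers g) 6 ≤ V := by
  haveI := Cfsg.pCore_normal p G
  set Q := Cfsg.pCore p G with hQdef
  have hQp : IsPGroup p Q := CfsgLib.Solvable.pCore_isPGroup p
  have hQT : Q ≤ (T : Subgroup G) := CfsgLib.Solvable.pCore_le_sylow T
  have hex : ∃ A ∈ maxAbIn (T : Subgroup G), ¬ A ≤ Q := by
    by_contra! h
    refine hn ?_
    have hJ : Cfsg.thompsonSubgroupAOf (T : Subgroup G) ≤ Q := by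
      rw [thompsonAOf_eq]; exact sSup_le h
    rw [← thompsonAOf_eq_of_le hJ hQT, ← normalizer_eq_top_iff, eq_top_iff,
      ← normalizer_eq_top_iff.2 (inferInstance : Q.Normal)]
    exact normalizer_le_normalizer_thompsonAOf Q
  obtain ⟨H₀, hHc, hH1, hH2, hH3⟩ := CfsgLib.Transfer.exists_critical hQp
  set H := H₀.map Q.subtype with hHdef
  have hHQ : H ≤ Q := map_subtype_le H₀
  haveI hHn : H.Normal := by haveI := hHc; infer_instance
  have hcH : centreIn H = (centreIn H₀).map Q.subtype := map_centreIn Q.subtype_injective H₀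
  have hQH : ⁅Q, H⁆ ≤ H ⊓ centralizer (H : Set G) := by
    show ⁅Q, H⁆ ≤ centreIn H
    rw [hcH, commutator_comm, hHdef]
    conv_lhs => arg 2; rw [← (show (⊤ : Subgroup Q).map Q.subtype = Q by
      rw [← MonoidHom.range_eq_map, range_subtype])]
    rw [← Subgroup.map_commutator]
    exact map_mono hH2
  have hH4 : Q ⊓ centralizer (H : Set G) ≤ H := by
    intro x hx
    refine mem_map_of_mem Q.subtype (x := (⟨x, hx.1⟩ : Q)) (hH3 (mem_centralizer_iff.2 fun h hh => ?_))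
    exact Subtype.ext (mem_centralizer_iff.1 hx.2 _ (mem_map_of_mem Q.subtype hh))
  obtain ⟨A, ⟨hA, hAQ⟩, hmax⟩ := Set.exists_max_image
    {A : Subgroup G | A ∈ maxAbIn (T : Subgroup G) ∧ ¬ A ≤ Q} (fun A => Nat.card ↥(A ⊓ H))
    (Set.toFinite _) hex
  have c : JDeg.Cfg p (T : Subgroup G) Q H A :=
    ⟨T.2, inferInstance, hQT, hHn, hHQ, hQH, hA, hAQ, fun B h1 h2 => hmax B ⟨h1, h2⟩⟩
  obtain ⟨i, j, hj1, hji, hij, hi, hj⟩ := c.chief_degree
  obtain ⟨g, hg, hgQ⟩ := Set.not_subset.1 hAQ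
  refine ⟨g, hA.1 hg, hgQ, fun U V hUV hUQ => ?_⟩
  haveI := hUV.2.1
  refine (iterCommutator_antitone (JDeg.le_norm _ U) (show i + j - 1 ≤ 6 by omega)).trans ?_
  exact iterCommutator_le_of_critical hQp hHQ hQH hH4 g (by omega) hj1
    (fun U V h1 h2 => (iter_mono_right (zpowers_le.2 hg) i).trans (hi U V h1 h2))
    (fun U V h1 h2 => (iter_mono_right (zpowers_le.2 hg) j).trans (hj U V h1 h2)) U V hUV hUQ

/-- `N_G(J(S))` controls `p`-transfer in every section when `p ≥ 7`. -/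
theorem ctrlT_JA (h7 : 7 ≤ p) (X : Type u) [Group X] [Finite X] (hX : IsSec X G) :
    CtrlT p ({JA} : Set (∀ (Q : Type u) [Group Q], Subgroup Q)) X := by
  have hf1 : ∀ W ∈ ({JA} : Set (∀ (Q : Type u) [Group Q], Subgroup Q)),
      Cfsg.IsCharPFunctor.{u} p W := by rintro W rfl; exact JA_isCharPFunctor
  refine ctrlT_of_sections hf1 (Set.singleton_nonempty _) (fun K R _ hf => ?_) X hX
  obtain ⟨T⟩ : Nonempty (Sylow p (↥K ⧸ R.subgroupOf K)) := inferInstance
  by_cases hn : (Cfsg.thompsonSubgroupAOf (T : Subgroup (↥K ⧸ R.subgroupOf K))).Normal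
  · refine hf.fail ((ctrlT_iff hf1 T).2 ?_)
    simp only [transferJoin, Set.mem_singleton_iff, iSup_iSup_eq_left]
    rw [show Cfsg.inducedFunctor (G := ↥K ⧸ R.subgroupOf K) JA (T : Subgroup (↥K ⧸ R.subgroupOf K)) =
      Cfsg.thompsonSubgroupAOf (T : Subgroup (↥K ⧸ R.subgroupOf K)) from rfl,
      normalizer_eq_top_iff.2 hn, commutator_def]
  · obtain ⟨g, hgT, hgQ, hg⟩ := exists_sextic_element T hn
    obtain ⟨U, V, hUV, hUQ, hbad⟩ := hf.exists_chiefFactor T g hgT hgQ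
    haveI := hUV.2.1
    exact hbad ((iterCommutator_antitone (JDeg.le_norm _ U) (by omega : 6 ≤ p - 1)).trans
      (hg U V hUV hUQ))

/-- `S ∩ G' ≤ N_G(J(S))'` when `p ≥ 7`. -/
theorem inf_commutator_le (h7 : 7 ≤ p) (S : Sylow p G) :
    (S : Subgroup G) ⊓ commutator G ≤
      ⁅normalizer (Cfsg.thompsonSubgroupAOf (S : Subgroup G) : Set G),
        normalizer (Cfsg.thompsonSubgroupAOf (S : Subgroup G) : Set G)⁆ := by
  have hf1 : ∀ W ∈ ({JA} : Set (∀ (Q : Type u) [Group Q], Subgroup Q)),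
      Cfsg.IsCharPFunctor.{u} p W := by rintro W rfl; exact JA_isCharPFunctor
  have h := (ctrlT_iff hf1 S).1 (ctrlT_JA h7 G (isSec_self G))
  simp only [transferJoin, Set.mem_singleton_iff, iSup_iSup_eq_left] at h
  exact h.trans inf_le_right

end CfsgLib.Amalgam.JTransfer
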