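import Cfsg.Agent.Lib.Amalgam.WeakClosure
import Cfsg.Agent.Lib.Amalgam.PCoreOf
import Cfsg.Agent.Lib.Solvable.PCore
import Cfsg.Agent.Lib.Comp.Normalize

/-!
The `L`-Lemma.
-/

set_option autoImplicit false
set_option linter.unusedSectionVars false

namespace CfsgLib.Amalgam

open Cfsg Subgroup

variable {G : Type*} [Group G] [Finite G] {p : ℕ} [Fact p.Prime]

theorem pCoreOf_top' : pCoreOf p (⊤ : Subgroup G) = pCore p G :=
  CfsgLib.Solvable.map_pCore_equiv (Subgroup.topEquiv (G := G)) p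

/-- `L` admits the L-Lemma configuration relative to `A` and `M`. -/
def LGood (p : ℕ) (A M L : Subgroup G) : Prop :=
  pCore p G ≤ L ∧ ¬ L ≤ M ∧
    (∃ P, IsSylIn p L P ∧ P ≤ M ∧
      ∃ g : G, A.map (MulAut.conj g).toMonoidHom ≤ P ∧ ¬ A.map (MulAut.conj g).toMonoidHom ≤ pCoreOf p L) ∧
    ∀ P, IsSylIn p L P → P ≤ M → L ⊓ normalizer (weakClosure A P : Set G) ≤ M

/-- a normal `p`-subgroup lies in each Sylow subgroup. -/
theorem IsSylIn.pCoreOf_le {L P : Subgroup G} (hP : IsSylIn p L P) : pCoreOf p L ≤ P := by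
  have h := hP.eq_of_le (le_sup_left (b := pCoreOf p L))
    (sup_le hP.1 (CfsgLib.Amalgam.pCoreOf_le L))
    (hP.2.1.to_sup_of_normal_right' (isPGroup_pCoreOf L) (hP.1.trans (le_normalizer_pCoreOf L)))
  exact le_sup_right.trans h.le

/-- In a minimal good `L` the proper overgroups of suitable subgroups lie in `M`. -/
theorem LGood.exists_minimal {A M : Subgroup G} (hAp : IsPGroup p A) {L : Subgroup G}
    (hmin : ∀ X, X < L → ¬ LGood p A M X) (hL : LGood p A M L) :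
    ∀ X : Subgroup G, pCoreOf p L ≤ X → X < L →
      (∃ g : G, A.map (MulAut.conj g).toMonoidHom ≤ X ⊓ M ∧
        ¬ A.map (MulAut.conj g).toMonoidHom ≤ pCoreOf p L) → X ≤ M := by
  classical
  obtain ⟨hOL, hLM, ⟨P, hP, hPM, -⟩, hWL⟩ := hL
  set O := pCoreOf p L
  have hOn : L ≤ normalizer (O : Set G) := le_normalizer_pCoreOf L
  have hOM : O ≤ M := hP.pCoreOf_le.trans hPM
  have hPLM : IsSylIn p (L ⊓ M) P := hP.mono (le_inf hP.1 hPM) inf_le_left
  -- bad pairs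
  let Bad : Subgroup G × Subgroup G → Prop := fun a =>
    O ≤ a.2 ∧ a.2 ≤ a.1 ⊓ M ∧ IsPGroup p a.2 ∧ a.1 < L ∧ ¬ a.1 ≤ M ∧
      ∃ g : G, A.map (MulAut.conj g).toMonoidHom ≤ a.2 ∧ ¬ A.map (MulAut.conj g).toMonoidHom ≤ O
  intro X₀ hOX₀ hX₀L hg₀
  by_contra hX₀M
  obtain ⟨g₀, hg₀X, hg₀O⟩ := hg₀
  let key : Subgroup G × Subgroup G → ℕ := fun a =>
    Nat.card (weakClosure A a.2) * (Nat.card G + 1) + Nat.card a.2
  obtain ⟨⟨X, Q⟩, hbad, hmax⟩ := Set.Finite.exists_maximalFor key {a | Bad a} (Set.toFinite _)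
    ⟨(X₀, A.map (MulAut.conj g₀).toMonoidHom ⊔ O), le_sup_right,
      sup_le hg₀X (le_inf hOX₀ hOM),
      (hAp.map _).to_sup_of_normal_right' (isPGroup_pCoreOf L)
        ((hg₀X.trans (inf_le_left.trans hX₀L.le)).trans hOn),
      hX₀L, hX₀M, g₀, le_sup_left, hg₀O⟩
  obtain ⟨hOQ, hQXM, hQp, hXL, hXM, g₁, hg₁Q, hg₁O⟩ := hbad
  dsimp only at hOQ hQXM hQp hXL hXM hg₁Q
  have hmax' : ∀ X' Q', Bad (X', Q') → weakClosure A Q ≤ weakClosure A Q' →
      weakClosure A Q = weakClosure A Q' ∧ (Q ≤ Q' → Q = Q') := by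
    intro X' Q' hb hW
    have h1 := card_le_of_le hW
    have h2 : Nat.card Q ≤ Nat.card G := card_le_card_group Q
    have hWe : weakClosure A Q = weakClosure A Q' := by
      refine eq_of_le_of_card_ge hW ?_
      by_contra h
      have h3 : key (X, Q) ≤ key (X', Q') := by
        show _ * _ + _ ≤ _ * _ + _
        nlinarith [Nat.card_pos (α := Q')]
      have h4 := hmax hb h3
      have h5 : (Nat.card (weakClosure A Q) + 1) * (Nat.card G + 1) ≤
          Nat.card (weakClosure A Q') * (Nat.card G + 1) := Nat.mul_le_mul_right _ (by omega)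
      simp only [key] at h4
      nlinarith [Nat.card_pos (α := Q')]
    refine ⟨hWe, fun hQQ => eq_of_le_of_card_ge hQQ ?_⟩
    have h3 : key (X, Q) ≤ key (X', Q') := by
      simp only [key, ← hWe]; exact Nat.add_le_add_left (card_le_of_le hQQ) _
    have h4 := hmax hb h3
    simp only [key, ← hWe] at h4
    omega
  -- maximal in `X ⊓ M`
  have hQXMs : IsSylIn p (X ⊓ M) Q := by
    obtain ⟨Q1, hQ1, hQQ1⟩ := exists_isSylIn_ge hQp hQXM
    have hb : Bad (X, Q1) :=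
      ⟨hOQ.trans hQQ1, hQ1.1, hQ1.2.1, hXL, hXM, g₁, hg₁Q.trans hQQ1, hg₁O⟩
    rwa [(hmax' X Q1 hb (weakClosure_mono hQQ1)).2 hQQ1]
  obtain ⟨P1, hP1, hQP1⟩ := exists_isSylIn_ge hQp (hQXM.trans (inf_le_inf_right M hXL.le))
  have hP1L : IsSylIn p L P1 := hP.of_le (le_inf hP.1 hPM) inf_le_left hP1
  have hP1M : P1 ≤ M := hP1.1.trans inf_le_right
  have hnotn : ∀ R : Subgroup G, IsPGroup p R → R ≤ L → A.map (MulAut.conj g₁).toMonoidHom ≤ R →
      L ⊓ normalizer (R : Set G) < L := fun R hR hRL hg => lt_of_le_not_ge inf_le_left fun h =>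
    hg₁O (hg.trans (le_pCoreOf hRL (h.trans inf_le_right) hR))
  -- Sylow in `X`
  have hQX : IsSylIn p X Q := by
    obtain ⟨Q2, hQ2, hQQ2⟩ := exists_isSylIn_ge hQp (hQXM.trans inf_le_left)
    by_cases he : Q = Q2
    · rwa [← he] at hQ2
    exfalso
    obtain ⟨y, hy2, hyN, hyQ⟩ :=
      CfsgLib.Transfer.exists_mem_normalizer_not_mem hQ2.2.1 (lt_of_le_of_ne hQQ2 he)
    have hyM : y ∉ M := fun hyM => hyQ (by
      have h := hQXMs.eq_of_le (le_sup_left (b := zpowers y))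
        (sup_le hQXM (zpowers_le.2 (mem_inf.2 ⟨hQ2.1 hy2, hyM⟩)))
        (hQ2.2.1.to_le (sup_le hQQ2 (zpowers_le.2 hy2)))
      exact h.le (mem_sup_right (mem_zpowers y)))
    have hne : Q ≠ P1 := fun e => he (((e ▸ hP1L : IsSylIn p L Q)).eq_of_le hQQ2
      (hQ2.1.trans hXL.le) hQ2.2.1).symm
    obtain ⟨z, hz1, hzN, hzQ⟩ :=
      CfsgLib.Transfer.exists_mem_normalizer_not_mem hP1.2.1 (lt_of_le_of_ne hQP1 hne)
    have hb : Bad (L ⊓ normalizer (Q : Set G), P1 ⊓ normalizer (Q : Set G)) :=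
      ⟨hOQ.trans (le_inf hQP1 le_normalizer),
        le_inf (inf_le_inf_right _ (hP1L.1)) (inf_le_left.trans hP1M),
        hP1.2.1.to_le inf_le_left, hnotn Q hQp (hP1L.1.trans' hQP1) hg₁Q,
        fun h => hyM (h (mem_inf.2 ⟨hXL.le (hQ2.1 hy2), hyN⟩)),
        g₁, hg₁Q.trans (le_inf hQP1 le_normalizer), hg₁O⟩
    have hle : Q ≤ P1 ⊓ normalizer (Q : Set G) := le_inf hQP1 le_normalizer
    exact hzQ (((hmax' _ _ hb (weakClosure_mono hle)).2 hle).ge (mem_inf.2 ⟨hz1, hzN⟩))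
  -- the normalizer of the weak closure
  set R := weakClosure A Q with hR
  have hgR : A.map (MulAut.conj g₁).toMonoidHom ≤ R := conj_le_weakClosure hg₁Q
  have hXR : X ⊓ normalizer (R : Set G) ≤ M := by
    by_contra hne
    obtain ⟨y, hy, hyM⟩ := SetLike.not_le_iff_exists.1 hne
    rcases (weakClosure_mono hQP1 : R ≤ weakClosure A P1).lt_or_eq with hlt | heq
    · obtain ⟨g, hg, hgR'⟩ := exists_conj_normalizing hP1.2.1 hlt
      have hQN : Q ≤ normalizer (R : Set G) :=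
        le_normalizer.trans (normalizer_le_normalizer_weakClosure A Q)
      have hb : Bad (L ⊓ normalizer (R : Set G), P1 ⊓ normalizer (R : Set G)) :=
        ⟨hOQ.trans (le_inf hQP1 hQN), le_inf (inf_le_inf_right _ hP1L.1) (inf_le_left.trans hP1M),
          hP1.2.1.to_le inf_le_left,
          hnotn R (hQp.to_le (weakClosure_le A Q)) ((weakClosure_le A Q).trans (hQP1.trans hP1L.1)) hgR,
          fun h => hyM (h (mem_inf.2 ⟨hXL.le hy.1, hy.2⟩)),
          g₁, hg₁Q.trans (le_inf hQP1 hQN), hg₁O⟩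
      have hW := (hmax' _ _ hb (weakClosure_mono (le_inf hQP1 hQN))).1
      exact hgR' ((conj_le_weakClosure hg).trans hW.ge)
    · exact hyM (hWL P1 hP1L hP1M (mem_inf.2 ⟨hXL.le hy.1, heq ▸ hy.2⟩))
  refine hmin X hXL ⟨?_, hXM, ⟨Q, hQX, hQXM.trans inf_le_right, ?_⟩, ?_⟩
  · refine le_trans ?_ (hOQ.trans (hQXM.trans inf_le_left))
    have := CfsgLib.Solvable.pCore_normal p G
    exact le_pCoreOf hOL (CfsgLib.Comp.le_normalizer_of_normal' (pCore p G) L)
      (CfsgLib.Solvable.pCore_isPGroup p)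
  · by_contra hall
    refine hXM (le_trans (le_inf le_rfl ?_) hXR)
    have hRO : R = weakClosure A (pCoreOf p X) := le_antisymm
      (iSup_le fun g => conj_le_weakClosure (by
        by_contra h
        exact hall ⟨g, g.2, h⟩))
      (weakClosure_mono hQX.pCoreOf_le)
    rw [hRO]
    exact (le_normalizer_pCoreOf X).trans (normalizer_le_normalizer_weakClosure A _)
  · intro Q' hQ' hQ'M n hn
    obtain ⟨l, hl, rfl⟩ := hQXMs.exists_conj (hQ'.mono (le_inf hQ'.1 hQ'M) inf_le_left)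
    have h1 : l⁻¹ * n * l ∈ X ⊓ normalizer (R : Set G) := by
      refine mem_inf.2 ⟨mul_mem (mul_mem (inv_mem (mem_inf.1 hl).1) (mem_inf.1 hn).1) (mem_inf.1 hl).1, ?_⟩
      apply CfsgLib.PLocal.mem_normalizer_map_conj.2
      have h2 := CfsgLib.Coprime.map_conj_of_mem_normalizer hn.2
      rw [← map_weakClosure_conj] at h2
      rw [← CfsgLib.Coprime.map_conj_conj, ← CfsgLib.Coprime.map_conj_conj, hR, h2,
        CfsgLib.Coprime.map_conj_conj, inv_mul_cancel]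
      ext x; rw [CfsgLib.Coprime.mem_map_conj]; simp
    have := mul_mem (mul_mem (mem_inf.1 hl).2 (hXR h1)) (inv_mem (mem_inf.1 hl).2)
    simpa [mul_assoc] using this

/-- The L-Lemma for some conjugate of `A`. -/
theorem exists_lLemma {A M : Subgroup G} (hAp : IsPGroup p A) (hH : LGood p A M ⊤) :
    ∃ L : Subgroup G, ∃ g : G, pCore p G ≤ L ∧
      A.map (MulAut.conj g).toMonoidHom ⊔ pCoreOf p L ≤ L ⊓ M ∧ L ⊓ M < L ∧
      (∀ X : Subgroup G, A.map (MulAut.conj g).toMonoidHom ⊔ pCoreOf p L ≤ X → X < L → X ≤ L ⊓ M) ∧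
      ∀ x ∈ L, x ∉ L ⊓ M → (A.map (MulAut.conj g).toMonoidHom ⊔
        (A.map (MulAut.conj g).toMonoidHom).map (MulAut.conj x).toMonoidHom) ⊔ pCoreOf p L = L := by
  obtain ⟨L, hL, hmin⟩ := Set.Finite.exists_minimalFor id {L : Subgroup G | LGood p A M L}
    (Set.toFinite _) ⟨⊤, hH⟩
  have hprop := LGood.exists_minimal hAp (fun X hX h => hX.not_ge (hmin h hX.le)) hL
  obtain ⟨hOL, hLM, ⟨P, hP, hPM, g, hgP, hgO⟩, hWL⟩ := hL
  set B := A.map (MulAut.conj g).toMonoidHom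
  set O := pCoreOf p L
  have hB : B ⊔ O ≤ L ⊓ M :=
    (sup_le hgP hP.pCoreOf_le).trans (le_inf hP.1 hPM)
  have hX : ∀ X : Subgroup G, B ⊔ O ≤ X → X < L → X ≤ L ⊓ M := fun X hX hXL =>
    le_inf hXL.le (hprop X (le_sup_right.trans hX) hXL
      ⟨g, le_inf (le_sup_left.trans hX) (hgP.trans hPM), hgO⟩)
  refine ⟨L, g, hOL, hB, lt_of_le_not_ge inf_le_left fun h => hLM (h.trans inf_le_right), hX, ?_⟩
  intro x hx hxM
  set Bx := B.map (MulAut.conj x).toMonoidHom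
  set U := (B ⊔ Bx) ⊔ O
  have hUL : U ≤ L := by
    refine sup_le (sup_le (hgP.trans hP.1) ?_) (pCoreOf_le L)
    rintro _ ⟨b, hb, rfl⟩
    exact mul_mem (mul_mem hx (hP.1 (hgP hb))) (inv_mem hx)
  by_contra hne
  have hU0 : U ≤ L ⊓ M :=
    hX U (sup_le (le_sup_left.trans le_sup_left) le_sup_right) (lt_of_le_of_ne hUL hne)
  set L0 := L ⊓ M
  set L0x := L0.map (MulAut.conj x⁻¹).toMonoidHom
  have hxn : ∀ y : Subgroup G, y ≤ L → y.map (MulAut.conj x⁻¹).toMonoidHom ≤ L := by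
    rintro y hy _ ⟨b, hb, rfl⟩
    exact mul_mem (mul_mem (inv_mem hx) (hy hb)) (inv_mem (inv_mem hx))
  have h1 : L0x ≤ L0 := by
    refine hX L0x (sup_le ?_ ?_) ?_
    · intro b hb
      refine ⟨x * b * x⁻¹, hU0 (mem_sup_left (mem_sup_right ⟨b, hb, rfl⟩)), ?_⟩
      simp [mul_assoc]
    · refine le_trans ?_ (map_mono (le_sup_right.trans hB))
      rw [CfsgLib.Coprime.map_conj_of_mem_normalizer ((le_normalizer_pCoreOf L) (inv_mem hx))]
    · refine lt_of_le_of_ne (hxn _ inf_le_left) fun e => ?_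
      have := card_le_of_le e.ge
      rw [CfsgLib.Coprime.card_map_conj] at this
      exact hLM ((eq_of_le_of_card_ge inf_le_left this).ge.trans inf_le_right)
  have hPx : IsSylIn p L0 (P.map (MulAut.conj x⁻¹).toMonoidHom) :=
    ⟨(map_mono (le_inf hP.1 hPM)).trans h1, hP.2.1.map _, by
      rw [CfsgLib.Coprime.card_map_conj, (hP.mono (le_inf hP.1 hPM) inf_le_left).2.2]⟩
  obtain ⟨l, hl, hlP⟩ := (hP.mono (le_inf hP.1 hPM) inf_le_left).exists_conj hPx
  have hn : x * l ∈ L ⊓ normalizer (P : Set G) := by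
    refine mem_inf.2 ⟨mul_mem hx hl.1, CfsgLib.PLocal.mem_normalizer_map_conj.2 ?_⟩
    rw [← CfsgLib.Coprime.map_conj_conj, hlP, CfsgLib.Coprime.map_conj_conj, mul_inv_cancel]
    ext y; rw [CfsgLib.Coprime.mem_map_conj]; simp
  have hM' : x * l ∈ M :=
    hWL P hP hPM (mem_inf.2 ⟨hn.1, normalizer_le_normalizer_weakClosure A P hn.2⟩)
  exact hxM (mem_inf.2 ⟨hx, by simpa using mul_mem hM' (inv_mem hl.2)⟩)

end CfsgLib.Amalgam
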