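import Cfsg.Agent.Lib.Amalgam.AsymmetricL
import Cfsg.Agent.Lib.Amalgam.FrakH
import Cfsg.Agent.Lib.Comp.Quasisimple

/-!
A normal subgroup generated by `p`-groups and centralized by `C` modulo `O_p`, over a quasisimple
`O^p` of the `C`-quotient: its `O^p` is quasisimple modulo `O_p`.
-/

set_option autoImplicit false
set_option linter.unusedSectionVars false

namespace CfsgLib.Amalgam.LargeQs

open Cfsg Subgroup
open scoped commutatorElement

variable {X : Type*} [Group X] [Finite X] {p : ℕ} [Fact p.Prime]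

/-- The hypotheses: `W` is the weak closure, `E` its `O^p`. -/
structure Data (p : ℕ) (C W E : Subgroup X) : Prop where
  nC : C.Normal
  nW : W.Normal
  le : E ≤ W
  mem : ∀ x ∈ W, (orderOf x).Coprime p → x ∈ E
  gen : ∀ K : Subgroup X, (∀ x ∈ W, (orderOf x).Coprime p → x ∈ K) → E ≤ K
  genp : ∀ K : Subgroup X, (∀ P : Subgroup X, IsPGroup p P → P ≤ W → P ≤ K) → W ≤ K
  notC : ¬ W ≤ C
  cen : ⁅C, W⁆ ≤ pCore p X

variable {C W E : Subgroup X} (d : Data p C W E)
include d

theorem Data.normal : E.Normal := ⟨fun x hx g => by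
  haveI := d.nW
  have h : E ≤ E.comap (MulAut.conj g).toMonoidHom := d.gen _ fun y hy hyp =>
    mem_comap.2 (d.mem _ (d.nW.conj_mem y hy g) (by
      rwa [orderOf_injective (MulAut.conj g).toMonoidHom (MulAut.conj g).injective]))
  exact h hx⟩

theorem Data.eq_of_le_sup {N P : Subgroup X} (hNE : N ≤ E) (hP : IsPGroup p P)
    (hn : P ≤ normalizer (N : Set X)) (h : E ≤ N ⊔ P) : N = E :=
  le_antisymm hNE (d.gen _ fun x hx hxp => mem_of_coprime_sup hn hP (h (d.mem x hx hxp)) hxp)

theorem Data.central_mod : ⁅E ⊓ C, W⁆ ≤ E ⊓ pCore p X := by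
  haveI := d.normal
  refine le_inf ((commutator_mono inf_le_left le_rfl).trans ?_) ((commutator_mono inf_le_right le_rfl).trans d.cen)
  exact CfsgLib.Comp.commutator_le_of_le_normalizer (by rw [normalizer_eq_top_iff.2 d.normal]; exact le_top)

section Quot

variable [hC : C.Normal]

/-- The image of `O^p(X)`. -/
abbrev resBar (p : ℕ) (C : Subgroup X) [C.Normal] : Subgroup (X ⧸ C) :=
  (pResidual p X).map (QuotientGroup.mk' C)

variable (hred : pCore p (X ⧸ C) = ⊥) (hqs : IsQuasisimple ↥(resBar p C))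
include hred hqs

omit d in
theorem resBar_perfect : ⁅resBar p C, resBar p C⁆ = resBar p C := by
  haveI := hqs.1
  have h := Group.IsPerfect.commutator_eq_top (G := ↥(resBar p C))
  rw [_root_.commutator_def] at h
  have := congrArg (Subgroup.map (resBar p C).subtype) h
  rwa [Subgroup.map_commutator, ← MonoidHom.range_eq_map, range_subtype] at this

omit d in
theorem resBar_normal : (resBar p C).Normal :=
  (CfsgLib.Transfer.pResidual_normal).map _ (QuotientGroup.mk'_surjective _)

omit d in
theorem eq_bot_of_centralizes {P : Subgroup (X ⧸ C)} (hP : IsPGroup p P)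
    (hPR : P ≤ centralizer (resBar p C : Set (X ⧸ C))) : P = ⊥ := by
  haveI := resBar_normal hred hqs
  set R := resBar p C
  set Z := centralizer (R : Set (X ⧸ C))
  obtain ⟨S, hS, hPS⟩ := exists_isSylIn_ge hP hPR
  have hmod : PMod p R Z := fun x _ => by
    obtain ⟨y, rfl⟩ := QuotientGroup.mk'_surjective C x
    obtain ⟨k, hk⟩ := CfsgLib.Transfer.pResidual_index_eq_pow (p := p) (G := X)
    haveI := CfsgLib.Transfer.pResidual_normal (G := X) (p := p)
    exact ⟨k, by rw [← hk, ← map_pow]; exact ⟨_, Subgroup.pow_index_mem _ y, rfl⟩⟩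
  have hcov := pMod_cover (CfsgLib.Comp.le_normalizer_of_normal' R Z) hmod hS
  have hSn : Z ≤ normalizer (S : Set (X ⧸ C)) := hcov.trans (sup_le
    ((inf_le_left : R ⊓ Z ≤ R).trans ((le_centralizer_iff.1 hS.1).trans (centralizer_le_normalizer _)))
    le_normalizer)
  refine le_bot_iff.1 (hPS.trans (le_trans ?_ hred.le))
  haveI : Z.Normal := inferInstance
  refine le_pCore (CfsgLib.Comp.normal_of_top_le_normalizer fun x _ =>
    CfsgLib.PLocal.mem_normalizer_map_conj.2 ?_) hS.2.1
  refine eq_of_le_of_card_ge ?_ (CfsgLib.Coprime.card_map_conj x S).ge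
  have h1 : S.map (MulAut.conj x).toMonoidHom ≤ Z := by
    rintro _ ⟨s, hs, rfl⟩
    exact Subgroup.Normal.conj_mem inferInstance s (hS.1 hs) x
  exact le_sup_left.trans (hS.eq_of_le le_sup_right (sup_le h1 hS.1)
    ((hS.2.1.map _).to_sup_of_normal_right' hS.2.1 (h1.trans hSn))).le

omit d in
theorem commutator_eq_resBar {A : Subgroup (X ⧸ C)}
    (hA : ¬ A ≤ centralizer (resBar p C : Set (X ⧸ C))) : ⁅A, resBar p C⁆ = resBar p C := by
  haveI := resBar_normal hred hqs
  set R := resBar p C
  have hle : ⁅A, R⁆ ≤ R := by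
    rw [Subgroup.commutator_comm]
    exact CfsgLib.Comp.commutator_le_of_le_normalizer (CfsgLib.Comp.le_normalizer_of_normal' R A)
  haveI : ((⁅A, R⁆ : Subgroup _).subgroupOf R).Normal :=
    normal_subgroupOf_of_le_normalizer (normalizer_commutator_ge_right A R)
  rcases CfsgLib.Comp.normal_eq_top_or_le_center hqs ((⁅A, R⁆ : Subgroup _).subgroupOf R) with h | h
  · exact le_antisymm hle (subgroupOf_eq_top.1 h)
  · exfalso
    refine hA (commutator_eq_bot_iff_le_centralizer.1
      (CfsgLib.Comp.commutator_eq_bot_of_perfect (resBar_perfect hred hqs) ?_))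
    rw [commutator_eq_bot_iff_le_centralizer]
    intro z hz r hr
    exact congrArg Subtype.val (mem_center_iff.1 (h (x := (⟨z, hle hz⟩ : R)) (mem_subgroupOf.2 hz)) ⟨r, hr⟩)

theorem Data.map_eq : E.map (QuotientGroup.mk' C) = resBar p C := by
  haveI := resBar_normal hred hqs
  haveI := d.nW
  haveI := d.normal
  set π := QuotientGroup.mk' C
  set R := resBar p C
  haveI hWn : (W.map π).Normal := d.nW.map π (QuotientGroup.mk'_surjective _)
  refine le_antisymm (map_mono (d.gen _ fun x _ hxp => CfsgLib.Transfer.mem_pResidual_of_coprime hxp)) ?_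
  have hW : ¬ W.map π ≤ centralizer (R : Set (X ⧸ C)) := by
    intro h
    refine d.notC (d.genp C fun P hP hPW => ?_)
    have h0 := eq_bot_of_centralizes hred hqs (hP.map π) ((map_mono hPW).trans h)
    rwa [Subgroup.map_eq_bot_iff, QuotientGroup.ker_mk'] at h0
  have hRW : R ≤ W.map π := by
    refine (commutator_eq_resBar hred hqs hW).ge.trans ?_
    exact CfsgLib.Comp.commutator_le_of_le_normalizer (CfsgLib.Comp.le_normalizer_of_normal' _ _)
  obtain ⟨S, hS⟩ := exists_isSylIn (p := p) W
  have hcov : W ≤ E ⊔ S := by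
    refine (pMod_cover (p := p) (C := E) (CfsgLib.Comp.le_normalizer_of_normal' E W) (fun x hx => ?_) hS).trans
      (sup_le_sup_right inf_le_left _)
    obtain ⟨k, m, hm, hkm⟩ := Nat.exists_eq_pow_mul_and_not_dvd (orderOf_pos x).ne' p (Fact.out : p.Prime).ne_one
    refine ⟨k, d.mem _ (pow_mem hx _) ?_⟩
    rw [orderOf_pow, hkm, Nat.gcd_eq_right (Dvd.intro m rfl),
      Nat.mul_div_cancel_left _ (pow_pos (Fact.out : p.Prime).pos _)]
    exact ((Fact.out : p.Prime).coprime_iff_not_dvd.2 hm).symm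
  have h1 : R ≤ E.map π ⊔ S.map π := by
    rw [← Subgroup.map_sup]; exact hRW.trans (map_mono hcov)
  haveI : (E.map π).Normal := d.normal.map π (QuotientGroup.mk'_surjective _)
  have hstab : E.map π ⊔ S.map π ≤ normalizer ((E.map π : Subgroup (X ⧸ C)) : Set (X ⧸ C)) :=
    CfsgLib.Comp.le_normalizer_of_normal' _ _
  show (pResidual p X).map π ≤ _
  rw [map_le_iff_le_comap, pResidual, closure_le]
  intro x hx
  exact mem_of_coprime_sup (le_sup_right.trans hstab) (hS.2.1.map π)
    (h1 ⟨x, CfsgLib.Transfer.mem_pResidual_of_coprime hx, rfl⟩)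
    (Nat.Coprime.coprime_dvd_left (orderOf_map_dvd π x) hx)

theorem Data.sup_eq : pResidual p X ⊔ C = E ⊔ C := by
  have h := congrArg (Subgroup.comap (QuotientGroup.mk' C)) (d.map_eq hred hqs)
  rw [comap_map_eq, comap_map_eq, QuotientGroup.ker_mk'] at h
  exact h.symm

theorem Data.le_commutator_sup : E ≤ ⁅E, E⁆ ⊔ (E ⊓ C) := by
  haveI := d.normal
  have hR := resBar_perfect hred hqs
  rw [← d.map_eq hred hqs, ← Subgroup.map_commutator] at hR
  intro x hx
  obtain ⟨y, hy, e⟩ := hR.ge (mem_map_of_mem (QuotientGroup.mk' C) hx)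
  have hyE : y ∈ E := (Subgroup.commutator_le_self E) hy
  rw [QuotientGroup.mk'_apply, QuotientGroup.mk'_apply, QuotientGroup.eq] at e
  rw [show x = y * (y⁻¹ * x) by group]
  exact mul_mem (mem_sup_left hy) (mem_sup_right (mem_inf.2 ⟨mul_mem (inv_mem hyE) hx, e⟩))

theorem Data.perfect : ⁅E, E⁆ = E := by
  haveI := d.normal
  haveI := d.nW
  haveI : (pCore p X).Normal := normal_pCore
  set D := E ⊓ pCore p X
  set K := ⁅E, E⁆ ⊔ D
  haveI : K.Normal := inferInstance
  have hEW : ⁅E, W⁆ ≤ K := by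
    have hst : E ≤ AsymL.stab W K := (d.le_commutator_sup hred hqs).trans (sup_le
      (AsymL.le_stab (CfsgLib.Comp.le_normalizer_of_normal' _ _)
        (CfsgLib.Comp.le_normalizer_of_normal' _ _) (by
          rw [Subgroup.commutator_comm]
          exact (CfsgLib.Comp.commutator_le_of_le_normalizer
            (CfsgLib.Comp.le_normalizer_of_normal' _ _)).trans le_sup_left))
      (AsymL.le_stab (CfsgLib.Comp.le_normalizer_of_normal' _ _)
        (CfsgLib.Comp.le_normalizer_of_normal' _ _) (by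
          rw [Subgroup.commutator_comm]
          exact d.central_mod.trans le_sup_right)))
    rw [Subgroup.commutator_comm]
    exact AsymL.commutator_le_of_le_stab hst
  obtain ⟨S, hS⟩ := exists_isSylIn (p := p) W
  have hcov : W ≤ E ⊔ S := by
    refine (pMod_cover (p := p) (C := E) (CfsgLib.Comp.le_normalizer_of_normal' E W) (fun x hx => ?_) hS).trans
      (sup_le_sup_right inf_le_left _)
    obtain ⟨k, m, hm, hkm⟩ := Nat.exists_eq_pow_mul_and_not_dvd (orderOf_pos x).ne' p (Fact.out : p.Prime).ne_one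
    refine ⟨k, d.mem _ (pow_mem hx _) ?_⟩
    rw [orderOf_pow, hkm, Nat.gcd_eq_right (Dvd.intro m rfl),
      Nat.mul_div_cancel_left _ (pow_pos (Fact.out : p.Prime).pos _)]
    exact ((Fact.out : p.Prime).coprime_iff_not_dvd.2 hm).symm
  have hKS : W ≤ normalizer ((K ⊔ S : Subgroup X) : Set X) := by
    refine hcov.trans (sup_le (fun e he => AsymL.mem_normalizer_of_conj' ?_) (le_sup_right.trans le_normalizer))
    intro y hy
    obtain ⟨a, ha, s, hs, rfl⟩ := CfsgLib.Comp.exists_mul_of_mem_sup
      (CfsgLib.Comp.le_normalizer_of_normal' K S) hy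
    rw [show e * (a * s) * e⁻¹ = (e * a * e⁻¹) * ⁅e, s⁆ * s by rw [commutatorElement_def]; group]
    exact mul_mem (mul_mem (mem_sup_left (Subgroup.Normal.conj_mem inferInstance a ha e))
      (mem_sup_left (hEW (commutator_mem_commutator he (hS.1 hs))))) (mem_sup_right hs)
  have hKW : K ⊔ S ≤ W := sup_le ((sup_le (Subgroup.commutator_le_self E) inf_le_left).trans d.le) hS.1
  have hW : W ≤ K ⊔ S := d.genp _ fun P hP hPW => by
    obtain ⟨T, hT, hPT⟩ := exists_isSylIn_ge hP hPW
    obtain ⟨w, hw, he⟩ := hS.exists_conj hT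
    refine hPT.trans (he.ge.trans ((map_mono (le_sup_right : S ≤ K ⊔ S)).trans ?_))
    exact (CfsgLib.Coprime.map_conj_of_mem_normalizer (hKS hw)).le
  have hEK : E ≤ K := d.gen _ fun x hx hxp =>
    mem_of_coprime_sup (CfsgLib.Comp.le_normalizer_of_normal' K S) hS.2.1 (hW hx) hxp
  exact d.eq_of_le_sup (Subgroup.commutator_le_self E)
    ((isPGroup_pCore (p := p) (G := X)).to_le inf_le_right) (CfsgLib.Comp.le_normalizer_of_normal' _ _) hEK

theorem Data.quasisimple_quotient [hn : (C.subgroupOf E).Normal] : IsQuasisimple (↥E ⧸ C.subgroupOf E) := by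
  have he := d.map_eq hred hqs
  let f : ↥E →* ↥(resBar p C) :=
    ((QuotientGroup.mk' C).comp E.subtype).codRestrict _ fun x => he.le ⟨x, x.2, rfl⟩
  have hf : Function.Surjective f := fun r => by
    obtain ⟨x, hx, e⟩ := he.ge r.2
    exact ⟨⟨x, hx⟩, Subtype.ext e⟩
  have hk : f.ker = C.subgroupOf E := by
    ext x
    rw [MonoidHom.mem_ker, mem_subgroupOf, ← QuotientGroup.eq_one_iff (N := C)]
    exact ⟨fun h => congrArg Subtype.val h, fun h => Subtype.ext h⟩
  exact CfsgLib.Comp.isQuasisimple_congr ((QuotientGroup.quotientMulEquivOfEq hk.symm).trans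
    (QuotientGroup.quotientKerEquivOfSurjective f hf)).symm hqs

theorem Data.pCore_le : (pCore p ↥E).map E.subtype ≤ C := by
  haveI := d.normal
  refine (Subgroup.map_eq_bot_iff _).1 (le_bot_iff.1 ((le_pCore ?_ ?_).trans hred.le)) |>.trans
    (QuotientGroup.ker_mk' C).le
  · refine Subgroup.Normal.map ?_ _ (QuotientGroup.mk'_surjective _)
    haveI : (pCore p ↥E).Characteristic := characteristic_iff_map_eq.2 fun e => map_pCore_eq e
    exact ConjAct.normal_of_characteristic_of_normal
  · exact (isPGroup_pCore.map _).map _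

theorem Data.quasisimple_pCore [hn : (C.subgroupOf E).Normal] [(pCore p ↥E).Normal] :
    IsQuasisimple (↥E ⧸ pCore p ↥E) := by
  haveI := d.normal
  have hP : Group.IsPerfect ↥E := ⟨by
    rw [_root_.commutator_def]
    refine Subgroup.map_injective E.subtype_injective ?_
    rw [Subgroup.map_commutator, ← MonoidHom.range_eq_map, range_subtype]
    exact d.perfect hred hqs⟩
  have hle : pCore p ↥E ≤ C.subgroupOf E := fun x hx =>
    mem_subgroupOf.2 (d.pCore_le hred hqs ⟨x, hx, rfl⟩)
  haveI : Group.IsPerfect (↥E ⧸ pCore p ↥E) :=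
    Group.IsPerfect.ofSurjective (f := QuotientGroup.mk' (pCore p ↥E)) (QuotientGroup.mk'_surjective _)
  haveI : ((C.subgroupOf E).map (QuotientGroup.mk' (pCore p ↥E))).Normal :=
    hn.map _ (QuotientGroup.mk'_surjective _)
  refine CfsgLib.Comp.isQuasisimple_of_central_extension
    (Z := (C.subgroupOf E).map (QuotientGroup.mk' (pCore p ↥E))) ?_ ?_
  · rintro _ ⟨c, hc, rfl⟩
    rw [mem_center_iff]
    intro y
    obtain ⟨y, rfl⟩ := QuotientGroup.mk'_surjective _ y
    refine (commutatorElement_eq_one_iff_mul_comm.1 ?_).symm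
    rw [← map_commutatorElement]
    refine (QuotientGroup.eq_one_iff _).2 ?_
    have h1 := d.central_mod (commutator_mem_commutator
      (mem_inf.2 ⟨c.2, mem_subgroupOf.1 hc⟩) (d.le y.2))
    haveI : (pCore p X).Normal := normal_pCore
    exact le_pCore (N := (pCore p X).subgroupOf E) inferInstance
      (isPGroup_pCore.comap_of_injective _ E.subtype_injective) (mem_subgroupOf.2 (mem_inf.1 h1).2)
  · exact CfsgLib.Comp.isQuasisimple_congr
      (QuotientGroup.quotientQuotientEquivQuotient _ _ hle).symm (d.quasisimple_quotient hred hqs)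

theorem Data.commutator_eq {Y : Subgroup X} (hY : IsPGroup p Y) (hYC : ¬ Y ≤ C) : ⁅E, Y⁆ = E := by
  haveI := d.normal
  haveI : (pCore p X).Normal := normal_pCore
  set π := QuotientGroup.mk' C
  have hYR : ¬ Y.map π ≤ centralizer (resBar p C : Set (X ⧸ C)) := fun h => hYC (by
    have := eq_bot_of_centralizes hred hqs (hY.map π) h
    rwa [Subgroup.map_eq_bot_iff, QuotientGroup.ker_mk'] at this)
  set N := ⁅E, Y⁆
  have hNE : N ≤ E :=
    CfsgLib.Comp.commutator_le_of_le_normalizer (CfsgLib.Comp.le_normalizer_of_normal' E Y)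
  have hmap : N.map π = E.map π := by
    rw [Subgroup.map_commutator, d.map_eq hred hqs, Subgroup.commutator_comm,
      commutator_eq_resBar hred hqs hYR]
  have hEN : E ≤ normalizer (N : Set X) := normalizer_commutator_ge_left E Y
  have hcov : E ≤ N ⊔ (E ⊓ C) := by
    intro x hx
    obtain ⟨y, hy, e⟩ := hmap.ge (mem_map_of_mem π hx)
    rw [QuotientGroup.mk'_apply, QuotientGroup.mk'_apply, QuotientGroup.eq] at e
    rw [show x = y * (y⁻¹ * x) by group]
    exact mul_mem (mem_sup_left hy) (mem_sup_right (mem_inf.2 ⟨mul_mem (inv_mem (hNE hy)) hx, e⟩))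
  set M := N ⊔ (E ⊓ pCore p X)
  have hEM : E ≤ normalizer (M : Set X) :=
    CfsgLib.Comp.le_normalizer_sup hEN (CfsgLib.Comp.le_normalizer_of_normal' _ _)
  have hst : E ≤ AsymL.stab E M := hcov.trans (sup_le
    (AsymL.le_stab (hNE.trans le_normalizer) (hNE.trans hEM) (by
      rw [Subgroup.commutator_comm]
      exact (CfsgLib.Comp.commutator_le_of_le_normalizer hEN).trans le_sup_left))
    (AsymL.le_stab (inf_le_left.trans le_normalizer) (inf_le_left.trans hEM) (by
      rw [Subgroup.commutator_comm]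
      exact ((commutator_mono le_rfl d.le).trans d.central_mod).trans le_sup_right)))
  have hM : E ≤ M := (d.perfect hred hqs).ge.trans (AsymL.commutator_le_of_le_stab hst)
  exact d.eq_of_le_sup hNE ((isPGroup_pCore (p := p) (G := X)).to_le inf_le_right)
    (inf_le_left.trans hEN) hM

end Quot

end CfsgLib.Amalgam.LargeQs
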