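import Cfsg.Agent.Lib.Fusion.MathieuCert

/-!
Self-normalizing Sylow 2-subgroups from the Mathieu certificates.
-/

set_option autoImplicit false
set_option linter.style.haveILetI false

namespace CfsgLib.Amalgam

open Cfsg CfsgLib.Golay CfsgLib.Fusion CfsgLib.Fusion.MathieuCert
open scoped Pointwise

theorem sylow_two_self_normalizing_of_cert (C : Cert) (X : List ℕ) (N : ℕ)
    (hcard : Nat.card (fixMasks X) = N) (hN2 : (N / 2 ^ C.m) % 2 = 1) (hE : okEls C X = true)
    (hN : okNxt C = true) (hP : okPred C = true) (hQ : okSq C = true) (hLab : okLabels C = true)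
    (hS : okSeries C = true) (hSep : okSep C X = true) (S : Sylow 2 (fixMasks X)) :
    Subgroup.normalizer ((S : Subgroup (fixMasks X)) : Set (fixMasks X)) =
      (S : Subgroup (fixMasks X)) := by
  have : Fact (Nat.Prime 2) := ⟨Nat.prime_two⟩
  set S₀ := (MathieuCert.H C 0).subgroupOf (fixMasks X) with hS₀
  have hle := H_le_fix hE (C := C) 0
  have hc0 : Nat.card S₀ = 2 ^ C.m := by
    rw [hS₀, Nat.card_congr (Subgroup.subgroupOfEquivOfLe hle).toEquiv, card_H hE hN hP]
  have hp : IsPGroup 2 S₀ := IsPGroup.of_card hc0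
  have hidx : ¬ 2 ∣ S₀.index := by
    have h := Subgroup.card_mul_index S₀
    rw [hc0, hcard] at h
    have : S₀.index = N / 2 ^ C.m := by
      rw [← h, Nat.mul_div_cancel_left _ (Nat.two_pow_pos _)]
    rw [this]
    omega
  have hPmem : ∀ d < 2 ^ C.m, P C d ∈ MathieuCert.H C 0 := fun d hd =>
    (mem_H hE hN hP).2 ⟨d, hd, by simp, rfl⟩
  have hno : ∀ g ∈ Subgroup.normalizer (S₀ : Set (fixMasks X)), Odd (orderOf g) → g = 1 := by
    intro g hg hodd
    have hgN : (g : Equiv.Perm GolayPt) ∈
        Subgroup.normalizer (MathieuCert.H C 0 : Set (Equiv.Perm GolayPt)) := by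
      rw [Subgroup.mem_normalizer_iff]
      intro x
      constructor
      · intro hx
        exact (Subgroup.mem_normalizer_iff.1 hg ⟨x, hle hx⟩).1 hx
      · intro hx
        have hxX : x ∈ fixMasks X := by
          have h2 := mul_mem (mul_mem (inv_mem g.2) (hle hx)) g.2
          simpa [mul_assoc] using h2
        exact (Subgroup.mem_normalizer_iff.1 hg ⟨x, hxX⟩).2 hx
    have hodd' : Odd (orderOf (g : Equiv.Perm GolayPt)) := by
      rwa [Subgroup.orderOf_coe]
    have hcent : ∀ x ∈ MathieuCert.H C 0,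
        (g : Equiv.Perm GolayPt) * x * (g : Equiv.Perm GolayPt)⁻¹ = x := by
      refine commute_of_series (IsPGroup.of_card (card_H hE hN hP)) hodd' (MathieuCert.H C) C.m
        le_rfl ?_ ?_ ?_ fun j hj a ha b hb => series_step hE hN hP hj ha hb
      · rw [MathieuCert.H, Subgroup.closure_eq_bot_iff]
        rintro _ ⟨i, ⟨h1, h2⟩, rfl⟩
        omega
      · intro j _
        exact Subgroup.closure_mono (Set.image_mono fun i hi => ⟨Nat.zero_le i, hi.2⟩)
      · exact fun j hj x hx => H_invariant hE hN hP hQ hLab hS hgN hj hx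
    exact Subtype.ext (eq_one_of_centralizes hE hSep g.2 hodd' fun d hd => hcent _ (hPmem d hd))
  have h0 := normalizer_le_of_no_odd hp hidx hno
  obtain ⟨a, rfl⟩ := MulAction.exists_smul_eq (fixMasks X) (hp.toSylow hidx) S
  refine le_antisymm ?_ Subgroup.le_normalizer
  intro x hx
  replace hx := Sylow.smul_eq_iff_mem_normalizer.2 hx
  rw [smul_smul] at hx
  have h1 : a⁻¹ * x * a ∈ Subgroup.normalizer
      ((hp.toSylow hidx : Subgroup (fixMasks X)) : Set (fixMasks X)) := by
    refine Sylow.smul_eq_iff_mem_normalizer.1 ?_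
    rw [mul_assoc, mul_smul, hx, inv_smul_smul]
  have h2 : a⁻¹ * x * a ∈ (hp.toSylow hidx : Subgroup (fixMasks X)) := h0 h1
  rw [Sylow.coe_subgroup_smul, Subgroup.mem_pointwise_smul_iff_inv_smul_mem]
  simpa [MulAut.smul_def] using h2

end CfsgLib.Amalgam
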