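import Mathlib.GroupTheory.Transfer
import Mathlib.GroupTheory.Abelianization.Defs
import Mathlib.GroupTheory.SpecificGroups.Cyclic
import Mathlib.GroupTheory.Coset.Card
import Mathlib.GroupTheory.PGroup
import Mathlib.GroupTheory.IndexNormal

/-!
Transfer into `M / H` when conjugation fuses nothing from `M` outside `H`, and the case where `H`
is maximal in a maximal subgroup `M`.
-/

set_option autoImplicit false
set_option linter.unusedSectionVars false

namespace CfsgLib.Amalgam

open Subgroup MulAction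
open scoped commutatorElement

variable {G : Type*} [Group G] [Finite G]

theorem map_toMonoidHom_conj_eq {H : Subgroup G} {g : G} (hg : g ∈ normalizer (H : Set G)) :
    H.map (MulAut.conj g).toMonoidHom = H := mem_normalizer_iff_map_conj_eq.1 hg

/-- `H ◁ M`, `M / H` abelian, and `g y g⁻¹ ∈ M` with `y ∈ M`, `g ∉ M` forces `y ∈ H`: then some
normal subgroup of `G` meets `M` exactly in `H`. -/
theorem exists_normal_inf_eq_of_no_fusion {H M : Subgroup G} (hHM : H ≤ M) [(H.subgroupOf M).Normal]
    (hab : ∀ a ∈ M, ∀ b ∈ M, a * b * a⁻¹ * b⁻¹ ∈ H)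
    (hf : ∀ g : G, g ∉ M → ∀ y ∈ M, g * y * g⁻¹ ∈ M → y ∈ H) :
    ∃ N : Subgroup G, N.Normal ∧ commutator G ≤ N ∧ N ⊓ M = H := by
  classical
  have : M.FiniteIndex := inferInstance
  let f : M →* M ⧸ H.subgroupOf M := QuotientGroup.mk' (H.subgroupOf M)
  let _ : CommGroup (M ⧸ H.subgroupOf M) :=
    { (inferInstance : Group (M ⧸ H.subgroupOf M)) with
      mul_comm := by
        intro a b
        obtain ⟨a, rfl⟩ := QuotientGroup.mk'_surjective (H.subgroupOf M) a
        obtain ⟨b, rfl⟩ := QuotientGroup.mk'_surjective (H.subgroupOf M) b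
        rw [← map_mul, ← map_mul]
        show ((a * b : M) : M ⧸ H.subgroupOf M) = ((b * a : M) : M ⧸ H.subgroupOf M)
        rw [QuotientGroup.eq]
        rw [mem_subgroupOf]
        have := hab _ (inv_mem b.2) _ (inv_mem a.2)
        simpa [mul_assoc] using this }
  let τ := MonoidHom.transfer f
  have hmain : ∀ (m : G) (hm : m ∈ M), τ m = f ⟨m, hm⟩ := by
    intro m hm
    let _ : Fintype (Quotient (MulAction.orbitRel (zpowers m) (G ⧸ M))) := Fintype.ofFinite _
    change MonoidHom.transfer f m = _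
    rw [MonoidHom.transfer_eq_prod_quotient_orbitRel_zpowers_quot]
    set q₀ : Quotient (MulAction.orbitRel (zpowers m) (G ⧸ M)) := Quotient.mk _ ((1 : G) : G ⧸ M)
    have hfix : m • ((1 : G) : G ⧸ M) = ((1 : G) : G ⧸ M) := by
      rw [MulAction.Quotient.smul_mk, smul_eq_mul, mul_one, QuotientGroup.eq]
      simpa using inv_mem hm
    have hq₀ : q₀.out = ((1 : G) : G ⧸ M) := by
      obtain ⟨⟨a, ha⟩, hac⟩ := MulAction.orbitRel_apply.1
        (Quotient.mk_out (s := MulAction.orbitRel (zpowers m) (G ⧸ M)) ((1 : G) : G ⧸ M))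
      obtain ⟨i, rfl⟩ := mem_zpowers_iff.1 ha
      rw [← hac]
      exact mem_stabilizer_iff.1 (zpow_mem (mem_stabilizer_iff.2 hfix) i)
    have hper : Function.minimalPeriod (m • ·) q₀.out = 1 := by
      rw [hq₀]; exact Function.minimalPeriod_eq_one_iff_isFixedPt.2 hfix
    have hout : q₀.out.out ∈ M := by
      rw [hq₀]
      obtain ⟨s, hs⟩ := QuotientGroup.mk_out_eq_mul M (1 : G)
      rw [hs, one_mul]; exact s.2
    rw [Finset.prod_eq_single q₀ ?_ (fun h => absurd (Finset.mem_univ _) h)]
    · set a : M := ⟨q₀.out.out, hout⟩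
      have e : (⟨q₀.out.out⁻¹ * m ^ Function.minimalPeriod (m • ·) q₀.out * q₀.out.out,
          QuotientGroup.out_conj_pow_minimalPeriod_mem M m q₀.out⟩ : M) = a⁻¹ * ⟨m, hm⟩ * a :=
        Subtype.ext (by simp [a, hper])
      rw [e, map_mul, map_mul, map_inv, mul_comm (f a)⁻¹, inv_mul_cancel_right]
    · intro q _ hq
      have hmem := QuotientGroup.out_conj_pow_minimalPeriod_mem M m q.out
      have hg : q.out.out ∉ M := by
        intro h
        apply hq
        have h1 : q.out = ((1 : G) : G ⧸ M) := by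
          rw [← QuotientGroup.out_eq' q.out, QuotientGroup.eq]
          simpa using inv_mem h
        rw [← Quotient.out_eq q, h1]
      refine (QuotientGroup.eq_one_iff _).2 (mem_subgroupOf.2 (hf _ hg _ hmem ?_))
      have := pow_mem hm (Function.minimalPeriod (m • ·) q.out)
      simpa [mul_assoc] using this
  refine ⟨τ.ker, inferInstance, Abelianization.commutator_subset_ker τ, ?_⟩
  ext m
  constructor
  · rintro ⟨h1, h2⟩
    have h3 := hmain m h2
    rw [MonoidHom.mem_ker.1 h1] at h3
    exact mem_subgroupOf.1 ((QuotientGroup.eq_one_iff _).1 h3.symm)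
  · intro h
    refine ⟨MonoidHom.mem_ker.2 ?_, hHM h⟩
    rw [hmain m (hHM h)]
    exact (QuotientGroup.eq_one_iff _).2 (mem_subgroupOf.2 h)

/-- A maximal normal subgroup of prime-power free shape: `M / H` of prime order gives commutators in `H`. -/
theorem commutator_mem_of_maximal {H M : Subgroup G} [(H.subgroupOf M).Normal]
    (hmax : IsCoatom (H.subgroupOf M)) : ∀ a ∈ M, ∀ b ∈ M, a * b * a⁻¹ * b⁻¹ ∈ H := by
  intro a ha b hb
  set N := H.subgroupOf M
  have hq : ∀ x : M ⧸ N, x ≠ 1 → (zpowers x : Subgroup (M ⧸ N)) = ⊤ := by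
    intro x hx
    have h1 : N ≤ (zpowers x).comap (QuotientGroup.mk' N) := fun n hn => by
      show QuotientGroup.mk' N n ∈ zpowers x
      rw [show QuotientGroup.mk' N n = 1 from (QuotientGroup.eq_one_iff n).2 hn]; exact one_mem _
    rcases hmax.le_iff.1 h1 with h2 | h2
    · rw [← map_comap_eq_self_of_surjective (QuotientGroup.mk'_surjective N) (zpowers x), h2,
        map_top_of_surjective _ (QuotientGroup.mk'_surjective N)]
    · exfalso
      apply hx
      obtain ⟨y, rfl⟩ := QuotientGroup.mk'_surjective N x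
      exact (QuotientGroup.eq_one_iff y).2 (h2.le (mem_zpowers _))
  set A : M := ⟨a, ha⟩
  set B : M := ⟨b, hb⟩
  suffices h : (A * B * A⁻¹ * B⁻¹ : M) ∈ N from mem_subgroupOf.1 h
  rw [← QuotientGroup.eq_one_iff]
  by_cases hA : (A : M ⧸ N) = 1
  · simp only [QuotientGroup.mk_mul, QuotientGroup.mk_inv, hA, one_mul, inv_one, mul_one, mul_inv_cancel]
  · obtain ⟨i, hi⟩ := mem_zpowers_iff.1 ((hq _ hA).ge (mem_top (B : M ⧸ N)))
    simp only [QuotientGroup.mk_mul, QuotientGroup.mk_inv, ← hi]
    group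

/-- `H` maximal in `M`, `M` maximal in `G`, `⟨H, Hᵍ⟩ ∩ M = H` for all `g`: some normal subgroup
meets `M` exactly in `H`. -/
theorem exists_normal_inf_eq_of_closed_pairs {H M : Subgroup G} (hHM : H ≤ M)
    (hcl : ∀ g : G, (H ⊔ H.map (MulAut.conj g).toMonoidHom) ⊓ M = H)
    (hmaxH : IsCoatom (H.subgroupOf M)) (hmaxM : IsCoatom M) :
    ∃ N : Subgroup G, N.Normal ∧ N ⊓ M = H := by
  have hnor : ∀ g : G, H.map (MulAut.conj g).toMonoidHom ≤ M → H.map (MulAut.conj g).toMonoidHom = H := fun g h =>
    eq_of_le_of_card_ge ((le_inf le_sup_right h).trans (hcl g).le) (card_map_of_injective (MulEquiv.injective _)).ge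
  have hMN : M ≤ normalizer (H : Set G) := fun m hm => mem_normalizer_iff_map_conj_eq.2 (hnor m (by
    rintro _ ⟨h, hh, rfl⟩
    exact mul_mem (mul_mem hm (hHM hh)) (inv_mem hm)))
  rcases hmaxM.le_iff.1 hMN with hN | hN
  · exact ⟨H, normalizer_eq_top_iff.1 hN, inf_eq_left.2 hHM⟩
  haveI : (H.subgroupOf M).Normal := (normal_subgroupOf_iff_le_normalizer hHM).2 hMN
  by_cases hK : ∃ g : G, (H ⊔ H.map (MulAut.conj g).toMonoidHom).Normal
  · obtain ⟨g, hg⟩ := hK
    exact ⟨_, hg, hcl g⟩
  push Not at hK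
  suffices hf : ∀ g : G, g ∉ M → ∀ y ∈ M, g * y * g⁻¹ ∈ M → y ∈ H by
    obtain ⟨N, h1, -, h2⟩ := exists_normal_inf_eq_of_no_fusion hHM (commutator_mem_of_maximal hmaxH) hf
    exact ⟨N, h1, h2⟩
  intro g hg y hy hw
  by_contra hyH
  set w := g * y * g⁻¹ with hwdef
  set K := H ⊔ H.map (MulAut.conj g).toMonoidHom with hKdef
  have hwH : w ∉ H := by
    intro hwH
    exact hyH ((hcl g⁻¹).le ⟨mem_sup_right ⟨w, hwH, by simp [hwdef, mul_assoc]⟩, hy⟩)
  have hwK : w ∈ normalizer (K : Set G) := by
    refine mem_normalizer_iff_map_conj_eq.2 ?_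
    have hyN := map_toMonoidHom_conj_eq (hMN hy)
    have e : (H.map (MulAut.conj g).toMonoidHom).map (MulAut.conj w).toMonoidHom =
        (H.map (MulAut.conj y).toMonoidHom).map (MulAut.conj g).toMonoidHom := by
      rw [map_map, map_map]
      congr 1
      ext x
      simp [hwdef, mul_assoc]
    show K.map (MulAut.conj w).toMonoidHom = K
    rw [hKdef, Subgroup.map_sup, map_toMonoidHom_conj_eq (hMN hw), e, hyN]
  have hHw : H ⊔ zpowers w = M := by
    refine le_antisymm (sup_le hHM (zpowers_le.2 hw)) ?_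
    have h1 : H.subgroupOf M < (H ⊔ zpowers w).subgroupOf M := lt_of_le_not_ge (comap_mono le_sup_left)
      fun h => hwH (h (x := ⟨w, hw⟩) (mem_subgroupOf.2 (mem_sup_right (mem_zpowers w))))
    exact subgroupOf_eq_top.1 (hmaxH.2 _ h1)
  have hL : K ⊔ zpowers w = ⊤ := by
    refine hmaxM.2 _ (lt_of_le_not_ge (hHw ▸ sup_le_sup_right le_sup_left _) fun h => hg ?_)
    rw [← hN]
    exact mem_normalizer_iff_map_conj_eq.2 (hnor g ((le_sup_right.trans le_sup_left).trans h))
  exact hK g (normalizer_eq_top_iff.1 (top_le_iff.1 (hL ▸ sup_le le_normalizer (zpowers_le.2 hwK))))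

/-- A subgroup conjugate to `H ◁ M` of prime index and inside `M` is normal in `M`. -/
theorem normal_of_conj_le {H M : Subgroup G} (hHM : H ≤ M) [(H.subgroupOf M).Normal]
    {q : ℕ} (hq : q.Prime) (hidx : H.relIndex M = q) {g : G} (hg : H.map (MulAut.conj g).toMonoidHom ≤ M) :
    M ≤ normalizer ((H.map (MulAut.conj g).toMonoidHom : Subgroup G) : Set G) := by
  set A := H.map (MulAut.conj g).toMonoidHom with hA
  haveI : Fact q.Prime := ⟨hq⟩
  -- the elements of order prime to `q` generate the same subgroup in `H`, in `A` and in `M`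
  let O : Subgroup G → Subgroup G := fun X => closure {x | x ∈ X ∧ (orderOf x).Coprime q}
  have hOM : O M = O H := by
    refine le_antisymm (closure_mono ?_) (closure_mono fun x hx => ⟨hHM hx.1, hx.2⟩)
    rintro x ⟨hx, hxq⟩
    refine ⟨?_, hxq⟩
    have h1 : orderOf ((⟨x, hx⟩ : M) : M ⧸ H.subgroupOf M) ∣ q := by
      rw [← hidx, relIndex, index_eq_card]; exact orderOf_dvd_natCard _
    have h2 : orderOf ((⟨x, hx⟩ : M) : M ⧸ H.subgroupOf M) ∣ orderOf x := by
      rw [← Subgroup.orderOf_mk x hx]; exact orderOf_map_dvd (QuotientGroup.mk' _) _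
    have h3 := Nat.eq_one_of_dvd_coprimes hxq h2 h1
    exact mem_subgroupOf.1 ((QuotientGroup.eq_one_iff _).1 (orderOf_eq_one_iff.1 h3))
  have hOA : O A = (O H).map (MulAut.conj g).toMonoidHom := by
    show closure _ = _
    rw [MonoidHom.map_closure]
    congr 1
    ext x
    constructor
    · rintro ⟨⟨h, hh, rfl⟩, hx⟩
      refine ⟨h, ⟨hh, ?_⟩, rfl⟩
      rwa [MulEquiv.coe_toMonoidHom, MulEquiv.orderOf_eq] at hx
    · rintro ⟨h, ⟨hh, hq'⟩, rfl⟩
      exact ⟨⟨h, hh, rfl⟩, by rwa [MulEquiv.coe_toMonoidHom, MulEquiv.orderOf_eq]⟩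
  have hOAM : O A = O M := eq_of_le_of_card_ge (closure_mono fun x hx => ⟨hg hx.1, hx.2⟩)
    (by rw [hOA, hOM, card_map_of_injective (MulEquiv.injective _)])
  have hOA' : O M ≤ A := hOAM ▸ (closure_le _).2 fun x hx => hx.1
  set OM := (O M).subgroupOf M with hOMdef
  haveI hn : OM.Normal := ⟨fun n hn m => by
    rw [hOMdef, mem_subgroupOf] at hn ⊢
    have : (O M).map (MulAut.conj (m : G)).toMonoidHom ≤ O M := by
      rw [show O M = closure _ from rfl, MonoidHom.map_closure]
      refine closure_mono ?_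
      rintro _ ⟨x, ⟨hx, hxq⟩, rfl⟩
      exact ⟨mul_mem (mul_mem m.2 hx) (inv_mem m.2), by rwa [MulEquiv.coe_toMonoidHom, MulEquiv.orderOf_eq]⟩
    exact this (mem_map_of_mem _ hn)⟩
  let π := QuotientGroup.mk' OM
  have hp : IsPGroup q (M ⧸ OM) := by
    intro x
    obtain ⟨a, rfl⟩ := QuotientGroup.mk'_surjective OM x
    obtain ⟨k, m, hm, hkm⟩ := Nat.exists_eq_pow_mul_and_not_dvd (orderOf_pos a).ne' q hq.ne_one
    refine ⟨k, ?_⟩
    rw [← map_pow, ← MonoidHom.mem_ker, QuotientGroup.ker_mk', hOMdef, mem_subgroupOf]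
    refine subset_closure ⟨(a ^ q ^ k).2, ?_⟩
    rw [orderOf_coe, orderOf_pow_of_dvd (pow_ne_zero _ hq.ne_zero) (hkm ▸ Dvd.intro m rfl), hkm,
      Nat.mul_div_cancel_left _ (pow_pos hq.pos k)]
    exact ((Nat.Prime.coprime_iff_not_dvd hq).2 hm).symm
  set Ā := (A.subgroupOf M).map π
  have hAc : Ā.comap π = A.subgroupOf M := by
    rw [comap_map_eq, QuotientGroup.ker_mk', sup_eq_left]; exact comap_mono hOA'
  have hidx' : Ā.index = q := by
    rw [← index_comap_of_surjective Ā (QuotientGroup.mk'_surjective OM), hAc, ← relIndex, ← hidx]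
    have h1 := relIndex_mul_relIndex ⊥ A M bot_le hg
    have h2 := relIndex_mul_relIndex ⊥ H M bot_le hHM
    rw [relIndex_bot_left, relIndex_bot_left] at h1 h2
    rw [hA, card_map_of_injective (MulEquiv.injective _), ← h2] at h1
    exact mul_left_cancel₀ Nat.card_pos.ne' h1
  haveI : Ā.Normal := by
    refine normal_of_index_eq_minFac_card ?_
    rw [hidx']
    obtain ⟨n, hn⟩ := hp.exists_card_eq
    rw [hn]
    have hn0 : n ≠ 0 := by
      rintro rfl
      have h1 := Ā.index_dvd_card
      rw [hidx', hn, pow_zero] at h1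
      exact hq.not_dvd_one h1
    rw [Nat.pow_minFac hn0, hq.minFac_eq]
  exact (normal_subgroupOf_iff_le_normalizer hg).1 (hAc ▸ Subgroup.Normal.comap ‹_› π)

/-- In a non-abelian simple group a prime-index normal subgroup of a maximal subgroup generates
the group with one of its conjugates. -/
theorem exists_conj_generate [IsSimpleGroup G] (hG : ¬ IsMulCommutative G) {M H : Subgroup G}
    (hmaxM : IsCoatom M) (hHM : H ≤ M) [(H.subgroupOf M).Normal] (hidx : (H.relIndex M).Prime) :
    ∃ g : G, H ⊔ H.map (MulAut.conj g).toMonoidHom = ⊤ := by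
  by_contra hno
  push Not at hno
  have hmaxH : IsCoatom (H.subgroupOf M) := by
    refine ⟨fun h => hidx.ne_one (by rw [relIndex, h, index_top]), fun B hB => ?_⟩
    have h1 := relIndex_mul_index hB.le
    rcases (Nat.dvd_prime hidx).1 (Dvd.intro_left _ h1 : B.index ∣ H.relIndex M) with h | h
    · exact index_eq_one.1 h
    · exfalso
      rw [relIndex] at h h1
      rw [h, mul_eq_right₀ index_ne_zero_of_finite] at h1
      exact hB.not_ge (relIndex_eq_one.1 h1)
  have hMne : M ≠ H := fun e => hidx.ne_one (by rw [e, relIndex_self])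
  -- `N(M) = M`
  have hNM : normalizer (M : Set G) = M := by
    rcases hmaxM.le_iff.1 (le_normalizer : M ≤ normalizer (M : Set G)) with h | h
    · haveI := normalizer_eq_top_iff.1 h
      rcases (inferInstance : M.Normal).eq_bot_or_eq_top with e | e
      · exact absurd (le_antisymm (e.le.trans bot_le) hHM) hMne
      · exact absurd e hmaxM.1
    · exact h
  by_cases hH1 : H = ⊥
  · subst hH1
    have hMp : (Nat.card M).Prime := by rwa [relIndex_bot_left] at hidx
    obtain ⟨N, hN, hNc, hNi⟩ := exists_normal_inf_eq_of_no_fusion (bot_le : ⊥ ≤ M)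
      (commutator_mem_of_maximal hmaxH) (fun g hg y hy hw => by
        by_contra hy1
        rw [mem_bot] at hy1
        apply hg
        rw [← hNM]
        haveI : Fact (Nat.card M).Prime := ⟨hMp⟩
        have hz : zpowers y = M := eq_of_le_of_card_ge (zpowers_le.2 hy) (by
          rw [Nat.card_zpowers]
          rcases (Nat.dvd_prime hMp).1 (orderOf_dvd_natCard M hy) with h | h
          · exact absurd (orderOf_eq_one_iff.1 h) hy1
          · exact h.ge)
        refine mem_normalizer_iff_map_conj_eq.2 (eq_of_le_of_card_ge ?_ (card_map_of_injective (MulEquiv.injective _)).ge)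
        conv_lhs => rw [← hz]
        rw [MonoidHom.map_zpowers, zpowers_le]
        exact hw)
    rcases hN.eq_bot_or_eq_top with e | e
    · apply hG
      refine ⟨⟨fun x y => ?_⟩⟩
      have h1 : ⁅x, y⁆ ∈ N := hNc (commutator_def G ▸ commutator_mem_commutator (mem_top x) (mem_top y))
      rw [e, mem_bot] at h1
      exact commutatorElement_eq_one_iff_mul_comm.1 h1
    · rw [e, top_inf_eq] at hNi
      exact hMne hNi
  have hN : normalizer (H : Set G) = M := by
    rcases hmaxM.le_iff.1 ((normal_subgroupOf_iff_le_normalizer hHM).1 ‹_›) with h | h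
    · haveI := normalizer_eq_top_iff.1 h
      rcases (inferInstance : H.Normal).eq_bot_or_eq_top with e | e
      · exact absurd e hH1
      · exact absurd (top_le_iff.1 (e ▸ hHM)) hmaxM.1
    · exact h
  have hcl : ∀ g : G, (H ⊔ H.map (MulAut.conj g).toMonoidHom) ⊓ M = H := by
    intro g
    set K := H ⊔ H.map (MulAut.conj g).toMonoidHom with hK
    refine le_antisymm ?_ (le_inf le_sup_left hHM)
    rcases hmaxH.le_iff.1 (comap_mono (le_sup_left : H ≤ K) : H.subgroupOf M ≤ K.subgroupOf M) with h | h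
    · have hMK : M ≤ K := subgroupOf_eq_top.1 h
      rcases hmaxM.le_iff.1 hMK with h' | h'
      · exact absurd h' (hno g)
      have hgM : H.map (MulAut.conj g).toMonoidHom ≤ M := le_sup_right.trans h'.le
      have h2 := normal_of_conj_le hHM hidx rfl hgM
      have h3 : M.map (MulAut.conj g).toMonoidHom ≤ normalizer ((H.map (MulAut.conj g).toMonoidHom : Subgroup G) : Set G) :=
        (map_mono ((normal_subgroupOf_iff_le_normalizer hHM).1 ‹_›)).trans (le_normalizer_map _)
      have hgin : g ∈ M := by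
        rcases hmaxM.le_iff.1 h2 with e | e
        · haveI := normalizer_eq_top_iff.1 e
          rcases (inferInstance : (H.map (MulAut.conj g).toMonoidHom).Normal).eq_bot_or_eq_top with e' | e'
          · exact absurd ((map_eq_bot_iff_of_injective _ (MulEquiv.injective _)).1 e') hH1
          · exact absurd (top_le_iff.1 (e' ▸ hgM)) hmaxM.1
        · rw [e] at h3
          rw [← hNM]
          exact mem_normalizer_iff_map_conj_eq.2 (eq_of_le_of_card_ge h3 (card_map_of_injective (MulEquiv.injective _)).ge)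
      rw [hK, map_toMonoidHom_conj_eq (hN.ge hgin), sup_idem]
      exact inf_le_left
    · intro x hx
      exact mem_subgroupOf.1 (h.le (x := ⟨x, hx.2⟩) hx.1)
  obtain ⟨N, hNn, hNi⟩ := exists_normal_inf_eq_of_closed_pairs hHM hcl hmaxH hmaxM
  rcases hNn.eq_bot_or_eq_top with e | e
  · exact hH1 (by rw [← hNi, e, bot_inf_eq])
  · rw [e, top_inf_eq] at hNi
    exact hMne hNi

end CfsgLib.Amalgam
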