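import Cfsg.Agent.Lib.Classical.GLTwoSylow
import Mathlib.GroupTheory.PGroup
import Mathlib.GroupTheory.QuotientGroup.Basic
import Mathlib.FieldTheory.Finite.Basic
import Mathlib.Algebra.CharP.Lemmas

/-!
# Recognition of the natural module of `SL₂(q)`

An irreducible nontrivial module in the defining characteristic on which the unipotent group acts
quadratically, or whose order is at most the square of that of the fixed points of the unipotent
group, is natural.
-/

set_option autoImplicit false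
set_option linter.unusedSectionVars false

namespace CfsgLib.Amalgam.NatRec

open Matrix CfsgLib.Classical
open scoped MatrixGroups

variable {K : Type*} [Field K]

/-- `[[0,-1],[1,0]]`. -/
def J (K : Type*) [Field K] : SL(2, K) := ⟨!![0, -1; 1, 0], by simp [Matrix.det_fin_two_of]⟩

/-- Diagonal element. -/
def H (l : Kˣ) : SL(2, K) := ⟨!![(l : K), 0; 0, ((l⁻¹ : Kˣ) : K)], by simp [Matrix.det_fin_two_of]⟩

theorem J_val : (J K).1 = !![0, -1; 1, 0] := rfl

theorem H_val (l : Kˣ) : (H l).1 = !![(l : K), 0; 0, ((l⁻¹ : Kˣ) : K)] := rfl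

theorem ext' {g h : SL(2, K)} (h₀ : g.1 0 0 = h.1 0 0) (h₁ : g.1 0 1 = h.1 0 1)
    (h₂ : g.1 1 0 = h.1 1 0) (h₃ : g.1 1 1 = h.1 1 1) : g = h := by
  apply Subtype.ext
  ext i j
  fin_cases i <;> fin_cases j <;> assumption

theorem H_mul (l m : Kˣ) : H (l * m) = H l * H m := by
  apply ext' <;> simp [SpecialLinearGroup.coe_mul, H_val, Matrix.mul_apply, Fin.sum_univ_two, mul_comm]

theorem H_one : H (1 : Kˣ) = 1 := by
  apply ext' <;> simp [H_val]

theorem J_J : J K * J K = H (-1) := by
  apply ext' <;> simp [SpecialLinearGroup.coe_mul, J_val, H_val, Matrix.mul_apply, Fin.sum_univ_two]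

theorem H_J (l : Kˣ) : H l * J K = J K * H l⁻¹ := by
  apply ext' <;> simp [SpecialLinearGroup.coe_mul, J_val, H_val, Matrix.mul_apply, Fin.sum_univ_two]

theorem uElt_H (b : Kˣ) (a : K) :
    uElt a * H b = H b * uElt (a * ((b⁻¹ : Kˣ) : K) * ((b⁻¹ : Kˣ) : K)) := by
  apply ext' <;> simp [SpecialLinearGroup.coe_mul, uElt_val, H_val, Matrix.mul_apply, Fin.sum_univ_two]
  field_simp

theorem uElt_zero : uElt (0 : K) = 1 := by
  apply ext' <;> simp [uElt_val]

/-- The Bruhat relation. -/
theorem bruhat (t : Kˣ) :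
    uElt (-((t⁻¹ : Kˣ) : K)) * ((J K)⁻¹ * H t) * uElt (-((t⁻¹ : Kˣ) : K)) =
      (J K)⁻¹ * uElt (t : K) * J K := by
  rw [show (J K)⁻¹ = J K * H (-1) from inv_eq_of_mul_eq_one_right (by
    rw [← mul_assoc, J_J, ← H_mul]; simp [H_one])]
  apply ext' <;> simp [SpecialLinearGroup.coe_mul, uElt_val, J_val, H_val, Matrix.mul_apply,
    Fin.sum_univ_two]

section module

variable {V : Type*} [AddCommGroup V] [DistribMulAction SL(2, K) V]

/-- `u ↦ u(a) • u - u`. -/
def D (a : K) (v : V) : V := uElt a • v - v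

theorem D_add (a : K) (v w : V) : D a (v + w) = D a v + D a w := by
  simp only [D, smul_add]; abel

theorem D_add_left (a c : K) (v : V) : D (a + c) v = D a v + D c v + D a (D c v) := by
  simp only [D, uElt_add, mul_smul, smul_sub]; abel

theorem D_H (b : Kˣ) (a : K) (v : V) :
    D a (H b • v) = H b • D (a * ((b⁻¹ : Kˣ) : K) * ((b⁻¹ : Kˣ) : K)) v := by
  simp only [D, smul_sub, smul_smul, uElt_H]

/-- The fixed points of the unipotent group. -/
def fix (K : Type*) (V : Type*) [Field K] [AddCommGroup V] [DistribMulAction SL(2, K) V] :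
    AddSubgroup V where
  carrier := {p | ∀ a : K, uElt a • p = p}
  zero_mem' := fun a => smul_zero _
  add_mem' := fun {p q} hp hq a => by rw [smul_add, hp, hq]
  neg_mem' := fun {p} hp a => by rw [smul_neg, hp]

theorem D_fix {p : V} (h : p ∈ fix K V) (a : K) : D a p = 0 := by simp [D, h a]

theorem H_fix {p : V} (h : p ∈ fix K V) (b : Kˣ) : H b • p ∈ fix K V := fun a => by
  rw [smul_smul, uElt_H, mul_smul, h]

/-- `q` is a fixed point whose opposite moves into the fixed points. -/
def IsGood (K : Type*) {V : Type*} [Field K] [AddCommGroup V] [DistribMulAction SL(2, K) V]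
    (q : V) : Prop :=
  q ∈ fix K V ∧ ∀ a : K, D a (J K • q) ∈ fix K V

theorem IsGood.smul {q : V} (h : IsGood K q) (b : Kˣ) : IsGood K (H b • q) := by
  refine ⟨H_fix h.1 b, fun a => ?_⟩
  rw [smul_smul, show J K * H b = H b⁻¹ * J K by rw [H_J, inv_inv], mul_smul, D_H]
  exact H_fix (h.2 _) _

theorem IsGood.zero : IsGood K (0 : V) :=
  ⟨(fix K V).zero_mem, fun a => by simp [D]⟩

/-- Scalar multiplication. -/
def sm (a : K) (q : V) : V := D a (J K • q)

theorem sm_zero (q : V) : sm (0 : K) q = 0 := by simp [sm, D, uElt_zero]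

theorem sm_add {q : V} (h : IsGood K q) (a c : K) : sm (a + c) q = sm a q + sm c q := by
  rw [sm, D_add_left, D_fix (h.2 c) a, add_zero]; rfl

/-- The key formula: on good vectors scalar multiplication is the diagonal action. -/
theorem D_J {q : V} (h : IsGood K q)
    (huniq : ∀ p q' : V, p ∈ fix K V → q' ∈ fix K V → p + J K • q' = 0 → p = 0 ∧ q' = 0)
    (t : Kˣ) : D (t : K) (J K • q) = H t • q := by
  set q' := D (t : K) (J K • q) with hq'
  have h1 : (J K)⁻¹ • (uElt (t : K) • J K • q) = (J K)⁻¹ • q' + q := by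
    rw [show uElt (t : K) • J K • q = q' + J K • q by rw [hq']; simp [D], smul_add, inv_smul_smul]
  have hq'f : q' ∈ fix K V := h.2 _
  set s : K := -((t⁻¹ : Kˣ) : K) with hs
  have h2 : uElt s • ((J K)⁻¹ • H t • q) = (J K)⁻¹ • q' + q := by
    rw [← h1]
    calc uElt s • ((J K)⁻¹ • H t • q) = uElt s • ((J K)⁻¹ • H t • (uElt s • q)) := by rw [h.1 s]
      _ = (uElt s * ((J K)⁻¹ * H t) * uElt s) • q := by simp only [mul_smul]
      _ = _ := by rw [hs, bruhat]; simp only [mul_smul]
  have hinv : ∀ x : V, (J K)⁻¹ • x = J K • (H (-1) • x) := fun x => by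
    rw [← mul_smul, inv_eq_of_mul_eq_one_right]
    rw [← mul_assoc, J_J, ← H_mul]; simp [H_one]
  rw [hinv, hinv] at h2
  set r := H (-1 : Kˣ) • H t • q with hr
  have hg : IsGood K r := (h.smul t).smul _
  have h3 : uElt s • J K • r = sm s r + J K • r := by simp [sm, D]
  rw [h3] at h2
  have h4 : (sm s r - q) + J K • (r - H (-1 : Kˣ) • q') = 0 := by
    rw [smul_sub, ← sub_eq_zero.2 h2]; abel
  have h5 := (huniq _ _ (sub_mem (hg.2 s) h.1) (sub_mem hg.1 (H_fix hq'f _)) h4).2
  rw [hr, sub_eq_zero] at h5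
  exact (MulAction.injective _ h5).symm

variable [Fintype K] [Finite V]

/-- A unipotent group fixes a point outside a proper invariant subgroup, modulo it. -/
theorem exists_fix_mod {p : ℕ} [Fact p.Prime] {n : ℕ} (hK : Fintype.card K = p ^ n)
    (hV : ∀ v : V, p • v = 0) (N : AddSubgroup V) (hN : ∀ (a : K), ∀ v ∈ N, uElt a • v ∈ N)
    (hne : N ≠ ⊤) : ∃ v, v ∉ N ∧ ∀ a : K, D a v ∈ N := by
  classical
  let α : Type _ := V ⧸ N
  let _ : MulAction (Multiplicative K) α :=
    { smul := fun a => Quotient.map' (fun v => uElt a.toAdd • v) fun v w h => by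
        rw [QuotientAddGroup.leftRel_apply] at h ⊢
        have := hN a.toAdd _ h
        rwa [smul_add, smul_neg] at this
      one_smul := fun x => by
        induction x using Quotient.inductionOn' with
        | _ v =>
          show Quotient.mk'' (uElt (0 : K) • v) = _
          rw [uElt_zero, one_smul]
      mul_smul := fun a b x => by
        induction x using Quotient.inductionOn' with
        | _ v =>
          show Quotient.mk'' (uElt (a.toAdd + b.toAdd) • v) = Quotient.mk'' (uElt a.toAdd • uElt b.toAdd • v)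
          rw [uElt_add, mul_smul] }
  have hG : IsPGroup p (Multiplicative K) := IsPGroup.of_card (n := n) (by
    rw [Nat.card_congr Multiplicative.toAdd, Nat.card_eq_fintype_card, hK])
  have hexp : ∀ x : α, p • x = 0 := fun x => by
    induction x using QuotientAddGroup.induction_on with
    | _ v => rw [← QuotientAddGroup.mk_nsmul, hV]; rfl
  have hdvd : p ∣ Nat.card α := by
    have : ∃ x : α, x ≠ 0 := by
      by_contra h
      push_neg at h
      exact hne (eq_top_iff.2 fun v _ => (QuotientAddGroup.eq_zero_iff v).1 (h _))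
    obtain ⟨x, hx⟩ := this
    have := addOrderOf_dvd_natCard x
    rwa [addOrderOf_eq_prime (hexp x) hx] at this
  have h0 : (0 : α) ∈ MulAction.fixedPoints (Multiplicative K) α := fun a => by
    show Quotient.mk'' (uElt a.toAdd • (0 : V)) = _
    rw [smul_zero]; rfl
  obtain ⟨x, hx, hx0⟩ :=
    hG.exists_fixed_point_of_prime_dvd_card_of_fixed_point α hdvd h0
  induction x using QuotientAddGroup.induction_on with
  | _ v =>
  refine ⟨v, fun hv => hx0 ((QuotientAddGroup.eq_zero_iff v).2 hv).symm, fun a => ?_⟩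
  have h1 : ((uElt a • v : V) : α) = (v : α) := hx (Multiplicative.ofAdd a)
  exact QuotientAddGroup.eq_iff_sub_mem.1 h1

variable (hirr : ∀ N : AddSubgroup V, (∀ (g : SL(2, K)), ∀ v ∈ N, g • v ∈ N) → N = ⊥ ∨ N = ⊤)
  (hnt : ∃ (g : SL(2, K)) (v : V), g • v ≠ v)

theorem gen {P : SL(2, K) → Prop} (hmul : ∀ g h, P g → P h → P (g * h))
    (hu : ∀ a : K, P (uElt a)) (hJ : P (J K)) (hH : ∀ l : Kˣ, P (H l)) (g : SL(2, K)) : P g := by
  have hd : g.1 0 0 * g.1 1 1 - g.1 0 1 * g.1 1 0 = 1 := by rw [← Matrix.det_fin_two]; exact g.2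
  rcases eq_or_ne (g.1 1 0) 0 with hc | hc
  · rw [hc, mul_zero, sub_zero] at hd
    have ha : g.1 0 0 ≠ 0 := left_ne_zero_of_mul_eq_one hd
    have hg : g = H (Units.mk0 _ ha) * uElt ((g.1 0 0)⁻¹ * g.1 0 1) := by
      apply ext' <;> simp [SpecialLinearGroup.coe_mul, H_val, uElt_val, Matrix.mul_apply, Fin.sum_univ_two, hc]
      · field_simp
      · exact (eq_inv_of_mul_eq_one_right hd)
    rw [hg]; exact hmul _ _ (hH _) (hu _)
  · have hg : g = uElt (g.1 0 0 / g.1 1 0) * (J K * H (Units.mk0 _ hc)) * uElt (g.1 1 1 / g.1 1 0) := by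
      apply ext' <;> simp [SpecialLinearGroup.coe_mul, H_val, uElt_val, J_val, Matrix.mul_apply, Fin.sum_univ_two]
      all_goals field_simp
      linear_combination -hd
    rw [hg]; exact hmul _ _ (hmul _ _ (hu _) (hmul _ _ hJ (hH _))) (hu _)

theorem mem_of_fix {v : V} (h1 : v ∈ fix K V) (h2 : (J K)⁻¹ • v ∈ fix K V) (g : SL(2, K)) :
    g • v = v := by
  have hinv : ((J K) : SL(2, K))⁻¹ = J K * H (-1) := inv_eq_of_mul_eq_one_right (by
    rw [← mul_assoc, J_J, ← H_mul]; simp [H_one])
  have hL : ∀ a : K, (J K * uElt a * (J K)⁻¹) • v = v := fun a => by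
    rw [mul_smul, mul_smul, h2 a, smul_inv_smul]
  have hgen : ∀ a b c : K, (uElt a * (J K * uElt b * (J K)⁻¹) * uElt c) • v = v := fun a b c => by
    rw [mul_smul, mul_smul, h1 c, hL b, h1 a]
  have hJ : J K • v = v := by
    rw [show J K = uElt (-1) * (J K * uElt (-1) * (J K)⁻¹) * uElt (-1) by
      conv_rhs => rw [hinv]
      apply ext' <;> simp [SpecialLinearGroup.coe_mul, uElt_val, J_val, H_val, Matrix.mul_apply, Fin.sum_univ_two]]
    exact hgen _ _ _
  have hH : ∀ l : Kˣ, H l • v = v := by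
    intro l
    rw [show H l = (uElt (l : K) * (J K * uElt ((l⁻¹ : Kˣ) : K) * (J K)⁻¹) * uElt (l : K)) * J K by
      rw [hinv]
      apply ext' <;> simp [SpecialLinearGroup.coe_mul, uElt_val, J_val, H_val, Matrix.mul_apply, Fin.sum_univ_two]]
    rw [mul_smul, hJ]; exact hgen _ _ _
  exact gen (P := fun g => g • v = v) (fun g h hg hh => by rw [mul_smul, hh, hg]) (fun a => h1 a) hJ hH g

include hirr hnt in
theorem eq_zero_of_J {p q : V} (hp : p ∈ fix K V) (hq : q ∈ fix K V) (h : p + J K • q = 0) :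
    p = 0 ∧ q = 0 := by
  let C : AddSubgroup V :=
    { carrier := {v | ∀ g : SL(2, K), g • v = v}
      zero_mem' := fun g => smul_zero g
      add_mem' := fun {a b} ha hb g => by rw [smul_add, ha, hb]
      neg_mem' := fun {a} ha g => by rw [smul_neg, ha] }
  have hC : C = ⊥ := by
    rcases hirr C (fun g v hv => by rw [hv g]; exact hv) with h | h
    · exact h
    · obtain ⟨g, v, hgv⟩ := hnt
      exact absurd ((h.ge (AddSubgroup.mem_top v)) g) hgv
  have hp0 : p = 0 := by
    have hmem : p ∈ C := mem_of_fix hp (by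
      rw [eq_neg_of_add_eq_zero_left h, smul_neg, inv_smul_smul]; exact neg_mem hq)
    rwa [hC, AddSubgroup.mem_bot] at hmem
  subst hp0
  exact ⟨rfl, by rw [zero_add, smul_eq_zero_iff_eq] at h; exact h⟩

include hirr hnt in
/-- Recognition of the natural module. -/
theorem exists_coord {p : ℕ} [Fact p.Prime] {n : ℕ} (hK : Fintype.card K = p ^ n)
    (hV : ∀ v : V, p • v = 0)
    (hyp : (∀ (a b : K) (v : V), D a (D b v) = 0) ∨ Nat.card V ≤ Nat.card (fix K V) ^ 2) :
    ∃ ψ : V ≃+ (Fin 2 → K), ∀ (g : SL(2, K)) (v : V), ψ (g • v) = g.1.mulVec (ψ v) := by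
  classical
  have huniq : ∀ a b : V, a ∈ fix K V → b ∈ fix K V → a + J K • b = 0 → a = 0 ∧ b = 0 :=
    fun a b => eq_zero_of_J hirr hnt
  have hbot : (⊥ : AddSubgroup V) ≠ ⊤ := fun h => by
    obtain ⟨g, v, hgv⟩ := hnt
    have h1 : ∀ x : V, x = 0 := fun x => AddSubgroup.mem_bot.1 (h.ge (AddSubgroup.mem_top x))
    exact hgv (by rw [h1 v, smul_zero])
  -- a nonzero good vector
  obtain ⟨c, hc0, hc⟩ : ∃ c : V, c ≠ 0 ∧ IsGood K c := by
    obtain ⟨v, hv, hvD⟩ := exists_fix_mod hK hV ⊥ (fun a w hw => by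
      rw [AddSubgroup.mem_bot] at hw ⊢; rw [hw, smul_zero]) hbot
    have hv0 : v ≠ 0 := fun h => hv (h ▸ AddSubgroup.zero_mem _)
    have hvfix : v ∈ fix K V := fun a => sub_eq_zero.1 (AddSubgroup.mem_bot.1 (hvD a))
    rcases hyp with hq | hcard
    · exact ⟨v, hv0, hvfix, fun a b => sub_eq_zero.1 (hq b a _)⟩
    · let f : fix K V × fix K V → V := fun x => x.1.1 + J K • x.2.1
      have hinj : Function.Injective f := by
        intro x y h
        obtain ⟨e1, e2⟩ := huniq (x.1.1 - y.1.1) (x.2.1 - y.2.1) (sub_mem x.1.2 y.1.2)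
          (sub_mem x.2.2 y.2.2) (by
            rw [smul_sub, show x.1.1 - y.1.1 + (J K • x.2.1 - J K • y.2.1) = f x - f y by
              simp only [f]; abel, h, sub_self])
        exact Prod.ext (Subtype.ext (sub_eq_zero.1 e1)) (Subtype.ext (sub_eq_zero.1 e2))
      have hsurj : Function.Surjective f :=
        (hinj.bijective_of_nat_card_le (by rw [Nat.card_prod, ← sq]; exact hcard)).2
      have hfixtop : fix K V ≠ ⊤ := fun h => by
        obtain ⟨e1, -⟩ := huniq (J K • v) (-v) (h.ge (AddSubgroup.mem_top _))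
          (h.ge (AddSubgroup.mem_top _)) (by rw [smul_neg, add_neg_cancel])
        exact hv0 (by rw [← inv_smul_smul (J K) v, e1, smul_zero])
      obtain ⟨w, hw, hwD⟩ := exists_fix_mod hK hV (fix K V) (fun a x hx => by rw [hx a]; exact hx)
        hfixtop
      obtain ⟨⟨⟨r, hr⟩, ⟨q, hq⟩⟩, hrq⟩ := hsurj w
      refine ⟨q, ?_, hq, fun a => ?_⟩
      · rintro rfl; apply hw; rw [← hrq]; simpa [f] using hr
      · have := hwD a
        rw [← hrq] at this
        simpa [f, D_add, D_fix hr] using this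
  have hDJ := fun {q : V} (hq : IsGood K q) (t : Kˣ) => D_J hq huniq t
  have hsm1 : sm (1 : K) c = c := by
    show D ((1 : Kˣ) : K) (J K • c) = c
    rw [hDJ hc, H_one, one_smul]
  have hgood : ∀ a : K, IsGood K (sm a c) := fun a => by
    rcases eq_or_ne a 0 with rfl | ha
    · rw [sm_zero]; exact IsGood.zero
    · rw [show sm a c = H (Units.mk0 a ha) • c from hDJ hc (Units.mk0 a ha)]; exact hc.smul _
  have hmul : ∀ a b : K, sm a (sm b c) = sm (a * b) c := by
    intro a b
    rcases eq_or_ne b 0 with rfl | hb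
    · simp [sm, D, uElt_zero]
    rcases eq_or_ne a 0 with rfl | ha
    · rw [zero_mul, sm_zero, sm_zero]
    obtain ⟨a, rfl⟩ : ∃ u : Kˣ, (u : K) = a := ⟨Units.mk0 a ha, rfl⟩
    obtain ⟨b, rfl⟩ : ∃ u : Kˣ, (u : K) = b := ⟨Units.mk0 b hb, rfl⟩
    rw [show sm (b : K) c = H b • c from hDJ hc b, ← Units.val_mul,
      show sm ((a * b : Kˣ) : K) c = H (a * b) • c from hDJ hc (a * b),
      show sm (a : K) (H b • c) = H a • H b • c from hDJ (hc.smul b) a, H_mul, mul_smul]
  have hHsm : ∀ (l : Kˣ) (a : K), H l • sm a c = sm ((l : K) * a) c := fun l a => by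
    rw [← hmul]; exact (hDJ (hgood a) l).symm
  let ι : (Fin 2 → K) →+ V := AddMonoidHom.mk' (fun x => sm (x 0) c + J K • sm (x 1) c) fun x y => by
    simp only [Pi.add_apply, sm_add hc, smul_add]; abel
  have hι : ∀ x, ι x = sm (x 0) c + J K • sm (x 1) c := fun x => rfl
  have heq : ∀ (g : SL(2, K)) x, ι (g.1.mulVec x) = g • ι x := by
    intro g
    refine gen (P := fun g => ∀ x, ι (g.1.mulVec x) = g • ι x) ?_ ?_ ?_ ?_ g
    · intro g h hg hh x
      show ι ((g.1 * h.1).mulVec x) = _
      rw [← Matrix.mulVec_mulVec, hg, hh, mul_smul]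
    · intro a x
      rw [hι, hι, smul_add, (hgood (x 0)).1 a]
      simp only [uElt_val, Matrix.mulVec, dotProduct, Fin.sum_univ_two, Matrix.of_apply,
        Matrix.cons_val', Matrix.cons_val_zero, Matrix.cons_val_one, Matrix.cons_val_fin_one,
        one_mul, zero_mul, zero_add]
      rw [sm_add hc, ← hmul a, add_assoc]
      congr 1
      simp [sm, D]
    · intro x
      rw [hι, hι, smul_add, smul_smul, J_J, hHsm]
      simp [J_val, Matrix.mulVec, dotProduct, Fin.sum_univ_two, add_comm]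
    · intro l x
      rw [hι, hι, smul_add, hHsm, smul_smul, H_J, mul_smul, hHsm]
      simp [H_val, Matrix.mulVec, dotProduct, Fin.sum_univ_two]
  have hrange : ι.range = ⊤ := by
    refine (hirr ι.range (fun g v ⟨x, hx⟩ => ⟨g.1.mulVec x, by rw [heq, hx]⟩)).resolve_left fun h => ?_
    have h1 : ι ![1, 0] = 0 := AddSubgroup.mem_bot.1 (h.le ⟨_, rfl⟩)
    rw [hι] at h1
    simp [sm_zero, hsm1] at h1
    exact hc0 h1
  have hinj : Function.Injective ι := by
    rw [injective_iff_map_eq_zero]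
    intro x hx
    rw [hι] at hx
    obtain ⟨e1, e2⟩ := huniq _ _ (hgood _).1 (hgood _).1 hx
    have hz : ∀ a : K, sm a c = 0 → a = 0 := fun a h => by
      by_contra ha
      rw [show sm a c = H (Units.mk0 a ha) • c from hDJ hc (Units.mk0 a ha),
        smul_eq_zero_iff_eq] at h
      exact hc0 h
    ext i
    fin_cases i
    · exact hz _ e1
    · exact hz _ e2
  let φ : (Fin 2 → K) ≃+ V :=
    AddEquiv.ofBijective ι ⟨hinj, AddMonoidHom.range_eq_top.1 hrange⟩
  refine ⟨φ.symm, fun g v => φ.injective ?_⟩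
  obtain ⟨x, rfl⟩ := φ.surjective v
  rw [φ.apply_symm_apply, φ.symm_apply_apply]
  exact (heq g x).symm

end module

end CfsgLib.Amalgam.NatRec
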