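import Cfsg.Prelude.Def_LocalEven
import Cfsg.Agent.Lib.Classical.SLTwoSylow
import Mathlib.Algebra.CharP.CharAndCard

/-!
# Coordinates on a faithful natural `SL₂`-module adapted to a Sylow subgroup
-/

set_option autoImplicit false

namespace CfsgLib.Amalgam

open Subgroup Matrix CfsgLib.Classical
open scoped MatrixGroups Pointwise

variable {G : Type*} [Group G] {F : Type*} [Field F]

/-- Coordinates identifying `L` with `SL₂(F)` acting on `V = F²`, with `T` upper unitriangular. -/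
structure NatCoord (F : Type*) [Field F] (V L T : Subgroup G) where
  toSL : ↥L ≃* SL(2, F)
  vec : Additive ↥V ≃+ (Fin 2 → F)
  act : ∀ (l : ↥L) (v : ↥V), ∃ w : ↥V, (w : G) = (l : G) * (v : G) * (l : G)⁻¹ ∧
    vec (Additive.ofMul w) = (toSL l : Matrix (Fin 2) (Fin 2) F).mulVec (vec (Additive.ofMul v))
  le : T ≤ L
  mem : ∀ l : ↥L, (l : G) ∈ T ↔ toSL l ∈ uSL F

theorem exists_natCoord [Finite G] [Fintype F] {p n : ℕ} [Fact p.Prime] (hF : Fintype.card F = p ^ n)
    {V L T : Subgroup G} (hnat : Cfsg.IsNaturalSL2Module F V L)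
    (hf : L ⊓ centralizer (V : Set G) = ⊥) (S : Sylow p ↥L) (hT : T = (S : Subgroup ↥L).map L.subtype) :
    Nonempty (NatCoord F V L T) := by
  haveI : CharP F p := charP_of_card_eq_prime_pow hF
  obtain ⟨-, ρ, ψ, hρs, hρk, hact⟩ := hnat
  have hinj : Function.Injective ρ := by
    rw [← MonoidHom.ker_eq_bot_iff, hρk, eq_bot_iff]
    intro l hl
    have : (l : G) ∈ L ⊓ centralizer (V : Set G) := ⟨l.2, hl⟩
    rw [hf, Subgroup.mem_bot] at this
    exact Subgroup.mem_bot.2 (Subtype.ext this)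
  obtain ⟨P, hP⟩ := exists_sylow_uSL (F := F) p
  obtain ⟨M, hM⟩ := MulAction.exists_smul_eq SL(2, F) (Sylow.mapSurjective hρs S) P
  let e : ↥L ≃* SL(2, F) := (MulEquiv.ofBijective ρ ⟨hinj, hρs⟩).trans (MulAut.conj M)
  let m : (Fin 2 → F) ≃+ (Fin 2 → F) :=
    { toFun := fun v => (M : Matrix (Fin 2) (Fin 2) F).mulVec v
      invFun := fun v => (↑(M⁻¹) : Matrix (Fin 2) (Fin 2) F).mulVec v
      left_inv := fun v => by
        beta_reduce
        rw [Matrix.mulVec_mulVec, ← Matrix.SpecialLinearGroup.coe_mul, inv_mul_cancel,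
          Matrix.SpecialLinearGroup.coe_one, Matrix.one_mulVec]
      right_inv := fun v => by
        beta_reduce
        rw [Matrix.mulVec_mulVec, ← Matrix.SpecialLinearGroup.coe_mul, mul_inv_cancel,
          Matrix.SpecialLinearGroup.coe_one, Matrix.one_mulVec]
      map_add' := fun u v => Matrix.mulVec_add _ _ _ }
  refine ⟨{ toSL := e, vec := ψ.trans m, act := fun l v => ?_, le := hT ▸ map_subtype_le _, mem := fun l => ?_ }⟩
  · obtain ⟨w, hw, hw'⟩ := hact l v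
    refine ⟨w, hw, ?_⟩
    show (M : Matrix (Fin 2) (Fin 2) F).mulVec (ψ (Additive.ofMul w)) =
      (↑(M * ρ l * M⁻¹) : Matrix (Fin 2) (Fin 2) F).mulVec
        ((M : Matrix (Fin 2) (Fin 2) F).mulVec (ψ (Additive.ofMul v)))
    rw [hw', Matrix.mulVec_mulVec, Matrix.mulVec_mulVec, ← Matrix.SpecialLinearGroup.coe_mul,
      ← Matrix.SpecialLinearGroup.coe_mul, inv_mul_cancel_right]
  · rw [← hP, ← hM, hT]
    show (l : G) ∈ (S : Subgroup ↥L).map L.subtype ↔
      M * ρ l * M⁻¹ ∈ MulAut.conj M • ((Sylow.mapSurjective hρs S : Sylow p SL(2, F)) : Subgroup SL(2, F))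
    rw [mem_pointwise_smul_iff_inv_smul_mem]
    simp only [MulAut.smul_def, MulAut.inv_apply, MulAut.conj_symm_apply]
    rw [show M⁻¹ * (M * ρ l * M⁻¹) * M = ρ l by simp [mul_assoc]]
    show _ ↔ ρ l ∈ (S : Subgroup ↥L).map ρ
    rw [mem_map, mem_map]
    exact ⟨fun ⟨x, hx, he⟩ => ⟨x, hx, congrArg ρ (Subtype.ext he)⟩, fun ⟨x, hx, he⟩ => ⟨x, hx, congrArg Subtype.val (hinj he)⟩⟩

namespace NatCoord

variable {V L T : Subgroup G} (c : NatCoord F V L T)

/-- The vector of an element of `V`. -/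
def co (v : ↥V) : Fin 2 → F := c.vec (Additive.ofMul v)

theorem co_inj {v w : ↥V} (h : c.co v = c.co w) : v = w := c.vec.injective h

theorem co_surj (x : Fin 2 → F) : ∃ v : ↥V, c.co v = x :=
  ⟨Additive.toMul (c.vec.symm x), by simp [co]⟩

theorem co_mul (v w : ↥V) : c.co (v * w) = c.co v + c.co w := map_add c.vec _ _

theorem co_inv (v : ↥V) : c.co v⁻¹ = -c.co v := map_neg c.vec _

theorem co_one : c.co 1 = 0 := map_zero c.vec

include c in
theorem conj_mem {g : G} (hg : g ∈ L) {v : G} (hv : v ∈ V) : g * v * g⁻¹ ∈ V := by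
  obtain ⟨w, hw, -⟩ := c.act ⟨g, hg⟩ ⟨v, hv⟩
  rw [← hw]; exact w.2

theorem co_conj (l : ↥L) (v : ↥V) :
    c.co ⟨(l : G) * v * (l : G)⁻¹, c.conj_mem l.2 v.2⟩ =
      (c.toSL l : Matrix (Fin 2) (Fin 2) F).mulVec (c.co v) := by
  obtain ⟨w, hw, hw'⟩ := c.act l v
  have : w = ⟨(l : G) * v * (l : G)⁻¹, c.conj_mem l.2 v.2⟩ := Subtype.ext hw
  rw [← this]; exact hw'

theorem commute_iff (l : ↥L) (v : ↥V) :
    (l : G) * v = v * l ↔ (c.toSL l : Matrix (Fin 2) (Fin 2) F).mulVec (c.co v) = c.co v := by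
  rw [← c.co_conj]
  constructor
  · intro h
    congr 1
    exact Subtype.ext (by simp [h])
  · intro h
    have h' : (l : G) * v * (l : G)⁻¹ = v := congrArg Subtype.val (c.co_inj h)
    exact mul_inv_eq_iff_eq_mul.1 h'

theorem exists_unipotent {t : G} (ht : t ∈ T) : ∃ b, c.toSL ⟨t, c.le ht⟩ = uElt b := by
  obtain ⟨b, hb⟩ := (c.mem ⟨t, c.le ht⟩).1 ht
  exact ⟨b, hb.symm⟩

theorem exists_mem (b : F) : ∃ t, ∃ ht : t ∈ T, c.toSL ⟨t, c.le ht⟩ = uElt b := by
  have h : ((c.toSL.symm (uElt b) : ↥L) : G) ∈ T := (c.mem _).2 (by rw [c.toSL.apply_symm_apply]; exact ⟨b, rfl⟩)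
  exact ⟨_, h, c.toSL.apply_symm_apply _⟩

theorem uElt_mulVec {F : Type*} [Field F] (b : F) (x : Fin 2 → F) :
    (uElt b : Matrix (Fin 2) (Fin 2) F).mulVec x = ![x 0 + b * x 1, x 1] := by
  funext i
  fin_cases i <;> simp [uElt_val, Matrix.mulVec, dotProduct, Fin.sum_univ_two]

theorem commute_unipotent {t : G} (ht : t ∈ T) {b : F} (hb : c.toSL ⟨t, c.le ht⟩ = uElt b) (v : ↥V) :
    t * v = v * t ↔ b = 0 ∨ c.co v 1 = 0 := by
  rw [show t = ((⟨t, c.le ht⟩ : ↥L) : G) from rfl, c.commute_iff, hb, uElt_mulVec, ← mul_eq_zero]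
  constructor
  · intro h; simpa using congrFun h 0
  · intro h
    funext i
    fin_cases i <;> simp [h]

/-- The fixed points of `T` on `V` are the vectors with vanishing second coordinate. -/
theorem mem_fix_iff (v : ↥V) : (v : G) ∈ centralizer (T : Set G) ↔ c.co v 1 = 0 := by
  rw [mem_centralizer_iff]
  constructor
  · intro h
    obtain ⟨t, ht, hb⟩ := c.exists_mem 1
    exact ((c.commute_unipotent ht hb v).1 (h t ht)).resolve_left one_ne_zero
  · intro h t ht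
    obtain ⟨b, hb⟩ := c.exists_unipotent ht
    exact (c.commute_unipotent ht hb v).2 (Or.inr h)

/-- The value of the commutator with a unipotent element. -/
theorem co_comm {t : G} (ht : t ∈ T) {b : F} (hb : c.toSL ⟨t, c.le ht⟩ = uElt b) (v : ↥V) :
    ∃ w : ↥V, (w : G) = (v : G) * t * (v : G)⁻¹ * t⁻¹ ∧ c.co w = ![-(b * c.co v 1), 0] := by
  have hl : t * (v : G)⁻¹ * t⁻¹ ∈ V := c.conj_mem (c.le ht) (inv_mem v.2)
  refine ⟨v * ⟨t * (v : G)⁻¹ * t⁻¹, hl⟩, by simp [mul_assoc], ?_⟩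
  rw [c.co_mul]
  have := c.co_conj ⟨t, c.le ht⟩ v⁻¹
  simp only [InvMemClass.coe_inv] at this
  rw [this, hb, uElt_mulVec, c.co_inv]
  funext i
  fin_cases i <;> simp

end NatCoord

end CfsgLib.Amalgam
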