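import Cfsg.Agent.Lib.Coprime.Basic
import Mathlib.GroupTheory.QuotientGroup.Basic
import Mathlib.GroupTheory.Commutator.Basic
import Mathlib.Algebra.BigOperators.Group.Finset.Basic

/-!
The norm map from the fixed points of a subgroup to those of an overgroup on an abelian group.
-/

set_option autoImplicit false
set_option linter.unusedSectionVars false

namespace CfsgLib.Amalgam

open Subgroup
open scoped commutatorElement

variable {G : Type*} [Group G] [Finite G]

/-- The norm `C_A(T) → C_A(R)`. -/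
theorem exists_norm (A R T : Subgroup G) [IsMulCommutative A] (hRA : R ≤ normalizer (A : Set G)) :
    ∃ N : ↥(A ⊓ centralizer (T : Set G)) →* G,
      (∀ z, N z ∈ A ⊓ centralizer (R : Set G)) ∧
      (∀ z : ↥(A ⊓ centralizer (T : Set G)), (z : G) ∈ centralizer (R : Set G) →
        N z = (z : G) ^ T.relIndex R) ∧
      (∀ (z : ↥(A ⊓ centralizer (T : Set G))) (M : Subgroup G), M ≤ A → (∀ r ∈ R, ⁅r, (z : G)⁆ ∈ M) →
        N z * ((z : G) ^ T.relIndex R)⁻¹ ∈ M) ∧
      ∀ g : G, g ∈ normalizer (A : Set G) → g ∈ normalizer (R : Set G) → g ∈ normalizer (T : Set G) →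
        ∀ z z' : ↥(A ⊓ centralizer (T : Set G)), g * (z : G) * g⁻¹ = z' → g * N z * g⁻¹ = N z' := by
  classical
  let _ : CommGroup A := { (inferInstance : Group A) with mul_comm := mul_comm' }
  let T' := T.subgroupOf R
  haveI : Fintype (R ⧸ T') := Fintype.ofFinite _
  have hk : T.relIndex R = Fintype.card (R ⧸ T') := by
    rw [Subgroup.relIndex, Subgroup.index, Nat.card_eq_fintype_card]
  have hconjA : ∀ (r : R) (z : ↥(A ⊓ centralizer (T : Set G))), (r : G) * z * (r : G)⁻¹ ∈ A := fun r z =>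
    (mem_normalizer_iff.1 (hRA r.2) _).1 (mem_inf.1 z.2).1
  let f : ↥(A ⊓ centralizer (T : Set G)) → R ⧸ T' → A := fun z q => ⟨_, hconjA q.out z⟩
  have hf : ∀ z (r : R), (f z (QuotientGroup.mk r) : G) = (r : G) * z * (r : G)⁻¹ := by
    intro z r
    obtain ⟨t, ht⟩ := QuotientGroup.mk_out_eq_mul T' r
    have hz : (t.1 : G) * z = z * (t.1 : G) := (mem_inf.1 z.2).2 _ t.2
    show ((QuotientGroup.mk r : R ⧸ T').out : G) * z * ((QuotientGroup.mk r : R ⧸ T').out : G)⁻¹ = _
    rw [ht, Subgroup.coe_mul, mul_inv_rev]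
    calc (r : G) * (t.1 : G) * z * ((t.1 : G)⁻¹ * (r : G)⁻¹)
        = (r : G) * ((t.1 : G) * z) * (t.1 : G)⁻¹ * (r : G)⁻¹ := by group
      _ = (r : G) * z * (r : G)⁻¹ := by rw [hz]; group
  let N : ↥(A ⊓ centralizer (T : Set G)) →* G :=
    MonoidHom.mk' (fun z => ((∏ q, f z q : A) : G)) fun a b => by
      rw [← Subgroup.coe_mul, ← Finset.prod_mul_distrib]
      congr 1
      refine Finset.prod_congr rfl fun q _ => Subtype.ext ?_
      show (q.out : G) * ((a : G) * b) * (q.out : G)⁻¹ = _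
      show _ = (q.out : G) * a * (q.out : G)⁻¹ * ((q.out : G) * b * (q.out : G)⁻¹)
      group
  have hN : ∀ z, N z = ((∏ q, f z q : A) : G) := fun z => rfl
  -- conjugation by an element normalizing `A`
  let cA : ∀ g : G, g ∈ normalizer (A : Set G) → A →* A := fun g hg =>
    MonoidHom.mk' (fun a => ⟨g * a * g⁻¹, (mem_normalizer_iff.1 hg _).1 a.2⟩) fun a b =>
      Subtype.ext (by simp [mul_assoc])
  have hcA : ∀ g hg (a : A), (cA g hg a : G) = g * a * g⁻¹ := fun _ _ _ => rfl
  refine ⟨N, fun z => mem_inf.2 ⟨Subtype.prop _, fun r hr => ?_⟩, ?_, ?_, ?_⟩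
  · have h1 : cA r (hRA hr) (∏ q, f z q) = ∏ q, f z q := by
      rw [map_prod, ← Equiv.prod_comp (MulAction.toPerm (⟨r, hr⟩ : R)) (f z)]
      refine Finset.prod_congr rfl fun q _ => Subtype.ext ?_
      obtain ⟨s, rfl⟩ := QuotientGroup.mk_surjective q
      rw [MulAction.toPerm_apply, MulAction.Quotient.smul_mk, hcA r (hRA hr), hf, hf, smul_eq_mul, Subgroup.coe_mul]
      show r * ((s : G) * z * (s : G)⁻¹) * r⁻¹ = r * (s : G) * z * (r * (s : G))⁻¹
      group
    have h2 := congrArg Subtype.val h1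
    rw [hcA r (hRA hr)] at h2
    exact mul_inv_eq_iff_eq_mul.1 h2
  · intro z hz
    rw [hN, hk]
    have : ∀ q, f z q = ⟨z, (mem_inf.1 z.2).1⟩ := fun q => Subtype.ext (by
      show (q.out : G) * z * (q.out : G)⁻¹ = z
      rw [hz _ q.out.2, mul_inv_cancel_right])
    rw [Finset.prod_congr rfl fun q _ => this q, Finset.prod_const, Finset.card_univ, Subgroup.coe_pow]
  · intro z M hMA hM
    rw [hN, hk]
    have h1 : (∏ q, f z q) * ((⟨z, (mem_inf.1 z.2).1⟩ : A) ^ Fintype.card (R ⧸ T'))⁻¹ ∈ M.subgroupOf A := by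
      rw [← Finset.card_univ, ← Finset.prod_const, ← Finset.prod_inv_distrib, ← Finset.prod_mul_distrib]
      refine Subgroup.prod_mem _ fun q _ => ?_
      show (q.out : G) * z * (q.out : G)⁻¹ * (z : G)⁻¹ ∈ M
      exact hM _ q.out.2
    exact h1
  · intro g hgA hgR hgT z z' hzz
    let cR : R → R := fun r => ⟨g * r * g⁻¹, (mem_normalizer_iff.1 hgR _).1 r.2⟩
    let cR' : R → R := fun r => ⟨g⁻¹ * r * g, by
      simpa using (mem_normalizer_iff.1 (inv_mem hgR) _).1 r.2⟩
    have hc : ∀ (g : G), g ∈ normalizer (T : Set G) → ∀ a b : G, a⁻¹ * b ∈ T →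
        (g * a * g⁻¹)⁻¹ * (g * b * g⁻¹) ∈ T := fun g hg a b h => by
      have := (mem_normalizer_iff.1 hg _).1 h
      convert this using 1
      group
    let e : R ⧸ T' ≃ R ⧸ T' :=
      { toFun := Quotient.map' cR fun a b h => by
          rw [QuotientGroup.leftRel_apply] at h ⊢
          exact hc g hgT _ _ h
        invFun := Quotient.map' cR' fun a b h => by
          rw [QuotientGroup.leftRel_apply] at h ⊢
          have h' := hc g⁻¹ (inv_mem hgT) _ _ h
          rw [inv_inv] at h'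
          exact h'
        left_inv := fun q => by
          obtain ⟨s, rfl⟩ := QuotientGroup.mk_surjective q
          refine congrArg QuotientGroup.mk (Subtype.ext ?_)
          show g⁻¹ * (g * (s : G) * g⁻¹) * g = s
          group
        right_inv := fun q => by
          obtain ⟨s, rfl⟩ := QuotientGroup.mk_surjective q
          refine congrArg QuotientGroup.mk (Subtype.ext ?_)
          show g * (g⁻¹ * (s : G) * g) * g⁻¹ = s
          group }
    rw [hN, hN, ← hcA g hgA]
    congr 1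
    rw [map_prod, ← Equiv.prod_comp e (f z')]
    refine Finset.prod_congr rfl fun q _ => Subtype.ext ?_
    obtain ⟨s, rfl⟩ := QuotientGroup.mk_surjective q
    rw [hcA g hgA, hf, show e (QuotientGroup.mk s) = QuotientGroup.mk (cR s) from rfl, hf, ← hzz]
    show g * ((s : G) * z * (s : G)⁻¹) * g⁻¹ = g * (s : G) * g⁻¹ * (g * (z : G) * g⁻¹) * (g * (s : G) * g⁻¹)⁻¹
    group

end CfsgLib.Amalgam
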