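import Cfsg.Prelude.Def_LocalEven
import Cfsg.Agent.Lib.PLocal.Replace
import Cfsg.Agent.Lib.Coprime.Basic

/-!
A minimal offender generating a `p`-minimal group with any conjugate from outside the maximal
subgroup: counting part.
-/

set_option autoImplicit false
set_option linter.unusedSectionVars false

namespace CfsgLib.Amalgam

open Cfsg Subgroup
open scoped commutatorElement

variable {G : Type*} [Group G] [Finite G] {p : ℕ} [Fact p.Prime]

/-- `g H g⁻¹`. -/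
def cjSub (g : G) (H : Subgroup G) : Subgroup G := H.map (MulAut.conj g).toMonoidHom

theorem mem_cjSub {g v : G} {H : Subgroup G} : v ∈ cjSub g H ↔ g⁻¹ * v * g ∈ H :=
  CfsgLib.Coprime.mem_map_conj

theorem card_cjSub (g : G) (H : Subgroup G) : Nat.card (cjSub g H) = Nat.card H :=
  card_map_of_injective (MulEquiv.injective _)

/-- The setting. -/
structure OffGen (p : ℕ) (V P A M T D : Subgroup G) : Prop where
  hV : IsElementaryAbelian p V
  hA : IsElementaryAbelian p A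
  hPV : P ≤ normalizer (V : Set G)
  faith : P ⊓ centralizer (V : Set G) = ⊥
  hAT : A ≤ T
  hTM : T ≤ M
  hMP : M ≤ P
  hDT : D ≤ T
  hPD : P ≤ normalizer (D : Set G)
  hDp : ∀ K : Subgroup G, K ≤ P → P ≤ normalizer (K : Set G) → IsPGroup p K → K ≤ D
  core : ∀ a ∈ T, (∀ g ∈ P, g⁻¹ * a * g ∈ M) → a ∈ D
  conjT : ∀ a ∈ M, a ^ p = 1 → ∃ m ∈ M, m * a * m⁻¹ ∈ T
  ge : Nat.card V ≤ Nat.card A * Nat.card ↥(V ⊓ centralizer (A : Set G))
  strict : ∀ A₀ : Subgroup G, A₀ ≤ A → A₀ ≠ ⊥ → A₀ ≠ A →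
    Nat.card A₀ * Nat.card ↥(V ⊓ centralizer (A₀ : Set G)) <
      Nat.card A * Nat.card ↥(V ⊓ centralizer (A : Set G))
  fix : ∃ u ∈ V, u ∈ centralizer (T : Set G) ∧ u ∉ centralizer (P : Set G)
  gen : ∀ g ∈ P, g ∉ M → A ⊔ cjSub g A = P
  out : ∃ x ∈ P, x ∉ M

theorem comm_mul_left (a b v : G) : ⁅a * b, v⁆ = a * ⁅b, v⁆ * a⁻¹ * ⁅a, v⁆ := by
  simp only [commutatorElement_def]; group

theorem mul_comm_eq (a v : G) : a * v * a⁻¹ = ⁅a, v⁆ * v := by
  simp only [commutatorElement_def]; group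

/-- A homomorphism into `W` modulo `Z` with small kernel bounds the order. -/
theorem card_mul_le_of_hom {A : Subgroup G} (φ : A →* G) {Z W : Subgroup G} (hZW : Z ≤ W)
    (hφ : ∀ a, φ a ∈ W) (A₀ : Subgroup G) (hA₀ : A₀ ≤ A) (hker : ∀ a : A, φ a ∈ Z → (a : G) ∈ A₀) :
    Nat.card A * Nat.card Z ≤ Nat.card A₀ * Nat.card W := by
  set K := Z.comap φ with hK
  have hidx : K.index ≤ Z.relIndex W := by
    rw [hK, index_comap]
    exact relIndex_le_of_le_right (fun _ ⟨a, ha⟩ => ha ▸ hφ a)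
      (index_ne_zero_of_finite (H := Z.subgroupOf W))
  have hKA : Nat.card K ≤ Nat.card A₀ := by
    rw [← Nat.card_congr (subgroupOfEquivOfLe hA₀).toEquiv]
    exact card_le_of_le fun a ha => hker a ha
  have hW : Nat.card Z * Z.relIndex W = Nat.card W := by
    rw [← Nat.card_congr (subgroupOfEquivOfLe hZW).toEquiv]
    exact card_mul_index _
  rw [← card_mul_index K, ← hW]
  calc Nat.card K * K.index * Nat.card Z ≤ Nat.card A₀ * Z.relIndex W * Nat.card Z := by gcongr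
    _ = Nat.card A₀ * (Nat.card Z * Z.relIndex W) := by ring

namespace OffGen

variable {V P A M T D : Subgroup G} (h : OffGen p V P A M T D)

include h

theorem commV {v w : G} (hv : v ∈ V) (hw : w ∈ V) : v * w = w * v :=
  congrArg Subtype.val (h.hV.1.1.1 ⟨v, hv⟩ ⟨w, hw⟩)

theorem V_le_centralizer : V ≤ centralizer (V : Set G) :=
  fun _ hv _ hw => h.commV hw hv

theorem A_le_P : A ≤ P := (h.hAT.trans h.hTM).trans h.hMP

theorem A_le_M : A ≤ M := h.hAT.trans h.hTM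

theorem conjV {g v : G} (hg : g ∈ P) (hv : v ∈ V) : g * v * g⁻¹ ∈ V :=
  (mem_normalizer_iff.1 (h.hPV hg) v).1 hv

theorem conjV' {g v : G} (hg : g ∈ P) (hv : v ∈ V) : g⁻¹ * v * g ∈ V := by
  simpa using h.conjV (P.inv_mem hg) hv

theorem comm_mem_V {g v : G} (hg : g ∈ P) (hv : v ∈ V) : ⁅g, v⁆ ∈ V := by
  rw [commutatorElement_def]
  exact V.mul_mem (h.conjV hg hv) (V.inv_mem hv)

theorem comm_mul {g v w : G} (hg : g ∈ P) (hv : v ∈ V) (hw : w ∈ V) :
    ⁅g, v * w⁆ = ⁅g, v⁆ * ⁅g, w⁆ :=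
  by simpa using
    congrArg Subtype.val (map_mul (PLocal.commHom V h.V_le_centralizer g (h.hPV hg)) ⟨v, hv⟩ ⟨w, hw⟩)

theorem mem_sup_V {H K : Subgroup G} (hH : H ≤ V) (hK : K ≤ V) {v : G} (hv : v ∈ H ⊔ K) :
    ∃ a ∈ H, ∃ b ∈ K, a * b = v := by
  have hn : H ≤ normalizer (K : Set G) := (hH.trans h.V_le_centralizer).trans
    ((centralizer_le hK).trans (centralizer_le_normalizer _))
  rw [← SetLike.mem_coe, coe_mul_of_left_le_normalizer_right _ _ hn] at hv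
  exact hv

theorem cjSub_le_V {g : G} (hg : g ∈ P) {H : Subgroup G} (hH : H ≤ V) : cjSub g H ≤ V := by
  intro v hv
  have := h.conjV hg (hH (mem_cjSub.1 hv))
  simpa [mul_assoc] using this

theorem Z_comm {g z : G} (hg : g ∈ P) (hz : z ∈ V ⊓ centralizer (P : Set G)) :
    g⁻¹ * z * g = z := by
  rw [mul_assoc, ← mem_centralizer_iff.1 hz.2 g hg, inv_mul_cancel_left]

theorem Z_le_X : V ⊓ centralizer (P : Set G) ≤ V ⊓ centralizer (A : Set G) :=
  inf_le_inf_left _ (centralizer_le h.A_le_P)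

theorem Z_le_cjX {g : G} (hg : g ∈ P) :
    V ⊓ centralizer (P : Set G) ≤ cjSub g (V ⊓ centralizer (A : Set G)) := fun z hz =>
  mem_cjSub.2 (by rw [h.Z_comm hg hz]; exact h.Z_le_X hz)

theorem inf_cjX {g v : G} (hg : g ∈ P) (hgM : g ∉ M) (hv : v ∈ V ⊓ centralizer (A : Set G))
    (hv' : v ∈ cjSub g (V ⊓ centralizer (A : Set G))) : v ∈ V ⊓ centralizer (P : Set G) := by
  refine ⟨hv.1, ?_⟩
  have hle : P ≤ centralizer ({v} : Set G) := by
    rw [← h.gen g hg hgM]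
    refine sup_le (fun a ha => mem_centralizer_singleton_iff.2 (mem_centralizer_iff.1 hv.2 a ha)) ?_
    intro b hb
    rw [mem_centralizer_singleton_iff]
    have := mem_centralizer_iff.1 (mem_cjSub.1 hv').2 _ (mem_cjSub.1 hb)
    calc b * v = g * ((g⁻¹ * b * g) * (g⁻¹ * v * g)) * g⁻¹ := by group
      _ = g * ((g⁻¹ * v * g) * (g⁻¹ * b * g)) * g⁻¹ := by rw [this]
      _ = v * b := by group
  exact fun q hq => mem_centralizer_singleton_iff.1 (hle hq)

theorem inf_cjX' {g k v : G} (hg : g ∈ P) (hk : k ∈ P) (hgk : g⁻¹ * k ∉ M)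
    (hv : v ∈ cjSub g (V ⊓ centralizer (A : Set G)))
    (hv' : v ∈ cjSub k (V ⊓ centralizer (A : Set G))) : v ∈ V ⊓ centralizer (P : Set G) := by
  have h1 := h.inf_cjX (P.mul_mem (P.inv_mem hg) hk) hgk (mem_cjSub.1 hv) (mem_cjSub.2 (by
    have := mem_cjSub.1 hv'
    simpa [mul_assoc] using this))
  have h2 := h.Z_comm (P.inv_mem hg) h1
  rw [inv_inv] at h2
  have h3 : v = g⁻¹ * v * g := by
    calc v = g * (g⁻¹ * v * g) * g⁻¹ := by group
      _ = g⁻¹ * v * g := h2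
  rw [h3]
  exact h1

theorem hmax (B : Subgroup G) (hB : B ≤ A) :
    Nat.card B * Nat.card ↥(V ⊓ centralizer (B : Set G)) ≤
      Nat.card A * Nat.card ↥(V ⊓ centralizer (A : Set G)) := by
  by_cases h1 : B = ⊥
  · subst h1
    refine le_trans ?_ h.ge
    rw [card_bot, one_mul]
    exact card_le_of_le inf_le_left
  by_cases h2 : B = A
  · rw [h2]
  exact (h.strict B hB h1 h2).le

/-- Quadratic action. -/
theorem quad {a v : G} (ha : a ∈ A) (hv : v ∈ V) : ⁅a, v⁆ ∈ V ⊓ centralizer (A : Set G) := by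
  have hAV : A ≤ normalizer (V : Set G) := h.A_le_P.trans h.hPV
  have hab : ⁅A, A⁆ ≤ centralizer (V : Set G) := by
    rw [commutator_le]
    intro a ha b hb
    rw [commutatorElement_eq_one_iff_mul_comm.2
      (congrArg Subtype.val (h.hA.1.1.1 ⟨a, ha⟩ ⟨b, hb⟩))]
    exact one_mem _
  obtain ⟨heq, hcard⟩ := PLocal.timmesfeld_eq h.V_le_centralizer hAV hab h.hmax (le_refl V)
  set B := A ⊓ centralizer ((⁅V, A⁆ : Subgroup G) : Set G)
  refine ⟨h.comm_mem_V (h.A_le_P ha) hv, ?_⟩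
  have hmem : ⁅a, v⁆ ∈ ⁅V, A⁆ := by
    rw [← commutatorElement_inv]
    exact inv_mem (commutator_mem_commutator hv ha)
  by_cases hBA : B = A
  · intro b hb
    exact ((hBA.symm ▸ hb : b ∈ B).2 _ hmem).symm
  by_cases hB1 : B = ⊥
  · have hVp : IsPGroup p V := fun v => ⟨1, Subtype.ext (by simpa using h.hV.2 v v.2)⟩
    have hle : V ≤ ⁅V, A⁆ ⊔ (V ⊓ centralizer (A : Set G)) := by
      rw [← heq, hB1]
      refine le_inf le_rfl fun w _ b hb => ?_
      rw [mem_bot.1 hb, one_mul, mul_one]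
    rw [PLocal.commutator_eq_bot_of_le_sup (p := p) h.V_le_centralizer hVp hAV
      (fun a ha => by rw [h.hA.2 a ha]; exact one_mem _) hle, mem_bot] at hmem
    rw [hmem]
    exact one_mem _
  · exact absurd hcard.le (not_le.2 (h.strict B inf_le_left hB1 hBA))

theorem P_le_norm_U {g : G} (hg : g ∈ P) (hgM : g ∉ M) :
    P ≤ normalizer (((V ⊓ centralizer (A : Set G)) ⊔
      cjSub g (V ⊓ centralizer (A : Set G)) : Subgroup G) : Set G) := by
  set X := V ⊓ centralizer (A : Set G)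
  have hUV : X ⊔ cjSub g X ≤ V := sup_le inf_le_left (h.cjSub_le_V hg inf_le_left)
  rw [← h.gen g hg hgM]
  refine sup_le ?_ ?_
  · intro a ha
    refine mem_normalizer_fintype fun v hv => ?_
    show a * v * a⁻¹ ∈ X ⊔ cjSub g X
    rw [mul_comm_eq]
    exact mul_mem (mem_sup_left (h.quad ha (hUV hv))) hv
  · intro b hb
    refine mem_normalizer_fintype fun v hv => ?_
    show b * v * b⁻¹ ∈ X ⊔ cjSub g X
    rw [mul_comm_eq]
    refine mul_mem (mem_sup_right (mem_cjSub.2 ?_)) hv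
    have := h.quad (mem_cjSub.1 hb) (h.conjV' hg (hUV hv))
    convert this using 1
    simp only [commutatorElement_def]; group

theorem cjX_le_U {g k : G} (hg : g ∈ P) (hgM : g ∉ M) (hk : k ∈ P) :
    cjSub k (V ⊓ centralizer (A : Set G)) ≤
      (V ⊓ centralizer (A : Set G)) ⊔ cjSub g (V ⊓ centralizer (A : Set G)) := by
  intro v hv
  have := (mem_normalizer_iff.1 (h.P_le_norm_U hg hgM hk) (k⁻¹ * v * k)).1
    (mem_sup_left (mem_cjSub.1 hv))
  simpa [mul_assoc] using this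

theorem U_le {g k : G} (hg : g ∈ P) (hgM : g ∉ M) (hk : k ∈ P) :
    (V ⊓ centralizer (A : Set G)) ⊔ cjSub k (V ⊓ centralizer (A : Set G)) ≤
      (V ⊓ centralizer (A : Set G)) ⊔ cjSub g (V ⊓ centralizer (A : Set G)) :=
  sup_le le_sup_left (h.cjX_le_U hg hgM hk)

/-- An element of `A` fixing a point of `U` outside `C_V(A)` lies in `D`. -/
theorem mem_D_of_fix {g₀ a v : G} (hg₀ : g₀ ∈ P) (hg₀M : g₀ ∉ M) (ha : a ∈ A)
    (hv : v ∈ (V ⊓ centralizer (A : Set G)) ⊔ cjSub g₀ (V ⊓ centralizer (A : Set G)))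
    (hc : Commute a v) (hvX : v ∉ V ⊓ centralizer (A : Set G)) : a ∈ D := by
  refine h.core a (h.hAT ha) fun g hg => ?_
  have haM := h.A_le_M ha
  by_cases hgM : g ∈ M
  · exact M.mul_mem (M.mul_mem (M.inv_mem hgM) haM) hgM
  by_contra hne
  obtain ⟨x₀, hx₀, y, hy, rfl⟩ := h.mem_sup_V inf_le_left (h.cjSub_le_V hg inf_le_left)
    (h.U_le hg hgM hg₀ hv)
  have hax : Commute a x₀ := mem_centralizer_iff.1 hx₀.2 a ha
  have hay : Commute a y := by simpa using hax.inv_right.mul_right hc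
  have hy' : y ∈ cjSub (a * g) (V ⊓ centralizer (A : Set G)) := by
    rw [mem_cjSub, mul_inv_rev, show g⁻¹ * a⁻¹ * y * (a * g) = g⁻¹ * (a⁻¹ * y * a) * g by group,
      show a⁻¹ * y * a = y by rw [mul_assoc, ← hay.eq, inv_mul_cancel_left]]
    exact mem_cjSub.1 hy
  have hZ := h.inf_cjX' hg (P.mul_mem (h.A_le_P ha) hg)
    (by rwa [← mul_assoc]) hy hy'
  exact hvX (mul_mem hx₀ (h.Z_le_X hZ))

theorem u_spec : ∃ u ∈ V, u ∈ centralizer (T : Set G) ∧
    u ∈ V ⊓ centralizer (A : Set G) ∧ u ∉ V ⊓ centralizer (P : Set G) := by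
  obtain ⟨u, hu, huT, huP⟩ := h.fix
  exact ⟨u, hu, huT, ⟨hu, centralizer_le h.hAT huT⟩, fun hm => huP hm.2⟩

theorem mem_D_of_conj {g a : G} (hg : g ∈ P) (hgM : g ∉ M) (ha : a ∈ A)
    (hga : g⁻¹ * a * g ∈ M) : a ∈ D := by
  obtain ⟨m, hm, hmT⟩ := h.conjT _ hga (by
    rw [show g⁻¹ * a * g = g⁻¹ * a * (g⁻¹)⁻¹ by rw [inv_inv], conj_pow, h.hA.2 a ha, mul_one,
      inv_inv, inv_mul_cancel])
  obtain ⟨u, hu, huT, huX, huZ⟩ := h.u_spec
  set k := g * m⁻¹ with hk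
  have hkP : k ∈ P := P.mul_mem hg (P.inv_mem (h.hMP hm))
  have hkM : k ∉ M := fun hmem => hgM (by simpa [hk, mul_assoc] using M.mul_mem hmem hm)
  have hka : k⁻¹ * a * k ∈ T := by
    rw [hk, mul_inv_rev, inv_inv, show m * g⁻¹ * a * (g * m⁻¹) = m * (g⁻¹ * a * g) * m⁻¹ by group]
    exact hmT
  have hc : Commute a (k * u * k⁻¹) := by
    have h1 := mem_centralizer_iff.1 huT _ hka
    show a * (k * u * k⁻¹) = k * u * k⁻¹ * a
    calc a * (k * u * k⁻¹) = k * ((k⁻¹ * a * k) * u) * k⁻¹ := by group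
      _ = k * (u * (k⁻¹ * a * k)) * k⁻¹ := by rw [h1]
      _ = k * u * k⁻¹ * a := by group
  have hmem : k * u * k⁻¹ ∈ cjSub k (V ⊓ centralizer (A : Set G)) :=
    mem_cjSub.2 (by simpa [mul_assoc] using huX)
  refine h.mem_D_of_fix hkP hkM ha (mem_sup_right hmem) hc fun hX => ?_
  have hZ := h.inf_cjX hkP hkM hX hmem
  refine huZ ?_
  have := h.Z_comm hkP hZ
  rw [← this] at hZ
  simpa [mul_assoc] using hZ

theorem move {g a y : G} (hg : g ∈ P) (ha : a ∈ A)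
    (hy : y ∈ cjSub g (V ⊓ centralizer (A : Set G))) (hyZ : y ∉ V ⊓ centralizer (P : Set G))
    (hZ : ⁅a, y⁆ ∈ V ⊓ centralizer (P : Set G)) : g⁻¹ * a * g ∈ M := by
  by_contra hne
  have h1 : a * y * a⁻¹ ∈ cjSub g (V ⊓ centralizer (A : Set G)) := by
    rw [mul_comm_eq]; exact mul_mem (h.Z_le_cjX hg hZ) hy
  have h2 : a * y * a⁻¹ ∈ cjSub (a * g) (V ⊓ centralizer (A : Set G)) := by
    rw [mem_cjSub, show (a * g)⁻¹ * (a * y * a⁻¹) * (a * g) = g⁻¹ * y * g by group]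
    exact mem_cjSub.1 hy
  have h3 := h.inf_cjX' hg (P.mul_mem (h.A_le_P ha) hg) (by rwa [← mul_assoc]) h1 h2
  rw [mul_comm_eq] at h3
  refine hyZ ?_
  have := mul_mem (inv_mem hZ) h3
  rwa [inv_mul_cancel_left] at this

/-- The homomorphism `a ↦ ⁅a, y⁆`. -/
def commA (y : V) : A →* G where
  toFun a := ⁅(a : G), (y : G)⁆
  map_one' := commutatorElement_one_left _
  map_mul' a b := by
    show ⁅(a : G) * b, (y : G)⁆ = ⁅(a : G), (y : G)⁆ * ⁅(b : G), (y : G)⁆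
    have hb := h.quad b.2 y.2
    rw [comm_mul_left, mem_centralizer_iff.1 hb.2 a a.2, mul_inv_cancel_right,
      h.commV hb.1 (h.quad a.2 y.2).1]

theorem inf_D : A ⊓ D = ⊥ := by
  by_contra hne
  obtain ⟨x, hx, hxM⟩ := h.out
  set X := V ⊓ centralizer (A : Set G) with hX
  set Z := V ⊓ centralizer (P : Set G) with hZ
  set A₀ := A ⊓ D
  have hA₀ : A₀ ≠ A := fun he => by
    have hAD : A ≤ D := he ▸ inf_le_right
    have hPle : P ≤ D := by
      rw [← h.gen x hx hxM]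
      refine sup_le hAD fun b hb => ?_
      have := (mem_normalizer_iff.1 (h.hPD hx) _).1 (hAD (mem_cjSub.1 hb))
      simpa [mul_assoc] using this
    exact hxM (h.hTM (h.hDT (hPle hx)))
  have hlt := h.strict A₀ inf_le_left hne hA₀
  set W := V ⊓ centralizer (D : Set G) with hW
  have hWinv : ∀ g ∈ P, ∀ w ∈ W, g * w * g⁻¹ ∈ W := by
    intro g hg w hw
    refine ⟨h.conjV hg hw.1, fun d hd => ?_⟩
    have hd' : g⁻¹ * d * g ∈ D := by
      have := (mem_normalizer_iff.1 (h.hPD (P.inv_mem hg)) d).1 hd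
      simpa using this
    have := mem_centralizer_iff.1 hw.2 _ hd'
    calc d * (g * w * g⁻¹) = g * ((g⁻¹ * d * g) * w) * g⁻¹ := by group
      _ = g * (w * (g⁻¹ * d * g)) * g⁻¹ := by rw [this]
      _ = g * w * g⁻¹ * d := by group
  have hZW : Z ≤ W := inf_le_inf_left _ (centralizer_le (h.hDT.trans (h.hTM.trans h.hMP)))
  obtain ⟨u, hu, huT, huX, huZ⟩ := h.u_spec
  set y := x * u * x⁻¹
  have hyY : y ∈ cjSub x X := mem_cjSub.2 (by rw [show x⁻¹ * y * x = u by simp [y, mul_assoc]]; exact huX)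
  have hyZ : y ∉ Z := fun hm => huZ (by
    have := h.Z_comm hx hm
    rw [← this, show x⁻¹ * y * x = u by simp [y, mul_assoc]] at hm
    exact hm)
  have hyW : y ∈ W := hWinv x hx u ⟨hu, centralizer_le h.hDT huT⟩
  have hc1 : Nat.card A * Nat.card Z ≤ Nat.card A₀ * Nat.card ↥(W ⊓ X) := by
    refine card_mul_le_of_hom (h.commA ⟨y, h.conjV hx hu⟩) (le_inf hZW h.Z_le_X) (fun a => ?_) A₀
      inf_le_left fun a ha => ⟨a.2, h.mem_D_of_conj hx hxM a.2 (h.move hx a.2 hyY hyZ ha)⟩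
    show ⁅(a : G), y⁆ ∈ W ⊓ X
    refine ⟨?_, h.quad a.2 (h.conjV hx hu)⟩
    rw [commutatorElement_def]
    exact W.mul_mem (hWinv a (h.A_le_P a.2) y hyW) (W.inv_mem hyW)
  have hceq : Nat.card ↥(W ⊓ X) = Nat.card ↥(W ⊓ cjSub x X) := by
    have : W ⊓ cjSub x X = cjSub x (W ⊓ X) := by
      ext v
      constructor
      · intro hv
        refine mem_cjSub.2 ⟨?_, mem_cjSub.1 hv.2⟩
        simpa using hWinv x⁻¹ (P.inv_mem hx) v hv.1
      · intro hv
        have hv' := mem_cjSub.1 hv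
        refine ⟨?_, mem_cjSub.2 hv'.2⟩
        simpa [mul_assoc] using hWinv x hx _ hv'.1
    rw [this, card_cjSub]
  have hc2 : Nat.card X * Nat.card ↥(W ⊓ cjSub x X) ≤
      Nat.card ↥(V ⊓ centralizer (A₀ : Set G)) * Nat.card Z := by
    refine (PLocal.card_mul_le_card_sup_mul_inf _ _).trans (Nat.mul_le_mul ?_ ?_)
    · refine card_le_of_le (sup_le (inf_le_inf_left _ (centralizer_le inf_le_left)) ?_)
      exact inf_le_left.trans (inf_le_inf_left _ (centralizer_le inf_le_right))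
    · exact card_le_of_le fun v hv => h.inf_cjX hx hxM hv.1 hv.2.2
  have hpos : 0 < Nat.card Z := Nat.card_pos
  have h3 : Nat.card A * Nat.card X * Nat.card Z ≤
      Nat.card A₀ * Nat.card ↥(V ⊓ centralizer (A₀ : Set G)) * Nat.card Z := by
    calc Nat.card A * Nat.card X * Nat.card Z = Nat.card A * Nat.card Z * Nat.card X := by ring
      _ ≤ Nat.card A₀ * Nat.card ↥(W ⊓ X) * Nat.card X := by gcongr
      _ = Nat.card A₀ * (Nat.card X * Nat.card ↥(W ⊓ cjSub x X)) := by rw [hceq]; ring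
      _ ≤ Nat.card A₀ * (Nat.card ↥(V ⊓ centralizer (A₀ : Set G)) * Nat.card Z) := by gcongr
      _ = _ := by ring
  exact absurd (Nat.le_of_mul_le_mul_right h3 hpos) (not_le.2 hlt)

theorem eq_one_of_conj {g a : G} (hg : g ∈ P) (hgM : g ∉ M) (ha : a ∈ A)
    (hga : g⁻¹ * a * g ∈ M) : a = 1 :=
  mem_bot.1 (h.inf_D ▸ (⟨ha, h.mem_D_of_conj hg hgM ha hga⟩ : a ∈ A ⊓ D))

theorem comm_mem_Z {g a y : G} (hg : g ∈ P) (hgM : g ∉ M) (ha : a ∈ A) (ha1 : a ≠ 1)
    (hy : y ∈ cjSub g (V ⊓ centralizer (A : Set G)))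
    (hZ : ⁅a, y⁆ ∈ V ⊓ centralizer (P : Set G)) : y ∈ V ⊓ centralizer (P : Set G) := by
  by_contra hyZ
  exact ha1 (h.eq_one_of_conj hg hgM ha (h.move hg ha hy hyZ hZ))

theorem counting {g : G} (hg : g ∈ P) (hgM : g ∉ M) :
    V ≤ (V ⊓ centralizer (A : Set G)) ⊔ cjSub g (V ⊓ centralizer (A : Set G)) ∧
    Nat.card ↥(V ⊓ centralizer (A : Set G)) =
      Nat.card A * Nat.card ↥(V ⊓ centralizer (P : Set G)) ∧
    ∀ y ∈ cjSub g (V ⊓ centralizer (A : Set G)), y ∉ V ⊓ centralizer (P : Set G) →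
      ∀ x₁ ∈ V ⊓ centralizer (A : Set G), ∃ a ∈ A, ∃ z ∈ V ⊓ centralizer (P : Set G),
        x₁ = ⁅a, y⁆ * z := by
  set X := V ⊓ centralizer (A : Set G) with hX
  set Z := V ⊓ centralizer (P : Set G) with hZ
  have hYV : cjSub g X ≤ V := h.cjSub_le_V hg inf_le_left
  have hlow : ∀ y (hy : y ∈ cjSub g X), y ∉ Z →
      Nat.card A * Nat.card Z ≤ Nat.card ↥((h.commA ⟨y, hYV hy⟩).range ⊔ Z) ∧
        (h.commA ⟨y, hYV hy⟩).range ⊔ Z ≤ X := by
    intro y hy hyZ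
    refine ⟨?_, sup_le ?_ h.Z_le_X⟩
    · have := card_mul_le_of_hom (h.commA ⟨y, hYV hy⟩) (Z := Z)
        (W := (h.commA ⟨y, hYV hy⟩).range ⊔ Z) le_sup_right
        (fun a => mem_sup_left ⟨a, rfl⟩) ⊥ bot_le fun a ha => by
          rw [mem_bot]
          by_contra ha1
          exact hyZ (h.comm_mem_Z hg hgM a.2 ha1 hy ha)
      rwa [card_bot, one_mul] at this
    · rintro _ ⟨a, rfl⟩
      exact h.quad a.2 (hYV hy)
  have hsq : Nat.card X * Nat.card X ≤ Nat.card ↥(X ⊔ cjSub g X) * Nat.card Z := by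
    nth_rw 2 [← card_cjSub g X]
    exact (PLocal.card_mul_le_card_sup_mul_inf _ _).trans
      (Nat.mul_le_mul_left _ (card_le_of_le fun v hv => h.inf_cjX hg hgM hv.1 hv.2))
  have hUV : Nat.card ↥(X ⊔ cjSub g X) ≤ Nat.card V := card_le_of_le (sup_le inf_le_left hYV)
  have hge : Nat.card V ≤ Nat.card A * Nat.card X := h.ge
  have hup : Nat.card X ≤ Nat.card A * Nat.card Z := by
    refine Nat.le_of_mul_le_mul_right ?_ (Nat.card_pos (α := X))
    calc Nat.card X * Nat.card X ≤ Nat.card V * Nat.card Z :=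
          hsq.trans (Nat.mul_le_mul_right _ hUV)
      _ ≤ Nat.card A * Nat.card X * Nat.card Z := Nat.mul_le_mul_right _ hge
      _ = Nat.card A * Nat.card Z * Nat.card X := by ring
  obtain ⟨u, hu, huT, huX, huZ⟩ := h.u_spec
  have hy₀ : g * u * g⁻¹ ∈ cjSub g X := mem_cjSub.2 (by rw [show g⁻¹ * (g * u * g⁻¹) * g = u by group]; exact huX)
  have hy₀Z : g * u * g⁻¹ ∉ Z := fun hm => huZ (by
    have := h.Z_comm hg hm
    rw [← this, show g⁻¹ * (g * u * g⁻¹) * g = u by group] at hm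
    exact hm)
  obtain ⟨hl, hlX⟩ := hlow _ hy₀ hy₀Z
  have hXeq : Nat.card X = Nat.card A * Nat.card Z :=
    le_antisymm hup (hl.trans (card_le_of_le hlX))
  refine ⟨?_, hXeq, fun y hy hyZ x₁ hx₁ => ?_⟩
  · refine (eq_of_le_of_card_ge (sup_le inf_le_left hYV) ?_).ge
    refine Nat.le_of_mul_le_mul_right ?_ (Nat.card_pos (α := Z))
    calc Nat.card V * Nat.card Z ≤ Nat.card A * Nat.card X * Nat.card Z :=
          Nat.mul_le_mul_right _ hge
      _ = Nat.card X * Nat.card X := by rw [hXeq]; ring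
      _ ≤ _ := hsq
  · obtain ⟨hl', hlX'⟩ := hlow y hy hyZ
    have he := eq_of_le_of_card_ge hlX' (hXeq.le.trans hl')
    rw [← he] at hx₁
    obtain ⟨_, ⟨a, rfl⟩, z, hz, e⟩ := h.mem_sup_V
      (fun w hw => (hlX' (mem_sup_left hw)).1) inf_le_left hx₁
    exact ⟨a, a.2, z, hz, e.symm⟩

end OffGen

end CfsgLib.Amalgam
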