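import Mathlib.FieldTheory.ChevalleyWarning
import Mathlib.LinearAlgebra.Matrix.Charpoly.Minpoly
import Mathlib.LinearAlgebra.Matrix.Charpoly.Coeff
import Mathlib.RingTheory.Polynomial.GaussLemma
import Mathlib.RingTheory.Polynomial.UniqueFactorization
import Mathlib.RingTheory.PowerBasis
import Mathlib.RingTheory.Localization.FractionRing
import Mathlib.Algebra.MvPolynomial.NoZeroDivisors
import Mathlib.Tactic.NoncommRing
import Mathlib.RingTheory.Polynomial.RationalRoot
import Mathlib.Algebra.Module.ZMod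
import Mathlib.Algebra.Field.ZMod
import Mathlib.RingTheory.LittleWedderburn
import Mathlib.LinearAlgebra.FreeModule.Finite.Basic
import Cfsg.Agent.Lib.ClassK.JordanField

/-!
# An additive spread set over `𝔽ₚ` closed under inversion is a field
-/

set_option autoImplicit false

namespace CfsgLib.Amalgam.Spread

open Matrix MvPolynomial

variable {n p : ℕ} [hp : Fact p.Prime]

local notation "Kp" => ZMod p
local notation "Mat" => Matrix (Fin n) (Fin n) (ZMod p)
local notation "Rp" => MvPolynomial (Fin n) (ZMod p)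
local notation "Fp'" => FractionRing (MvPolynomial (Fin n) (ZMod p))

/-- The generic element of the span of `e`. -/
noncomputable def genericElt (e : Fin n → Mat) : Matrix (Fin n) (Fin n) Rp :=
  ∑ i, (MvPolynomial.X i : Rp) • (e i).map MvPolynomial.C

theorem genericElt_map_eval (e : Fin n → Mat) (c : Fin n → Kp) :
    (genericElt e).map (MvPolynomial.eval c) = ∑ i, c i • e i := by
  ext a b
  simp [genericElt, Matrix.sum_apply]

theorem totalDegree_det_genericElt_le (e : Fin n → Mat) :
    (genericElt e).det.totalDegree ≤ n := by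
  rw [Matrix.det_apply']
  refine (totalDegree_finsetSum _ _).trans (Finset.sup_le fun σ _ => ?_)
  refine (totalDegree_mul _ _).trans ?_
  have h1 : ((((Equiv.Perm.sign σ : ℤˣ) : ℤ) : Rp)).totalDegree = 0 := by
    rw [← map_intCast (MvPolynomial.C : Kp →+* Rp), totalDegree_C]
  rw [h1, zero_add]
  refine (totalDegree_finsetProd _ _).trans ?_
  refine (Finset.sum_le_card_nsmul _ _ 1 fun j _ => ?_).trans (by simp)
  have hentry : genericElt e (σ j) j = ∑ i, MvPolynomial.X i * MvPolynomial.C (e i (σ j) j) := by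
    simp [genericElt, Matrix.sum_apply]
  rw [hentry]
  refine (totalDegree_finsetSum _ _).trans (Finset.sup_le fun i _ => ?_)
  refine (totalDegree_mul _ _).trans ?_
  rw [totalDegree_X, totalDegree_C]

theorem irreducible_charpoly_genericElt (hn : 0 < n) (e : Fin n → Mat)
    (hinv : ∀ c : Fin n → Kp, c ≠ 0 → (∑ i, c i • e i).det ≠ 0) :
    Irreducible (genericElt e).charpoly := by
  classical
  have hmon := (genericElt e).charpoly_monic
  have hdeg : (genericElt e).charpoly.natDegree = n := by
    rw [Matrix.charpoly_natDegree_eq_dim, Fintype.card_fin]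
  refine hmon.irreducible_iff_natDegree.2 ⟨fun h => ?_, fun g h hg hh hgh => ?_⟩
  · rw [h, Polynomial.natDegree_one] at hdeg; omega
  by_contra hne
  simp only [not_or] at hne
  have hdet : (genericElt e).det = (-1) ^ n * (g.coeff 0 * h.coeff 0) := by
    rw [Matrix.det_eq_sign_charpoly_coeff, Fintype.card_fin, ← hgh, Polynomial.mul_coeff_zero]
  have hdeg0 : (g.coeff 0 * h.coeff 0).totalDegree ≤ n := by
    have h1 := totalDegree_det_genericElt_le e
    rw [hdet] at h1
    rcases neg_one_pow_eq_or Rp n with h2 | h2 <;> rw [h2] at h1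
    · rwa [one_mul] at h1
    · rwa [neg_mul, one_mul, totalDegree_neg] at h1
  have heval : ∀ c : Fin n → Kp, c ≠ 0 → MvPolynomial.eval c (g.coeff 0 * h.coeff 0) ≠ 0 := by
    intro c hc h0
    refine hinv c hc ?_
    rw [← genericElt_map_eval, ← RingHom.mapMatrix_apply, ← RingHom.map_det, hdet, map_mul, h0,
      mul_zero]
  -- at the origin both constant terms vanish
  have hzero : ∀ u : Polynomial Rp, u.Monic → u.natDegree ≠ 0 → u ∣ (genericElt e).charpoly →
      MvPolynomial.eval 0 (u.coeff 0) = 0 := by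
    intro u hu hu0 hdvd
    have h1 : u.map (MvPolynomial.eval 0) ∣ (Polynomial.X : Polynomial Kp) ^ n := by
      have h2 := Polynomial.map_dvd (MvPolynomial.eval (0 : Fin n → Kp)) hdvd
      rwa [← Matrix.charpoly_map, genericElt_map_eval, show (∑ i, (0 : Fin n → Kp) i • e i) = 0 by
        simp, Matrix.charpoly_zero, Fintype.card_fin] at h2
    obtain ⟨j, -, hj⟩ := (dvd_prime_pow Polynomial.prime_X _).1 h1
    have hm := hu.map (MvPolynomial.eval (0 : Fin n → Kp))
    have hj' := Polynomial.eq_of_monic_of_associated hm (Polynomial.monic_X_pow j) hj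
    have hj0 : j ≠ 0 := by
      rintro rfl
      have := congrArg Polynomial.natDegree hj'
      rw [hu.natDegree_map, pow_zero, Polynomial.natDegree_one] at this
      exact hu0 this
    rw [← Polynomial.coeff_map, hj', Polynomial.coeff_X_pow, if_neg (Ne.symm hj0)]
  have hg0 := hzero g hg hne.1 ⟨h, hgh.symm⟩
  have hh0 := hzero h hh hne.2 ⟨g, by rw [← hgh, mul_comm]⟩
  let one : Fin n → Kp := fun _ => 1
  have hone : one ≠ 0 := fun h0 => one_ne_zero (congrFun h0 ⟨0, hn⟩ : (1 : Kp) = 0)
  have hgne : g.coeff 0 ≠ 0 := fun h0 => heval one hone (by rw [h0, zero_mul, map_zero])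
  have hhne : h.coeff 0 ≠ 0 := fun h0 => heval one hone (by rw [h0, mul_zero, map_zero])
  have hhdeg : 0 < (h.coeff 0).totalDegree := by
    by_contra hle
    have hC := totalDegree_eq_zero_iff_eq_C.1 (Nat.eq_zero_of_le_zero (not_lt.1 hle))
    apply hhne
    rw [hC] at hh0 ⊢
    rw [eval_C] at hh0
    rw [hh0, map_zero]
  have hgdeg : (g.coeff 0).totalDegree < n := by
    rw [totalDegree_mul_of_isDomain hgne hhne] at hdeg0
    omega
  have hdvd := char_dvd_card_solutions p (f := g.coeff 0)
    (by rw [Fintype.card_fin]; exact hgdeg)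
  have hone' : Fintype.card {c : Fin n → Kp // MvPolynomial.eval c (g.coeff 0) = 0} = 1 := by
    rw [Fintype.card_eq_one_iff]
    refine ⟨⟨0, hg0⟩, fun c => Subtype.ext ?_⟩
    by_contra hc
    exact heval c hc (by rw [map_mul, c.2, zero_mul])
  rw [hone'] at hdvd
  exact hp.out.one_lt.ne' (Nat.dvd_one.1 hdvd)

/-- A spread set `S` of `n × n` matrices over `𝔽ₚ` containing `1` and closed under `s t s` is a
field: its elements commute and their products lie in it. -/
theorem mul_comm_mem_of_spread (S : Submodule Kp Mat) (h1 : (1 : Mat) ∈ S)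
    (hU : ∀ s ∈ S, ∀ t ∈ S, s * t * s ∈ S) (hinv : ∀ s ∈ S, s ≠ 0 → IsUnit s.det)
    (hc : Nat.card S = p ^ n) :
    ∀ s ∈ S, ∀ t ∈ S, s * t = t * s ∧ s * t ∈ S := by
  classical
  rcases Nat.eq_zero_or_pos n with hn | hn
  · subst hn
    intro s _ t _
    exact ⟨Subsingleton.elim _ _, Subsingleton.elim (1 : Matrix (Fin 0) (Fin 0) Kp) (s * t) ▸ h1⟩
  have : Nonempty (Fin n) := ⟨⟨0, hn⟩⟩
  have hfr : Module.finrank Kp S = n := by
    have := Module.natCard_eq_pow_finrank (K := Kp) (V := S)
    rw [hc, Nat.card_zmod] at this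
    exact (Nat.pow_right_injective hp.out.two_le this).symm
  let b := Module.finBasisOfFinrankEq Kp S hfr
  let e : Fin n → Mat := fun i => (b i : Mat)
  have he : ∀ i, e i ∈ S := fun i => (b i).2
  have hspan : ∀ c : Fin n → Kp, c ≠ 0 → (∑ i, c i • e i).det ≠ 0 := by
    intro c hc0
    have hmem : (∑ i, c i • e i) ∈ S := S.sum_mem fun i _ => S.smul_mem _ (he i)
    have hne : (∑ i, c i • e i) ≠ 0 := fun h => hc0 <| funext fun i => by
      refine Fintype.linearIndependent_iff.1 b.linearIndependent c ?_ i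
      exact Subtype.ext (by simpa [e] using h)
    exact (hinv _ hmem hne).ne_zero
  -- pass to the fraction field
  let φ : Kp →+* Fp' := (algebraMap Rp Fp').comp MvPolynomial.C
  let x : Fin n → Fp' := fun i => algebraMap Rp Fp' (MvPolynomial.X i)
  let eK : Fin n → Matrix (Fin n) (Fin n) Fp' := fun i => (e i).map φ
  let XK : Matrix (Fin n) (Fin n) Fp' := (genericElt e).map (algebraMap Rp Fp')
  have hXK : XK = ∑ i, x i • eK i := by
    ext a c
    simp only [XK, x, eK, φ, genericElt, Matrix.map_apply, Matrix.sum_apply, Matrix.smul_apply,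
      smul_eq_mul, map_sum, map_mul, RingHom.comp_apply]
  let W : Submodule Fp' (Matrix (Fin n) (Fin n) Fp') := Submodule.span Fp' (Set.range eK)
  have hmemW : ∀ s ∈ S, s.map φ ∈ W := by
    intro s hs
    have hrep : s = ∑ i, b.repr ⟨s, hs⟩ i • e i := by
      refine (congrArg Subtype.val (b.sum_repr ⟨s, hs⟩)).symm.trans ?_
      push_cast
      rfl
    rw [hrep]
    have : (∑ i, b.repr ⟨s, hs⟩ i • e i).map φ = ∑ i, φ (b.repr ⟨s, hs⟩ i) • eK i := by
      ext a c
      simp [eK, Matrix.sum_apply]
    rw [this]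
    exact W.sum_mem fun i _ => W.smul_mem _ (Submodule.subset_span ⟨i, rfl⟩)
  have hone : (1 : Matrix (Fin n) (Fin n) Fp') ∈ W := by
    have := hmemW 1 h1
    rwa [Matrix.map_one _ (map_zero φ) (map_one φ)] at this
  have hstep : ∀ T ∈ W, XK * T * XK ∈ W := by
    intro T hT
    induction hT using Submodule.span_induction with
    | mem T hT =>
      obtain ⟨j, rfl⟩ := hT
      rw [hXK, Finset.sum_mul, Finset.sum_mul]
      simp only [Finset.mul_sum, smul_mul_assoc, mul_smul_comm, smul_smul]
      rw [Finset.sum_congr rfl fun i _ => Finset.sum_congr rfl fun k _ => by rw [mul_comm (x k) (x i)]]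
      have hprod : ∀ i k, eK i * eK j * eK k = (e i * e j * e k).map φ := fun i k => by
        simp only [eK, Matrix.map_mul]
      refine CfsgLib.ClassK.sum_sum_mem_of_symm W x _ (fun i => ?_) (fun i k => ?_) _
      · rw [hprod]; exact hmemW _ (hU _ (he i) _ (he j))
      · rw [hprod, hprod, ← Matrix.map_add _ (map_add φ)]
        refine hmemW _ ?_
        have h := S.sub_mem (S.sub_mem (hU _ (S.add_mem (he i) (he k)) _ (he j))
          (hU _ (he i) _ (he j))) (hU _ (he k) _ (he j))
        convert h using 1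
        noncomm_ring
    | zero => simp
    | add T T' _ _ hT hT' => rw [mul_add, add_mul]; exact W.add_mem hT hT'
    | smul a T _ hT => rw [mul_smul_comm, smul_mul_assoc]; exact W.smul_mem _ hT
  have hpow : ∀ j : ℕ, XK ^ j ∈ W ∧ XK ^ (j + 1) ∈ W := by
    have hX1 : XK ∈ W := hXK ▸ W.sum_mem fun i _ => W.smul_mem _ (Submodule.subset_span ⟨i, rfl⟩)
    have h2 : ∀ j : ℕ, XK ^ j ∈ W := by
      intro j
      induction j using Nat.strong_induction_on with
      | _ j ih =>
        match j with
        | 0 => simpa using hone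
        | 1 => simpa using hX1
        | j + 2 =>
          rw [pow_succ, pow_succ']
          exact hstep _ (ih j (by omega))
    exact fun j => ⟨h2 j, h2 _⟩
  have hirr : Irreducible XK.charpoly := by
    rw [Matrix.charpoly_map]
    exact ((genericElt e).charpoly_monic.irreducible_iff_irreducible_map_fraction_map).1
      (irreducible_charpoly_genericElt hn e hspan)
  have hmin : (minpoly Fp' XK).natDegree = n := by
    rw [← minpoly.eq_of_irreducible_of_monic hirr (Matrix.aeval_self_charpoly XK) XK.charpoly_monic,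
      Matrix.charpoly_natDegree_eq_dim, Fintype.card_fin]
  have hli := linearIndependent_pow (K := Fp') XK
  have hWle : Module.finrank Fp' W ≤ n := by
    have := finrank_range_le_card (R := Fp') eK
    simpa [W, Set.finrank, Fintype.card_fin] using this
  have hW : Submodule.span Fp' (Set.range fun i : Fin (minpoly Fp' XK).natDegree => XK ^ (i : ℕ)) = W := by
    refine Submodule.eq_of_le_of_finrank_le (Submodule.span_le.2 ?_) ?_
    · rintro _ ⟨i, rfl⟩; exact (hpow _).1
    · rw [finrank_span_eq_card hli, Fintype.card_fin, hmin]; exact hWle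
  have hcommK : ∀ P ∈ W, ∀ Q ∈ W, Commute P Q := by
    have hX : ∀ Q ∈ W, Commute XK Q := by
      intro Q hQ
      rw [← hW] at hQ
      induction hQ using Submodule.span_induction with
      | mem Q hQ => obtain ⟨i, rfl⟩ := hQ; exact Commute.self_pow _ _
      | zero => exact Commute.zero_right _
      | add _ _ _ _ h h' => exact h.add_right h'
      | smul a _ _ h => exact h.smul_right a
    intro P hP Q hQ
    rw [← hW] at hP
    induction hP using Submodule.span_induction with
    | mem P hP => obtain ⟨i, rfl⟩ := hP; exact (hX Q hQ).pow_left _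
    | zero => exact Commute.zero_left _
    | add _ _ _ _ h h' => exact h.add_left h'
    | smul a _ _ h => exact h.smul_left a
  have hφ : Function.Injective φ := φ.injective
  have hcomm : ∀ s ∈ S, ∀ t ∈ S, s * t = t * s := fun s hs t ht => by
    apply Matrix.map_injective hφ
    simp only []
    rw [Matrix.map_mul, Matrix.map_mul]
    exact (hcommK _ (hmemW s hs) _ (hmemW t ht)).eq
  intro s hs t ht
  refine ⟨hcomm s hs t ht, ?_⟩
  have hsq : ∀ r ∈ S, r * r ∈ S := fun r hr => by simpa using hU r hr 1 h1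
  rcases eq_or_ne p 2 with h2 | h2
  · haveI : CharP Kp 2 := by
      have := ZMod.charP p
      exact CharP.congr p h2
    let sq : S → S := fun r => ⟨(r : Mat) * r, hsq r r.2⟩
    have hsqi : Function.Injective sq := by
      intro r r' h
      have h0 : ((r : Mat) - r') * ((r : Mat) - r') = 0 := by
        have h2 : (r : Mat) * r = (r' : Mat) * r' := congrArg Subtype.val h
        rw [sub_mul, mul_sub, mul_sub, hcomm r' r'.2 r r.2, h2]
        have hchar : ∀ M : Mat, M + M = 0 := fun M => by
          ext a c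
          exact CharTwo.add_self_eq_zero (M a c)
        rw [show ∀ A B : Mat, A - B - (B - A) = (A + A) - (B + B) from fun A B => by abel, hchar,
          hchar, sub_zero]
      refine Subtype.ext (sub_eq_zero.1 ?_)
      by_contra hne
      have hu := hinv _ (S.sub_mem r.2 r'.2) hne
      have hd := congrArg Matrix.det h0
      rw [Matrix.det_mul, Matrix.det_zero] at hd
      exact (hu.mul hu).ne_zero hd
    obtain ⟨r, hr⟩ := (Finite.injective_iff_surjective.1 hsqi) ⟨s, hs⟩
    have hr' : (r : Mat) * r = s := congrArg Subtype.val hr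
    rw [← hr', mul_assoc, hcomm r r.2 t ht, ← mul_assoc]
    exact hU _ r.2 _ ht
  · have hmem := S.sub_mem (S.sub_mem (hsq _ (S.add_mem hs ht)) (hsq s hs)) (hsq t ht)
    rw [show (s + t) * (s + t) - s * s - t * t = (2 : Kp) • (s * t) by
      rw [two_smul, add_mul, mul_add, mul_add, hcomm t ht s hs]; abel] at hmem
    have htwo : (2 : Kp) ≠ 0 := fun h0 => h2 ((Nat.prime_dvd_prime_iff_eq hp.out Nat.prime_two).1
      ((ZMod.natCast_eq_zero_iff _ _).1 (by exact_mod_cast h0 : ((2 : ℕ) : Kp) = 0)))
    have := S.smul_mem (2 : Kp)⁻¹ hmem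
    rwa [smul_smul, inv_mul_cancel₀ htwo, one_smul] at this

/-- An additive set `S` of a finite ring and another one `L` of the same size consisting of inverses
of `S`, with `1 ∈ S`: then `L = S` and `S` is closed under `(s, t) ↦ s t s`. -/
theorem eq_of_inverse_pair {R : Type*} [Ring R] [Nontrivial R] [Finite R] (S L : AddSubgroup R)
    (h1 : (1 : R) ∈ S) (hLS : ∀ t ∈ L, t ≠ 0 → ∃ s ∈ S, s * t = 1) (hc : Nat.card L = Nat.card S) :
    L = S ∧ (∀ s ∈ S, ∀ t ∈ S, s * t * s ∈ S) ∧ ∀ s ∈ S, s ≠ 0 → ∃ t ∈ S, t * s = 1 := by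
  classical
  have hLS' : ∀ t ∈ L, t ≠ 0 → ∃ s ∈ S, s * t = 1 ∧ t * s = 1 := fun t ht h0 => by
    obtain ⟨s, hs, e⟩ := hLS t ht h0
    exact ⟨s, hs, e, mul_eq_one_comm.1 e⟩
  have hSL : ∀ s ∈ S, s ≠ 0 → ∃ t ∈ L, s * t = 1 ∧ t * s = 1 := by
    let f : L → S := fun t => if h0 : (t : R) = 0 then 0 else
      ⟨_, (hLS' t t.2 h0).choose_spec.1⟩
    have hf : Function.Bijective f := by
      refine Function.Injective.bijective_of_nat_card_le (fun t t' htt => ?_) hc.ge
      apply Subtype.ext
      simp only [f] at htt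
      split_ifs at htt with ha hb hb
      · rw [ha, hb]
      · have := (hLS' t' t'.2 hb).choose_spec.2.1
        rw [← show (0 : R) = (hLS' t' t'.2 hb).choose from congrArg Subtype.val htt, zero_mul] at this
        exact absurd this zero_ne_one
      · have := (hLS' t t.2 ha).choose_spec.2.1
        rw [show (hLS' t t.2 ha).choose = (0 : R) from congrArg Subtype.val htt, zero_mul] at this
        exact absurd this zero_ne_one
      · have h1' := (hLS' t t.2 ha).choose_spec.2
        have h2' := (hLS' t' t'.2 hb).choose_spec.2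
        rw [show (hLS' t t.2 ha).choose = (hLS' t' t'.2 hb).choose from congrArg Subtype.val htt] at h1'
        exact left_inv_eq_right_inv h1'.2 h2'.1
    intro s hs hs0
    obtain ⟨t, ht⟩ := hf.2 ⟨s, hs⟩
    simp only [f] at ht
    split_ifs at ht with h0
    · exact absurd (congrArg Subtype.val ht).symm hs0
    · refine ⟨t, t.2, ?_⟩
      have h2' := (hLS' t t.2 h0).choose_spec.2
      rw [show (hLS' t t.2 h0).choose = s from congrArg Subtype.val ht] at h2'
      exact h2'
  have hhua : ∀ a ∈ S, ∀ b ∈ L, a * b * a ∈ S := by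
    intro a ha b hb
    by_cases ha0 : a = 0
    · simp [ha0]
    by_cases hb0 : b = 0
    · simp [hb0]
    obtain ⟨bi, hbi, eb, eb'⟩ := hLS' b hb hb0
    obtain ⟨ai, hai, ea, ea'⟩ := hSL a ha ha0
    by_cases hc0 : bi - a = 0
    · rw [sub_eq_zero] at hc0
      rw [← hc0, eb, one_mul]
      exact hbi
    obtain ⟨ci, hci, ec, ec'⟩ := hSL _ (S.sub_mem hbi ha) hc0
    have hd : ai + ci = ai * bi * ci := by
      calc ai + ci = ai * ((bi - a) * ci) + ai * a * ci := by rw [ec, ea', mul_one, one_mul]
        _ = ai * bi * ci := by noncomm_ring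
    have hde : (ai + ci) * ((bi - a) * b * a) = 1 := by
      calc (ai + ci) * ((bi - a) * b * a) = ai * bi * (ci * (bi - a)) * b * a := by
            rw [hd]; simp only [mul_assoc]
        _ = ai * (bi * b) * a := by rw [ec', mul_one]; simp only [mul_assoc]
        _ = 1 := by rw [eb, mul_one, ea']
    obtain ⟨di, hdi, ed, -⟩ := hLS' _ (L.add_mem hai hci)
      fun h0 => by rw [h0, zero_mul] at hde; exact zero_ne_one hde
    rw [left_inv_eq_right_inv ed hde, sub_mul, sub_mul, eb, one_mul] at hdi
    have := S.sub_mem ha hdi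
    rwa [sub_sub_cancel] at this
  have hle : L ≤ S := fun t ht => by simpa using hhua 1 h1 t ht
  have heq : L = S := SetLike.coe_injective
    (Set.eq_of_subset_of_ncard_le hle (by
      rw [← Nat.card_coe_set_eq, ← Nat.card_coe_set_eq]; exact hc.ge) (Set.toFinite _))
  refine ⟨heq, fun s hs t ht => hhua s hs t (heq ▸ ht), fun s hs h0 => ?_⟩
  obtain ⟨t, ht, -, e⟩ := hSL s hs h0
  exact ⟨t, heq ▸ ht, e⟩

theorem exists_matrix_equiv {X : Type*} [AddCommGroup X] [Module (ZMod p) X] [Finite X] :
    ∃ n : ℕ, Nat.card X = p ^ n ∧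
      Nonempty (AddMonoid.End X ≃+* Matrix (Fin n) (Fin n) (ZMod p)) := by
  haveI : Module.Finite (ZMod p) X := Module.Finite.of_finite
  let b := Module.finBasis (ZMod p) X
  let e₀ : AddMonoid.End X ≃+* Module.End (ZMod p) X :=
    { toFun := fun f => (f : X →+ X).toZModLinearMap p
      invFun := fun f => f.toAddMonoidHom
      left_inv := fun f => rfl
      right_inv := fun f => rfl
      map_mul' := fun f g => rfl
      map_add' := fun f g => rfl }
  refine ⟨_, ?_, ⟨e₀.trans (algEquivMatrix b).toRingEquiv⟩⟩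
  rw [Nat.card_congr b.equivFun.toEquiv, Nat.card_fun, Nat.card_zmod, Nat.card_fin]

/-- The coordinate field of a spread set closed under inversion. -/
theorem exists_field {X : Type*} [AddCommGroup X] [Finite X] [Nontrivial X] (hX : ∀ x : X, p • x = 0)
    (S L : AddSubgroup (AddMonoid.End X)) (h1 : (1 : AddMonoid.End X) ∈ S)
    (hLS : ∀ t ∈ L, t ≠ 0 → ∃ s ∈ S, s * t = 1) (hL : Nat.card L = Nat.card S)
    (hS : Nat.card S = Nat.card X) :
    L = S ∧ ∃ (F : Type) (_ : Field F) (_ : Fintype F) (χ : F ≃+ X) (f : S ≃ F),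
      ∀ (s : S) (r : F), (s : AddMonoid.End X) (χ r) = χ (f s * r) := by
  classical
  letI : Module (ZMod p) X := AddCommGroup.zmodModule hX
  obtain ⟨n, hcardX, ⟨e⟩⟩ := exists_matrix_equiv (p := p) (X := X)
  have : Finite (AddMonoid.End X) := Finite.of_equiv _ e.toEquiv.symm
  have : Nontrivial (AddMonoid.End X) := by
    obtain ⟨x, hx⟩ := exists_ne (0 : X)
    exact ⟨1, 0, fun h => hx (DFunLike.congr_fun h x)⟩
  obtain ⟨heq, hU, hinv⟩ := eq_of_inverse_pair S L h1 hLS hL
  refine ⟨heq, ?_⟩
  set SM : Submodule Kp (Matrix (Fin n) (Fin n) (ZMod p)) :=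
    AddSubgroup.toZModSubmodule p (S.map e.toAddMonoidHom) with hSM
  have hmem : ∀ m, m ∈ SM ↔ ∃ s ∈ S, e s = m := fun m => by
    rw [hSM, AddSubgroup.mem_toZModSubmodule, AddSubgroup.mem_map]; rfl
  have hcard : Nat.card SM = p ^ n := by
    have h3 : Nat.card X = p ^ n := hcardX
    rw [← h3, ← hS, show Nat.card SM = Nat.card (S.map e.toAddMonoidHom) from rfl]
    exact (Nat.card_congr (S.equivMapOfInjective _ e.injective).toEquiv).symm
  have hfield := mul_comm_mem_of_spread SM ((hmem 1).2 ⟨1, h1, map_one e⟩)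
    (fun s hs t ht => by
      obtain ⟨s, hs', rfl⟩ := (hmem s).1 hs
      obtain ⟨t, ht', rfl⟩ := (hmem t).1 ht
      exact (hmem _).2 ⟨_, hU s hs' t ht', by rw [map_mul, map_mul]⟩)
    (fun s hs h0 => by
      obtain ⟨s, hs', rfl⟩ := (hmem s).1 hs
      obtain ⟨t, -, et⟩ := hinv s hs' fun h => h0 (by rw [h, map_zero])
      refine (Matrix.isUnit_iff_isUnit_det _).1 (IsUnit.of_mul_eq_one_right (e t) ?_)
      rw [← map_mul, et, map_one]) hcard
  let R : Subring (Matrix (Fin n) (Fin n) (ZMod p)) :=
    { carrier := SM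
      mul_mem' := fun {a b} ha hb => (hfield a ha b hb).2
      one_mem' := (hmem 1).2 ⟨1, h1, map_one e⟩
      add_mem' := SM.add_mem
      zero_mem' := SM.zero_mem
      neg_mem' := SM.neg_mem }
  have hn0 : (1 : Matrix (Fin n) (Fin n) (ZMod p)) ≠ 0 := by
    rw [← map_one e, ← map_zero e]
    exact fun h => one_ne_zero (e.injective h)
  have hIsField : IsField R :=
    { exists_pair_ne := ⟨1, 0, fun h => hn0 (congrArg Subtype.val h)⟩
      mul_comm := fun a b => Subtype.ext (hfield _ a.2 _ b.2).1
      mul_inv_cancel := fun {a} ha => by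
        obtain ⟨s, hs, es⟩ := (hmem _).1 a.2
        obtain ⟨t, ht, et⟩ := hinv s hs fun h => ha (Subtype.ext (by rw [← es, h, map_zero]; rfl))
        exact ⟨⟨e t, (hmem _).2 ⟨t, ht, rfl⟩⟩, Subtype.ext (by
          show (a : Matrix (Fin n) (Fin n) (ZMod p)) * e t = 1
          rw [← es, ← map_mul, mul_eq_one_comm.1 et, map_one])⟩ }
  let _ : Field R := hIsField.toField
  obtain ⟨x₀, hx₀⟩ := exists_ne (0 : X)
  let f : S ≃ R := Equiv.ofBijective (fun s => ⟨e (s : AddMonoid.End X), (hmem _).2 ⟨s, s.2, rfl⟩⟩)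
    ⟨fun s t h => Subtype.ext (e.injective (congrArg Subtype.val h)), fun r => by
      obtain ⟨s, hs, es⟩ := (hmem _).1 r.2
      exact ⟨⟨s, hs⟩, Subtype.ext es⟩⟩
  let χ₀ : R →+ X :=
    { toFun := fun r => e.symm (r : Matrix (Fin n) (Fin n) (ZMod p)) x₀
      map_zero' := by simp
      map_add' := fun r r' => by simp only [Subring.coe_add, map_add]; rfl }
  have hχ : Function.Bijective χ₀ := by
    refine Function.Injective.bijective_of_nat_card_le ?_ ?_
    · rw [injective_iff_map_eq_zero]
      intro r hr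
      by_contra h0
      obtain ⟨s, hs, es⟩ := (hmem _).1 r.2
      obtain ⟨t, -, et⟩ := hinv s hs fun h => h0 (Subtype.ext (by rw [← es, h, map_zero]; rfl))
      apply hx₀
      have h2 : s x₀ = 0 := by
        have : e.symm (r : Matrix (Fin n) (Fin n) (ZMod p)) = s := by rw [← es, e.symm_apply_apply]
        rw [← this]; exact hr
      calc x₀ = (t * s) x₀ := by rw [et]; rfl
        _ = t (s x₀) := rfl
        _ = 0 := by rw [h2, map_zero]
    · rw [← hS, ← Nat.card_congr f]
  refine ⟨R, inferInstance, Fintype.ofFinite R, AddEquiv.ofBijective χ₀ hχ, f, fun s r => ?_⟩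
  show (s : AddMonoid.End X) (e.symm (r : Matrix (Fin n) (Fin n) (ZMod p)) x₀) =
    e.symm ((e (s : AddMonoid.End X)) * (r : Matrix (Fin n) (Fin n) (ZMod p))) x₀
  rw [map_mul, e.symm_apply_apply]
  rfl

end CfsgLib.Amalgam.Spread
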