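import Cfsg.Prelude.Def_BaumannBlocks
import Cfsg.Agent.Lib.Amalgam.OffenderSL2
import Cfsg.Agent.Lib.Amalgam.SpreadField
import Cfsg.Agent.Lib.Classical.SLGen

/-!
A minimal offender generating a `p`-minimal group: identification with `SL₂(F)` on its natural
module.
-/

set_option autoImplicit false
set_option linter.unusedSectionVars false

namespace CfsgLib.Amalgam

open Cfsg Subgroup
open scoped commutatorElement MatrixGroups

variable {G : Type*} [Group G] [Finite G] {p : ℕ} [Fact p.Prime]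

namespace OffGen

variable {V P A M T D : Subgroup G} (h : OffGen p V P A M T D)

include h

theorem comm_fix {a v : G} (ha : a ∈ A) (hv : v ∈ V ⊓ centralizer (A : Set G)) : ⁅a, v⁆ = 1 :=
  commutatorElement_eq_one_iff_mul_comm.2 (mem_centralizer_iff.1 hv.2 a ha)

theorem comm_fix_Z {g v : G} (hg : g ∈ P) (hv : v ∈ V ⊓ centralizer (P : Set G)) : ⁅g, v⁆ = 1 :=
  commutatorElement_eq_one_iff_mul_comm.2 (mem_centralizer_iff.1 hv.2 g hg)

theorem cjA_le {x : G} (hx : x ∈ P) : cjSub x A ≤ P := fun b hb => by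
  have := P.mul_mem (P.mul_mem hx (h.A_le_P (mem_cjSub.1 hb))) (P.inv_mem hx)
  simpa [mul_assoc] using this

theorem comm_fix_B {x b y : G} (hb : b ∈ cjSub x A)
    (hy : y ∈ cjSub x (V ⊓ centralizer (A : Set G))) : ⁅b, y⁆ = 1 := by
  have h1 := h.comm_fix (mem_cjSub.1 hb) (mem_cjSub.1 hy)
  have : ⁅b, y⁆ = x * ⁅x⁻¹ * b * x, x⁻¹ * y * x⁆ * x⁻¹ := by
    simp only [commutatorElement_def]; group
  rw [this, h1, mul_one, mul_inv_cancel]

theorem quadB {x b v : G} (hx : x ∈ P) (hb : b ∈ cjSub x A) (hv : v ∈ V) :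
    ⁅b, v⁆ ∈ cjSub x (V ⊓ centralizer (A : Set G)) := by
  rw [mem_cjSub]
  have := h.quad (mem_cjSub.1 hb) (h.conjV' hx hv)
  convert this using 1
  simp only [commutatorElement_def]; group

theorem split {x v : G} (hx : x ∈ P) (hxM : x ∉ M) (hv : v ∈ V) :
    ∃ v₁ ∈ V ⊓ centralizer (A : Set G), ∃ y ∈ cjSub x (V ⊓ centralizer (A : Set G)),
      v₁ * y = v :=
  h.mem_sup_V inf_le_left (h.cjSub_le_V hx inf_le_left) ((h.counting hx hxM).1 hv)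

theorem X_of_comm_Z {a v : G} (ha : a ∈ A) (ha1 : a ≠ 1) (hv : v ∈ V)
    (hZ : ⁅a, v⁆ ∈ V ⊓ centralizer (P : Set G)) : v ∈ V ⊓ centralizer (A : Set G) := by
  obtain ⟨x, hx, hxM⟩ := h.out
  obtain ⟨v₁, hv₁, y, hy, rfl⟩ := h.split hx hxM hv
  rw [h.comm_mul (h.A_le_P ha) hv₁.1 (h.cjSub_le_V hx inf_le_left hy), h.comm_fix ha hv₁,
    one_mul] at hZ
  exact mul_mem hv₁ (h.Z_le_X (h.comm_mem_Z hx hxM ha ha1 hy hZ))

theorem comm_mem_Z_B {x b v : G} (hx : x ∈ P) (hxM : x ∉ M) (hb : b ∈ cjSub x A) (hb1 : b ≠ 1)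
    (hv : v ∈ V ⊓ centralizer (A : Set G)) (hZ : ⁅b, v⁆ ∈ V ⊓ centralizer (P : Set G)) :
    v ∈ V ⊓ centralizer (P : Set G) := by
  refine h.inf_cjX hx hxM hv (mem_cjSub.2 (h.X_of_comm_Z (mem_cjSub.1 hb) (fun he => hb1 ?_)
    (h.conjV' hx hv.1) ?_))
  · calc b = x * (x⁻¹ * b * x) * x⁻¹ := by group
      _ = 1 := by rw [he, mul_one, mul_inv_cancel]
  · have h2 : ⁅x⁻¹ * b * x, x⁻¹ * v * x⁆ = x⁻¹ * ⁅b, v⁆ * x := by
      simp only [commutatorElement_def]; group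
    rw [h2, h.Z_comm hx hZ]
    exact hZ

theorem cover {x v : G} (hx : x ∈ P) (hxM : x ∉ M) (hv : v ∈ V)
    (hvX : v ∉ V ⊓ centralizer (A : Set G)) :
    ∃ a ∈ A, v ∈ cjSub (a * x) (V ⊓ centralizer (A : Set G)) := by
  obtain ⟨v₁, hv₁, y, hy, rfl⟩ := h.split hx hxM hv
  have hyZ : y ∉ V ⊓ centralizer (P : Set G) := fun hm => hvX (mul_mem hv₁ (h.Z_le_X hm))
  obtain ⟨a, ha, z, hz, rfl⟩ := (h.counting hx hxM).2.2 y hy hyZ v₁ hv₁
  refine ⟨a, ha, mem_cjSub.2 ?_⟩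
  have e : ⁅a, y⁆ * z * y = a * (y * z) * a⁻¹ := by
    have h1 : a * z * a⁻¹ = z := by
      rw [mem_centralizer_iff.1 hz.2 a (h.A_le_P ha), mul_inv_cancel_right]
    calc ⁅a, y⁆ * z * y = ⁅a, y⁆ * (z * y) := mul_assoc _ _ _
      _ = ⁅a, y⁆ * (y * z) := by rw [h.commV hz.1 (h.cjSub_le_V hx inf_le_left hy)]
      _ = a * y * a⁻¹ * (a * z * a⁻¹) := by rw [h1, mul_comm_eq a y, mul_assoc]
      _ = a * (y * z) * a⁻¹ := by group
  rw [e, show (a * x)⁻¹ * (a * (y * z) * a⁻¹) * (a * x) = (x⁻¹ * y * x) * (x⁻¹ * z * x) by group,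
    h.Z_comm hx hz]
  exact mul_mem (mem_cjSub.1 hy) (h.Z_le_X hz)

theorem cjX_of_mem {m : G} (hm : m ∈ M) :
    cjSub m (V ⊓ centralizer (A : Set G)) ≤ V ⊓ centralizer (A : Set G) := by
  intro v hv
  obtain ⟨x, hx, hxM⟩ := h.out
  by_contra hvX
  obtain ⟨a, ha, hav⟩ := h.cover hx hxM (h.cjSub_le_V (h.hMP hm) inf_le_left hv) hvX
  refine hvX (h.Z_le_X (h.inf_cjX' (h.hMP hm) (P.mul_mem (h.A_le_P ha) hx) (fun hmem => hxM ?_)
    hv hav))
  have := M.mul_mem (M.inv_mem (h.A_le_M ha)) (M.mul_mem hm hmem)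
  simpa [mul_assoc] using this

theorem partner {x b : G} (hx : x ∈ P) (hxM : x ∉ M) (hb : b ∈ cjSub x A) (hb1 : b ≠ 1) :
    ∃ a ∈ A, a ≠ 1 ∧ ∀ v ∈ V ⊓ centralizer (A : Set G),
      ⁅a, ⁅b, v⁆⁆⁻¹ * v ∈ V ⊓ centralizer (P : Set G) := by
  obtain ⟨u, hu, huT, huX, huZ⟩ := h.u_spec
  have hbP := h.cjA_le hx hb
  have hwV : b * u * b⁻¹ ∈ V := h.conjV hbP hu
  have hwX : b * u * b⁻¹ ∉ V ⊓ centralizer (A : Set G) := by
    intro hw
    rw [mul_comm_eq] at hw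
    have h1 := mul_mem hw (inv_mem huX)
    rw [mul_inv_cancel_right] at h1
    exact huZ (h.comm_mem_Z_B hx hxM hb hb1 huX (h.inf_cjX hx hxM h1 (h.quadB hx hb hu)))
  obtain ⟨a, ha, haw⟩ := h.cover hx hxM hwV hwX
  have haxP : a * x ∈ P := P.mul_mem (h.A_le_P ha) hx
  have hmM : (a * x)⁻¹ * b ∈ M := by
    by_contra hne
    exact hwX (h.Z_le_X (h.inf_cjX' haxP hbP hne haw
      (mem_cjSub.2 (by rw [show b⁻¹ * (b * u * b⁻¹) * b = u by group]; exact huX))))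
  have key : ∀ v ∈ V ⊓ centralizer (A : Set G),
      ⁅a, ⁅b, v⁆⁆⁻¹ * v ∈ V ⊓ centralizer (P : Set G) := by
    intro v hv
    set y' := x⁻¹ * a⁻¹ * (b * v * b⁻¹) * (a * x) with hy'
    have hy'X : y' ∈ V ⊓ centralizer (A : Set G) := by
      refine h.cjX_of_mem hmM (mem_cjSub.2 ?_)
      convert hv using 1
      rw [hy']; group
    set w := x * y' * x⁻¹ with hw
    have hwY : w ∈ cjSub x (V ⊓ centralizer (A : Set G)) :=
      mem_cjSub.2 (by rw [show x⁻¹ * w * x = y' by rw [hw]; group]; exact hy'X)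
    have hwV : w ∈ V := h.cjSub_le_V hx inf_le_left hwY
    have e : b * v * b⁻¹ = a * w * a⁻¹ := by rw [hw, hy']; group
    rw [mul_comm_eq, mul_comm_eq] at e
    have hy := h.quadB hx hb hv.1
    have hbv := h.comm_mem_V hbP hv.1
    have hxa := h.quad ha hwV
    have hzX : ⁅a, w⁆ * v⁻¹ ∈ V ⊓ centralizer (A : Set G) := mul_mem hxa (inv_mem hv)
    have hze : ⁅a, w⁆ * v⁻¹ = ⁅b, v⁆ * w⁻¹ := by
      calc ⁅a, w⁆ * v⁻¹ = ⁅a, w⁆ * w * (w⁻¹ * v⁻¹) := by group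
        _ = ⁅b, v⁆ * v * (v⁻¹ * w⁻¹) := by
          rw [e, h.commV (V.inv_mem hwV) (V.inv_mem hv.1)]
        _ = ⁅b, v⁆ * w⁻¹ := by group
    have hzZ := h.inf_cjX hx hxM hzX (hze ▸ mul_mem hy (inv_mem hwY))
    have hbveq : ⁅b, v⁆ = ⁅a, w⁆ * v⁻¹ * w := by rw [hze, inv_mul_cancel_right]
    rw [hbveq, h.comm_mul (h.A_le_P ha) hzX.1 hwV, h.comm_fix_Z (h.A_le_P ha) hzZ, one_mul]
    have := inv_mem hzZ
    rw [mul_inv_rev, inv_inv] at this
    rwa [h.commV (V.inv_mem hxa.1) hv.1]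
  refine ⟨a, ha, fun ha1 => huZ ?_, key⟩
  have := key u huX
  rwa [ha1, commutatorElement_one_left, inv_one, one_mul] at this

/-- `P` acts as `SL₂(F)` as soon as `A` and `B` act as the two transvection groups. -/
theorem exists_rho {F : Type*} [Field F] {B : Subgroup G} (hgenB : A ⊔ B = P)
    (Ψ : V →* Multiplicative (Fin 2 → F)) (hΨ : Function.Surjective Ψ)
    (κ : A → F) (hκ : Function.Surjective κ) (μ : B → F) (hμ : Function.Surjective μ)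
    (hactA : ∀ (a : A) (v w : V), (w : G) = (a : G) * v * (a : G)⁻¹ →
      Multiplicative.toAdd (Ψ w) 0 = Multiplicative.toAdd (Ψ v) 0 + κ a * Multiplicative.toAdd (Ψ v) 1 ∧
        Multiplicative.toAdd (Ψ w) 1 = Multiplicative.toAdd (Ψ v) 1)
    (hactB : ∀ (b : B) (v w : V), (w : G) = (b : G) * v * (b : G)⁻¹ →
      Multiplicative.toAdd (Ψ w) 0 = Multiplicative.toAdd (Ψ v) 0 ∧
        Multiplicative.toAdd (Ψ w) 1 = Multiplicative.toAdd (Ψ v) 1 + μ b * Multiplicative.toAdd (Ψ v) 0) :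
    ∃ ρ : P →* SL(2, F), ρ.range = ⊤ ∧ ∀ (g : P) (v w : V), (w : G) = (g : G) * v * (g : G)⁻¹ →
      Multiplicative.toAdd (Ψ w) = ρ g • Multiplicative.toAdd (Ψ v) := by
  classical
  let Act : G → SL(2, F) → Prop := fun g N => ∀ (v w : V), (w : G) = g * v * g⁻¹ →
    Multiplicative.toAdd (Ψ w) = N • Multiplicative.toAdd (Ψ v)
  have hBP : B ≤ P := hgenB ▸ le_sup_right
  have hA' : ∀ a : A, Act a
      (Matrix.SpecialLinearGroup.transvection (show (0 : Fin 2) ≠ 1 by decide) (κ a)) := by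
    intro a v w hw
    obtain ⟨h0, h1⟩ := hactA a v w hw
    funext i
    rw [CfsgLib.Classical.transvection_smul_apply]
    fin_cases i
    · simpa using h0
    · simpa using h1
  have hB' : ∀ b : B, Act b
      (Matrix.SpecialLinearGroup.transvection (show (1 : Fin 2) ≠ 0 by decide) (μ b)) := by
    intro b v w hw
    obtain ⟨h0, h1⟩ := hactB b v w hw
    funext i
    rw [CfsgLib.Classical.transvection_smul_apply]
    fin_cases i
    · simpa using h0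
    · simpa using h1
  let H : Subgroup G :=
    { carrier := {g | g ∈ P ∧ ∃ N, Act g N}
      one_mem' := ⟨one_mem _, 1, fun v w hw => by
        rw [one_smul, show w = v from Subtype.ext (by simpa using hw)]⟩
      mul_mem' := fun {g k} hg hk => ⟨P.mul_mem hg.1 hk.1, hg.2.choose * hk.2.choose, fun v w hw => by
        rw [mul_smul, ← hk.2.choose_spec v ⟨k * v * k⁻¹, h.conjV hk.1 v.2⟩ rfl]
        exact hg.2.choose_spec _ w (by rw [hw]; simp [mul_assoc])⟩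
      inv_mem' := fun {g} hg => ⟨P.inv_mem hg.1, hg.2.choose⁻¹, fun v w hw => by
        rw [eq_inv_smul_iff]
        exact (hg.2.choose_spec w v (by rw [hw]; group)).symm⟩ }
  have hPH : P ≤ H := by
    conv_lhs => rw [← hgenB]
    exact sup_le (fun a ha => ⟨h.A_le_P ha, _, hA' ⟨a, ha⟩⟩) (fun b hb => ⟨hBP hb, _, hB' ⟨b, hb⟩⟩)
  have huniq : ∀ g ∈ P, ∀ N N', Act g N → Act g N' → N = N' := by
    intro g hg N N' hN hN'
    refine CfsgLib.Classical.sl_ext_smul fun r => ?_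
    obtain ⟨v, hv⟩ := hΨ (Multiplicative.ofAdd r)
    have e : Multiplicative.toAdd (Ψ v) = r := by rw [hv]; rfl
    rw [← e, ← hN v ⟨g * v * g⁻¹, h.conjV hg v.2⟩ rfl, ← hN' v ⟨g * v * g⁻¹, h.conjV hg v.2⟩ rfl]
  let ρ : P →* SL(2, F) := MonoidHom.mk' (fun g => (hPH g.2).2.choose) fun g k =>
    huniq _ (g * k : P).2 _ _ (hPH (g * k : P).2).2.choose_spec fun v w hw => by
      rw [mul_smul, ← (hPH k.2).2.choose_spec v ⟨k * v * (k : G)⁻¹, h.conjV k.2 v.2⟩ rfl]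
      exact (hPH g.2).2.choose_spec _ w (by rw [hw]; simp [mul_assoc])
  refine ⟨ρ, ?_, fun g => (hPH g.2).2.choose_spec⟩
  refine CfsgLib.Classical.sl_transvection_induction _ fun i j hij k => ?_
  fin_cases i <;> fin_cases j
  · exact absurd rfl hij
  · obtain ⟨a, rfl⟩ := hκ k
    exact ⟨⟨a, h.A_le_P a.2⟩, huniq _ (h.A_le_P a.2) _ _ (hPH (h.A_le_P a.2)).2.choose_spec (hA' a)⟩
  · obtain ⟨b, rfl⟩ := hμ k
    exact ⟨⟨b, hBP b.2⟩, huniq _ (hBP b.2) _ _ (hPH (hBP b.2)).2.choose_spec (hB' b)⟩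
  · exact absurd rfl hij

/-- `⁅a, ⁅b, ⁅a₀, v⁆⁆⁆ = ⁅a, v⁆` for a pair `(a₀, b)`. -/
theorem pair_left {b a₀ : G} (hbP : b ∈ P) (ha₀ : a₀ ∈ A) (ha₀1 : a₀ ≠ 1)
    (hP1 : ∀ v ∈ V ⊓ centralizer (A : Set G), ⁅a₀, ⁅b, v⁆⁆⁻¹ * v ∈ V ⊓ centralizer (P : Set G))
    {a v : G} (ha : a ∈ A) (hv : v ∈ V) : ⁅a, ⁅b, ⁅a₀, v⁆⁆⁆ = ⁅a, v⁆ := by
  have h1 := h.comm_mem_V hbP (h.quad ha₀ hv).1
  set w := ⁅b, ⁅a₀, v⁆⁆⁻¹ * v with hw
  have hwV : w ∈ V := V.mul_mem (V.inv_mem h1) hv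
  have hv' : v = ⁅b, ⁅a₀, v⁆⁆ * w := by rw [hw, mul_inv_cancel_left]
  have hwX : w ∈ V ⊓ centralizer (A : Set G) := by
    refine h.X_of_comm_Z ha₀ ha₀1 hwV ?_
    have h2 := hP1 _ (h.quad ha₀ hv)
    have h3 := h.comm_mul (h.A_le_P ha₀) h1 hwV
    rw [← hv'] at h3
    nth_rw 2 [h3] at h2
    rwa [inv_mul_cancel_left] at h2
  conv_rhs => rw [hv', h.comm_mul (h.A_le_P ha) h1 hwV, h.comm_fix ha hwX, mul_one]

/-- `⁅b, ⁅a₀, ⁅b₁, v⁆⁆⁆ = ⁅b, v⁆` for a pair `(a₀, b₁)`. -/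
theorem pair_right {x b₁ a₀ : G} (hx : x ∈ P) (hxM : x ∉ M) (hb₁ : b₁ ∈ cjSub x A) (ha₀ : a₀ ∈ A)
    (hP1 : ∀ v ∈ V ⊓ centralizer (A : Set G), ⁅a₀, ⁅b₁, v⁆⁆⁻¹ * v ∈ V ⊓ centralizer (P : Set G))
    {b v : G} (hb : b ∈ cjSub x A) (hv : v ∈ V) : ⁅b, ⁅a₀, ⁅b₁, v⁆⁆⁆ = ⁅b, v⁆ := by
  have hBP := h.cjA_le hx
  obtain ⟨v₁, hv₁, y, hy, rfl⟩ := h.split hx hxM hv
  have hyV := h.cjSub_le_V hx inf_le_left hy
  rw [h.comm_mul (hBP hb₁) hv₁.1 hyV, h.comm_fix_B hb₁ hy, mul_one,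
    h.comm_mul (hBP hb) hv₁.1 hyV, h.comm_fix_B hb hy, mul_one]
  have hz := hP1 v₁ hv₁
  have h1 := (h.quad ha₀ (h.comm_mem_V (hBP hb₁) hv₁.1)).1
  have hv' : ⁅a₀, ⁅b₁, v₁⁆⁆ * (⁅a₀, ⁅b₁, v₁⁆⁆⁻¹ * v₁) = v₁ := mul_inv_cancel_left _ _
  conv_rhs => rw [← hv', h.comm_mul (hBP hb) h1 hz.1, h.comm_fix_Z (hBP hb) hz, mul_one]

theorem comm_mul_B {x b b' v : G} (hx : x ∈ P) (hb : b ∈ cjSub x A) (hb' : b' ∈ cjSub x A)
    (hv : v ∈ V) : ⁅b * b', v⁆ = ⁅b, v⁆ * ⁅b', v⁆ := by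
  have h1 := h.quadB hx hb' hv
  rw [comm_mul_left, mul_comm_eq, h.comm_fix_B hb h1, one_mul,
    h.commV (h.cjSub_le_V hx inf_le_left h1) (h.comm_mem_V (h.cjA_le hx hb) hv)]

theorem comm_mul_A {a a' v : G} (ha : a ∈ A) (ha' : a' ∈ A) (hv : v ∈ V) :
    ⁅a * a', v⁆ = ⁅a, v⁆ * ⁅a', v⁆ := by
  have h1 := h.quad ha' hv
  rw [comm_mul_left, mul_comm_eq, h.comm_fix ha h1, one_mul,
    h.commV h1.1 (h.quad ha hv).1]

set_option maxHeartbeats 1000000 in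
/-- Coordinates of `V` modulo `C_V(P)`. -/
theorem exists_coord {x : G} (hx : x ∈ P) (hxM : x ∉ M) :
    ∃ (F : Type) (_ : Field F) (_ : Fintype F), Fintype.card F = Nat.card A ∧
    ∃ (Ψ : V →* Multiplicative (Fin 2 → F)) (κ : A → F) (μ : ↥(cjSub x A) → F),
      Function.Surjective Ψ ∧ (∀ v : V, Ψ v = 1 ↔ (v : G) ∈ V ⊓ centralizer (P : Set G)) ∧
      Function.Surjective κ ∧ Function.Surjective μ ∧
      (∀ (a : A) (v w : V), (w : G) = (a : G) * v * (a : G)⁻¹ →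
        Multiplicative.toAdd (Ψ w) 0 = Multiplicative.toAdd (Ψ v) 0 + κ a * Multiplicative.toAdd (Ψ v) 1 ∧
          Multiplicative.toAdd (Ψ w) 1 = Multiplicative.toAdd (Ψ v) 1) ∧
      (∀ (b : ↥(cjSub x A)) (v w : V), (w : G) = (b : G) * v * (b : G)⁻¹ →
        Multiplicative.toAdd (Ψ w) 0 = Multiplicative.toAdd (Ψ v) 0 ∧
          Multiplicative.toAdd (Ψ w) 1 = Multiplicative.toAdd (Ψ v) 1 + μ b * Multiplicative.toAdd (Ψ v) 0) := by
  classical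
  set X := V ⊓ centralizer (A : Set G) with hX
  set Z := V ⊓ centralizer (P : Set G) with hZ
  set B := cjSub x A with hB
  have hBP : B ≤ P := h.cjA_le hx
  obtain ⟨u, hu, huT, huX, huZ⟩ := h.u_spec
  obtain ⟨hVU, hXcard, hsurj⟩ := h.counting hx hxM
  have hA1 : ∃ a ∈ A, a ≠ 1 := by
    by_contra hne
    push Not at hne
    have h1 : A = ⊥ := (eq_bot_iff_forall A).2 hne
    have h2 := h.gen x hx hxM
    rw [h1, cjSub, Subgroup.map_bot, bot_sup_eq] at h2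
    rw [← h2, mem_bot] at hx
    exact hxM (hx ▸ M.one_mem)
  obtain ⟨a', ha', ha'1⟩ := hA1
  obtain ⟨b₁, hb₁, hb₁1⟩ : ∃ b ∈ B, b ≠ 1 :=
    ⟨x * a' * x⁻¹, mem_cjSub.2 (by simpa [mul_assoc] using ha'), fun he => ha'1 (conj_eq_one_iff.1 he)⟩
  obtain ⟨a₀, ha₀, ha₀1, hP1⟩ := h.partner hx hxM hb₁ hb₁1
  letI : CommGroup X := { (inferInstance : Group X) with
    mul_comm := fun a b => Subtype.ext (h.commV a.2.1 b.2.1) }
  set Zs : Subgroup X := Z.subgroupOf X with hZs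
  let q : X →* X ⧸ Zs := QuotientGroup.mk' Zs
  have hq : ∀ v w : X, q v = q w ↔ (v : G)⁻¹ * w ∈ Z := fun v w => QuotientGroup.eq
  have hqone : ∀ v : X, q v = 1 ↔ (v : G) ∈ Z := fun v => QuotientGroup.eq_one_iff v
  have hqs : Function.Surjective q := QuotientGroup.mk'_surjective Zs
  have hqker : ∀ v, v ∈ Zs → q v = 1 := fun v hv => (QuotientGroup.eq_one_iff v).2 hv
  -- the two coordinates
  obtain ⟨dX, hdX⟩ : ∃ d : A → (V →* X ⧸ Zs), ∀ (a : A) (v : V),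
      d a v = q ⟨⁅(a : G), (v : G)⁆, h.quad a.2 v.2⟩ :=
    ⟨fun a => MonoidHom.mk' (fun v => q ⟨⁅(a : G), (v : G)⁆, h.quad a.2 v.2⟩) fun v w => by
      rw [← map_mul]
      exact congrArg q (Subtype.ext (h.comm_mul (h.A_le_P a.2) v.2 w.2)), fun a v => rfl⟩
  obtain ⟨ψ2, hψ2⟩ : ∃ φ : V →* X ⧸ Zs, ∀ v : V, φ v = q ⟨⁅a₀, (v : G)⁆, h.quad ha₀ v.2⟩ :=
    ⟨dX ⟨a₀, ha₀⟩, fun v => hdX _ v⟩
  obtain ⟨cB, hcB⟩ : ∃ c : B → (V →* V), ∀ (b : B) (v : V), (c b v : G) = ⁅(b : G), (v : G)⁆ :=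
    ⟨fun b => PLocal.commHom V h.V_le_centralizer b (h.hPV (hBP b.2)), fun b v => rfl⟩
  obtain ⟨ψ1, hψ1⟩ : ∃ φ : V →* X ⧸ Zs, ∀ v : V, φ v = ψ2 (cB ⟨b₁, hb₁⟩ v) :=
    ⟨ψ2.comp (cB ⟨b₁, hb₁⟩), fun v => rfl⟩
  have hψ1X : ∀ (v : V) (hv : (v : G) ∈ X), ψ1 v = q ⟨v, hv⟩ := fun v hv => by
    rw [hψ1, hψ2, hq]
    simp only [hcB]
    exact hP1 v hv
  have hψ2X : ∀ v : V, (v : G) ∈ X → ψ2 v = 1 := fun v hv => by
    rw [hψ2, hqone]
    simp only [h.comm_fix ha₀ hv]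
    exact one_mem _
  have hψ1Y : ∀ v : V, (v : G) ∈ cjSub x X → ψ1 v = 1 := fun v hv => by
    rw [hψ1, show cB ⟨b₁, hb₁⟩ v = 1 from Subtype.ext (by
      rw [hcB, h.comm_fix_B hb₁ hv]; rfl), map_one]
  have hψsurj : ∀ r₁ r₂ : X ⧸ Zs, ∃ v : V, ψ1 v = r₁ ∧ ψ2 v = r₂ := by
    intro r₁ r₂
    obtain ⟨v₁, rfl⟩ := hqs r₁
    obtain ⟨v₂, rfl⟩ := hqs r₂
    refine ⟨⟨v₁, v₁.2.1⟩ * cB ⟨b₁, hb₁⟩ ⟨v₂, v₂.2.1⟩, ?_, ?_⟩
    · rw [map_mul, hψ1X ⟨v₁, v₁.2.1⟩ v₁.2,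
        hψ1Y _ (by rw [hcB]; exact h.quadB hx hb₁ v₂.2.1), mul_one]
    · rw [map_mul, hψ2X ⟨v₁, v₁.2.1⟩ v₁.2, one_mul, ← hψ1, hψ1X ⟨v₂, v₂.2.1⟩ v₂.2]
  -- the endomorphisms
  obtain ⟨sH, hsH⟩ : ∃ s : A → (X ⧸ Zs →* X ⧸ Zs), ∀ (a : A) (v : V), s a (ψ2 v) = dX a v := by
    refine ⟨fun a => QuotientGroup.lift Zs (((dX a).comp (cB ⟨b₁, hb₁⟩)).comp
      (inclusion inf_le_left)) ?_, fun a v => ?_⟩
    · intro z hz
      rw [MonoidHom.mem_ker, MonoidHom.comp_apply, MonoidHom.comp_apply,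
        show cB ⟨b₁, hb₁⟩ (inclusion inf_le_left z) = 1 from Subtype.ext (by
          rw [hcB]; exact h.comm_fix_Z (hBP hb₁) hz), map_one]
    · rw [hψ2]
      show dX a _ = _
      rw [hdX, hdX]
      refine congrArg q (Subtype.ext ?_)
      simp only [hcB]
      exact h.pair_left (hBP hb₁) ha₀ ha₀1 hP1 a.2 v.2
  obtain ⟨tH, htH⟩ : ∃ t : B → (X ⧸ Zs →* X ⧸ Zs), ∀ (b : B) (v : V), t b (ψ1 v) = ψ2 (cB b v) := by
    refine ⟨fun b => QuotientGroup.lift Zs ((ψ2.comp (cB b)).comp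
      (inclusion inf_le_left)) ?_, fun b v => ?_⟩
    · intro z hz
      rw [MonoidHom.mem_ker, MonoidHom.comp_apply, MonoidHom.comp_apply,
        show cB b (inclusion inf_le_left z) = 1 from Subtype.ext (by
          rw [hcB]; exact h.comm_fix_Z (hBP b.2) hz), map_one]
    · rw [hψ1, hψ2 (cB ⟨b₁, hb₁⟩ v)]
      show ψ2 (cB b _) = _
      refine congrArg ψ2 (Subtype.ext ?_)
      simp only [hcB, coe_inclusion]
      exact h.pair_right hx hxM hb₁ ha₀ hP1 b.2 v.2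
  have hrange2 : ∀ r, ∃ v, ψ2 v = r := fun r => (hψsurj 1 r).imp fun v hv => hv.2
  have hrange1 : ∀ r, ∃ v, ψ1 v = r := fun r => (hψsurj r 1).imp fun v hv => hv.1
  have hsmul : ∀ (a a' : A) (r : X ⧸ Zs), sH (a * a') r = sH a r * sH a' r := by
    intro a a' r
    obtain ⟨v, rfl⟩ := hrange2 r
    rw [hsH, hsH, hsH, hdX, hdX, hdX, ← map_mul]
    exact congrArg q (Subtype.ext (h.comm_mul_A a.2 a'.2 v.2))
  have htmul : ∀ (b b' : B) (r : X ⧸ Zs), tH (b * b') r = tH b r * tH b' r := by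
    intro b b' r
    obtain ⟨v, rfl⟩ := hrange1 r
    rw [htH, htH, htH, ← map_mul]
    refine congrArg ψ2 (Subtype.ext ?_)
    simp only [hcB, Subgroup.coe_mul]
    exact h.comm_mul_B hx b.2 b'.2 v.2
  obtain ⟨φS, hφS⟩ : ∃ φ : Additive A →+ AddMonoid.End (Additive (X ⧸ Zs)),
      ∀ (a : A) (r : X ⧸ Zs), φ (Additive.ofMul a) (Additive.ofMul r) = Additive.ofMul (sH a r) :=
    ⟨AddMonoidHom.mk' (fun a => MonoidHom.toAdditive (sH (Additive.toMul a))) fun a a' =>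
      AddMonoidHom.ext fun r => hsmul _ _ _, fun a r => rfl⟩
  obtain ⟨φL, hφL⟩ : ∃ φ : Additive B →+ AddMonoid.End (Additive (X ⧸ Zs)),
      ∀ (b : B) (r : X ⧸ Zs), φ (Additive.ofMul b) (Additive.ofMul r) = Additive.ofMul (tH b r) :=
    ⟨AddMonoidHom.mk' (fun b => MonoidHom.toAdditive (tH (Additive.toMul b))) fun b b' =>
      AddMonoidHom.ext fun r => htmul _ _ _, fun b r => rfl⟩
  have hqu : q ⟨u, huX⟩ ≠ 1 := fun he => huZ ((hqone _).1 he)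
  have : Nontrivial (Additive (X ⧸ Zs)) :=
    ⟨Additive.ofMul (q ⟨u, huX⟩), 0, fun he => hqu (ofMul_eq_zero.1 he)⟩
  have hcardQ : Nat.card (Additive (X ⧸ Zs)) = Nat.card A := by
    have h1 : Nat.card Zs = Nat.card Z := Nat.card_congr (subgroupOfEquivOfLe h.Z_le_X).toEquiv
    have h2 := card_eq_card_quotient_mul_card_subgroup Zs
    rw [h1, hXcard] at h2
    rw [Nat.card_congr Additive.toMul]
    exact (Nat.eq_of_mul_eq_mul_right Nat.card_pos h2).symm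
  have hpair : ∀ b : B, (b : G) ≠ 1 → ∃ a : A, ∀ r, sH a (tH b r) = r := by
    intro b hb
    obtain ⟨a, ha, -, hab⟩ := h.partner hx hxM b.2 hb
    refine ⟨⟨a, ha⟩, fun r => ?_⟩
    obtain ⟨v, rfl⟩ := hqs r
    rw [← hψ1X ⟨v, v.2.1⟩ v.2, htH, hsH, hψ1X ⟨v, v.2.1⟩ v.2, hdX, hq]
    simp only [hcB]
    exact hab v v.2
  have hone : φS (Additive.ofMul ⟨a₀, ha₀⟩) = 1 := by
    refine DFunLike.ext _ _ fun r => ?_
    obtain ⟨v, hv⟩ := hrange2 (Additive.toMul r)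
    rw [show r = Additive.ofMul (ψ2 v) by rw [hv, ofMul_toMul], hφS, hsH, hdX, ← hψ2]
    rfl
  have hSinj : Function.Injective φS := by
    refine (injective_iff_map_eq_zero φS).2 fun a ha => ?_
    by_contra hne
    have ha1 : ((Additive.toMul a : A) : G) ≠ 1 := fun he => hne
      (toMul_eq_one.1 (Subtype.ext he))
    obtain ⟨v, hv⟩ := hrange2 (q ⟨u, huX⟩)
    have h1 := hφS (Additive.toMul a) (ψ2 v)
    rw [ofMul_toMul, ha, hsH] at h1
    have h2 := (Additive.ofMul.injective (h1.trans rfl : (0 : Additive (X ⧸ Zs)) = _)).symm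
    rw [hdX, hqone] at h2
    refine hqu ?_
    rw [← hv, hψ2X v (h.X_of_comm_Z (Additive.toMul a : A).2 ha1 v.2 h2)]
  have hLinj : Function.Injective φL := by
    refine (injective_iff_map_eq_zero φL).2 fun b hb => ?_
    by_contra hne
    have hb1 : ((Additive.toMul b : B) : G) ≠ 1 := fun he => hne (toMul_eq_one.1 (Subtype.ext he))
    obtain ⟨a, ha⟩ := hpair _ hb1
    have h1 := hφL (Additive.toMul b) (q ⟨u, huX⟩)
    rw [ofMul_toMul, hb] at h1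
    have h2 := (Additive.ofMul.injective (h1.trans rfl : (0 : Additive (X ⧸ Zs)) = _)).symm
    refine hqu ?_
    rw [← ha (q ⟨u, huX⟩), h2]
    exact map_one _
  obtain ⟨S, hS⟩ : ∃ S : AddSubgroup (AddMonoid.End (Additive (X ⧸ Zs))),
      (S : Set (AddMonoid.End (Additive (X ⧸ Zs)))) = Set.range φS :=
    ⟨{ carrier := Set.range φS
       zero_mem' := ⟨0, map_zero φS⟩
       add_mem' := by
         rintro _ _ ⟨a, rfl⟩ ⟨b, rfl⟩
         exact ⟨a + b, map_add φS a b⟩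
       neg_mem' := by
         rintro _ ⟨a, rfl⟩
         exact ⟨-a, eq_neg_of_add_eq_zero_left (by rw [← map_add, neg_add_cancel, map_zero])⟩ }, rfl⟩
  obtain ⟨L, hL⟩ : ∃ L : AddSubgroup (AddMonoid.End (Additive (X ⧸ Zs))),
      (L : Set (AddMonoid.End (Additive (X ⧸ Zs)))) = Set.range φL :=
    ⟨{ carrier := Set.range φL
       zero_mem' := ⟨0, map_zero φL⟩
       add_mem' := by
         rintro _ _ ⟨a, rfl⟩ ⟨b, rfl⟩
         exact ⟨a + b, map_add φL a b⟩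
       neg_mem' := by
         rintro _ ⟨a, rfl⟩
         exact ⟨-a, eq_neg_of_add_eq_zero_left (by rw [← map_add, neg_add_cancel, map_zero])⟩ }, rfl⟩
  have hmemS : ∀ e, e ∈ S ↔ e ∈ Set.range φS := fun e => Set.ext_iff.1 hS e
  have hmemL' : ∀ e, e ∈ L ↔ e ∈ Set.range φL := fun e => Set.ext_iff.1 hL e
  have hScard : Nat.card S = Nat.card A :=
    ((Nat.card_congr (Equiv.setCongr hS)).trans (Nat.card_range_of_injective hSinj)).trans
      (Nat.card_congr Additive.toMul)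
  have hLcard : Nat.card L = Nat.card A :=
    (((Nat.card_congr (Equiv.setCongr hL)).trans (Nat.card_range_of_injective hLinj)).trans
      (Nat.card_congr Additive.toMul)).trans (card_cjSub x A)
  have htor : ∀ r : Additive (X ⧸ Zs), p • r = 0 := by
    intro r
    obtain ⟨v, hv⟩ := hqs (Additive.toMul r)
    refine toMul_eq_one.1 ?_
    rw [toMul_nsmul, ← hv, ← map_pow, show v ^ p = 1 from Subtype.ext (by simpa using h.hV.2 v v.2.1),
      map_one]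
  obtain ⟨hLS, F, hF, hFi, χ, f, hact⟩ := Spread.exists_field htor S L
    ((hmemS _).2 ⟨_, hone⟩)
    (by
      intro e he hne
      obtain ⟨b, rfl⟩ := (hmemL' e).1 he
      obtain ⟨a, ha⟩ := hpair (Additive.toMul b) fun he => hne (by
        rw [show b = 0 from toMul_eq_one.1 (Subtype.ext he), map_zero])
      refine ⟨φS (Additive.ofMul a), (hmemS _).2 ⟨_, rfl⟩, DFunLike.ext _ _ fun r => ?_⟩
      show φS (Additive.ofMul a) (φL (Additive.ofMul (Additive.toMul b)) (Additive.ofMul (Additive.toMul r))) = r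
      rw [hφL, hφS, ha, ofMul_toMul])
    (hLcard.trans hScard.symm) (hScard.trans hcardQ.symm)
  have hκ : ∀ (a : A) (r : X ⧸ Zs), χ.symm (Additive.ofMul (sH a r)) =
      f ⟨φS (Additive.ofMul a), (hmemS _).2 ⟨_, rfl⟩⟩ * χ.symm (Additive.ofMul r) := by
    intro a r
    rw [AddEquiv.symm_apply_eq, ← hact, AddEquiv.apply_symm_apply, ← hφS]
  have hmemL : ∀ b : B, φL (Additive.ofMul b) ∈ S := fun b => hLS ▸ (hmemL' _).2 ⟨_, rfl⟩
  have hμ : ∀ (b : B) (r : X ⧸ Zs), χ.symm (Additive.ofMul (tH b r)) =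
      f ⟨φL (Additive.ofMul b), hmemL b⟩ * χ.symm (Additive.ofMul r) := by
    intro b r
    rw [AddEquiv.symm_apply_eq, ← hact, AddEquiv.apply_symm_apply, ← hφL]
  obtain ⟨Ψ, hΨ0, hΨ1⟩ : ∃ Ψ : V →* Multiplicative (Fin 2 → F),
      (∀ v, Multiplicative.toAdd (Ψ v) 0 = χ.symm (Additive.ofMul (ψ1 v))) ∧
      (∀ v, Multiplicative.toAdd (Ψ v) 1 = χ.symm (Additive.ofMul (ψ2 v))) :=
    ⟨MonoidHom.mk' (fun v => Multiplicative.ofAdd
      ![χ.symm (Additive.ofMul (ψ1 v)), χ.symm (Additive.ofMul (ψ2 v))]) fun v w => by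
        rw [← ofAdd_add]
        refine congrArg Multiplicative.ofAdd (funext fun i => ?_)
        fin_cases i <;> simp, fun v => rfl, fun v => rfl⟩
  refine ⟨F, hF, hFi, ?_, Ψ, fun a => f ⟨φS (Additive.ofMul a), (hmemS _).2 ⟨_, rfl⟩⟩,
    fun b => f ⟨φL (Additive.ofMul b), hmemL b⟩, ?_, ?_, ?_, ?_, ?_, ?_⟩
  · rw [← Nat.card_eq_fintype_card, Nat.card_congr χ.toEquiv, hcardQ]
  · intro r
    obtain ⟨v, h1, h2⟩ := hψsurj (Additive.toMul (χ (Multiplicative.toAdd r 0)))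
      (Additive.toMul (χ (Multiplicative.toAdd r 1)))
    refine ⟨v, Multiplicative.toAdd.injective (funext fun i => ?_)⟩
    fin_cases i
    · exact (hΨ0 v).trans (by rw [h1, ofMul_toMul, AddEquiv.symm_apply_apply]; rfl)
    · exact (hΨ1 v).trans (by rw [h2, ofMul_toMul, AddEquiv.symm_apply_apply]; rfl)
  · intro v
    constructor
    · intro he
      have h0 := hΨ0 v
      have h1 := hΨ1 v
      rw [he, toAdd_one, Pi.zero_apply, eq_comm, map_eq_zero_iff _ χ.symm.injective, ofMul_eq_zero] at h0 h1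
      rw [hψ2, hqone] at h1
      have hvX : (v : G) ∈ X := h.X_of_comm_Z ha₀ ha₀1 v.2 h1
      rw [hψ1X v hvX, hqone] at h0
      exact h0
    · intro hv
      have hvX : (v : G) ∈ X := h.Z_le_X hv
      refine Multiplicative.toAdd.injective (funext fun i => ?_)
      fin_cases i
      · exact (hΨ0 v).trans (by rw [hψ1X v hvX, (hqone _).2 hv]; simp)
      · exact (hΨ1 v).trans (by rw [hψ2X v hvX]; simp)
  · intro r
    obtain ⟨⟨s, hs'⟩, hs⟩ := f.surjective r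
    obtain ⟨a, ha⟩ := (hmemS s).1 hs'
    exact ⟨Additive.toMul a, (congrArg f (Subtype.ext ha)).trans hs⟩
  · intro r
    obtain ⟨⟨s, hs'⟩, hs⟩ := f.surjective r
    obtain ⟨b, hb⟩ := (hmemL' s).1 (hLS.symm ▸ hs')
    exact ⟨Additive.toMul b, (congrArg f (Subtype.ext hb)).trans hs⟩
  · intro a v w hw
    have hmem : ⁅(a : G), (v : G)⁆ ∈ X := h.quad a.2 v.2
    have hw' : w = ⟨⁅(a : G), (v : G)⁆, hmem.1⟩ * v := Subtype.ext (by rw [hw, mul_comm_eq]; rfl)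
    rw [hΨ0, hΨ1, hΨ0, hΨ1, hw', map_mul ψ1, map_mul ψ2, hψ2X ⟨⁅(a : G), (v : G)⁆, hmem.1⟩ hmem, one_mul,
      hψ1X ⟨⁅(a : G), (v : G)⁆, hmem.1⟩ hmem, ← hdX, ← hsH, ofMul_mul, map_add, hκ, add_comm]
    exact ⟨rfl, rfl⟩
  · intro b v w hw
    have hmem := h.quadB hx b.2 v.2
    have hw' : w = cB b v * v := Subtype.ext (by rw [hw, mul_comm_eq, Subgroup.coe_mul, hcB])
    rw [hΨ0, hΨ1, hΨ0, hΨ1, hw', map_mul ψ1, map_mul ψ2, hψ1Y (cB b v) (by rw [hcB]; exact hmem),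
      one_mul, ← htH, ofMul_mul, map_add, hμ, add_comm]
    exact ⟨rfl, rfl⟩

theorem D_eq_bot {x : G} (hx : x ∈ P) (hxM : x ∉ M) : D = ⊥ := by
  set W := V ⊓ centralizer (D : Set G) with hW
  obtain ⟨u, hu, huT, huX, huZ⟩ := h.u_spec
  obtain ⟨hVU, -, hsurj⟩ := h.counting hx hxM
  have hWinv : ∀ g ∈ P, ∀ w ∈ W, g * w * g⁻¹ ∈ W := by
    intro g hg w hw
    refine ⟨h.conjV hg hw.1, fun d hd => ?_⟩
    have hd' : g⁻¹ * d * g ∈ D := by
      have := (mem_normalizer_iff.1 (h.hPD (P.inv_mem hg)) d).1 hd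
      simpa using this
    have := mem_centralizer_iff.1 hw.2 _ hd'
    calc d * (g * w * g⁻¹) = g * ((g⁻¹ * d * g) * w) * g⁻¹ := by group
      _ = g * (w * (g⁻¹ * d * g)) * g⁻¹ := by rw [this]
      _ = g * w * g⁻¹ * d := by group
  have hDP : D ≤ P := h.hDT.trans (h.hTM.trans h.hMP)
  have hZW : V ⊓ centralizer (P : Set G) ≤ W := inf_le_inf_left _ (centralizer_le hDP)
  have hxu : x * u * x⁻¹ ∈ cjSub x (V ⊓ centralizer (A : Set G)) :=
    mem_cjSub.2 (by rw [show x⁻¹ * (x * u * x⁻¹) * x = u by group]; exact huX)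
  have hxuZ : x * u * x⁻¹ ∉ V ⊓ centralizer (P : Set G) := fun hm => huZ (by
    have := h.Z_comm hx hm
    rw [← this, show x⁻¹ * (x * u * x⁻¹) * x = u by group] at hm
    exact hm)
  have hXW : V ⊓ centralizer (A : Set G) ≤ W := by
    intro v hv
    have hyW : x * u * x⁻¹ ∈ W := hWinv x hx u ⟨hu, centralizer_le h.hDT huT⟩
    obtain ⟨a, ha, z, hz, rfl⟩ := hsurj _ hxu hxuZ v hv
    rw [commutatorElement_def]
    exact W.mul_mem (W.mul_mem (hWinv a (h.A_le_P ha) _ hyW) (W.inv_mem hyW)) (hZW hz)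
  have hYW : cjSub x (V ⊓ centralizer (A : Set G)) ≤ W := fun v hv => by
    have := hWinv x hx _ (hXW (mem_cjSub.1 hv))
    simpa [mul_assoc] using this
  have hVW : V ≤ W := hVU.trans (sup_le hXW hYW)
  rw [eq_bot_iff]
  intro d hd
  rw [← h.faith]
  exact ⟨hDP hd, fun v hv => ((mem_centralizer_iff.1 (hVW hv).2) d hd).symm⟩

/-- The main theorem. -/
theorem main : ∃ (F : Type) (_ : Field F) (_ : Fintype F), Fintype.card F = Nat.card A ∧
    Nonempty (P ≃* SL(2, F)) ∧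
    (V ⊓ centralizer (A : Set G)) = ⁅V, A⁆ ⊔ (V ⊓ centralizer (P : Set G)) ∧
    ActsAsSL2OnSection F ⊤ P V (V ⊓ centralizer (P : Set G)) := by
  obtain ⟨x, hx, hxM⟩ := h.out
  obtain ⟨F, hF, hFi, hcard, Ψ, κ, μ, hΨ, hΨker, hκ, hμ, hA', hB'⟩ := h.exists_coord hx hxM
  obtain ⟨ρ, hρtop, hρ⟩ := h.exists_rho (h.gen x hx hxM) Ψ hΨ κ hκ μ hμ hA' hB'
  have hD := h.D_eq_bot hx hxM
  have hker : ρ.ker = ⊥ := by
    rw [← map_eq_bot_iff_of_injective (f := P.subtype) _ P.subtype_injective, eq_bot_iff, ← hD]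
    refine h.hDp _ (map_subtype_le _) ?_ ?_
    · intro g hg
      refine mem_normalizer_fintype fun k hk => ?_
      obtain ⟨k, hk', rfl⟩ := hk
      exact ⟨⟨g, hg⟩ * k * ⟨g, hg⟩⁻¹, (inferInstance : ρ.ker.Normal).conj_mem k hk' _, rfl⟩
    · rintro ⟨_, g, hg, rfl⟩
      refine ⟨1, Subtype.ext ?_⟩
      have hg' : ∀ v : V, ⁅(g : G), (v : G)⁆ ∈ V ⊓ centralizer (P : Set G) := by
        intro v
        have e := hρ g v (⟨⁅(g : G), (v : G)⁆, h.comm_mem_V g.2 v.2⟩ * v) (mul_comm_eq _ _).symm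
        rw [MonoidHom.mem_ker.1 hg, one_smul, map_mul, toAdd_mul, add_eq_right] at e
        exact (hΨker _).1 (toAdd_eq_zero.1 e)
      have hpow : ∀ (n : ℕ) (v : V), ⁅(g : G) ^ n, (v : G)⁆ = ⁅(g : G), (v : G)⁆ ^ n := by
        intro n v
        induction n with
        | zero => simp
        | succ n ih =>
          rw [pow_succ', comm_mul_left, ih, pow_succ]
          congr 1
          have := mem_centralizer_iff.1 (pow_mem (hg' v) n).2 g g.2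
          rw [this, mul_inv_cancel_right]
      have hmem : (g : G) ^ p ∈ P ⊓ centralizer (V : Set G) := by
        refine ⟨P.pow_mem g.2 p, fun v hv => ?_⟩
        have := hpow p ⟨v, hv⟩
        rw [h.hV.2 _ (h.comm_mem_V g.2 hv), commutatorElement_eq_one_iff_mul_comm] at this
        exact this.symm
      rw [h.faith, mem_bot] at hmem
      simpa using hmem
  refine ⟨F, hF, hFi, hcard, ⟨MulEquiv.ofBijective ρ ⟨(MonoidHom.ker_eq_bot_iff ρ).1 hker,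
    MonoidHom.range_eq_top.1 hρtop⟩⟩, ?_, h.hPV, inf_le_left, ρ, Ψ, hρtop, hΨ, hΨker, fun g v => ?_⟩
  · refine le_antisymm ?_ (sup_le ?_ h.Z_le_X)
    · obtain ⟨u, hu, huT, huX, huZ⟩ := h.u_spec
      obtain ⟨-, -, hsurj⟩ := h.counting hx hxM
      have hxu : x * u * x⁻¹ ∈ cjSub x (V ⊓ centralizer (A : Set G)) :=
        mem_cjSub.2 (by rw [show x⁻¹ * (x * u * x⁻¹) * x = u by group]; exact huX)
      have hxuZ : x * u * x⁻¹ ∉ V ⊓ centralizer (P : Set G) := fun hm => huZ (by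
        have := h.Z_comm hx hm
        rw [← this, show x⁻¹ * (x * u * x⁻¹) * x = u by group] at hm
        exact hm)
      intro v hv
      obtain ⟨a, ha, z, hz, rfl⟩ := hsurj _ hxu hxuZ v hv
      refine mul_mem (mem_sup_left ?_) (mem_sup_right hz)
      rw [← commutatorElement_inv]
      exact inv_mem (commutator_mem_commutator (h.cjSub_le_V hx inf_le_left hxu) ha)
    · rw [commutator_le]
      intro v hv a ha
      rw [← commutatorElement_inv]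
      exact inv_mem (h.quad ha hv)
  · refine ⟨⟨g * v * (g : G)⁻¹, h.conjV g.2 v.2⟩, rfl, ?_⟩
    rw [hρ g v ⟨g * v * (g : G)⁻¹, h.conjV g.2 v.2⟩ rfl]
    rfl

end OffGen

end CfsgLib.Amalgam
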