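import Cfsg.Prelude.Def_PLocal
import Cfsg.Agent.Lib.Coprime.Action
import Cfsg.Agent.Lib.Transfer.ClassTwo
import Cfsg.Agent.Lib.Comp.Normalize

/-!
An odd coprime automorphism fixing the elements of order `p` of a `p`-group fixes it; coprime commutator containment.
-/

set_option autoImplicit false
set_option linter.unusedSectionVars false
set_option linter.style.haveILetI false

namespace CfsgLib.Amalgam

open Subgroup
open scoped commutatorElement

variable {G : Type*} [Group G] [Finite G] {p : ℕ} [Fact p.Prime]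

theorem frattini_ne_top' {K : Type*} [Group K] [Finite K] [Nontrivial K] : frattini K ≠ ⊤ := fun e =>
  bot_ne_top (frattini_nongenerating (K := (⊥ : Subgroup K)) (by rw [e, sup_top_eq]))

/-- For odd `p`, a `p'`-element fixing every element of order `p` of a `p`-group it normalizes fixes the group. -/
theorem mem_centralizer_of_fixes_omega (hp : p ≠ 2) {Q : Subgroup G} (hQ : IsPGroup p Q) {g : G}
    (hg : g ∈ normalizer (Q : Set G)) (hgp : (orderOf g).Coprime p)
    (hfix : ∀ x ∈ Q, x ^ p = 1 → g * x = x * g) : g ∈ centralizer (Q : Set G) := by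
  induction Q using WellFoundedLT.induction with
  | ind Q ih =>
    set A := zpowers g with hA
    have hAQ : A ≤ normalizer (Q : Set G) := zpowers_le.2 hg
    have hcop : (Nat.card A).Coprime (Nat.card Q) := by
      obtain ⟨k, hk⟩ := hQ.exists_card_eq
      rw [hk, hA, Nat.card_zpowers]; exact hgp.pow_right k
    haveI : Group.IsNilpotent Q := hQ.isNilpotent
    have hs : Group.IsSolvable A ∨ Group.IsSolvable Q := Or.inr inferInstance
    suffices h : ⁅Q, A⁆ = ⊥ by
      exact fun x hx => (commutator_eq_bot_iff_le_centralizer.1 h hx g (mem_zpowers g)).symm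
    refine CfsgLib.Coprime.commutator_eq_bot_of_commutator_commutator hAQ hcop hs ?_
    have hle : ⁅Q, A⁆ ≤ Q := le_normalizer_iff_commutator_le_left.1 hAQ
    have hsub : ∀ R, R < Q → g ∈ normalizer (R : Set G) → ⁅R, A⁆ = ⊥ := by
      intro R hR hgR
      rw [commutator_eq_bot_iff_le_centralizer, hA]
      intro x hx a ha
      obtain ⟨k, rfl⟩ := mem_zpowers_iff.1 ha
      have h1 := ih R hR (hQ.to_le hR.le) hgR (fun x hx => hfix x (hR.le hx)) x hx
      exact (Commute.zpow_left (show Commute g x from h1.symm) k)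
    rcases hle.lt_or_eq with hlt | heq
    · exact hsub _ hlt (normalizer_commutator_ge_right Q A (mem_zpowers g))
    by_cases hQ1 : Q = ⊥
    · rw [hQ1, commutator_bot_left, commutator_bot_left]
    haveI : Nontrivial Q := (nontrivial_iff_ne_bot Q).2 hQ1
    -- the Frattini subgroup of `Q` is fixed by `g`, hence central in `Q`
    set Φ := (frattini Q).map Q.subtype with hΦ
    have hΦQ : Φ < Q := by
      refine lt_of_le_of_ne (map_subtype_le _) fun e => frattini_ne_top' (K := Q) ?_
      refine eq_top_iff.2 fun x _ => ?_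
      have hx : (x : G) ∈ Φ := e.symm ▸ x.2
      exact (mem_map_iff_mem Q.subtype_injective).1 hx
    have hgΦ : g ∈ normalizer (Φ : Set G) := by
      let e : Q ≃* Q :=
        { toFun := fun x => ⟨g * x * g⁻¹, (mem_normalizer_iff.1 hg _).1 x.2⟩
          invFun := fun x => ⟨g⁻¹ * x * g⁻¹⁻¹, (mem_normalizer_iff.1 (inv_mem hg) _).1 x.2⟩
          left_inv := fun x => Subtype.ext (by simp [mul_assoc])
          right_inv := fun x => Subtype.ext (by simp [mul_assoc])
          map_mul' := fun a b => Subtype.ext (by simp [mul_assoc]) }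
      refine CfsgLib.Comp.map_conj_eq_iff.1 ?_
      rw [hΦ, map_map, show (MulAut.conj g).toMonoidHom.comp Q.subtype = Q.subtype.comp e.toMonoidHom from
        MonoidHom.ext fun x => rfl, ← map_map]
      congr 1
      exact characteristic_iff_map_eq.1 inferInstance e
    have hΦA : ⁅Φ, A⁆ = ⊥ := hsub Φ hΦQ hgΦ
    have hΦc : ⁅Φ, Q⁆ = ⊥ := by
      have h1 : ⁅⁅Q, A⁆, Φ⁆ = ⊥ := by
        refine commutator_commutator_eq_bot_of_rotate ?_ ?_
        · rw [commutator_comm A Φ, hΦA, commutator_bot_left]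
        · rw [eq_bot_iff, ← hΦA]
          refine commutator_mono ?_ le_rfl
          rw [hΦ]
          conv_lhs => arg 2; rw [← Q.range_subtype, MonoidHom.range_eq_map]
          rw [← map_commutator]
          exact map_mono (commutator_le_left _ _)
      rw [heq] at h1
      rw [commutator_comm]; exact h1
    have hcen : ∀ z ∈ frattini Q, z ∈ center Q := fun z hz => mem_center_iff.2 fun w => Subtype.ext
      (commutator_eq_bot_iff_le_centralizer.1 hΦc ⟨z, hz, rfl⟩ w w.2)
    have hc : ∀ x y : Q, ⁅x, y⁆ ∈ center Q := fun x y =>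
      hcen _ (CfsgLib.Transfer.commutatorElement_mem_frattini hQ x y)
    rw [eq_bot_iff]
    refine (commutator_mono (K₁ := Q ⊓ centralizer {g}) ?_ le_rfl).trans ?_
    · refine commutator_le.2 fun x hx a ha => mem_inf.2 ⟨hle (commutator_mem_commutator hx ha), ?_⟩
      set y : G := x⁻¹ * (a * x * a⁻¹) with hy
      have hax : a * x * a⁻¹ ∈ Q := (mem_normalizer_iff.1 (hAQ ha) _).1 hx
      have hyQ : y ∈ Q := mul_mem (inv_mem hx) hax
      have hxp : (⟨x, hx⟩ : Q) ^ p ∈ frattini Q := CfsgLib.Transfer.pow_mem_frattini hQ _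
      have hfixp : a * x ^ p * a⁻¹ = x ^ p := by
        have h1 := commutator_eq_bot_iff_le_centralizer.1 hΦA ⟨_, hxp, rfl⟩ a ha
        have h2 : a * x ^ p = x ^ p * a := h1
        rw [h2, mul_inv_cancel_right]
      have hpow := CfsgLib.Transfer.mul_pow_class_two hc (⟨x, hx⟩ : Q) ⟨y, hyQ⟩ p
      have hcp : ⁅(⟨y, hyQ⟩ : Q), (⟨x, hx⟩ : Q)⁆ ^ p.choose 2 = 1 := by
        obtain ⟨m, hm⟩ : p ∣ p.choose 2 := (Fact.out : p.Prime).dvd_choose_self (by norm_num)
          (lt_of_le_of_ne (Fact.out : p.Prime).two_le (Ne.symm hp))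
        rw [hm, pow_mul, ← CfsgLib.Transfer.commutatorElement_pow_right hc,
          commutatorElement_eq_one_iff_mul_comm.2 (mem_center_iff.1 (hcen _ hxp) _), one_pow]
      rw [hcp, mul_one] at hpow
      have hp' := congrArg Subtype.val hpow
      push_cast at hp'
      rw [hy, mul_inv_cancel_left, conj_pow, hfixp] at hp'
      have hyp : y ^ p = 1 := by
        have := hp'.symm
        rwa [mul_eq_left] at this
      have hc2 : g * (a * x * a⁻¹ * x⁻¹) = a * x * a⁻¹ * x⁻¹ * g := by
        refine hfix _ (mul_mem hax (inv_mem hx)) ?_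
        rw [show a * x * a⁻¹ * x⁻¹ = x * y * x⁻¹ by rw [hy]; group, conj_pow, hyp, mul_one, mul_inv_cancel]
      rw [mem_centralizer_singleton_iff]
      have h2 : Commute g (a * x * a⁻¹ * x⁻¹) := hc2
      have h3 := h2.inv_right
      rw [show (a * x * a⁻¹ * x⁻¹)⁻¹ = x * a * x⁻¹ * a⁻¹ by group] at h3
      exact h3.symm
    · refine le_of_eq (commutator_eq_bot_iff_le_centralizer.2 fun z hz a ha => ?_)
      obtain ⟨k, rfl⟩ := mem_zpowers_iff.1 ha
      exact Commute.zpow_left (mem_centralizer_singleton_iff.1 (mem_inf.1 hz).2).symm k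

theorem le_of_le_sup_commutator' {H : Type*} [Group H] [Group.IsNilpotent H] {V A : Subgroup H} [A.Normal]
    (h : V ≤ A ⊔ ⁅V, ⊤⁆) : V ≤ A := by
  set f := QuotientGroup.mk' A
  have h1 : V.map f ≤ ⁅V.map f, ⊤⁆ := by
    have := map_mono (f := f) h
    rw [Subgroup.map_sup, QuotientGroup.map_mk'_self, bot_sup_eq, map_commutator,
      map_top_of_surjective f (QuotientGroup.mk'_surjective A)] at this
    exact this
  have h2 : ∀ k, V.map f ≤ (⊤ : Subgroup (H ⧸ A)).lowerCentralSeries k := by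
    intro k
    induction k with
    | zero => simp
    | succ k ih => exact h1.trans (commutator_mono ih le_rfl)
  obtain ⟨k, hk⟩ := Subgroup.nilpotent_iff_lowerCentralSeries.1 (inferInstance : Group.IsNilpotent (H ⧸ A))
  intro v hv
  have := h2 k ⟨v, hv, rfl⟩
  rw [hk, mem_bot] at this
  exact (QuotientGroup.eq_one_iff v).1 this

/-- Commuting coprime operators: `[P,B] ≤ [P,A]` forces `[P,B] = 1`. -/
theorem commutator_eq_bot_of_le_commutator {P A B : Subgroup G} (hP : IsPGroup p P) (hA : IsPGroup p A)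
    (hB : ¬ p ∣ Nat.card B) (hnA : A ≤ normalizer (P : Set G)) (hnB : B ≤ normalizer (P : Set G))
    (hAB : ⁅A, B⁆ = ⊥) (hcomm : ⁅P, B⁆ ≤ ⁅P, A⁆) : ⁅P, B⁆ = ⊥ := by
  haveI : Group.IsNilpotent P := hP.isNilpotent
  have hs : Group.IsSolvable B ∨ Group.IsSolvable P := Or.inr inferInstance
  have hcop : (Nat.card B).Coprime (Nat.card P) := by
    obtain ⟨k, hk⟩ := hP.exists_card_eq
    rw [hk]; exact (((Nat.Prime.coprime_iff_not_dvd Fact.out).2 hB).symm).pow_right k
  set P₀ := ⁅P, B⁆ with hP₀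
  set C := P ⊓ centralizer (B : Set G) with hC
  have hdec : P₀ ⊔ C = P := CfsgLib.Coprime.commutator_sup_centralizer hnB hcop hs
  have hP₀P : P₀ ≤ P := le_normalizer_iff_commutator_le_left.1 hnB
  set Φ := (frattini P).map P.subtype with hΦ
  have hPΦ : ∀ a ∈ P, ∀ b ∈ P, a * b * a⁻¹ * b⁻¹ ∈ Φ := fun a ha b hb =>
    ⟨⁅(⟨a, ha⟩ : P), (⟨b, hb⟩ : P)⁆, CfsgLib.Transfer.commutatorElement_mem_frattini hP _ _, rfl⟩
  have hΦP : Φ ≤ P := map_subtype_le _
  have hΦn : normalizer (P : Set G) ≤ normalizer (Φ : Set G) := by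
    intro g hg
    let e : P ≃* P :=
      { toFun := fun x => ⟨g * x * g⁻¹, (mem_normalizer_iff.1 hg _).1 x.2⟩
        invFun := fun x => ⟨g⁻¹ * x * g⁻¹⁻¹, (mem_normalizer_iff.1 (inv_mem hg) _).1 x.2⟩
        left_inv := fun x => Subtype.ext (by simp [mul_assoc])
        right_inv := fun x => Subtype.ext (by simp [mul_assoc])
        map_mul' := fun a b => Subtype.ext (by simp [mul_assoc]) }
    refine CfsgLib.Comp.map_conj_eq_iff.1 ?_
    rw [hΦ, map_map, show (MulAut.conj g).toMonoidHom.comp P.subtype = P.subtype.comp e.toMonoidHom from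
      MonoidHom.ext fun x => rfl, ← map_map]
    congr 1
    exact characteristic_iff_map_eq.1 inferInstance e
  -- any subgroup between `Φ` and `P` is normal in `P`
  have hnorm : ∀ D : Subgroup G, Φ ≤ D → D ≤ P → P ≤ normalizer (D : Set G) := by
    intro D h1 h2 a ha
    have key : ∀ a ∈ P, ∀ d ∈ D, a * d * a⁻¹ ∈ D := fun a ha d hd => by
      rw [show a * d * a⁻¹ = (a * d * a⁻¹ * d⁻¹) * d by group]
      exact mul_mem (h1 (hPΦ a ha d (h2 hd))) hd
    refine mem_normalizer_iff.2 fun d => ⟨key a ha d, fun hd => ?_⟩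
    have := key a⁻¹ (inv_mem ha) _ hd
    simpa [mul_assoc] using this
  have hA₀ : A ≤ normalizer (P₀ : Set G) := by
    intro a ha
    refine CfsgLib.Comp.map_conj_eq_iff.1 ?_
    rw [hP₀, map_commutator, CfsgLib.Comp.map_conj_eq_iff.2 (hnA ha),
      CfsgLib.Comp.map_conj_eq_iff.2 (CfsgLib.Comp.centralizer_le_normalizer B
        (commutator_eq_bot_iff_le_centralizer.1 hAB ha))]
  have hB₀ : B ≤ normalizer (P₀ : Set G) := normalizer_commutator_ge_right P B
  set D := ⁅P₀, A⁆ ⊔ Φ with hD
  have hDP : D ≤ P := sup_le ((le_normalizer_iff_commutator_le_left.1 hA₀).trans hP₀P) hΦP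
  have hDC : ⁅P, A⁆ ≤ D ⊔ C := by
    conv_lhs => rw [← hdec]
    have hn : P ≤ normalizer ((D ⊔ C : Subgroup G) : Set G) :=
      hnorm _ (le_sup_right.trans le_sup_left) (sup_le hDP inf_le_left)
    have hAC : A ≤ normalizer (C : Set G) := CfsgLib.Comp.le_normalizer_inf hnA
      (CfsgLib.Comp.le_normalizer_centralizer
        (((commutator_eq_bot_iff_le_centralizer.1 hAB)).trans (CfsgLib.Comp.centralizer_le_normalizer B)))
    refine commutator_le.2 fun x hx a ha => ?_
    rw [← SetLike.mem_coe, coe_mul_of_right_le_normalizer_left P₀ C (by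
      exact inf_le_left.trans (normalizer_commutator_ge_left P B))] at hx
    obtain ⟨u, hu, c, hc, rfl⟩ := hx
    show u * c * a * (u * c)⁻¹ * a⁻¹ ∈ D ⊔ C
    rw [show u * c * a * (u * c)⁻¹ * a⁻¹ = (u * (c * a * c⁻¹ * a⁻¹) * u⁻¹) * (u * a * u⁻¹ * a⁻¹) by group]
    refine mul_mem ((mem_normalizer_iff.1 (hn (hP₀P hu)) _).1 (mem_sup_right ?_))
      (mem_sup_left (mem_sup_left (commutator_mem_commutator hu ha)))
    exact le_normalizer_iff_commutator_le_left.1 hAC (commutator_mem_commutator hc ha)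
  have hBD : B ≤ normalizer (D : Set G) := by
    intro b hb
    refine CfsgLib.Comp.map_conj_eq_iff.1 ?_
    rw [hD, Subgroup.map_sup, map_commutator, CfsgLib.Comp.map_conj_eq_iff.2 (hB₀ hb),
      CfsgLib.Comp.map_conj_eq_iff.2 (CfsgLib.Comp.centralizer_le_normalizer A
        (commutator_eq_bot_iff_le_centralizer.1 (commutator_comm A B ▸ hAB) hb)),
      CfsgLib.Comp.map_conj_eq_iff.2 (hΦn (hnB hb))]
  have hP₀D : P₀ ≤ D := by
    conv_lhs => rw [hP₀, ← CfsgLib.Coprime.commutator_commutator_eq hnB hcop hs]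
    refine (commutator_mono (hcomm.trans hDC) le_rfl).trans ?_
    refine commutator_le.2 fun x hx b hb => ?_
    rw [← SetLike.mem_coe, coe_mul_of_right_le_normalizer_left D C
      (inf_le_left.trans (hnorm D le_sup_right hDP))] at hx
    obtain ⟨d, hd, c, hc, rfl⟩ := hx
    have hcb : b * c = c * b := (mem_inf.1 hc).2 b hb
    show d * c * b * (d * c)⁻¹ * b⁻¹ ∈ D
    rw [show d * c * b * (d * c)⁻¹ * b⁻¹ = d * (c * b) * c⁻¹ * d⁻¹ * b⁻¹ by group, ← hcb,
      show d * (b * c) * c⁻¹ * d⁻¹ * b⁻¹ = d * (b * d⁻¹ * b⁻¹) by group]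
    exact mul_mem hd ((mem_normalizer_iff.1 (hBD hb) _).1 (inv_mem hd))
  -- nilpotency of `P ⊔ A`
  have hP₀Φ : P₀ ≤ Φ := by
    have hU : IsPGroup p (P ⊔ A : Subgroup G) := IsPGroup.to_sup_of_normal_left' hP hA hnA
    haveI := hU.isNilpotent
    haveI : (Φ.subgroupOf (P ⊔ A)).Normal := (normal_subgroupOf_iff_le_normalizer (hΦP.trans le_sup_left)).2
      (sup_le (le_normalizer.trans hΦn) (hnA.trans hΦn))
    have h := le_of_le_sup_commutator' (V := P₀.subgroupOf (P ⊔ A)) (A := Φ.subgroupOf (P ⊔ A)) ?_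
    · intro x hx
      exact mem_subgroupOf.1 (h (x := ⟨x, mem_sup_left (hP₀P hx)⟩) (mem_subgroupOf.2 hx))
    · apply (map_le_map_iff_of_injective (P ⊔ A).subtype_injective).1
      rw [Subgroup.map_sup, map_commutator, ← MonoidHom.range_eq_map, range_subtype, subgroupOf_map_subtype,
        subgroupOf_map_subtype, inf_eq_left.2 (hP₀P.trans le_sup_left), inf_eq_left.2 (hΦP.trans le_sup_left)]
      exact hP₀D.trans (sup_le (le_sup_of_le_right (commutator_mono le_rfl le_sup_right)) le_sup_left)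
  have hCP : P ≤ C := by
    have h1 : C.subgroupOf P ⊔ frattini P = ⊤ := by
      refine eq_top_iff.2 ?_
      apply (map_le_map_iff_of_injective P.subtype_injective).1
      rw [Subgroup.map_sup, ← MonoidHom.range_eq_map, range_subtype, subgroupOf_map_subtype,
        inf_eq_left.2 (inf_le_left : C ≤ P)]
      conv_lhs => rw [← hdec]
      exact sup_le (le_sup_of_le_right hP₀Φ) le_sup_left
    exact subgroupOf_eq_top.1 (frattini_nongenerating h1)
  exact commutator_eq_bot_iff_le_centralizer.2 (hCP.trans inf_le_right)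

end CfsgLib.Amalgam
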