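import Cfsg.Agent.Lib.Amalgam.QuaternionOddAut
import Cfsg.Agent.Lib.Coprime.Generation
import Cfsg.Agent.Lib.FixedFree.Semidirect
import Cfsg.Agent.Lib.Solvable.Nilpotent

/-!
# Noncyclic abelian odd groups of automorphisms of 2-groups whose elements fix one involution

Let `E` be a noncyclic abelian `p`-group of automorphisms of a 2-group `W`, `p` odd, such that each
non-trivial element of `E` fixes at most one involution.  The fixed subgroups which are not fixed by
all of `E` are quaternion of order 8; `E` has order 9, and `W` is the product of the fixed subgroups.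
-/

set_option autoImplicit false
set_option linter.style.haveILetI false

namespace CfsgLib.Amalgam

variable {W : Type*} [Group W]

/-- The subgroup of fixed points of an automorphism. -/
def fixedSub (e : MulAut W) : Subgroup W where
  carrier := {x | e x = x}
  mul_mem' {a b} (ha : e a = a) (hb : e b = b) := show e (a * b) = a * b by rw [map_mul, ha, hb]
  one_mem' := map_one e
  inv_mem' {a} (ha : e a = a) := show e a⁻¹ = a⁻¹ by rw [map_inv, ha]

theorem mem_fixedSub {e : MulAut W} {x : W} : x ∈ fixedSub e ↔ e x = x := Iff.rfl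

/-- The subgroup of points fixed by all elements of `E`. -/
def commonFix (E : Subgroup (MulAut W)) : Subgroup W where
  carrier := {x | ∀ e ∈ E, e x = x}
  mul_mem' {a b} ha hb e he := by rw [map_mul, ha e he, hb e he]
  one_mem' e _ := map_one e
  inv_mem' {a} ha e he := by rw [map_inv, ha e he]

theorem mem_commonFix {E : Subgroup (MulAut W)} {x : W} :
    x ∈ commonFix E ↔ ∀ e ∈ E, e x = x := Iff.rfl

/-- The elements of `E` which fix `S` pointwise. -/
def kerOn (E : Subgroup (MulAut W)) (S : Subgroup W) : Subgroup (MulAut W) where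
  carrier := {b | b ∈ E ∧ ∀ x ∈ S, b x = x}
  mul_mem' {a b} ha hb := ⟨E.mul_mem ha.1 hb.1, fun x hx => by
    rw [MulAut.mul_apply, hb.2 x hx, ha.2 x hx]⟩
  one_mem' := ⟨E.one_mem, fun _ _ => rfl⟩
  inv_mem' {a} ha := ⟨E.inv_mem ha.1, fun x hx => a.injective (by
    rw [MulAut.apply_inv_self, ha.2 x hx])⟩

theorem mem_kerOn {E : Subgroup (MulAut W)} {S : Subgroup W} {b : MulAut W} :
    b ∈ kerOn E S ↔ b ∈ E ∧ ∀ x ∈ S, b x = x := Iff.rfl

/-- The hypothesis of one fixed involution. -/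
structure OneInvol (p : ℕ) (E : Subgroup (MulAut W)) : Prop where
  isTwo : IsPGroup 2 W
  odd : p ≠ 2
  isP : IsPGroup p E
  comm : IsMulCommutative E
  notCyclic : ¬ IsCyclic E
  fix : ∀ e ∈ E, e ≠ 1 → ∀ x y : W, orderOf x = 2 → orderOf y = 2 → e x = x → e y = y → x = y

/-- The fixed subgroup of `e` is not fixed by all of `E`. -/
def QType (E : Subgroup (MulAut W)) (e : MulAut W) : Prop :=
  e ∈ E ∧ e ≠ 1 ∧ ∃ x, e x = x ∧ x ∉ commonFix E

variable [Finite W] {p : ℕ} [Fact p.Prime] {E : Subgroup (MulAut W)}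

theorem OneInvol.apply_comm (h : OneInvol p E) {a b : MulAut W} (ha : a ∈ E) (hb : b ∈ E) (x : W) :
    a (b x) = b (a x) :=
  DFunLike.congr_fun (congrArg Subtype.val (h.comm.is_comm.comm (⟨a, ha⟩ : E) ⟨b, hb⟩)) x

theorem OneInvol.mem_fixedSub_apply (h : OneInvol p E) {e b : MulAut W} (he : e ∈ E) (hb : b ∈ E)
    {x : W} (hx : e x = x) : e (b x) = b x := by
  rw [h.apply_comm he hb, hx]

theorem OneInvol.commonFix_le_fixedSub {e : MulAut W} (he : e ∈ E) : commonFix E ≤ fixedSub e :=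
  fun _ hx => hx e he

theorem OneInvol.sq_one_mem (h : OneInvol p E) {e : MulAut W} (he : e ∈ E) (hne : e ≠ 1) {g : W}
    (hg : e g = g) (hg2 : g * g = 1) : g ∈ commonFix E := by
  haveI := Fact.mk Nat.prime_two
  intro b hb
  rcases eq_or_ne g 1 with rfl | hg1
  · exact map_one b
  · have ho : orderOf g = 2 := orderOf_eq_prime (by rw [pow_two, hg2]) hg1
    exact h.fix e he hne (b g) g (by rw [MulEquiv.orderOf_eq, ho]) ho (h.mem_fixedSub_apply he hb hg) hg

/-- A fixed subgroup not fixed by all of `E` is quaternion of order 8, with the induced action. -/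
theorem OneInvol.qtype_facts (h : OneInvol p E) {e : MulAut W} (hQ : QType E e) :
    Nat.card (fixedSub e) = 8 ∧
      (∀ g, e g = g → ((∀ x, e x = x → g * x = x * g) ↔ g * g = 1)) ∧
      (∀ g, e g = g → g * g * (g * g) = 1) ∧
      ∀ b ∈ E, (∀ x, e x = x → b x = x) ∨
        ((∀ x, e x = x → b (b (b x)) = x) ∧ (∀ g, e g = g → b g = g → g * g = 1) ∧
          (∀ g k, e g = g → e k = k → g * g ≠ 1 → k * k ≠ 1 → k = g ∨ k = b g ∨ k = b (b g) ∨
            k = g * (g * g) ∨ k = b g * (g * g) ∨ k = b (b g) * (g * g)) ∧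
          ∀ g, e g = g → g * g ≠ 1 → fixedSub e ≤ Subgroup.closure {g, b g}) := by
  obtain ⟨he, hne, x₀, hx₀, hx₀F⟩ := hQ
  set C := fixedSub e with hC
  have hu : ∀ x y : C, orderOf x = 2 → orderOf y = 2 → x = y := fun x y hx hy =>
    Subtype.ext (h.fix e he hne x y (by rw [Subgroup.orderOf_coe, hx])
      (by rw [Subgroup.orderOf_coe, hy]) x.2 y.2)
  have hm : Odd (Nat.card E) := by
    obtain ⟨n, hn⟩ := h.isP.exists_card_eq
    rw [hn]
    exact ((Fact.out : p.Prime).odd_of_ne_two h.odd).pow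
  have key : ∀ b ∈ E, (∀ x, e x = x → b x = x) ∨ ∃ φ : MulAut C, (∀ x : C, (φ x : W) = b x) ∧
      Nat.card C = 8 ∧ φ ^ 3 = 1 ∧ (∀ g : C, (∀ k : C, g * k = k * g) ↔ g * g = 1) ∧
      (∀ g : C, φ g = g → g * g = 1) ∧
      (∀ g k : C, g * g ≠ 1 → k * k ≠ 1 → k = g ∨ k = φ g ∨ k = φ (φ g) ∨
          k = g * (g * g) ∨ k = φ g * (g * g) ∨ k = φ (φ g) * (g * g)) ∧
      (∀ g : C, g * g ≠ 1 → ∀ k, k ∈ Subgroup.closure {g, φ g}) ∧
      (∀ g : C, g * g * (g * g) = 1) := by
    intro b hb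
    by_cases hfixb : ∀ x, e x = x → b x = x
    · exact Or.inl hfixb
    right
    obtain ⟨φ, hφ⟩ : ∃ φ : MulAut C, ∀ x : C, (φ x : W) = b x :=
      ⟨{ toFun := fun x => ⟨b x, h.mem_fixedSub_apply he hb x.2⟩
         invFun := fun x => ⟨b⁻¹ x, h.mem_fixedSub_apply he (E.inv_mem hb) x.2⟩
         left_inv := fun x => Subtype.ext (MulAut.inv_apply_self W b x)
         right_inv := fun x => Subtype.ext (MulAut.apply_inv_self W b x)
         map_mul' := fun x y => Subtype.ext (map_mul b (x : W) y) }, fun x => rfl⟩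
    have hpow : ∀ (k : ℕ) (x : C), ((φ ^ k) x : W) = (b ^ k) x := by
      intro k
      induction k with
      | zero => intro x; rfl
      | succ k ih => intro x; rw [pow_succ', pow_succ', MulAut.mul_apply, MulAut.mul_apply, hφ, ih]
    have hφm : φ ^ Nat.card E = 1 := MulEquiv.ext fun x => Subtype.ext (by
      rw [hpow, show b ^ Nat.card E = 1 from
        congrArg Subtype.val (pow_card_eq_one' (x := (⟨b, hb⟩ : E)))]
      rfl)
    have hφ1 : φ ≠ 1 := fun h1 => hfixb fun x hx => by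
      have := hφ ⟨x, hx⟩
      rw [h1] at this
      exact this.symm
    exact ⟨φ, hφ, oddAut_oneInvol (h.isTwo.to_subgroup C) hu φ hm hφm hφ1⟩
  obtain ⟨b₀, hb₀, hb₀x⟩ : ∃ b ∈ E, b x₀ ≠ x₀ := by
    simpa only [mem_commonFix, not_forall, exists_prop] using hx₀F
  rcases key b₀ hb₀ with h0 | ⟨φ₀, -, hc8, -, hcen, -, -, -, hss⟩
  · exact absurd (h0 x₀ hx₀) hb₀x
  refine ⟨hc8, fun g hg => ⟨fun hc => ?_, fun hg2 x hx => ?_⟩, fun g hg => ?_, fun b hb => ?_⟩
  · exact congrArg Subtype.val ((hcen ⟨g, hg⟩).1 fun k => Subtype.ext (hc k k.2))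
  · exact congrArg Subtype.val ((hcen ⟨g, hg⟩).2 (Subtype.ext hg2) ⟨x, hx⟩)
  · exact congrArg Subtype.val (hss ⟨g, hg⟩)
  rcases key b hb with h0 | ⟨φ, hφ, -, h3, -, hfx, horb, hgen, -⟩
  · exact Or.inl h0
  right
  refine ⟨fun x hx => ?_, fun g hg hbg => ?_, fun g k hg hk hg2 hk2 => ?_, fun g hg hg2 k hk => ?_⟩
  · have := congrArg Subtype.val (DFunLike.congr_fun h3 ⟨x, hx⟩)
    simpa [pow_succ, MulAut.mul_apply, hφ] using this
  · exact congrArg Subtype.val (hfx ⟨g, hg⟩ (Subtype.ext (by rw [hφ]; exact hbg)))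
  · rcases horb ⟨g, hg⟩ ⟨k, hk⟩ (fun h1 => hg2 (congrArg Subtype.val h1))
      (fun h1 => hk2 (congrArg Subtype.val h1)) with h1 | h1 | h1 | h1 | h1 | h1 <;>
      have h2 := congrArg Subtype.val h1 <;> simp only [hφ, Subgroup.coe_mul] at h2 <;> simp [h2]
  · have h1 := Subgroup.mem_map_of_mem C.subtype (hgen ⟨g, hg⟩ (fun h1 => hg2 (congrArg Subtype.val h1))
      ⟨k, hk⟩)
    rw [MonoidHom.map_closure, Set.image_pair] at h1
    simpa [hφ] using h1

/-- An invariant subgroup is generated by its fixed points of the non-trivial elements of `E`. -/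
theorem OneInvol.gen (h : OneInvol p E) {H K : Subgroup W} (hH : ∀ e ∈ E, ∀ x ∈ H, e x ∈ H)
    (hK : ∀ e ∈ E, e ≠ 1 → ∀ x ∈ H, e x = x → x ∈ K) : H ≤ K := by
  let φ : E →* MulAut W := E.subtype
  let A : Subgroup (W ⋊[φ] E) := CfsgLib.FixedFree.inA φ
  let G : Subgroup (W ⋊[φ] E) := H.map SemidirectProduct.inl
  have hinj : Function.Injective (SemidirectProduct.inl : W →* W ⋊[φ] E) :=
    SemidirectProduct.inl_injective
  have hAab : IsMulCommutative A := ⟨⟨by
    rintro ⟨-, a, rfl⟩ ⟨-, b, rfl⟩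
    refine Subtype.ext ?_
    show SemidirectProduct.inr a * SemidirectProduct.inr b =
      SemidirectProduct.inr b * SemidirectProduct.inr a
    rw [← map_mul, ← map_mul, h.comm.is_comm.comm]⟩⟩
  have hAnc : ¬ IsCyclic A := fun hc => h.notCyclic
    (isCyclic_of_surjective (MonoidHom.ofInjective
      (SemidirectProduct.inr_injective (φ := φ))).symm (MulEquiv.surjective _))
  have hAN : A ≤ Subgroup.normalizer (G : Set (W ⋊[φ] E)) := by
    rintro _ ⟨a, rfl⟩
    rw [Subgroup.mem_normalizer_iff]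
    intro y
    constructor
    · rintro ⟨x, hx, rfl⟩
      exact ⟨φ a x, hH a a.2 x hx, by rw [SemidirectProduct.inl_aut, map_inv]⟩
    · rintro ⟨x, hx, hxy⟩
      refine ⟨φ a⁻¹ x, hH _ (a⁻¹).2 x hx, ?_⟩
      rw [SemidirectProduct.inl_aut, hxy, map_inv]
      group
  have hcop : (Nat.card A).Coprime (Nat.card G) := by
    rw [show Nat.card A = Nat.card E from CfsgLib.FixedFree.card_inA φ,
      show Nat.card G = Nat.card H from Subgroup.card_map_of_injective hinj]
    haveI := Fact.mk Nat.prime_two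
    exact IsPGroup.coprime_card_of_ne p 2 h.odd E H h.isP (h.isTwo.to_subgroup H)
  have hle : G ≤ K.map (SemidirectProduct.inl : W →* W ⋊[φ] E) := by
    rw [← CfsgLib.Coprime.iSup_centralizer_eq hAab hAnc hAN hcop]
    refine iSup_le ?_
    rintro ⟨_, ⟨a, rfl⟩, ha1⟩ y ⟨⟨x, hx, rfl⟩, hy⟩
    refine ⟨x, hK a a.2 (fun h1 => ha1 ?_) x hx (hinj ?_), rfl⟩
    · rw [show a = 1 from Subtype.ext h1, map_one]
    · have hc := Subgroup.mem_centralizer_singleton_iff.1 hy
      show SemidirectProduct.inl ((φ a) x) = _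
      rw [SemidirectProduct.inl_aut]
      first
        | rw [hc, map_inv, mul_inv_cancel_right]
        | rw [← hc, map_inv, mul_inv_cancel_right]
  intro x hx
  obtain ⟨x', hx', he⟩ := hle ⟨x, hx, rfl⟩
  exact hinj he ▸ hx'

theorem OneInvol.exists_qtype (h : OneInvol p E) : ∃ e, QType E e := by
  by_contra hc
  simp only [QType, not_exists, not_and, not_not] at hc
  have htop : ∀ x : W, x ∈ commonFix E := fun x =>
    h.gen (H := ⊤) (fun _ _ _ _ => trivial) (fun e he hne x _ hx => hc e he hne x hx) trivial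
  refine h.notCyclic ?_
  haveI : Subsingleton E := ⟨fun a b => Subtype.ext (MulEquiv.ext fun x =>
    (htop x a a.2).trans (htop x b b.2).symm)⟩
  infer_instance

theorem OneInvol.qtype_exists_sq_ne (h : OneInvol p E) {e : MulAut W} (hQ : QType E e) :
    ∃ x b, e x = x ∧ x * x ≠ 1 ∧ b ∈ E ∧ b x ≠ x := by
  obtain ⟨he, hne, x, hx, hxF⟩ := hQ
  obtain ⟨b, hb, hbx⟩ : ∃ b ∈ E, b x ≠ x := by
    simpa only [mem_commonFix, not_forall, exists_prop] using hxF
  exact ⟨x, b, hx, fun h2 => hxF (h.sq_one_mem he hne hx h2), hb, hbx⟩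

theorem OneInvol.commonFix_sq (h : OneInvol p E) {g : W} (hg : g ∈ commonFix E) : g * g = 1 := by
  obtain ⟨e, hQ⟩ := h.exists_qtype
  obtain ⟨x, b, hx, -, hb, hbx⟩ := h.qtype_exists_sq_ne hQ
  rcases (h.qtype_facts hQ).2.2.2 b hb with h0 | ⟨-, hf, -, -⟩
  · exact absurd (h0 x hx) hbx
  · exact hf g (hg e hQ.1) (hg b hb)

theorem OneInvol.exists_commonFix_eq (h : OneInvol p E) :
    ∃ z, z ≠ 1 ∧ z ∈ commonFix E ∧ ∀ g ∈ commonFix E, g = 1 ∨ g = z := by
  haveI := Fact.mk Nat.prime_two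
  obtain ⟨e, hQ⟩ := h.exists_qtype
  obtain ⟨x, b, hx, hx2, hb, hbx⟩ := h.qtype_exists_sq_ne hQ
  have hxx : e (x * x) = x * x := by rw [map_mul, hx]
  have hz := h.sq_one_mem hQ.1 hQ.2.1 hxx ((h.qtype_facts hQ).2.2.1 x hx)
  refine ⟨x * x, hx2, hz, fun g hg => ?_⟩
  rcases eq_or_ne g 1 with h1 | h1
  · exact Or.inl h1
  · refine Or.inr (h.fix e hQ.1 hQ.2.1 g (x * x) (orderOf_eq_prime ?_ h1)
      (orderOf_eq_prime ?_ hx2) (hg e hQ.1) hxx)
    · rw [pow_two]; exact h.commonFix_sq hg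
    · rw [pow_two]; exact h.commonFix_sq hz

theorem OneInvol.card_commonFix (h : OneInvol p E) : Nat.card (commonFix E) = 2 := by
  obtain ⟨z, hz1, hz, hall⟩ := h.exists_commonFix_eq
  have : (commonFix E : Set W) = {1, z} := Set.ext fun g => by
    constructor
    · intro hg; rcases hall g hg with rfl | rfl <;> simp
    · rintro (rfl | rfl)
      · exact (commonFix E).one_mem
      · exact hz
  rw [← SetLike.coe_sort_coe, this, Nat.card_coe_set_eq, Set.ncard_pair (Ne.symm hz1)]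

theorem OneInvol.qtype_sq_iff (h : OneInvol p E) {e : MulAut W} (hQ : QType E e) {g : W}
    (hg : e g = g) : g * g = 1 ↔ g ∈ commonFix E :=
  ⟨h.sq_one_mem hQ.1 hQ.2.1 hg, h.commonFix_sq⟩

theorem OneInvol.center_eq (h : OneInvol p E) : Subgroup.center W = commonFix E := by
  refine le_antisymm (h.gen ?_ ?_) fun g hg => ?_
  · intro e he x hx
    rw [Subgroup.mem_center_iff] at hx ⊢
    intro y
    obtain ⟨y, rfl⟩ := e.surjective y
    rw [← map_mul, ← map_mul, hx]
  · intro e he hne x hx hex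
    by_cases hQ : QType E e
    · exact h.sq_one_mem he hne hex (((h.qtype_facts hQ).2.1 x hex).1 fun y _ =>
        ((Subgroup.mem_center_iff.1 hx) y).symm)
    · by_contra hxF
      exact hQ ⟨he, hne, x, hex, hxF⟩
  · have hle : (⊤ : Subgroup W) ≤ Subgroup.centralizer {g} := by
      refine h.gen (fun _ _ _ _ => trivial) fun e he hne x _ hex => ?_
      rw [Subgroup.mem_centralizer_singleton_iff]
      by_cases hQ : QType E e
      · exact (((h.qtype_facts hQ).2.1 g (hg e he)).2 (h.commonFix_sq hg) x hex).symm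
      · have hxF : x ∈ commonFix E := by
          by_contra hxF
          exact hQ ⟨he, hne, x, hex, hxF⟩
        obtain ⟨z, -, -, hall⟩ := h.exists_commonFix_eq
        rcases hall x hxF with rfl | rfl
        · simp
        · rcases hall g hg with rfl | rfl <;> simp
    rw [Subgroup.mem_center_iff]
    exact fun y => Subgroup.mem_centralizer_singleton_iff.1 (hle trivial)

theorem OneInvol.cube_eq_one (h : OneInvol p E) {a : MulAut W} (ha : a ∈ E) : a ^ 3 = 1 := by
  refine MulEquiv.ext fun x => ?_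
  have hx : x ∈ fixedSub (a ^ 3) := by
    refine h.gen (H := ⊤) (fun _ _ _ _ => trivial) (fun e he hne x _ hex => ?_) trivial
    show (a ^ 3) x = x
    by_cases hQ : QType E e
    · rcases (h.qtype_facts hQ).2.2.2 a ha with h0 | ⟨h3, -⟩
      · simp [pow_succ, MulAut.mul_apply, h0 x hex]
      · simpa [pow_succ, MulAut.mul_apply] using h3 x hex
    · have hxF : x ∈ commonFix E := by
        by_contra hxF
        exact hQ ⟨he, hne, x, hex, hxF⟩
      exact hxF _ (E.pow_mem ha 3)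
  exact hx

theorem OneInvol.fixedSub_le_of_mem (h : OneInvol p E) {e : MulAut W} (hQ : QType E e)
    {S : Subgroup W} (hS : ∀ b ∈ E, ∀ x ∈ S, b x ∈ S) {x : W} (hx : e x = x) (hxS : x ∈ S)
    (hxF : x ∉ commonFix E) : fixedSub e ≤ S := by
  obtain ⟨b, hb, hbx⟩ : ∃ b ∈ E, b x ≠ x := by
    simpa only [mem_commonFix, not_forall, exists_prop] using hxF
  rcases (h.qtype_facts hQ).2.2.2 b hb with h0 | ⟨-, -, -, hg⟩
  · exact absurd (h0 x hx) hbx
  refine le_trans (hg x hx (fun h2 => hxF ((h.qtype_sq_iff hQ hx).1 h2))) ((Subgroup.closure_le S).2 ?_)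
  rintro y (rfl | rfl)
  · exact hxS
  · exact hS b hb x hxS

theorem OneInvol.qtype_of_le (h : OneInvol p E) {e c : MulAut W} (hQ : QType E e) (hc : c ∈ E)
    (hc1 : c ≠ 1) (hle : fixedSub e ≤ fixedSub c) : QType E c ∧ fixedSub c = fixedSub e := by
  obtain ⟨x, hx, hxF⟩ := hQ.2.2
  have hQc : QType E c := ⟨hc, hc1, x, hle hx, hxF⟩
  exact ⟨hQc, (Subgroup.eq_of_le_of_card_ge hle
    (by rw [(h.qtype_facts hQ).1, (h.qtype_facts hQc).1])).symm⟩

theorem OneInvol.decomp (h : OneInvol p E) {e : MulAut W} (hQ : QType E e) :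
    ∃ b₀ ∈ E, b₀ ∉ kerOn E (fixedSub e) ∧
      ∀ b ∈ E, ∃ i : Fin 3, (b₀ ^ (i : ℕ))⁻¹ * b ∈ kerOn E (fixedSub e) := by
  obtain ⟨x, b₀, hx, hx2, hb₀, hb₀x⟩ := h.qtype_exists_sq_ne hQ
  refine ⟨b₀, hb₀, fun hk => hb₀x (hk.2 x hx), fun b hb => ?_⟩
  rcases (h.qtype_facts hQ).2.2.2 b₀ hb₀ with h0 | ⟨-, -, horb, hgen⟩
  · exact absurd (h0 x hx) hb₀x
  have hxx : x * x ∈ commonFix E := h.sq_one_mem hQ.1 hQ.2.1 (by rw [map_mul, hx])
    ((h.qtype_facts hQ).2.2.1 x hx)
  have hbx : e (b x) = b x := h.mem_fixedSub_apply hQ.1 hb hx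
  have hbx2 : b x * b x ≠ 1 := by rwa [← map_mul, ne_eq, b.map_eq_one_iff]
  suffices hS : ∃ i : Fin 3, b x = (b₀ ^ (i : ℕ)) x ∨ b x = (b₀ ^ (i : ℕ)) (x * (x * x)) by
    obtain ⟨i, hi⟩ := hS
    refine ⟨i, E.mul_mem (E.inv_mem (E.pow_mem hb₀ _)) hb, ?_⟩
    set c := (b₀ ^ (i : ℕ))⁻¹ * b with hc
    have hcE : c ∈ E := E.mul_mem (E.inv_mem (E.pow_mem hb₀ _)) hb
    have hcx : c x = x := by
      rcases hi with hi | hi
      · rw [hc, MulAut.mul_apply, hi, MulAut.inv_apply_self]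
      · exfalso
        have h1 : c x = x * (x * x) := by rw [hc, MulAut.mul_apply, hi, MulAut.inv_apply_self]
        have h2 : c (x * x) = x * x := hxx c hcE
        have h3 := DFunLike.congr_fun (h.cube_eq_one hcE) x
        simp only [pow_succ, pow_zero, one_mul, MulAut.mul_apply, MulAut.one_apply] at h3
        rw [h1, map_mul, h1, h2, map_mul, map_mul, h1, h2] at h3
        have h4 := (h.qtype_facts hQ).2.2.1 x hx
        have h5 : x * (x * x) * (x * x) * (x * x) = x * (x * x) := by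
          rw [mul_assoc (x * (x * x)), h4, mul_one]
        rw [h5] at h3
        exact hx2 (mul_eq_left.1 h3)
    intro y hy
    have hle : Subgroup.closure {x, b₀ x} ≤ fixedSub c := by
      rw [Subgroup.closure_le]
      rintro z (rfl | rfl)
      · exact hcx
      · exact h.mem_fixedSub_apply hcE hb₀ hcx
    exact hle (hgen x hx hx2 hy)
  have hz0 : b₀ (x * x) = x * x := hxx b₀ hb₀
  have h2' : ∀ y, (b₀ ^ (2 : ℕ)) y = b₀ (b₀ y) := fun y => by rw [pow_two, MulAut.mul_apply]
  rcases horb x (b x) hx hbx hx2 hbx2 with h1 | h1 | h1 | h1 | h1 | h1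
  · exact ⟨0, Or.inl (by simpa using h1)⟩
  · exact ⟨1, Or.inl (by simpa using h1)⟩
  · exact ⟨2, Or.inl (h1.trans (h2' x).symm)⟩
  · exact ⟨0, Or.inr (by simpa using h1)⟩
  · exact ⟨1, Or.inr (by rw [h1, Fin.val_one, pow_one, map_mul b₀ x, hz0])⟩
  · exact ⟨2, Or.inr (by
      show b x = (b₀ ^ (2 : ℕ)) (x * (x * x))
      rw [h1, h2', map_mul b₀ x, hz0, map_mul b₀ (b₀ x), hz0])⟩

theorem OneInvol.kerOn_inf_eq_bot (h : OneInvol p E) {e e' : MulAut W} (hQ : QType E e)
    (hQ' : QType E e') (hne : fixedSub e ≠ fixedSub e') :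
    kerOn E (fixedSub e) ⊓ kerOn E (fixedSub e') = ⊥ := by
  rw [Subgroup.eq_bot_iff_forall]
  rintro c ⟨⟨hc, h1⟩, ⟨-, h2⟩⟩
  by_contra hc1
  exact hne ((h.qtype_of_le hQ hc hc1 h1).2.symm.trans (h.qtype_of_le hQ' hc hc1 h2).2)

theorem OneInvol.exists_qtype_ne (h : OneInvol p E) {e : MulAut W} (hQ : QType E e) :
    ∃ e', QType E e' ∧ fixedSub e' ≠ fixedSub e := by
  by_contra hc
  simp only [not_exists, not_and, not_not] at hc
  refine hQ.2.1 (MulEquiv.ext fun x => ?_)
  have : x ∈ fixedSub e := by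
    refine h.gen (H := ⊤) (fun _ _ _ _ => trivial) (fun a ha hane y _ hay => ?_) trivial
    by_cases hQa : QType E a
    · exact hc a hQa ▸ hay
    · have hyF : y ∈ commonFix E := by
        by_contra hyF
        exact hQa ⟨ha, hane, y, hay, hyF⟩
      exact hyF e hQ.1
  exact this

theorem OneInvol.card_facts (h : OneInvol p E) :
    Nat.card E = 9 ∧ ∀ e, QType E e → Nat.card (kerOn E (fixedSub e)) = 3 := by
  have hK : ∀ e, QType E e → Nat.card (kerOn E (fixedSub e)) ≤ 3 ∧
      Nat.card E ≤ 3 * Nat.card (kerOn E (fixedSub e)) := by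
    intro e hQ
    obtain ⟨e', hQ', hne⟩ := h.exists_qtype_ne hQ
    obtain ⟨b₁, -, -, hd'⟩ := h.decomp hQ'
    obtain ⟨b₀, -, -, hd⟩ := h.decomp hQ
    constructor
    · choose f hf using fun k : kerOn E (fixedSub e) => hd' k k.2.1
      have hinj : Function.Injective f := fun k k' hkk => by
        have h1 := hf k
        have h2 := hf k'
        rw [hkk] at h1
        have h3 := (kerOn E (fixedSub e')).mul_mem ((kerOn E (fixedSub e')).inv_mem h1) h2
        rw [mul_inv_rev, inv_inv, mul_assoc, mul_inv_cancel_left] at h3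
        have h4 : (k : MulAut W)⁻¹ * k' ∈ kerOn E (fixedSub e) ⊓ kerOn E (fixedSub e') :=
          ⟨(kerOn E (fixedSub e)).mul_mem ((kerOn E (fixedSub e)).inv_mem k.2) k'.2, h3⟩
        rw [h.kerOn_inf_eq_bot hQ hQ' hne.symm, Subgroup.mem_bot, inv_mul_eq_one] at h4
        exact Subtype.ext h4
      simpa using Nat.card_le_card_of_injective f hinj
    · choose f hf using fun b : E => hd b b.2
      have hinj : Function.Injective (fun b : E =>
          ((f b, ⟨_, hf b⟩) : Fin 3 × kerOn E (fixedSub e))) := fun b b' hbb => by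
        simp only [Prod.mk.injEq, Subtype.mk.injEq] at hbb
        rw [hbb.1] at hbb
        exact Subtype.ext (mul_left_cancel hbb.2)
      simpa [Nat.card_prod] using Nat.card_le_card_of_injective _ hinj
  obtain ⟨e, hQ⟩ := h.exists_qtype
  have h9 : Nat.card E ≤ 9 := by have := hK e hQ; omega
  obtain ⟨n, hn⟩ := h.isP.exists_card_eq
  have hp3 : p = 3 := by
    have hn0 : n ≠ 0 := by
      rintro rfl
      haveI : Subsingleton E := (Nat.card_eq_one_iff_unique.1 (by simpa using hn)).1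
      exact h.notCyclic inferInstance
    obtain ⟨a, ha⟩ := exists_prime_orderOf_dvd_card' p (hn ▸ dvd_pow_self p hn0 : p ∣ Nat.card E)
    refine (Nat.prime_dvd_prime_iff_eq Fact.out Nat.prime_three).1 ?_
    rw [← ha]
    exact orderOf_dvd_of_pow_eq_one (Subtype.ext (h.cube_eq_one a.2))
  have hn2 : n = 2 := by
    subst hp3
    rcases Nat.lt_or_ge n 2 with h1 | h1
    · exfalso
      interval_cases n
      · haveI : Subsingleton E := (Nat.card_eq_one_iff_unique.1 (by simpa using hn)).1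
        exact h.notCyclic inferInstance
      · exact h.notCyclic (isCyclic_of_prime_card (p := 3) (by simpa using hn))
    · by_contra h2
      have : 3 ^ 3 ≤ 3 ^ n := Nat.pow_le_pow_right (by norm_num) (by omega)
      omega
  have hE9 : Nat.card E = 9 := by rw [hn, hp3, hn2]; norm_num
  exact ⟨hE9, fun e hQ => by have := hK e hQ; omega⟩

end CfsgLib.Amalgam
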