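import Cfsg.Prelude.Def_Transfer
import Cfsg.Agent.Lib.Amalgam.OneInvolFixed
import Cfsg.Agent.Lib.Transfer.PPrimeAut
import Cfsg.Agent.Lib.Solvable.Frattini2

/-!
# The 2-group with one fixed involution is extraspecial

The quaternion fixed subgroups commute pairwise and generate the group.
-/

set_option autoImplicit false
set_option linter.style.haveILetI false

open scoped commutatorElement

namespace CfsgLib.Amalgam

variable {W : Type*} [Group W]

/-- The second centre. -/
def secondCentre (W : Type*) [Group W] : Subgroup W :=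
  (Subgroup.center (W ⧸ Subgroup.center W)).comap (QuotientGroup.mk' (Subgroup.center W))

theorem mem_secondCentre {u : W} :
    u ∈ secondCentre W ↔ ∀ w, u * w * u⁻¹ * w⁻¹ ∈ Subgroup.center W := by
  have key : ∀ a b : W, a * b * a⁻¹ * b⁻¹ ∈ Subgroup.center W ↔
      (a : W ⧸ Subgroup.center W) * b = (b : W ⧸ Subgroup.center W) * a := fun a b => by
    rw [← QuotientGroup.eq_one_iff]
    simp only [QuotientGroup.mk_mul, QuotientGroup.mk_inv]
    rw [mul_inv_eq_one, mul_inv_eq_iff_eq_mul]
  simp only [secondCentre, Subgroup.mem_comap, Subgroup.mem_center_iff (z := QuotientGroup.mk' _ u)]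
  constructor
  · intro h w
    exact (key u w).2 (h w).symm
  · intro h y
    obtain ⟨w, rfl⟩ := QuotientGroup.mk'_surjective _ y
    exact ((key u w).1 (h w)).symm

theorem center_invariant {E : Subgroup (MulAut W)} {e : MulAut W} (_he : e ∈ E) {x : W}
    (hx : x ∈ Subgroup.center W) : e x ∈ Subgroup.center W := by
  rw [Subgroup.mem_center_iff] at hx ⊢
  intro y
  obtain ⟨y, rfl⟩ := e.surjective y
  rw [← map_mul, ← map_mul, hx]

theorem secondCentre_invariant (e : MulAut W) {x : W} (hx : x ∈ secondCentre W) :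
    e x ∈ secondCentre W := by
  rw [mem_secondCentre] at hx ⊢
  intro y
  obtain ⟨y, rfl⟩ := e.surjective y
  rw [← map_inv, ← map_inv, ← map_mul, ← map_mul, ← map_mul, Subgroup.mem_center_iff]
  intro z
  obtain ⟨z, rfl⟩ := e.surjective z
  rw [← map_mul, ← map_mul, (Subgroup.mem_center_iff.1 (hx y)) z]

variable [Finite W] {p : ℕ} [Fact p.Prime] {E : Subgroup (MulAut W)}

theorem OneInvol.commonFix_of_not_qtype {e : MulAut W} (he : e ∈ E) (hne : e ≠ 1)
    (hQ : ¬ QType E e) {x : W} (hx : e x = x) : x ∈ commonFix E := by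
  by_contra hxF
  exact hQ ⟨he, hne, x, hx, hxF⟩

theorem OneInvol.not_all_fix (h : OneInvol p E) {e e' : MulAut W} (hQ : QType E e)
    (hQ' : QType E e') (hne : fixedSub e ≠ fixedSub e') : ¬ ∀ x, e' x = x → e x = x :=
  fun hle => hne (h.qtype_of_le hQ' hQ.1 hQ.2.1 hle).2

/-- An element of the second centre in one quaternion fixed subgroup centralizes all the others. -/
theorem OneInvol.commute_of_mem_secondCentre (h : OneInvol p E) {e e' : MulAut W} (hQ : QType E e)
    (hQ' : QType E e') (hne : fixedSub e ≠ fixedSub e') {u v : W} (hu : e u = u)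
    (huR : u ∈ secondCentre W) (hv : e' v = v) : Commute u v := by
  rcases (h.qtype_facts hQ').2.2.2 e hQ.1 with h0 | ⟨h3, hfx, -, hgen⟩
  · exact absurd h0 (h.not_all_fix hQ hQ' hne)
  have hw : ∀ a : W, Commute u (a⁻¹ * e a) := by
    intro a
    have hcZ : u * a * u⁻¹ * a⁻¹ ∈ Subgroup.center W := mem_secondCentre.1 huR a
    have hc := (h.center_eq ▸ hcZ : u * a * u⁻¹ * a⁻¹ ∈ commonFix E) e hQ.1
    rw [map_mul, map_mul, map_mul, map_inv, map_inv, hu] at hc
    -- conjugation by `u` multiplies both `a` and `e a` by the same central element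
    have hcc := Subgroup.mem_center_iff.1 hcZ
    set c := u * a * u⁻¹ * a⁻¹ with hcdef
    have h1 : u * a * u⁻¹ = c * a := by rw [hcdef, inv_mul_cancel_right]
    have h2 : u * e a * u⁻¹ = c * e a := by
      have := congrArg (· * e a) hc
      simpa only [inv_mul_cancel_right] using this
    refine mul_inv_eq_iff_eq_mul.1 ?_
    calc u * (a⁻¹ * e a) * u⁻¹ = (u * a * u⁻¹)⁻¹ * (u * e a * u⁻¹) := by group
      _ = a⁻¹ * e a := by rw [h1, h2]; group
  obtain ⟨x, hx, hx2⟩ : ∃ x, e' x = x ∧ x * x ≠ 1 := by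
    obtain ⟨x, -, hx, hx2, -⟩ := h.qtype_exists_sq_ne hQ'
    exact ⟨x, hx, hx2⟩
  obtain ⟨a, ha, ha2⟩ : ∃ a, e' a = a ∧ (a⁻¹ * e a) * (a⁻¹ * e a) ≠ 1 := by
    by_contra hc
    simp only [not_exists, not_and, not_not] at hc
    have hxe : e' (x⁻¹ * e x) = x⁻¹ * e x := by
      rw [map_mul, map_inv, hx, h.mem_fixedSub_apply hQ'.1 hQ.1 hx]
    set f := x⁻¹ * e x with hf
    have hfF : f ∈ commonFix E := (h.qtype_sq_iff hQ' hxe).1 (hc x hx)
    have hex : e x = x * f := by rw [hf, mul_inv_cancel_left]
    have h3x := h3 x hx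
    rw [hex, map_mul, hex, hfF e hQ.1, mul_assoc, h.commonFix_sq hfF, mul_one, hex] at h3x
    exact hx2 (hfx x hx (by rw [hex, h3x]))
  have hwe : e' (a⁻¹ * e a) = a⁻¹ * e a := by
    rw [map_mul, map_inv, ha, h.mem_fixedSub_apply hQ'.1 hQ.1 ha]
  have hle : Subgroup.closure {a⁻¹ * e a, e (a⁻¹ * e a)} ≤ Subgroup.centralizer {u} := by
    rw [Subgroup.closure_le]
    rintro z (rfl | rfl)
    · exact Subgroup.mem_centralizer_singleton_iff.2 (hw a).symm
    · rw [map_mul, map_inv]
      exact Subgroup.mem_centralizer_singleton_iff.2 (hw (e a)).symm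
  exact (Subgroup.mem_centralizer_singleton_iff.1 (hle (hgen _ hwe ha2 hv))).symm

theorem OneInvol.secondCentre_eq_top (h : OneInvol p E) : secondCentre W = ⊤ := by
  haveI := Fact.mk Nat.prime_two
  set R := secondCentre W with hRdef
  have hRinv : ∀ b ∈ E, ∀ x ∈ R, b x ∈ R := fun b _ x hx => secondCentre_invariant b hx
  have hcR : Subgroup.center W ≤ R := fun x hx => mem_secondCentre.2 fun w => by
    rw [← (Subgroup.mem_center_iff.1 hx w)]
    simp
  haveI hRn : R.Normal := by rw [hRdef, secondCentre]; infer_instance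
  have hall : ∀ e, QType E e → fixedSub e ≤ R := by
    intro e' hQ'
    by_contra hnle
    set T := Subgroup.centralizer (R : Set W) with hT
    haveI : T.Normal := inferInstance
    have hTinv : ∀ b ∈ E, ∀ x ∈ T, b x ∈ T := by
      intro b hb x hx
      rw [hT, Subgroup.mem_centralizer_iff] at hx ⊢
      intro r hr
      have hr' : b⁻¹ r ∈ (R : Set W) := hRinv _ (E.inv_mem hb) r hr
      have := congrArg b (hx _ hr')
      rwa [map_mul, map_mul, MulAut.apply_inv_self] at this
    have he'T : fixedSub e' ≤ T := fun v hv => by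
      rw [hT, Subgroup.mem_centralizer_iff]
      intro r hr
      refine (Subgroup.mem_centralizer_singleton_iff.1 ?_)
      refine h.gen hRinv (fun e he hne x hxR hex => ?_) hr
      rw [Subgroup.mem_centralizer_singleton_iff]
      by_cases hxF : x ∈ commonFix E
      · exact ((Subgroup.mem_center_iff.1 (h.center_eq ▸ hxF : x ∈ Subgroup.center W)) v).symm
      · have hQ : QType E e := ⟨he, hne, x, hex, hxF⟩
        have hle : fixedSub e ≤ R := h.fixedSub_le_of_mem hQ hRinv hex hxR hxF
        exact (h.commute_of_mem_secondCentre hQ hQ' (fun heq => hnle (heq ▸ hle)) hex hxR hv).eq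
    -- `T` meets the second centre outside the centre
    haveI := (h.isTwo.to_quotient (Subgroup.center W)).isNilpotent
    haveI hTn : (T.map (QuotientGroup.mk' (Subgroup.center W))).Normal :=
      Subgroup.Normal.map inferInstance _ (QuotientGroup.mk'_surjective _)
    have hne := CfsgLib.Solvable.normal_inf_center_ne_bot
      (T.map (QuotientGroup.mk' (Subgroup.center W))) (fun hb => by
        obtain ⟨x, -, hx, hx2, -⟩ := h.qtype_exists_sq_ne hQ'
        have := Subgroup.mem_bot.1 (hb ▸ Subgroup.mem_map_of_mem _ (he'T hx) :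
          QuotientGroup.mk' (Subgroup.center W) x ∈ (⊥ : Subgroup _))
        have hxZ := (QuotientGroup.eq_one_iff x).1 this
        exact hx2 (h.commonFix_sq (h.center_eq ▸ hxZ)))
    refine hne ((Subgroup.eq_bot_iff_forall _).2 ?_)
    rintro _ ⟨⟨y, hy, rfl⟩, hyZ⟩
    refine (QuotientGroup.eq_one_iff y).2 ?_
    have hTR : T ⊓ R ≤ commonFix E := by
      refine h.gen (fun b hb x hx => ⟨hTinv b hb x hx.1, hRinv b hb x hx.2⟩)
        (fun e he hne x hx hex => ?_)
      by_contra hxF
      have hQ : QType E e := ⟨he, hne, x, hex, hxF⟩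
      have hleR : fixedSub e ≤ R := h.fixedSub_le_of_mem hQ hRinv hex hx.2 hxF
      have hleT : fixedSub e ≤ T := h.fixedSub_le_of_mem hQ hTinv hex hx.1 hxF
      refine hxF ((h.qtype_sq_iff hQ hex).1 (((h.qtype_facts hQ).2.1 x hex).1 fun y hy => ?_))
      exact ((Subgroup.mem_centralizer_iff.1 (hleT hex)) y (hleR hy)).symm
    rw [h.center_eq]
    exact hTR ⟨hy, hyZ⟩
  refine top_le_iff.1 (h.gen (fun _ _ _ _ => trivial) fun e he hne x _ hex => ?_)
  by_cases hQ : QType E e
  · exact hall e hQ hex
  · exact hcR (h.center_eq ▸ OneInvol.commonFix_of_not_qtype he hne hQ hex)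

theorem OneInvol.commutator_mem_center (h : OneInvol p E) (x y : W) :
    x * y * x⁻¹ * y⁻¹ ∈ Subgroup.center W :=
  mem_secondCentre.1 (by rw [h.secondCentre_eq_top]; trivial) y

theorem OneInvol.sq_mem_center (h : OneInvol p E) (x : W) : x * x ∈ Subgroup.center W := by
  let K : Subgroup W :=
    { carrier := {x | x * x ∈ Subgroup.center W}
      one_mem' := by simp
      inv_mem' := fun {a} ha => by
        show a⁻¹ * a⁻¹ ∈ Subgroup.center W
        rw [← mul_inv_rev]; exact (Subgroup.center W).inv_mem ha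
      mul_mem' := fun {a b} ha hb => by
        have hc := h.commutator_mem_center b a
        have hc' := Subgroup.mem_center_iff.1 hc a
        set c := b * a * b⁻¹ * a⁻¹ with hcdef
        have hba : b * a = c * a * b := by
          rw [hcdef, inv_mul_cancel_right, inv_mul_cancel_right]
        have hsq : a * b * (a * b) = c * (a * a) * (b * b) :=
          calc a * b * (a * b) = a * (b * a) * b := by group
            _ = a * c * a * b * b := by rw [hba]; group
            _ = c * a * a * b * b := by rw [hc']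
            _ = c * (a * a) * (b * b) := by group
        show a * b * (a * b) ∈ Subgroup.center W
        rw [hsq]
        exact (Subgroup.center W).mul_mem ((Subgroup.center W).mul_mem hc ha) hb }
  have hK : (⊤ : Subgroup W) ≤ K := h.gen (fun _ _ _ _ => trivial) fun e he hne y _ hey => by
    show y * y ∈ Subgroup.center W
    rw [h.center_eq]
    by_cases hQ : QType E e
    · exact h.sq_one_mem he hne (by rw [map_mul, hey]) ((h.qtype_facts hQ).2.2.1 y hey)
    · exact (commonFix E).mul_mem (OneInvol.commonFix_of_not_qtype he hne hQ hey)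
        (OneInvol.commonFix_of_not_qtype he hne hQ hey)
  exact hK trivial

theorem OneInvol.isExtraspecial (h : OneInvol p E) : Cfsg.IsExtraspecial 2 W := by
  haveI := Fact.mk Nat.prime_two
  haveI := h.isTwo.isNilpotent
  have hcard : Nat.card (Subgroup.center W) = 2 := by rw [h.center_eq]; exact h.card_commonFix
  have hcomm : commutator W = Subgroup.center W := by
    have hle : commutator W ≤ Subgroup.center W := by
      rw [commutator_def, Subgroup.commutator_le]
      intro a _ b _
      rw [commutatorElement_def]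
      exact h.commutator_mem_center a b
    refine Subgroup.eq_of_le_of_card_ge hle ?_
    rw [hcard]
    refine Finite.one_lt_card_iff_nontrivial.2 ((Subgroup.nontrivial_iff_ne_bot _).2 fun hb => ?_)
    obtain ⟨e, hQ⟩ := h.exists_qtype
    obtain ⟨x, -, hx, hx2, -⟩ := h.qtype_exists_sq_ne hQ
    refine hx2 (((h.qtype_facts hQ).2.1 x hx).1 fun y _ => ?_)
    have hm : ⁅x, y⁆ ∈ commutator W :=
      Subgroup.commutator_mem_commutator (Subgroup.mem_top x) (Subgroup.mem_top y)
    rw [hb, Subgroup.mem_bot, commutatorElement_eq_one_iff_mul_comm] at hm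
    exact hm
  refine ⟨⟨h.isTwo, le_antisymm ?_ ?_, hcomm⟩, hcard⟩
  · refine CfsgLib.Transfer.frattini_le_of_elementary_quotient (p := 2) _ (fun x y => ?_) (fun x => ?_)
    · rw [commutatorElement_def]; exact h.commutator_mem_center x y
    · rw [pow_two]; exact h.sq_mem_center x
  · rw [← hcomm]; exact CfsgLib.Solvable.commutator_le_frattini

/-- The quaternion fixed subgroups. -/
def IsQFix (E : Subgroup (MulAut W)) (S : Subgroup W) : Prop := ∃ e, QType E e ∧ fixedSub e = S

theorem OneInvol.qfix_commute (h : OneInvol p E) {S T : Subgroup W} (hS : IsQFix E S)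
    (hT : IsQFix E T) (hne : S ≠ T) : T ≤ Subgroup.centralizer (S : Set W) := by
  obtain ⟨e, hQ, rfl⟩ := hS
  obtain ⟨e', hQ', rfl⟩ := hT
  intro v hv
  rw [Subgroup.mem_centralizer_iff]
  exact fun u hu => h.commute_of_mem_secondCentre hQ hQ' hne hu
    (by rw [h.secondCentre_eq_top]; trivial) hv

theorem OneInvol.card_sup (h : OneInvol p E) (s : Finset (Subgroup W))
    (hs : ∀ S ∈ s, IsQFix E S) :
    Nat.card ((s.sup id ⊔ Subgroup.center W : Subgroup W)) = 2 * 4 ^ s.card := by
  classical
  induction s using Finset.induction with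
  | empty => simp [h.center_eq, h.card_commonFix]
  | @insert S s hSs ih =>
    have ih' := ih fun T hT => hs T (Finset.mem_insert_of_mem hT)
    rw [Finset.card_insert_of_notMem hSs, Finset.sup_insert, id, sup_assoc]
    set P := s.sup id ⊔ Subgroup.center W with hP
    obtain ⟨e, hQ, rfl⟩ := hs S (Finset.mem_insert_self _ _)
    haveI : P.Normal := ⟨fun x hx g => by
      have : g * x * g⁻¹ = (g * x * g⁻¹ * x⁻¹) * x := by group
      rw [this]
      exact P.mul_mem (le_sup_right (a := s.sup id) (h.commutator_mem_center g x)) hx⟩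
    have hPc : P ≤ Subgroup.centralizer (fixedSub e : Set W) :=
      sup_le (Finset.sup_le fun T hT => h.qfix_commute ⟨e, hQ, rfl⟩
        (hs T (Finset.mem_insert_of_mem hT)) (fun heq => hSs (heq ▸ hT)))
        (Subgroup.center_le_centralizer _)
    have hinf : P ⊓ fixedSub e = commonFix E := by
      refine le_antisymm (fun x hx => ?_) (le_inf (h.center_eq ▸ le_sup_right)
        (OneInvol.commonFix_le_fixedSub hQ.1))
      refine (h.qtype_sq_iff hQ hx.2).1 (((h.qtype_facts hQ).2.1 x hx.2).1 fun y hy => ?_)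
      exact ((Subgroup.mem_centralizer_iff.1 (hPc hx.1)) y hy).symm
    have h1 : P.relIndex (fixedSub e) = 4 := by
      rw [← Subgroup.inf_relIndex_right, hinf]
      have := Subgroup.relIndex_mul_relIndex ⊥ (commonFix E) (fixedSub e) bot_le
        (OneInvol.commonFix_le_fixedSub hQ.1)
      rw [Subgroup.relIndex_bot_left, Subgroup.relIndex_bot_left, h.card_commonFix,
        (h.qtype_facts hQ).1] at this
      omega
    have h2 := Subgroup.relIndex_mul_relIndex ⊥ P (fixedSub e ⊔ P) bot_le le_sup_right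
    rw [Subgroup.relIndex_bot_left, Subgroup.relIndex_bot_left, Subgroup.relIndex_sup_right, h1,
      ih'] at h2
    rw [← h2, pow_succ, mul_assoc]

theorem OneInvol.card_eq (h : OneInvol p E) :
    Nat.card W = 2 ^ 5 ∨ Nat.card W = 2 ^ 7 ∨ Nat.card W = 2 ^ 9 := by
  classical
  set 𝒮 := (Set.toFinite {S : Subgroup W | IsQFix E S}).toFinset with h𝒮
  have hmem : ∀ {S}, S ∈ 𝒮 ↔ IsQFix E S := by simp [h𝒮]
  have hW : Nat.card W = 2 * 4 ^ 𝒮.card := by
    rw [← h.card_sup 𝒮 fun S hS => hmem.1 hS]
    have : (⊤ : Subgroup W) ≤ 𝒮.sup id ⊔ Subgroup.center W :=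
      h.gen (fun _ _ _ _ => trivial) fun e he hne x _ hex => by
        by_cases hQ : QType E e
        · exact le_sup_left (b := Subgroup.center W)
            (Finset.le_sup (f := id) (hmem.2 ⟨e, hQ, rfl⟩) hex)
        · exact le_sup_right (a := 𝒮.sup id)
            (h.center_eq ▸ OneInvol.commonFix_of_not_qtype he hne hQ hex)
    rw [top_le_iff.1 this]
    exact (Nat.card_congr Subgroup.topEquiv.toEquiv).symm
  have h2 : 2 ≤ 𝒮.card := by
    obtain ⟨e, hQ⟩ := h.exists_qtype
    obtain ⟨e', hQ', hne⟩ := h.exists_qtype_ne hQ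
    exact Finset.one_lt_card.2 ⟨_, hmem.2 ⟨e', hQ', rfl⟩, _, hmem.2 ⟨e, hQ, rfl⟩, hne⟩
  have h4 : 𝒮.card ≤ 4 := by
    obtain ⟨hE, hK⟩ := h.card_facts
    haveI : Fintype E := Fintype.ofFinite _
    have hUcard : ∀ S ∈ 𝒮, ((Finset.univ.filter
        fun b : E => (b : MulAut W) ∈ kerOn E S).erase 1).card = 2 := by
      intro S hS
      obtain ⟨e, hQ, rfl⟩ := hmem.1 hS
      rw [Finset.card_erase_of_mem (by simp [(kerOn E (fixedSub e)).one_mem])]
      have h3 : Nat.card ((kerOn E (fixedSub e)).subgroupOf E) = 3 := by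
        rw [Nat.card_congr (Subgroup.subgroupOfEquivOfLe
          (show kerOn E (fixedSub e) ≤ E from fun b hb => hb.1)).toEquiv, hK e hQ]
      rw [Nat.card_eq_fintype_card, Fintype.card_subtype] at h3
      simp only [Subgroup.mem_subgroupOf] at h3
      rw [h3]
    have hdisj : (𝒮 : Set (Subgroup W)).PairwiseDisjoint
        (fun S => (Finset.univ.filter fun b : E => (b : MulAut W) ∈ kerOn E S).erase 1) := by
      intro S hS T hT hne
      rw [Function.onFun, Finset.disjoint_left]
      intro b hb hb'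
      simp only [Finset.mem_erase, Finset.mem_filter, Finset.mem_univ, true_and] at hb hb'
      obtain ⟨e, hQ, rfl⟩ := hmem.1 hS
      obtain ⟨e', hQ', rfl⟩ := hmem.1 hT
      have := h.kerOn_inf_eq_bot hQ hQ' hne
      refine hb.1 (Subtype.ext ?_)
      exact (Subgroup.eq_bot_iff_forall _).1 this _ ⟨hb.2, hb'.2⟩
    have hsub : 𝒮.biUnion (fun S =>
        (Finset.univ.filter fun b : E => (b : MulAut W) ∈ kerOn E S).erase 1) ⊆
        Finset.univ.erase 1 := by
      intro b hb
      simp only [Finset.mem_biUnion, Finset.mem_erase] at hb ⊢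
      obtain ⟨S, -, h1, -⟩ := hb
      exact ⟨h1, Finset.mem_univ b⟩
    have := Finset.card_le_card hsub
    rw [Finset.card_biUnion hdisj, Finset.sum_congr rfl hUcard, Finset.sum_const, smul_eq_mul,
      Finset.card_erase_of_mem (Finset.mem_univ _), Finset.card_univ, ← Nat.card_eq_fintype_card,
      hE] at this
    omega
  have : 𝒮.card = 2 ∨ 𝒮.card = 3 ∨ 𝒮.card = 4 := by omega
  rcases this with h' | h' | h' <;> simp [hW, h']

end CfsgLib.Amalgam
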