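import Cfsg.Agent.Lib.Geom.DicksonPGL
import Cfsg.Agent.Lib.Geom.QuadExt

/-!
# Fixed points of elements of large order in `p'`-subgroups of `PGL(2, p)`
-/

set_option autoImplicit false

namespace CfsgLib.Amalgam.PGLTwoPrime

open CfsgLib.Geom.Moebius Matrix
open scoped MatrixGroups

universe u

variable {p : ℕ} [Fact p.Prime]

/-- A group with at most five as the order of an element. -/
theorem orderOf_le_five_of_equiv {X Y : Type*} [Group X] [Group Y] (e : X ≃* Y)
    (h : ∀ y : Y, orderOf y ∈ ({1, 2, 3, 4, 5} : Finset ℕ)) (x : X) :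
    orderOf x ∈ ({1, 2, 3, 4, 5} : Finset ℕ) := by
  rw [← MulEquiv.orderOf_eq e x]; exact h _

theorem orderOf_mem_of_pow {Y : Type*} [Group Y] [Finite Y] {n : ℕ} {y : Y}
    (h : y ^ n = 1) : orderOf y ∣ n := orderOf_dvd_of_pow_eq_one h

theorem small_alt4 (y : alternatingGroup (Fin 4)) : y ^ 2 = 1 ∨ y ^ 3 = 1 := by
  revert y; decide +kernel

theorem small_alt5 (y : alternatingGroup (Fin 5)) : y ^ 2 = 1 ∨ y ^ 3 = 1 ∨ y ^ 5 = 1 := by
  revert y; decide +kernel

theorem small_perm4 (y : Equiv.Perm (Fin 4)) : y ^ 3 = 1 ∨ y ^ 4 = 1 := by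
  revert y; decide +kernel

theorem four_cycles_perm4 :
    (Finset.univ.filter fun y : Equiv.Perm (Fin 4) => y ^ 2 ≠ 1 ∧ y ^ 4 = 1).card = 6 := by
  decide +kernel

/-- The points of `ℙ¹(p)` fixed by an element of `M` of order divisible by `d`. -/
def bigPoints (M : Subgroup PGL(2, ZMod p)) (d : ℕ) : Set (Line (ZMod p)) :=
  {P | ∃ g ∈ M, d ∣ orderOf g ∧ g • P = P}

/-- The large torus fixed points of a `p'`-subgroup, with a given quadratic extension. -/
theorem bigPoints_cases_aux {E : Type*} [Field E] [CharP E p] [Fintype (Line E)] (f : ZMod p →+* E)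
    (hE : QuadClosed f) (M : Subgroup PGL(2, ZMod p)) (hM : ¬ p ∣ Nat.card M) {d : ℕ} (hd : 3 ≤ d) :
    (bigPoints M d).ncard ≤ 2 ∨ Nonempty (M ≃* alternatingGroup (Fin 4)) ∨
      Nonempty (M ≃* Equiv.Perm (Fin 4)) ∨ Nonempty (M ≃* alternatingGroup (Fin 5)) := by
  classical
  by_cases hb : M = ⊥
  · left
    rw [show bigPoints M d = ∅ from Set.eq_empty_iff_forall_notMem.2 fun P hP => by
      obtain ⟨g, hg, hgd, -⟩ := hP
      rw [hb, Subgroup.mem_bot] at hg
      rw [hg, orderOf_one] at hgd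
      exact absurd (Nat.le_of_dvd Nat.one_pos hgd) (by omega)]
    simp
  haveI := finite_pgl_two (F := ZMod p)
  have pair : ∀ P Q : Line E, P ≠ Q → M ≤ pairStab f P Q → (bigPoints M d).ncard ≤ 2 := by
    intro P Q hPQ hle
    refine le_trans (le_of_eq (Set.ncard_image_of_injective _ (extPt_injective f)).symm)
      ((Set.ncard_le_ncard (t := {P, Q}) ?_ (Set.toFinite _)).trans (Set.ncard_pair hPQ).le)
    rintro _ ⟨R, ⟨g, hg, hgd, hgR⟩, rfl⟩
    by_contra hR
    simp only [Set.mem_insert_iff, Set.mem_singleton_iff, not_or] at hR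
    have h2 : g ^ 2 ≠ 1 := fun e => absurd
      (Nat.le_of_dvd two_pos (hgd.trans (orderOf_dvd_of_pow_eq_one e))) (by omega)
    refine h2 (extHom_injective f ?_)
    rw [map_one]
    refine eq_one_of_three hPQ (Ne.symm hR.1) (Ne.symm hR.2) ?_ ?_ ?_
    · rw [map_pow, pow_two, mul_smul]
      rcases (mem_pairStab f).1 (hle hg) with ⟨a, b⟩ | ⟨a, b⟩
      · rw [a, a]
      · rw [a, b]
    · rw [map_pow, pow_two, mul_smul]
      rcases (mem_pairStab f).1 (hle hg) with ⟨a, b⟩ | ⟨a, b⟩
      · rw [b, b]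
      · rw [b, a]
    · rw [map_pow, pow_two, mul_smul, extHom_smul, hgR, extHom_smul, hgR]
  cases dicksonPGL f p hE M hb with
  | point P hP =>
    left
    set G := M.map (extHom f) with hG
    have hcard : Nat.card G = Nat.card M := Subgroup.card_map_of_injective (extHom_injective f)
    haveI : Finite G := Nat.finite_of_card_ne_zero (by rw [hcard]; exact Nat.card_pos.ne')
    have hpara : paraAt G (extPt f P) = ∅ := by
      obtain ⟨u, k, r, h1, h2, h3, -, -, -⟩ := stabAt_data G p (extPt f P)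
      have hdvd : u ∣ Nat.card M :=
        (Dvd.intro k h1.symm).trans (hcard ▸ Subgroup.card_dvd_of_le inf_le_left)
      rcases Nat.eq_zero_or_pos r with hr | hr
      · rw [hr, pow_zero] at h3
        have hfin : (paraAt G (extPt f P)).Finite := (Set.toFinite (G : Set PGL(2, E))).subset fun x hx => hx.1
        exact (Set.ncard_eq_zero hfin).1 (by omega)
      · exact absurd ((h3 ▸ dvd_pow_self p hr.ne').trans hdvd) hM
    obtain ⟨-, Q, hQP, hQ⟩ := stabAt_cyclic G (extPt f P) hpara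
    refine pair _ Q hQP.symm fun x hx => (mem_pairStab f).2 (Or.inl ⟨?_, ?_⟩)
    · rw [extHom_smul, hP x hx]
    · exact hQ _ ((mem_stabAt G).2 ⟨Subgroup.mem_map_of_mem _ hx, by rw [extHom_smul, hP x hx]⟩)
  | pair P Q hPQ hle _ => exact Or.inl (pair P Q hPQ hle)
  | tetrahedral h _ => exact Or.inr (Or.inl h)
  | octahedral h _ => exact Or.inr (Or.inr (Or.inl h))
  | icosahedral _ h _ => exact Or.inr (Or.inr (Or.inr h))
  | subfieldGroup K u hu hK m hle hcard =>
    exfalso
    obtain ⟨n, hn, hKp⟩ := FiniteField.card K p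
    rw [Nat.card_eq_fintype_card, hKp] at hK
    have hpu : p ∣ u := hK ▸ dvd_pow_self p n.ne_zero
    rcases hcard with h | h
    · exact hM (h ▸ (hpu.mul_right _).mul_left _)
    · have hp2 : p ∣ 2 * Nat.card M := h ▸ (hpu.mul_right _).mul_left _
      rcases (Fact.out : p.Prime).dvd_mul.1 hp2 with h2 | h2
      · have := (Nat.prime_dvd_prime_iff_eq Fact.out Nat.prime_two).1 h2
        obtain ⟨g, hg, hgne⟩ := (Subgroup.bot_or_exists_ne_one M).resolve_left hb
        have hub : u ≤ 2 := by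
          have : Nat.card K ≤ Nat.card (ZMod p) := Nat.card_le_card_of_injective _ K.subtype.injective
          rw [Nat.card_eq_fintype_card, hKp, hK, Nat.card_zmod] at this
          omega
        omega
      · exact hM h2

theorem exists_quad (F : Type u) [Field F] [Finite F] (p : ℕ) [Fact p.Prime] [CharP F p] :
    ∃ (E : Type) (_ : Field E) (_ : Finite E) (f : F →+* E), QuadClosed f ∧ CharP E p :=
  ⟨FiniteField.Extension F p 2, inferInstance, inferInstance,
    algebraMap F (FiniteField.Extension F p 2), quadClosed_extension p,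
    charP_of_injective_ringHom (algebraMap F (FiniteField.Extension F p 2)).injective p⟩

/-- The large torus fixed points of a `p'`-subgroup: at most two, or the group is polyhedral. -/
theorem bigPoints_cases (M : Subgroup PGL(2, ZMod p)) (hM : ¬ p ∣ Nat.card M) {d : ℕ} (hd : 3 ≤ d) :
    (bigPoints M d).ncard ≤ 2 ∨ Nonempty (M ≃* alternatingGroup (Fin 4)) ∨
      Nonempty (M ≃* Equiv.Perm (Fin 4)) ∨ Nonempty (M ≃* alternatingGroup (Fin 5)) := by
  obtain ⟨E, _, _, f, hE, _⟩ := exists_quad (ZMod p) p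
  haveI : Fintype (Line E) := Fintype.ofFinite _
  exact bigPoints_cases_aux f hE M hM hd

/-- No three points are fixed by elements of order divisible by `d ≥ 6`. -/
theorem bigPoints_le_two (M : Subgroup PGL(2, ZMod p)) (hM : ¬ p ∣ Nat.card M) {d : ℕ} (hd : 6 ≤ d) :
    (bigPoints M d).ncard ≤ 2 := by
  rcases bigPoints_cases M hM (show 3 ≤ d by omega) with h | h | h | h
  · exact h
  all_goals
    obtain ⟨e⟩ := h
    rw [show bigPoints M d = ∅ from Set.eq_empty_iff_forall_notMem.2 fun P hP => ?_]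
    · simp
    obtain ⟨g, hg, hgd, -⟩ := hP
    rw [← Subgroup.orderOf_mk g hg, ← MulEquiv.orderOf_eq e] at hgd
  · rcases small_alt4 (e ⟨g, hg⟩) with h | h <;>
      have := Nat.le_of_dvd (by norm_num) (hgd.trans (orderOf_dvd_of_pow_eq_one h)) <;> omega
  · rcases small_perm4 (e ⟨g, hg⟩) with h | h <;>
      have := Nat.le_of_dvd (by norm_num) (hgd.trans (orderOf_dvd_of_pow_eq_one h)) <;> omega
  · rcases small_alt5 (e ⟨g, hg⟩) with h | h | h <;>
      have := Nat.le_of_dvd (by norm_num) (hgd.trans (orderOf_dvd_of_pow_eq_one h)) <;> omega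

/-- At most twelve points are fixed by elements of order divisible by four. -/
theorem bigPoints_four_le (M : Subgroup PGL(2, ZMod p)) (hM : ¬ p ∣ Nat.card M) :
    (bigPoints M 4).ncard ≤ 12 := by
  classical
  rcases bigPoints_cases M hM (show 3 ≤ 4 by norm_num) with h | ⟨⟨e⟩⟩ | ⟨⟨e⟩⟩ | ⟨⟨e⟩⟩
  · omega
  · rw [show bigPoints M 4 = ∅ from Set.eq_empty_iff_forall_notMem.2 fun P hP => ?_]
    · simp
    obtain ⟨g, hg, hgd, -⟩ := hP
    rw [← Subgroup.orderOf_mk g hg, ← MulEquiv.orderOf_eq e] at hgd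
    rcases small_alt4 (e ⟨g, hg⟩) with h | h <;>
      exact absurd (hgd.trans (orderOf_dvd_of_pow_eq_one h)) (by norm_num)
  · haveI := finite_pgl_two (F := ZMod p)
    set X := Finset.univ.filter fun y : Equiv.Perm (Fin 4) => y ^ 2 ≠ 1 ∧ y ^ 4 = 1 with hX
    let fx : Equiv.Perm (Fin 4) → Set (Line (ZMod p)) := fun y => {P | (e.symm y : PGL(2, ZMod p)) • P = P}
    have hfx : ∀ y ∈ X, (fx y).ncard ≤ 2 := by
      intro y hy
      by_contra hlt
      obtain ⟨a, b, c, ha, hb, hc, hab, hac, hbc⟩ := (Set.two_lt_ncard_iff (Set.toFinite _)).1 (not_le.1 hlt)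
      have h1 : (e.symm y : PGL(2, ZMod p)) = 1 := eq_one_of_three hab hac hbc ha hb hc
      refine (Finset.mem_filter.1 hy).2.1 ?_
      rw [show y = 1 from e.symm.injective (Subtype.ext (h1.trans (by rw [map_one]; rfl))), one_pow]
    refine le_trans (Set.ncard_le_ncard (t := ⋃ y ∈ X, fx y) ?_ (Set.toFinite _))
      ((Finset.set_ncard_biUnion_le X fx).trans ((Finset.sum_le_card_nsmul X _ 2 hfx).trans
        (by rw [hX, four_cycles_perm4]; norm_num)))
    intro P hP
    obtain ⟨g, hg, hgd, hgP⟩ := hP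
    rw [← Subgroup.orderOf_mk g hg, ← MulEquiv.orderOf_eq e] at hgd
    refine Set.mem_iUnion₂.2 ⟨e ⟨g, hg⟩, Finset.mem_filter.2 ⟨Finset.mem_univ _, fun h2 => ?_, ?_⟩, ?_⟩
    · exact absurd (hgd.trans (orderOf_dvd_of_pow_eq_one h2)) (by norm_num)
    · rcases small_perm4 (e ⟨g, hg⟩) with h | h
      · exact absurd (hgd.trans (orderOf_dvd_of_pow_eq_one h)) (by norm_num)
      · exact h
    · simpa [fx] using hgP
  · rw [show bigPoints M 4 = ∅ from Set.eq_empty_iff_forall_notMem.2 fun P hP => ?_]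
    · simp
    obtain ⟨g, hg, hgd, -⟩ := hP
    rw [← Subgroup.orderOf_mk g hg, ← MulEquiv.orderOf_eq e] at hgd
    rcases small_alt5 (e ⟨g, hg⟩) with h | h | h <;>
      exact absurd (hgd.trans (orderOf_dvd_of_pow_eq_one h)) (by norm_num)

end CfsgLib.Amalgam.PGLTwoPrime
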