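import Cfsg.Prelude.Def_LocalStructure
import Cfsg.Agent.Lib.Amalgam.PIrred
import Cfsg.Agent.Lib.Amalgam.PCoreOf
import Cfsg.Agent.Lib.Transfer.Basic
import Cfsg.Agent.Lib.Transfer.Frobenius
import Cfsg.Agent.Lib.Solvable.PCore

/-!
Transitive families of `p`-minimal or strongly `p`-irreducible subgroups.
-/

set_option autoImplicit false
set_option linter.unusedSectionVars false
set_option linter.style.haveILetI false

namespace CfsgLib.Amalgam

open Cfsg Subgroup
open scoped commutatorElement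

variable {G : Type*} [Group G] [Finite G] {p : ℕ} [Fact p.Prime]

/-- A `p`-subgroup of a subgroup `E` normalized by `E`, with `E` normal in a normal subgroup, lies in `O_p`. -/
theorem le_pCore_of_normalized {Q E K : Subgroup G} [K.Normal] (hQ : IsPGroup p Q) (hQE : Q ≤ E)
    (hEQ : E ≤ normalizer (Q : Set G)) (hEK : E ≤ K) (hKE : K ≤ normalizer (E : Set G)) :
    Q ≤ pCore p G := by
  refine (le_pCoreOf hQE hEQ hQ).trans ((le_pCoreOf ((pCoreOf_le E).trans hEK) ?_
    (isPGroup_pCoreOf E)).trans (CfsgLib.Solvable.map_pCore_le p K))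
  intro k hk
  rw [mem_normalizer_iff_map_conj_eq]
  have h := pCoreOf_map (p := p) (MulAut.conj k).toMonoidHom (MulAut.conj k).injective E
  erw [mem_normalizer_iff_map_conj_eq.1 (hKE hk)] at h
  exact h.symm

/-- An element of order prime to `p` lies in a subgroup containing one of its `p`-power powers. -/
theorem mem_of_pPow_mem {H : Subgroup G} {x : G} (hx : (orderOf x).Coprime p) {k : ℕ}
    (h : x ^ p ^ k ∈ H) : x ∈ H := by
  obtain ⟨m, hm⟩ := exists_pow_eq_self_of_coprime (n := p ^ k) ((hx.pow_right k).symm)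
  rw [← hm]
  exact pow_mem h m

/-- The commutator trick: commutators into a central `p'`-subgroup are trivial. -/
theorem commute_of_commutator_mem {E : Type*} [Group E] [Finite E] (g : E →* G) (x : G) (Z : Subgroup G)
    (hZ : (Nat.card Z).Coprime p) (hab : ∀ a ∈ Z, ∀ b ∈ Z, a * b = b * a)
    (hgz : ∀ e, ∀ z ∈ Z, g e * z = z * g e) (hx : ∀ e, ⁅g e, x⁆ ∈ Z)
    (hE : pResidual p E ≤ commutator E) (e : E) : g e * x = x * g e := by
  let φ : E →* Z := MonoidHom.mk' (fun e => ⟨⁅g e, x⁆, hx e⟩) (fun a b => Subtype.ext (by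
    show ⁅g (a * b), x⁆ = ⁅g a, x⁆ * ⁅g b, x⁆
    rw [map_mul, commutatorElement_mul_left_eq_conj_mul, hgz a _ (hx b),
      mul_inv_cancel_right, hab _ (hx b) _ (hx a)]))
  have h1 : commutator E ≤ φ.ker := by
    rw [_root_.commutator_def, commutator_le]
    intro a _ b _
    rw [MonoidHom.mem_ker, map_commutatorElement, commutatorElement_eq_one_iff_mul_comm]
    exact Subtype.ext (hab _ (φ a).2 _ (φ b).2)
  obtain ⟨T⟩ : Nonempty (Sylow p E) := inferInstance
  have h2 : (T : Subgroup E) ≤ φ.ker := by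
    rw [← Subgroup.map_eq_bot_iff, ← Subgroup.card_eq_one]
    obtain ⟨n, hn⟩ := (T.isPGroup'.map φ).exists_card_eq
    exact Nat.eq_one_of_dvd_coprimes (hZ.pow_right n) (card_subgroup_dvd_card _)
      (hn ▸ dvd_rfl)
  have h3 : (⊤ : Subgroup E) ≤ φ.ker :=
    (CfsgLib.Transfer.pResidual_sup_sylow T) ▸ sup_le (hE.trans h1) h2
  exact commutatorElement_eq_one_iff_mul_comm.1 (congrArg Subtype.val (h3 (mem_top e)))

/-- In a strongly `p`-irreducible group `O^p` lies in the commutator subgroup. -/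
theorem pResidual_le_commutator {E : Type*} [Group E] [Finite E] (h : IsStronglyPIrreducible p E) :
    pResidual p E ≤ commutator E := by
  refine h.2 _ inferInstance fun hc => h.1 ?_
  haveI := CfsgLib.Solvable.pCore_normal p E
  rw [← isPClosed_quotient_iff (pCore p E) (CfsgLib.Solvable.pCore_isPGroup p)]
  haveI : Group.IsNilpotent (E ⧸ pCore p E) := by
    refine Subgroup.isNilpotent_of_ker_le_center (Abelianization.of (G := E ⧸ pCore p E)) ?_
    rw [Abelianization.ker_of]
    have hm : commutator (E ⧸ pCore p E) = (commutator E).map (QuotientGroup.mk' (pCore p E)) := by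
      rw [_root_.commutator_def, _root_.commutator_def, map_commutator,
        map_top_of_surjective _ (QuotientGroup.mk'_surjective _)]
    rw [hm]
    rintro _ ⟨a, ha, rfl⟩
    rw [mem_center_iff]
    intro y
    obtain ⟨b, rfl⟩ := QuotientGroup.mk'_surjective _ y
    refine (commutatorElement_eq_one_iff_mul_comm.1 ?_).symm
    rw [← map_commutatorElement, QuotientGroup.mk'_apply, QuotientGroup.eq_one_iff]
    exact hc (commutator_mem_commutator ha (mem_top b))
  exact fun Q => inferInstance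

/-- With `O_p = 1`: a subgroup normalized by and normalizing a subnormal strongly `p`-irreducible
image either contains the image of `O^p` or centralizes it. -/
theorem residual_le_or_commute (hcore : pCore p G = ⊥) (K : Subgroup G) [K.Normal]
    {E : Type*} [Group E] [Finite E] (g : E →* G) (hE : IsStronglyPIrreducible p E)
    (hgK : g.range ≤ K) (hKg : K ≤ normalizer (g.range : Set G)) (Y : Subgroup G)
    (hY : g.range ≤ normalizer (Y : Set G)) (hY' : Y ≤ normalizer (g.range : Set G)) :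
    (pResidual p E).map g ≤ Y ∨ ∀ y ∈ Y, ∀ e, g e * y = y * g e := by
  by_cases hres : pResidual p E ≤ Y.comap g
  · exact Or.inl (map_le_iff_le_comap.2 hres)
  right
  have hN : (Y.comap g).Normal := ⟨fun n hn e => by
    show g (e * n * e⁻¹) ∈ Y
    rw [map_mul, map_mul, map_inv]
    exact (mem_normalizer_iff.1 (hY ⟨e, rfl⟩) _).1 hn⟩
  have hcent : ⁅Y.comap g, (⊤ : Subgroup E)⁆ ≤ pCore p E := by
    by_contra hc
    exact hres (hE.2 _ hN hc)
  haveI := CfsgLib.Solvable.pCore_normal p E
  have hbot : (pCore p E).map g = ⊥ := by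
    rw [eq_bot_iff, ← hcore]
    refine le_pCore_of_normalized ((CfsgLib.Solvable.pCore_isPGroup p).map g) (map_le_range g _) ?_ hgK hKg
    rintro _ ⟨e, rfl⟩
    rw [mem_normalizer_iff]
    have key : ∀ e : E, ∀ z ∈ (pCore p E).map g, g e * z * (g e)⁻¹ ∈ (pCore p E).map g := by
      rintro e _ ⟨y, hy, rfl⟩
      exact ⟨e * y * e⁻¹, Normal.conj_mem inferInstance y hy e, by simp⟩
    refine fun z => ⟨key e z, fun hz => ?_⟩
    simpa [mul_assoc] using key e⁻¹ _ hz
  have hz : ∀ z ∈ Y ⊓ g.range, ∀ e, g e * z = z * g e := by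
    rintro z hz e
    obtain ⟨hzY, n, rfl⟩ := mem_inf.1 hz
    refine (commutatorElement_eq_one_iff_mul_comm.1 ?_).symm
    rw [← map_commutatorElement, ← mem_bot, ← hbot]
    exact mem_map_of_mem g (hcent (commutator_mem_commutator (mem_comap.2 hzY) (mem_top e)))
  have hab : ∀ a ∈ Y ⊓ g.range, ∀ b ∈ Y ⊓ g.range, a * b = b * a := by
    intro a ha b hb
    obtain ⟨e, rfl⟩ := (mem_inf.1 ha).2
    exact hz b hb e
  have hcop : (Nat.card ↥(Y ⊓ g.range)).Coprime p := by
    rw [Nat.coprime_comm, Nat.Prime.coprime_iff_not_dvd Fact.out]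
    intro hd
    obtain ⟨⟨z, hzm⟩, ho⟩ := exists_prime_orderOf_dvd_card' (G := ↥(Y ⊓ g.range)) p hd
    rw [orderOf_mk] at ho
    have h1 : zpowers z ≤ pCore p G := by
      refine le_pCore_of_normalized
        (IsPGroup.of_card (n := 1) (by rw [Nat.card_zpowers, ho, pow_one]))
        (zpowers_le.2 (mem_inf.1 hzm).2) ?_ hgK hKg
      rintro _ ⟨e, rfl⟩
      rw [mem_normalizer_iff_map_conj_eq, MonoidHom.map_zpowers]
      congr 1
      simp [hz z hzm e, mul_assoc]
    rw [hcore] at h1
    rw [mem_bot.1 (h1 (mem_zpowers z)), orderOf_one] at ho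
    exact (Fact.out : p.Prime).ne_one ho.symm
  intro y hy e
  refine commute_of_commutator_mem g y (Y ⊓ g.range) hcop hab (fun e z h => hz z h e) ?_
    (pResidual_le_commutator hE) e
  intro e
  refine mem_inf.2 ⟨?_, ?_⟩
  · rw [commutatorElement_def]
    exact mul_mem ((mem_normalizer_iff.1 (hY ⟨e, rfl⟩) _).1 hy) (inv_mem hy)
  · rw [commutatorElement_def, mul_assoc, mul_assoc]
    refine mul_mem ⟨e, rfl⟩ ?_
    rw [← mul_assoc]
    exact (mem_normalizer_iff.1 (hY' hy) _).1 (inv_mem ⟨e, rfl⟩)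

/-- With `O_p = 1`: a normal `p`-group-over-central extension collapses. -/
theorem eq_and_coprime_of_central (hcore : pCore p G = ⊥) {M Y : Subgroup G} [M.Normal] [Y.Normal]
    (hMY : M ≤ Y) (hc : ∀ m ∈ M, ∀ y ∈ Y, m * y = y * m) (hp : ∀ y ∈ Y, ∃ k, y ^ p ^ k ∈ M) :
    Y = M ∧ (Nat.card Y).Coprime p := by
  haveI : (M.subgroupOf Y).Normal := Normal.subgroupOf ‹M.Normal› Y
  have hq : IsPGroup p (Y ⧸ M.subgroupOf Y) := by
    intro q
    obtain ⟨y, rfl⟩ := QuotientGroup.mk'_surjective _ q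
    obtain ⟨k, hk⟩ := hp y y.2
    refine ⟨k, ?_⟩
    rw [← map_pow, QuotientGroup.mk'_apply, QuotientGroup.eq_one_iff, mem_subgroupOf]
    exact hk
  haveI := hq.isNilpotent
  haveI : Group.IsNilpotent Y := by
    refine Subgroup.isNilpotent_of_ker_le_center (QuotientGroup.mk' (M.subgroupOf Y)) ?_
    rw [QuotientGroup.ker_mk']
    intro m hm
    rw [mem_center_iff]
    exact fun y => Subtype.ext (hc _ (mem_subgroupOf.1 hm) _ y.2).symm
  have hcop : (Nat.card Y).Coprime p := by
    obtain ⟨Q⟩ : Nonempty (Sylow p Y) := inferInstance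
    refine CfsgLib.Transfer.coprime_card_of_inf_sylow_eq_bot Q (N := ⊤) ?_ |>.coprime_dvd_left
      (by rw [card_top])
    have hQ : (Q : Subgroup Y) = ⊥ := by
      rw [← Subgroup.map_eq_bot_iff_of_injective _ Y.subtype_injective, eq_bot_iff, ← hcore]
      exact (map_mono (CfsgLib.Solvable.le_pCore inferInstance Q.isPGroup')).trans
        (CfsgLib.Solvable.map_pCore_le p Y)
    rw [top_inf_eq, hQ]
  refine ⟨le_antisymm (fun y hy => ?_) hMY, hcop⟩
  obtain ⟨k, hk⟩ := hp y hy
  exact mem_of_pPow_mem (hcop.coprime_dvd_left (Y.orderOf_dvd_natCard hy)) hk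

end CfsgLib.Amalgam
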