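import Cfsg.Agent.Lib.Amalgam.LLemma
import Cfsg.Agent.Lib.Amalgam.PCoreOf
import Cfsg.Agent.Lib.Amalgam.CharP
import Cfsg.Agent.Lib.Amalgam.Norm
import Cfsg.Agent.Lib.PLocal.Basic
import Cfsg.Agent.Lib.Comp.Normalize
import Cfsg.Prelude.Def_LocalStructure

/-!
`p`-reduced normal subgroups, read in an ambient group.
-/

set_option autoImplicit false
set_option linter.unusedSectionVars false

namespace CfsgLib.Amalgam

open Cfsg Subgroup
open scoped commutatorElement

variable {G : Type*} [Group G] [Finite G] {p : ℕ} [Fact p.Prime]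

/-- every element of `D` has a `p`-power in `C`. -/
def PMod (p : ℕ) (C D : Subgroup G) : Prop := ∀ x ∈ D, ∃ k : ℕ, x ^ p ^ k ∈ C

/-- `V` is a `p`-reduced normal subgroup of `L`, in the ambient group. -/
def PRedIn (p : ℕ) (L V : Subgroup G) : Prop :=
  V ≤ L ∧ L ≤ normalizer (V : Set G) ∧ IsElementaryAbelian p V ∧
    ∀ D : Subgroup G, D ≤ L → L ≤ normalizer (D : Set G) → PMod p (centralizer (V : Set G)) D →
      D ≤ centralizer (V : Set G)

theorem pMod_mono {C C' D D' : Subgroup G} (h : PMod p C D) (hC : C ≤ C') (hD : D' ≤ D) :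
    PMod p C' D' := fun x hx => let ⟨k, hk⟩ := h x (hD hx); ⟨k, hC hk⟩

theorem pMod_of_isPGroup {C D : Subgroup G} (h : IsPGroup p D) : PMod p C D := fun x hx => by
  obtain ⟨k, hk⟩ := h ⟨x, hx⟩
  exact ⟨k, by rw [show x ^ p ^ k = 1 from congrArg Subtype.val hk]; exact one_mem C⟩

theorem PMod.mem_of_coprime {C D : Subgroup G} (h : PMod p C D) {x : G} (hx : x ∈ D)
    (hxp : (orderOf x).Coprime p) : x ∈ C := by
  obtain ⟨k, hk⟩ := h x hx
  obtain ⟨m, hm⟩ := exists_pow_eq_self_of_coprime (hxp.pow_right k).symm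
  exact hm ▸ pow_mem hk m

theorem isSylIn_inf_normal {L D T : Subgroup G} (hT : IsSylIn p L T) (hDL : D ≤ L)
    (hn : L ≤ normalizer (D : Set G)) : IsSylIn p D (T ⊓ D) := by
  obtain ⟨S, hS, hTS⟩ := exists_isSylIn_ge (L := D) (hT.2.1.to_le (inf_le_left (b := D))) inf_le_right
  obtain ⟨T', hT', hST'⟩ := exists_isSylIn_ge hS.2.1 (hS.1.trans hDL)
  obtain ⟨l, hl, hlT⟩ := hT'.exists_conj hT
  have h1 : S.map (MulAut.conj l).toMonoidHom ≤ T ⊓ D := le_inf ((map_mono hST').trans hlT.le)
    ((map_mono hS.1).trans (CfsgLib.Coprime.map_conj_of_mem_normalizer (hn hl)).le)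
  have h2 := card_le_of_le h1
  rw [CfsgLib.Coprime.card_map_conj] at h2
  rwa [← eq_of_le_of_card_ge hTS h2] at hS

theorem pMod_cover {C D S : Subgroup G} (hn : D ≤ normalizer (C : Set G)) (h : PMod p C D)
    (hS : IsSylIn p D S) : D ≤ (C ⊓ D) ⊔ S := by
  set E := C ⊓ D
  have hEn : D ≤ normalizer (E : Set G) :=
    (le_inf hn le_normalizer).trans inf_normalizer_le_normalizer_inf
  have : (E.subgroupOf D).Normal := normal_subgroupOf_of_le_normalizer hEn
  set π := QuotientGroup.mk' (E.subgroupOf D)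
  have hπ : Function.Surjective π := QuotientGroup.mk'_surjective _
  have hq : IsPGroup p (D ⧸ E.subgroupOf D) := by
    intro q
    obtain ⟨x, rfl⟩ := hπ q
    obtain ⟨k, hk⟩ := h x x.2
    refine ⟨k, ?_⟩
    rw [← map_pow]
    exact (QuotientGroup.eq_one_iff _).2 (mem_inf.2 ⟨hk, (x ^ p ^ k).2⟩)
  let S' : Sylow p D := Sylow.ofCard (S.subgroupOf D)
    (by rw [Nat.card_congr (subgroupOfEquivOfLe hS.1).toEquiv, hS.2.2])
  have hT : ((S'.mapSurjective hπ : Sylow p _) : Subgroup (D ⧸ E.subgroupOf D)) = ⊤ :=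
    ((S'.mapSurjective hπ).3 (hq.to_subgroup ⊤) le_top).symm
  intro x hx
  have h1 : π ⟨x, hx⟩ ∈ (S.subgroupOf D).map π := hT.ge (mem_top _)
  obtain ⟨s, hs, hsx⟩ := h1
  have h2 : (⟨x, hx⟩ : D) * s⁻¹ ∈ E.subgroupOf D := by
    rw [← QuotientGroup.eq_one_iff]
    show π _ = 1
    rw [map_mul, map_inv, hsx, mul_inv_cancel]
  have := mul_mem (mem_sup_left (T := S) h2) (mem_sup_right (S := E) (mem_subgroupOf.1 hs))
  simpa using this

theorem le_normalizer_centralizer' {L V : Subgroup G} (h : L ≤ normalizer (V : Set G)) :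
    L ≤ normalizer (centralizer (V : Set G) : Set G) :=
  h.trans (CfsgLib.Comp.normalizer_le_normalizer_centralizer V)

/-- The bridge with the quotient formulation. -/
theorem isPReducedNormal_iff_pRedIn {L : Subgroup G} (V : Subgroup L) :
    IsPReducedNormal p V ↔ PRedIn p L (V.map L.subtype) := by
  have hcV : ∀ x : L, x ∈ centralizer (V : Set L) ↔ (x : G) ∈ centralizer ((V.map L.subtype : Subgroup G) : Set G) := by
    intro x
    constructor
    · rintro h _ ⟨v, hv, rfl⟩
      exact congrArg Subtype.val (h v hv)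
    · intro h v hv
      exact Subtype.ext (h v ⟨v, hv, rfl⟩)
  constructor
  · rintro ⟨hn, hea, hCn, hred⟩
    refine ⟨map_subtype_le V, ?_, CfsgLib.PLocal.elemAb_map _ hea, fun D hDL hLD hD x hx => ?_⟩
    · intro l hl
      apply CfsgLib.PLocal.mem_normalizer_map_conj.2
      refine eq_of_le_of_card_ge ?_ (CfsgLib.Coprime.card_map_conj l _).ge
      rintro _ ⟨_, ⟨v, hv, rfl⟩, rfl⟩
      exact ⟨_, hn.conj_mem v hv ⟨l, hl⟩, rfl⟩
    · have : (D.subgroupOf L).Normal := normal_subgroupOf_of_le_normalizer hLD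
      have hp : IsPGroup p ((D.subgroupOf L).map (QuotientGroup.mk' (centralizer (V : Set L)))) := by
        rintro ⟨_, y, hy, rfl⟩
        obtain ⟨k, hk⟩ := hD _ hy
        refine ⟨k, Subtype.ext ?_⟩
        simp only [SubmonoidClass.coe_pow, OneMemClass.coe_one]
        rw [← map_pow]
        exact (QuotientGroup.eq_one_iff _).2 ((hcV _).2 hk)
      have h1 := (CfsgLib.Solvable.le_pCore (this.map _ (QuotientGroup.mk'_surjective _)) hp).trans hred.le
      exact (hcV ⟨x, hDL hx⟩).1 ((QuotientGroup.eq_one_iff _).1 (mem_bot.1 (h1 ⟨⟨x, hDL hx⟩, hx, rfl⟩)))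
  · rintro ⟨-, hLn, hea, hD⟩
    have hn : V.Normal := by
      refine ⟨fun v hv l => ?_⟩
      obtain ⟨w, hw, hwv⟩ := (mem_normalizer_iff.1 (hLn l.2) _).1 ⟨v, hv, rfl⟩
      have : w = l * v * l⁻¹ := Subtype.ext hwv
      exact this ▸ hw
    refine ⟨hn, (CfsgLib.PLocal.elemAb_map_iff L.subtype_injective).1 hea, inferInstance, ?_⟩
    set π := QuotientGroup.mk' (centralizer (V : Set L))
    have hπ : Function.Surjective π := QuotientGroup.mk'_surjective _
    rw [← map_comap_eq_self_of_surjective hπ (pCore p _), eq_bot_iff, map_le_iff_le_comap,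
      MonoidHom.comap_bot, QuotientGroup.ker_mk']
    intro x hx
    refine (hcV x).2 (hD (((pCore p _).comap π).map L.subtype) (map_subtype_le _) ?_ ?_ ⟨x, hx, rfl⟩)
    · have := (CfsgLib.Solvable.pCore_normal p (L ⧸ centralizer (V : Set L))).comap π
      intro l hl
      apply CfsgLib.PLocal.mem_normalizer_map_conj.2
      refine eq_of_le_of_card_ge ?_ (CfsgLib.Coprime.card_map_conj l _).ge
      rintro _ ⟨_, ⟨v, hv, rfl⟩, rfl⟩
      exact ⟨_, this.conj_mem v hv ⟨l, hl⟩, rfl⟩
    · rintro _ ⟨y, hy, rfl⟩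
      obtain ⟨k, hk⟩ := CfsgLib.Solvable.pCore_isPGroup p ⟨π y, hy⟩
      refine ⟨k, ?_⟩
      rw [← map_pow]
      exact (hcV _).1 ((QuotientGroup.eq_one_iff _).1 (congrArg Subtype.val hk))

theorem PRedIn.le_pCoreOf {L V : Subgroup G} (h : PRedIn p L V) : V ≤ pCoreOf p L :=
  CfsgLib.Amalgam.le_pCoreOf h.1 h.2.1 (CfsgLib.PLocal.elemAb_isPGroup h.2.2.1)

theorem PRedIn.pCoreOf_le_centralizer {L V : Subgroup G} (h : PRedIn p L V) :
    pCoreOf p L ≤ centralizer (V : Set G) :=
  h.2.2.2 _ (pCoreOf_le L) (le_normalizer_pCoreOf L) (pMod_of_isPGroup (isPGroup_pCoreOf L))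

theorem PRedIn.le_center_pCoreOf {L V : Subgroup G} (h : PRedIn p L V) :
    V ≤ omegaOne p (pCoreOf p L ⊓ centralizer (pCoreOf p L : Set G)) :=
  CfsgLib.PLocal.le_omegaOne h.2.2.1 (le_inf h.le_pCoreOf (le_centralizer_iff.1 h.pCoreOf_le_centralizer))

/-- The largest `p`-reduced normal subgroup. -/
theorem pRedIn_largest (L : Subgroup G) : PRedIn p L (largestPReducedOf p L) ∧
    ∀ V : Subgroup G, PRedIn p L V → V ≤ largestPReducedOf p L := by
  set S := {V : Subgroup L | IsPReducedNormal p V}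
  have hmax : ∀ V : Subgroup G, PRedIn p L V → V ≤ largestPReducedOf p L := by
    intro V hV
    have e : (V.subgroupOf L).map L.subtype = V := by rw [subgroupOf_map_subtype, inf_eq_left.2 hV.1]
    have h1 : V.subgroupOf L ∈ S := (isPReducedNormal_iff_pRedIn _).2 (e.symm ▸ hV)
    exact e.ge.trans (map_mono (le_sSup h1))
  have heq : largestPReducedOf p L = ⨆ V : S, (V : Subgroup L).map L.subtype := by
    rw [largestPReducedOf, largestPReduced, sSup_eq_iSup', Subgroup.map_iSup]
  refine ⟨⟨map_subtype_le _, ?_, ?_, ?_⟩, hmax⟩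
  · rw [heq]
    exact CfsgLib.Comp.le_normalizer_iSup _ fun V => ((isPReducedNormal_iff_pRedIn _).1 V.2).2.1
  · rw [heq]
    have hc : ∀ V : S, ∀ W : S, (V : Subgroup L).map L.subtype ≤
        centralizer (((W : Subgroup L).map L.subtype : Subgroup G) : Set G) := fun V W =>
      ((isPReducedNormal_iff_pRedIn _).1 V.2).le_pCoreOf.trans
        ((isPReducedNormal_iff_pRedIn _).1 W.2).pCoreOf_le_centralizer
    have hA : (⨆ V : S, (V : Subgroup L).map L.subtype) ≤
        centralizer ((⨆ V : S, (V : Subgroup L).map L.subtype : Subgroup G) : Set G) :=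
      iSup_le fun V => le_centralizer_iff.1 (iSup_le fun W => hc W V)
    refine ⟨le_centralizer_iff_isMulCommutative.1 hA, fun a ha => ?_⟩
    induction ha using Subgroup.iSup_induction' with
    | hp V a ha => exact ((isPReducedNormal_iff_pRedIn _).1 V.2).2.2.1.2 a ha
    | h1 => exact one_pow p
    | hmul x y hx hy hxp hyp => rw [Commute.mul_pow ((hA hy x hx) : x * y = y * x), hxp, hyp, one_mul]
  · intro D hDL hLD hD
    rw [le_centralizer_iff, heq]
    refine iSup_le fun V => ?_
    exact le_centralizer_iff.1 (((isPReducedNormal_iff_pRedIn _).1 V.2).2.2.2 D hDL hLD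
      (pMod_mono hD (centralizer_le (by
        rw [heq]; exact le_iSup (fun V : S => (V : Subgroup L).map L.subtype) V)) le_rfl))

theorem isPReducedNormal_top_iff {H : Type*} [Group H] [Finite H] (V : Subgroup H) :
    IsPReducedNormal p V ↔ PRedIn p ⊤ V := by
  constructor
  · rintro ⟨hn, hea, hCn, hred⟩
    refine ⟨le_top, by rw [normalizer_eq_top], hea, fun D _ hD hmod x hx => ?_⟩
    have hDn : D.Normal := CfsgLib.Comp.normal_of_top_le_normalizer hD
    have hp : IsPGroup p (D.map (QuotientGroup.mk' (centralizer (V : Set H)))) := by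
      rintro ⟨_, y, hy, rfl⟩
      obtain ⟨k, hk⟩ := hmod _ hy
      refine ⟨k, Subtype.ext ?_⟩
      simp only [SubmonoidClass.coe_pow, OneMemClass.coe_one]
      rw [← map_pow]
      exact (QuotientGroup.eq_one_iff _).2 hk
    have h1 := (CfsgLib.Solvable.le_pCore (hDn.map _ (QuotientGroup.mk'_surjective _)) hp).trans hred.le
    exact (QuotientGroup.eq_one_iff _).1 (mem_bot.1 (h1 ⟨x, hx, rfl⟩))
  · rintro ⟨-, hn, hea, hD⟩
    have hVn : V.Normal := CfsgLib.Comp.normal_of_top_le_normalizer hn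
    refine ⟨hVn, hea, inferInstance, ?_⟩
    set π := QuotientGroup.mk' (centralizer (V : Set H))
    rw [← map_comap_eq_self_of_surjective (QuotientGroup.mk'_surjective _) (pCore p _), eq_bot_iff,
      map_le_iff_le_comap, MonoidHom.comap_bot, QuotientGroup.ker_mk']
    refine hD _ le_top ?_ fun x hx => ?_
    · have := (CfsgLib.Solvable.pCore_normal p (H ⧸ centralizer (V : Set H))).comap π
      rw [normalizer_eq_top]
    · obtain ⟨k, hk⟩ := CfsgLib.Solvable.pCore_isPGroup p ⟨π x, hx⟩
      refine ⟨k, (QuotientGroup.eq_one_iff (N := centralizer (V : Set H)) _).1 ?_⟩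
      show π (x ^ p ^ k) = 1
      rw [map_pow]
      exact congrArg Subtype.val hk

theorem largestPReduced_eq (H : Type*) [Group H] [Finite H] :
    largestPReduced p H = largestPReducedOf p (⊤ : Subgroup H) := by
  apply le_antisymm
  · exact sSup_le fun V hV => (pRedIn_largest ⊤).2 V ((isPReducedNormal_top_iff V).1 hV)
  · exact le_sSup ((isPReducedNormal_top_iff _).2 (pRedIn_largest ⊤).1)

theorem mem_omega_center_iff {P : Subgroup G} {x : G} :
    x ∈ omegaOne p (P ⊓ centralizer (P : Set G)) ↔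
      x ∈ P ∧ x ∈ centralizer (P : Set G) ∧ x ^ p = 1 := by
  constructor
  · intro hx
    obtain ⟨h1, h2⟩ := mem_inf.1 (CfsgLib.PLocal.omegaOne_le p _ hx)
    exact ⟨h1, h2, (CfsgLib.PLocal.omegaCenter_elemAb P).2 x hx⟩
  · rintro ⟨h1, h2, h3⟩
    exact subset_closure ⟨mem_inf.2 ⟨h1, h2⟩, h3⟩

theorem omega_center_le_center_pCoreOf {L T : Subgroup G} (hL : CharPElements p L) (hT : IsSylIn p L T) :
    omegaOne p (T ⊓ centralizer (T : Set G)) ≤
      omegaOne p (pCoreOf p L ⊓ centralizer (pCoreOf p L : Set G)) := by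
  intro z hz
  obtain ⟨hzT, hzc, hzp⟩ := mem_omega_center_iff.1 hz
  have hzc' : z ∈ centralizer (pCoreOf p L : Set G) := centralizer_le hT.pCoreOf_le hzc
  refine mem_omega_center_iff.2 ⟨?_, hzc', hzp⟩
  set C := L ⊓ centralizer (pCoreOf p L : Set G)
  have hCp : IsPGroup p C := CfsgLib.PLocal.isPGroup_of_forall_coprime fun x hx hxp =>
    hL x (mem_inf.1 hx).1 hxp (mem_inf.1 hx).2
  have hn : L ≤ normalizer (C : Set G) :=
    (le_inf le_normalizer (le_normalizer_centralizer' (le_normalizer_pCoreOf L))).trans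
      inf_normalizer_le_normalizer_inf
  exact CfsgLib.Amalgam.le_pCoreOf inf_le_left hn hCp (mem_inf.2 ⟨hT.1 hzT, hzc'⟩)

/-- The normal closure of a `p`-reduced normal subgroup of an overgroup of a Sylow subgroup. -/
theorem pRedIn_normalClosure {L R T X : Subgroup G} (hL : CharPElements p L) (hT : IsSylIn p L T)
    (hTR : T ≤ R) (hRL : R ≤ L) (hX : PRedIn p R X) :
    PRedIn p L (⨆ l : L, X.map (MulAut.conj (l : G)).toMonoidHom) := by
  set W := ⨆ l : L, X.map (MulAut.conj (l : G)).toMonoidHom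
  set Z := omegaOne p (pCoreOf p L ⊓ centralizer (pCoreOf p L : Set G))
  have hTR' : IsSylIn p R T := hT.mono hTR hRL
  have hOR : pCoreOf p L ≤ pCoreOf p R := CfsgLib.Amalgam.le_pCoreOf (hT.pCoreOf_le.trans hTR)
    (hRL.trans (le_normalizer_pCoreOf L)) (isPGroup_pCoreOf L)
  have hXZ : X ≤ Z := by
    intro x hx
    have hxc : x ∈ centralizer (pCoreOf p L : Set G) :=
      centralizer_le hOR (le_centralizer_iff.1 hX.pCoreOf_le_centralizer hx)
    have hxp : x ^ p = 1 := hX.2.2.1.2 x hx
    refine mem_omega_center_iff.2 ⟨?_, hxc, hxp⟩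
    set C := L ⊓ centralizer (pCoreOf p L : Set G)
    have hCp : IsPGroup p C := CfsgLib.PLocal.isPGroup_of_forall_coprime fun x hx hxp =>
      hL x (mem_inf.1 hx).1 hxp (mem_inf.1 hx).2
    have hn : L ≤ normalizer (C : Set G) :=
      (le_inf le_normalizer (le_normalizer_centralizer' (le_normalizer_pCoreOf L))).trans
        inf_normalizer_le_normalizer_inf
    exact CfsgLib.Amalgam.le_pCoreOf inf_le_left hn hCp (mem_inf.2 ⟨hRL (hX.1 hx), hxc⟩)
  have hZn : L ≤ normalizer (Z : Set G) := fun l hl => by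
    apply CfsgLib.PLocal.mem_normalizer_map_conj.2
    have h1 := CfsgLib.Coprime.map_conj_of_mem_normalizer
      ((le_inf (le_normalizer_pCoreOf (p := p) L) (le_normalizer_centralizer' (le_normalizer_pCoreOf (p := p) L))).trans
        inf_normalizer_le_normalizer_inf hl)
    show (omegaOne p _).map _ = _
    rw [CfsgLib.PLocal.omegaOne_map_equiv, h1]
  have hWZ : W ≤ Z := iSup_le fun l => (map_mono hXZ).trans
    (CfsgLib.Coprime.map_conj_of_mem_normalizer (hZn l.2)).le
  have hZea : IsElementaryAbelian p Z := CfsgLib.PLocal.omegaCenter_elemAb _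
  have hWn : L ≤ normalizer (W : Set G) := by
    intro l hl
    apply CfsgLib.PLocal.mem_normalizer_map_conj.2
    refine eq_of_le_of_card_ge ?_ (CfsgLib.Coprime.card_map_conj l W).ge
    rw [Subgroup.map_iSup]
    refine iSup_le fun m => ?_
    rw [CfsgLib.Coprime.map_conj_conj]
    exact le_iSup (fun m : L => X.map (MulAut.conj (m : G)).toMonoidHom) (⟨l, hl⟩ * m)
  refine ⟨hWZ.trans ((CfsgLib.PLocal.omegaOne_le p _).trans (inf_le_left.trans (pCoreOf_le L))), hWn,
    CfsgLib.PLocal.elemAb_mono hZea hWZ, fun D hDL hLD hD => ?_⟩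
  have hS := isSylIn_inf_normal hT hDL hLD
  have hXW : X ≤ W := le_trans (fun x hx => (⟨x, hx, by simp⟩ : x ∈ X.map (MulAut.conj ((1 : L) : G)).toMonoidHom))
    (le_iSup (fun m : L => X.map (MulAut.conj (m : G)).toMonoidHom) 1)
  have hTDX : T ⊓ D ≤ centralizer (X : Set G) := by
    refine le_trans (le_inf inf_le_right (inf_le_left.trans hTR) : T ⊓ D ≤ D ⊓ R) ?_
    exact hX.2.2.2 (D ⊓ R) inf_le_right
      ((le_inf (hRL.trans hLD) le_normalizer).trans inf_normalizer_le_normalizer_inf)
      (pMod_mono hD (centralizer_le hXW) inf_le_left)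
  have hDX : D ≤ centralizer (X : Set G) :=
    (pMod_cover (hDL.trans (le_normalizer_centralizer' hWn)) hD hS).trans
      (sup_le (inf_le_left.trans (centralizer_le hXW)) hTDX)
  rw [le_centralizer_iff]
  refine iSup_le fun l => ?_
  rintro _ ⟨x, hx, rfl⟩ d hd
  have h1 : (l : G)⁻¹ * d * l ∈ D := by
    simpa using (mem_normalizer_iff.1 (hLD (inv_mem l.2)) d).1 hd
  have h2 := hDX h1 x hx
  show d * ((l : G) * x * (l : G)⁻¹) = (l : G) * x * (l : G)⁻¹ * d
  calc d * ((l : G) * x * (l : G)⁻¹) = (l : G) * ((l : G)⁻¹ * d * l * x) * (l : G)⁻¹ := by group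
    _ = _ := by rw [← h2]; group

/-- `Ω₁(Z(T))` is `p`-reduced in `T`; hence its closure in `L` lies in `Y_L`. -/
theorem omega_center_le_largest {L T : Subgroup G} (hL : CharPElements p L) (hT : IsSylIn p L T) :
    ∀ l ∈ L, (omegaOne p (T ⊓ centralizer (T : Set G))).map (MulAut.conj l).toMonoidHom ≤
      largestPReducedOf p L := by
  intro l hl
  set Z := omegaOne p (T ⊓ centralizer (T : Set G))
  have hc : T ≤ centralizer (Z : Set G) :=
    le_centralizer_iff.1 ((CfsgLib.PLocal.omegaOne_le p _).trans inf_le_right)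
  have hX : PRedIn p T Z := ⟨(CfsgLib.PLocal.omegaOne_le p _).trans inf_le_left,
    hc.trans (Subgroup.centralizer_le_normalizer _), CfsgLib.PLocal.omegaCenter_elemAb T,
    fun D hD _ _ => hD.trans hc⟩
  exact (le_iSup (fun m : L => Z.map (MulAut.conj (m : G)).toMonoidHom) ⟨l, hl⟩).trans
    ((pRedIn_largest L).2 _ (pRedIn_normalClosure hL hT le_rfl hT.1 hX))

/-- `Y_L = Ω₁(Z(C_T(Y_L)))`. -/
theorem largest_eq_omega_center {L T : Subgroup G} (hL : CharPElements p L) (hT : IsSylIn p L T) :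
    largestPReducedOf p L = omegaOne p ((T ⊓ centralizer (largestPReducedOf p L : Set G)) ⊓
      centralizer ((T ⊓ centralizer (largestPReducedOf p L : Set G) : Subgroup G) : Set G)) := by
  obtain ⟨hY, hmax⟩ := pRedIn_largest (p := p) L
  set Y := largestPReducedOf p L
  set C := centralizer (Y : Set G)
  set T₀ := T ⊓ C
  set X := omegaOne p (T₀ ⊓ centralizer (T₀ : Set G))
  apply le_antisymm
  · refine CfsgLib.PLocal.le_omegaOne hY.2.2.1 (le_inf (le_inf (hY.le_pCoreOf.trans hT.pCoreOf_le) ?_) ?_)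
    · exact CfsgLib.PLocal.elemAb_le_centralizer hY.2.2.1
    · exact le_centralizer_iff.1 inf_le_right
  · set N := L ⊓ normalizer (T₀ : Set G)
    have hCn : L ≤ normalizer (C : Set G) := le_normalizer_centralizer' hY.2.1
    have hTN : T ≤ N := le_inf hT.1 ((le_inf le_normalizer (hT.1.trans hCn)).trans
      inf_normalizer_le_normalizer_inf)
    have hT0 : IsSylIn p (L ⊓ C) T₀ := by
      have := isSylIn_inf_normal hT (inf_le_left : L ⊓ C ≤ L)
        ((le_inf le_normalizer hCn).trans inf_normalizer_le_normalizer_inf)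
      rwa [← inf_assoc, inf_eq_left.2 hT.1] at this
    have hXn : N ≤ normalizer (X : Set G) := fun n hn => by
      apply CfsgLib.PLocal.mem_normalizer_map_conj.2
      have hn' : n ∈ normalizer (T₀ : Set G) := (mem_inf.1 hn).2
      have h1 := CfsgLib.Coprime.map_conj_of_mem_normalizer
        ((le_inf le_rfl (CfsgLib.Comp.normalizer_le_normalizer_centralizer T₀)).trans
          inf_normalizer_le_normalizer_inf hn')
      show (omegaOne p _).map _ = _
      rw [CfsgLib.PLocal.omegaOne_map_equiv, h1]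
    have hXT : X ≤ T₀ := (CfsgLib.PLocal.omegaOne_le p _).trans inf_le_left
    have hYX : Y ≤ X := CfsgLib.PLocal.le_omegaOne hY.2.2.1
      (le_inf (le_inf (hY.le_pCoreOf.trans hT.pCoreOf_le) (CfsgLib.PLocal.elemAb_le_centralizer hY.2.2.1))
        (le_centralizer_iff.1 inf_le_right))
    have hXr : PRedIn p N X := by
      refine ⟨hXT.trans (inf_le_left.trans hTN), hXn, CfsgLib.PLocal.omegaCenter_elemAb _, ?_⟩
      intro D hDN hND hD
      have hS := isSylIn_inf_normal (hT.mono hTN inf_le_left) hDN hND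
      have hDC : T ⊓ D ≤ C := by
        have hT' := hT.2.1.to_le (inf_le_left (b := D))
        set D' := L ⊓ (D ⊔ C)
        have hn : L ≤ normalizer (D' : Set G) := by
          have hcov : L ≤ N ⊔ (L ⊓ C) := by
            intro l hl
            have hl' := hT0
            obtain ⟨c, hc, hcT⟩ := hT0.exists_conj (Q := T₀.map (MulAut.conj l).toMonoidHom)
              ⟨(map_mono hT0.1).trans (CfsgLib.Coprime.map_conj_of_mem_normalizer
                (((le_inf le_normalizer hCn).trans inf_normalizer_le_normalizer_inf) hl)).le,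
                hT0.2.1.map _, by rw [CfsgLib.Coprime.card_map_conj, hT0.2.2]⟩
            have : c⁻¹ * l ∈ N := mem_inf.2 ⟨mul_mem (inv_mem (mem_inf.1 hc).1) hl,
              CfsgLib.PLocal.mem_normalizer_map_conj.2 (by
                rw [← CfsgLib.Coprime.map_conj_conj, ← hcT, CfsgLib.Coprime.map_conj_conj, inv_mul_cancel]
                ext x; rw [CfsgLib.Coprime.mem_map_conj]; simp)⟩
            have := mul_mem (mem_sup_right (S := N) hc) (mem_sup_left (T := L ⊓ C) this)
            rwa [mul_inv_cancel_left] at this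
          refine hcov.trans (sup_le ?_ (le_trans ?_ le_normalizer))
          · refine le_trans ?_ inf_normalizer_le_normalizer_inf
            exact le_inf (inf_le_left.trans le_normalizer) (CfsgLib.Comp.le_normalizer_sup hND
              (inf_le_left.trans hCn))
          · exact le_inf inf_le_left (le_sup_right.trans' inf_le_right)
        have h1 : PMod p C D' := by
          intro x hx
          obtain ⟨c, hc, d, hd, rfl⟩ := CfsgLib.Comp.exists_mul_of_mem_sup
            ((hDN.trans inf_le_left).trans hCn) ((sup_comm D C).le (mem_inf.1 hx).2)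
          obtain ⟨k, hk⟩ := hD d hd
          refine ⟨k, ?_⟩
          have hkC : d ^ p ^ k ∈ C := centralizer_le hYX hk
          set M := normalizer (C : Set G)
          have hcM : c ∈ M := le_normalizer hc
          have hdM : d ∈ M := hCn ((hDN hd).1)
          have : (C.subgroupOf M).Normal := normal_subgroupOf_of_le_normalizer le_rfl
          set π := QuotientGroup.mk' (C.subgroupOf M)
          have e1 : π ((⟨c, hcM⟩ : M) * ⟨d, hdM⟩) = π ⟨d, hdM⟩ := by
            rw [map_mul, show π ⟨c, hcM⟩ = 1 from (QuotientGroup.eq_one_iff _).2 hc, one_mul]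
          have e2 : π (((⟨c, hcM⟩ : M) * ⟨d, hdM⟩) ^ p ^ k) = 1 := by
            rw [map_pow, e1, ← map_pow]
            exact (QuotientGroup.eq_one_iff _).2 hkC
          exact (QuotientGroup.eq_one_iff (N := C.subgroupOf M) _).1 e2
        exact le_trans (le_inf (inf_le_left.trans hT.1) (inf_le_right.trans le_sup_left) : T ⊓ D ≤ D')
          (hY.2.2.2 D' inf_le_left hn h1)
      refine (pMod_cover (hDN.trans (le_normalizer_centralizer' hXn)) hD hS).trans (sup_le inf_le_left ?_)
      exact (le_inf inf_le_left hDC).trans (le_centralizer_iff.1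
        ((CfsgLib.PLocal.omegaOne_le p _).trans inf_le_right))
    refine le_trans ?_ (hmax _ (pRedIn_normalClosure hL hT hTN inf_le_left hXr))
    exact le_trans (fun x hx => (⟨x, hx, by simp⟩ : x ∈ X.map (MulAut.conj ((1 : L) : G)).toMonoidHom))
      (le_iSup (fun m : L => X.map (MulAut.conj (m : G)).toMonoidHom) 1)

/-- Transfer of reduced subgroups between groups with the same image modulo the centralizer. -/
theorem PRedIn.transfer {L M V : Subgroup G} (hV : PRedIn p M V) (hVL : V ≤ L)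
    (hLV : L ≤ normalizer (V : Set G))
    (h : M ≤ L ⊔ centralizer (V : Set G)) (h' : L ≤ M ⊔ centralizer (V : Set G)) : PRedIn p L V := by
  refine ⟨hVL, hLV, hV.2.2.1, fun D hDL hLD hD => ?_⟩
  set C := centralizer (V : Set G)
  set K := L ⊔ C
  have hKC : K ≤ normalizer (C : Set G) := sup_le (le_normalizer_centralizer' hLV) le_normalizer
  set E := D ⊔ C
  have hEn : K ≤ normalizer (E : Set G) := by
    refine sup_le (CfsgLib.Comp.le_normalizer_sup hLD (le_normalizer_centralizer' hLV)) ?_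
    exact le_sup_right.trans le_normalizer
  have hmod : PMod p C (M ⊓ E) := by
    intro x hx
    obtain ⟨c, hc, d, hd, rfl⟩ := CfsgLib.Comp.exists_mul_of_mem_sup
      (hDL.trans (le_normalizer_centralizer' hLV)) ((sup_comm D C).le (mem_inf.1 hx).2)
    obtain ⟨k, hk⟩ := hD d hd
    refine ⟨k, ?_⟩
    set N := normalizer (C : Set G)
    have hcM : c ∈ N := le_normalizer hc
    have hdM : d ∈ N := le_normalizer_centralizer' hLV (hDL hd)
    have : (C.subgroupOf N).Normal := normal_subgroupOf_of_le_normalizer le_rfl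
    set π := QuotientGroup.mk' (C.subgroupOf N)
    have e1 : π ((⟨c, hcM⟩ : N) * ⟨d, hdM⟩) = π ⟨d, hdM⟩ := by
      rw [map_mul, show π ⟨c, hcM⟩ = 1 from (QuotientGroup.eq_one_iff _).2 hc, one_mul]
    have e2 : π (((⟨c, hcM⟩ : N) * ⟨d, hdM⟩) ^ p ^ k) = 1 := by
      rw [map_pow, e1, ← map_pow]
      exact (QuotientGroup.eq_one_iff _).2 hk
    exact (QuotientGroup.eq_one_iff (N := C.subgroupOf N) _).1 e2
  have h1 := hV.2.2.2 (M ⊓ E) inf_le_left
    ((le_inf le_normalizer (h.trans hEn)).trans inf_normalizer_le_normalizer_inf) hmod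
  intro d hd
  have hMC : M ≤ normalizer (C : Set G) := h.trans hKC
  obtain ⟨c, hc, m, hm, rfl⟩ := CfsgLib.Comp.exists_mul_of_mem_sup hMC ((sup_comm M C).le (h' (hDL hd)))
  refine mul_mem hc (h1 (mem_inf.2 ⟨hm, ?_⟩))
  have := mul_mem (mem_sup_right (S := D) (inv_mem hc)) (mem_sup_left (T := C) hd)
  rwa [inv_mul_cancel_left] at this

end CfsgLib.Amalgam
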