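import Cfsg.Agent.Lib.Amalgam.PReduced
import Cfsg.Agent.Lib.Amalgam.WeaklyClosed

/-!
`p`-reduced normal subgroups and subnormal subgroups.
-/

set_option autoImplicit false
set_option linter.unusedSectionVars false

namespace CfsgLib.Amalgam

open Cfsg Subgroup
open scoped commutatorElement

variable {G : Type*} [Group G] [Finite G] {p : ℕ} [Fact p.Prime]

theorem IsSylIn.relIndex_not_dvd {L P : Subgroup G} (hP : IsSylIn p L P) : ¬ p ∣ P.relIndex L := by
  intro hd
  have h0 : (P.subgroupOf L).index ≠ 0 := Subgroup.index_ne_zero_of_finite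
  have h3 : Nat.card L = Nat.card P * (P.subgroupOf L).index := by
    rw [← (P.subgroupOf L).card_mul_index, Nat.card_congr (subgroupOfEquivOfLe hP.1).toEquiv]
  have h4 : (Nat.card L).factorization p = _ := congrArg (fun m => Nat.factorization m p) h3
  rw [hP.2.2, Nat.factorization_mul (pow_ne_zero _ (Fact.out : p.Prime).ne_zero) h0,
    Finsupp.add_apply, (Fact.out : p.Prime).factorization_pow, Finsupp.single_eq_same] at h4
  exact absurd ((Fact.out : p.Prime).factorization_pos_of_dvd h0 hd) (by omega)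

/-- recover an element of exponent `p` from a power prime to `p`. -/
theorem mem_of_pow_mem {K : Subgroup G} {x : G} {k : ℕ} (hx : x ^ p = 1) (hk : ¬ p ∣ k)
    (h : x ^ k ∈ K) : x ∈ K := by
  obtain ⟨m, hm⟩ := exists_pow_eq_self_of_coprime (n := k) (x := x)
    (((Fact.out : p.Prime).coprime_iff_not_dvd.2 hk).symm.coprime_dvd_right (orderOf_dvd_of_pow_eq_one hx))
  exact hm ▸ pow_mem h m

theorem pMod_of_coprime_mem {C D : Subgroup G}
    (h : ∀ x ∈ D, (orderOf x).Coprime p → x ∈ C) : PMod p C D := by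
  intro g hg
  obtain ⟨k, m, hm, hkm⟩ :=
    Nat.exists_eq_pow_mul_and_not_dvd (orderOf_pos g).ne' p (Fact.out : p.Prime).ne_one
  refine ⟨k, h _ (pow_mem hg _) ?_⟩
  rw [orderOf_pow' g (pow_ne_zero _ (Fact.out : p.Prime).ne_zero),
    Nat.gcd_eq_right (hkm ▸ Dvd.intro m rfl), hkm,
    Nat.mul_div_cancel_left _ (pow_pos (Fact.out : p.Prime).pos k)]
  exact ((Nat.Prime.coprime_iff_not_dvd Fact.out).2 hm).symm

theorem normalizes_inf {K A B : Subgroup G} (hA : K ≤ normalizer (A : Set G))
    (hB : K ≤ normalizer (B : Set G)) : K ≤ normalizer ((A ⊓ B : Subgroup G) : Set G) :=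
  (le_inf hA hB).trans inf_normalizer_le_normalizer_inf

/-- A normal subgroup of a normal subgroup with `p`-group image centralizes a reduced module. -/
theorem PRedIn.le_centralizer_of_normal {K L V D : Subgroup G} (hV : PRedIn p K V) (hLK : L ≤ K)
    (hKL : K ≤ normalizer (L : Set G)) (hDL : D ≤ L) (hLD : L ≤ normalizer (D : Set G))
    (hD : PMod p (centralizer (V : Set G)) D) : D ≤ centralizer (V : Set G) := by
  set C' := (centralizer (V : Set G)).subgroupOf K
  have hC' : C'.Normal := normal_subgroupOf_of_le_normalizer (le_normalizer_centralizer' hV.2.1)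
  set π := QuotientGroup.mk' C'
  have hπ : Function.Surjective π := QuotientGroup.mk'_surjective _
  set Lb := (L.subgroupOf K).map π
  have hLbn : Lb.Normal := (normal_subgroupOf_of_le_normalizer hKL).map _ hπ
  set P := pCoreOf p Lb
  have hPn : P.Normal := CfsgLib.Comp.normal_of_top_le_normalizer fun q _ => by
    apply CfsgLib.Comp.map_conj_eq_iff.1
    rw [← pCoreOf_map _ (MulAut.conj q).injective,
      CfsgLib.Comp.map_conj_eq_iff.2 (CfsgLib.Comp.le_normalizer_of_normal' Lb ⊤ (mem_top q))]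
  have hDb : (D.subgroupOf K).map π ≤ P := by
    refine CfsgLib.Amalgam.le_pCoreOf (map_mono fun x hx => hDL hx) ?_ ?_
    · refine (map_mono ?_).trans (le_normalizer_map π)
      intro l hl
      refine mem_normalizer_iff.2 fun d => ?_
      exact mem_normalizer_iff.1 (hLD hl) (d : G)
    · rintro ⟨_, y, hy, rfl⟩
      obtain ⟨k, hk⟩ := hD _ hy
      refine ⟨k, Subtype.ext ?_⟩
      simp only [SubmonoidClass.coe_pow, OneMemClass.coe_one]
      rw [← map_pow]
      exact (QuotientGroup.eq_one_iff _).2 hk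
  have hE : (P.comap π).map K.subtype ≤ centralizer (V : Set G) := by
    refine hV.2.2.2 _ (map_subtype_le _) ?_ ?_
    · have := hPn.comap π
      intro l hl
      apply CfsgLib.PLocal.mem_normalizer_map_conj.2
      refine eq_of_le_of_card_ge ?_ (CfsgLib.Coprime.card_map_conj l _).ge
      rintro _ ⟨_, ⟨v, hv, rfl⟩, rfl⟩
      exact ⟨_, this.conj_mem v hv ⟨l, hl⟩, rfl⟩
    · rintro _ ⟨y, hy, rfl⟩
      obtain ⟨k, hk⟩ := (isPGroup_pCoreOf Lb) ⟨π y, hy⟩
      refine ⟨k, ?_⟩
      rw [← map_pow]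
      exact (QuotientGroup.eq_one_iff (N := C') _).1 ((map_pow π y (p ^ k)).trans (congrArg Subtype.val hk))
  intro d hd
  exact hE ⟨⟨d, hLK (hDL hd)⟩, hDb ⟨⟨d, hLK (hDL hd)⟩, hd, rfl⟩, rfl⟩

/-- Intersection of a reduced normal subgroup with a normal subgroup. -/
theorem PRedIn.inf_normal {K L V : Subgroup G} (hV : PRedIn p K V) (hLK : L ≤ K)
    (hKL : K ≤ normalizer (L : Set G)) :
    PRedIn p L (V ⊓ L) ∧ L ⊓ centralizer ((V ⊓ L : Subgroup G) : Set G) = L ⊓ centralizer (V : Set G) := by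
  have hLV := hLK.trans hV.2.1
  have hLW : L ≤ normalizer ((V ⊓ L : Subgroup G) : Set G) := normalizes_inf hLV le_normalizer
  have key : ∀ x ∈ L, (orderOf x).Coprime p → x ∈ centralizer ((V ⊓ L : Subgroup G) : Set G) →
      x ∈ centralizer (V : Set G) := fun x hx hxp hxc =>
    centralizes_of_stabilizes (N := V ⊓ L) inf_le_left (CfsgLib.PLocal.elemAb_isPGroup hV.2.2.1) hxp hxc
      fun v hv => mem_inf.2 ⟨mul_mem ((mem_normalizer_iff.1 (hLV hx) v).1 hv) (inv_mem hv), by
        rw [show x * v * x⁻¹ * v⁻¹ = x * (v * x⁻¹ * v⁻¹) by group]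
        exact mul_mem hx ((mem_normalizer_iff.1 (hKL (hV.1 hv)) _).1 (inv_mem hx))⟩
  have hred : ∀ D : Subgroup G, D ≤ L → L ≤ normalizer (D : Set G) →
      PMod p (centralizer ((V ⊓ L : Subgroup G) : Set G)) D → D ≤ centralizer (V : Set G) := fun D hDL hLD hD =>
    hV.le_centralizer_of_normal hLK hKL hDL hLD
      (pMod_of_coprime_mem fun x hx hxp => key x (hDL hx) hxp (hD.mem_of_coprime hx hxp))
  refine ⟨⟨inf_le_right, hLW, CfsgLib.PLocal.elemAb_mono hV.2.2.1 inf_le_left, fun D hDL hLD hD =>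
    (hred D hDL hLD hD).trans (centralizer_le inf_le_left)⟩, le_antisymm (le_inf inf_le_left ?_)
    (inf_le_inf_left L (centralizer_le inf_le_left))⟩
  exact hred _ inf_le_left (normalizes_inf le_normalizer (le_normalizer_centralizer' hLW))
    fun x hx => ⟨0, by simpa using (mem_inf.1 hx).2⟩

/-- Intersection of a reduced normal subgroup with a subnormal subgroup. -/
theorem pRedIn_inf_subnormal {V L : Subgroup G} (hV : PRedIn p ⊤ V) (hL : L.IsSubnormal) :
    PRedIn p L (V ⊓ L) ∧ L ⊓ centralizer ((V ⊓ L : Subgroup G) : Set G) = L ⊓ centralizer (V : Set G) := by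
  induction hL with
  | top => rw [inf_top_eq]; exact ⟨hV, rfl⟩
  | step L K hle _ hN ih =>
    obtain ⟨h1, h2⟩ := ih
    obtain ⟨h3, h4⟩ := h1.inf_normal hle ((Subgroup.normal_subgroupOf_iff_le_normalizer hle).1 hN)
    rw [inf_assoc, inf_eq_right.2 hle] at h3 h4
    refine ⟨h3, ?_⟩
    rw [h4]
    calc L ⊓ centralizer ((V ⊓ K : Subgroup G) : Set G)
        = L ⊓ (K ⊓ centralizer ((V ⊓ K : Subgroup G) : Set G)) := by rw [← inf_assoc, inf_eq_left.2 hle]
      _ = L ⊓ centralizer (V : Set G) := by rw [h2, ← inf_assoc, inf_eq_left.2 hle]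

/-- `C_L(Y_K) ≤ C_L(Y_L)` for `L` normal in `K`. -/
theorem centralizer_largest_le {K L : Subgroup G} (hLK : L ≤ K) (hKL : K ≤ normalizer (L : Set G)) :
    L ⊓ centralizer (largestPReducedOf p K : Set G) ≤ centralizer (largestPReducedOf p L : Set G) := by
  set YK := largestPReducedOf p K
  set D₀ := L ⊓ centralizer (YK : Set G)
  obtain ⟨hYK, hmaxK⟩ := pRedIn_largest (p := p) K
  obtain ⟨hYL, hmaxL⟩ := pRedIn_largest (p := p) L
  have hLD₀ : L ≤ normalizer (D₀ : Set G) :=
    normalizes_inf le_normalizer (le_normalizer_centralizer' (hLK.trans hYK.2.1))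
  have main : ∀ Z : Subgroup G, Z ≤ K → K ≤ normalizer (Z : Set G) → IsElementaryAbelian p Z →
      (∀ D : Subgroup G, D ≤ L → L ≤ normalizer (D : Set G) → PMod p (centralizer (Z : Set G)) D →
        D ≤ centralizer (Z : Set G)) → D₀ ≤ centralizer (Z : Set G) := by
    intro Z
    induction Z using WellFoundedLT.induction with
    | ind Z ih =>
      intro hZK hKZ hZ hZL
      by_cases hred : ∀ D : Subgroup G, D ≤ K → K ≤ normalizer (D : Set G) →
          PMod p (centralizer (Z : Set G)) D → D ≤ centralizer (Z : Set G)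
      · exact inf_le_right.trans (centralizer_le (hmaxK Z ⟨hZK, hKZ, hZ, hred⟩))
      simp only [not_forall] at hred
      obtain ⟨P, hPK, hKP, hP, hPne⟩ := hred
      obtain ⟨S, hS⟩ := exists_isSylIn (p := p) P
      have hZc : ∀ a ∈ Z, ∀ b ∈ Z, a * b = b * a := fun a ha b hb => CfsgLib.PLocal.elemAb_comm hZ ha hb
      have hcov := pMod_cover (hPK.trans (le_normalizer_centralizer' hKZ)) hP hS
      set Z1 := Z ⊓ centralizer (P : Set G)
      have hS1 : ∀ z ∈ Z, z ∈ centralizer (S : Set G) → z ∈ Z1 := by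
        intro z hz hzS
        refine mem_inf.2 ⟨hz, fun q hq => ?_⟩
        have : P ≤ centralizer ({z} : Set G) := hcov.trans (sup_le
          (fun c hc => mem_centralizer_singleton_iff.2 ((mem_inf.1 hc).1 z hz).symm)
          (fun s hs => mem_centralizer_singleton_iff.2 (hzS s hs)))
        exact mem_centralizer_singleton_iff.1 (this hq)
      have hlt : Z1 < Z := lt_of_le_not_ge inf_le_left fun h =>
        hPne (le_centralizer_iff.1 (h.trans inf_le_right))
      -- `[L, P]` centralizes `Z`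
      have hPL : ∀ x ∈ L, ∀ s ∈ P, ⁅s, x⁆ ∈ centralizer (Z : Set G) := by
        intro x hx s hs
        refine hZL (P ⊓ L) inf_le_right (normalizes_inf (hLK.trans hKP) le_normalizer)
          (pMod_mono hP le_rfl inf_le_left) (mem_inf.2 ⟨?_, ?_⟩)
        · rw [commutatorElement_def, show s * x * s⁻¹ * x⁻¹ = s * (x * s⁻¹ * x⁻¹) by group]
          exact mul_mem hs ((mem_normalizer_iff.1 (hKP (hLK hx)) _).1 (inv_mem hs))
        · rw [commutatorElement_def]
          exact mul_mem ((mem_normalizer_iff.1 (hKL (hPK hs)) x).1 hx) (inv_mem hx)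
      have key : ∀ x ∈ L, (orderOf x).Coprime p → x ∈ centralizer (Z1 : Set G) →
          x ∈ centralizer (Z : Set G) := by
        intro x hx hxp hx1
        set U := Z ⊓ centralizer ({x} : Set G)
        by_contra hne
        have hxZ : ∀ z ∈ Z, x * z * x⁻¹ ∈ Z := fun z hz => (mem_normalizer_iff.1 (hKZ (hLK hx)) z).1 hz
        have hsZ : ∀ s ∈ P, ∀ z ∈ Z, s * z * s⁻¹ ∈ Z := fun s hs z hz =>
          (mem_normalizer_iff.1 (hKZ (hPK hs)) z).1 hz
        -- `s` and `x` commute on `Z`
        have hcom : ∀ s ∈ P, ∀ z ∈ Z, s * (x * z * x⁻¹) * s⁻¹ = x * (s * z * s⁻¹) * x⁻¹ := by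
          intro s hs z hz
          have h1 : x * (s * z * s⁻¹) * x⁻¹ * ⁅s, x⁆ = ⁅s, x⁆ * (x * (s * z * s⁻¹) * x⁻¹) :=
            hPL x hx s hs _ (hxZ _ (hsZ s hs z hz))
          calc s * (x * z * x⁻¹) * s⁻¹ = ⁅s, x⁆ * (x * (s * z * s⁻¹) * x⁻¹) * ⁅s, x⁆⁻¹ := by
                rw [commutatorElement_def]; group
            _ = _ := by rw [← h1, mul_inv_cancel_right]
        have hUn : Z ⊔ S ≤ normalizer (U : Set G) := by
          refine sup_le (fun a ha => ?_) fun s hs => ?_
          · refine CfsgLib.PLocal.mem_normalizer_map_conj.2 (eq_of_le_of_card_ge ?_ (CfsgLib.Coprime.card_map_conj a U).ge)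
            rintro _ ⟨u, hu, rfl⟩
            show a * u * a⁻¹ ∈ U
            rw [hZc a ha u (mem_inf.1 hu).1, mul_inv_cancel_right]; exact hu
          · refine CfsgLib.PLocal.mem_normalizer_map_conj.2 (eq_of_le_of_card_ge ?_ (CfsgLib.Coprime.card_map_conj s U).ge)
            rintro _ ⟨u, hu, rfl⟩
            obtain ⟨hu1, hu2⟩ := mem_inf.1 hu
            refine mem_inf.2 ⟨hsZ s (hS.1 hs) u hu1, mem_centralizer_singleton_iff.2 ?_⟩
            have h2 := hcom s (hS.1 hs) u hu1
            rw [show x * u * x⁻¹ = u by rw [← mem_centralizer_singleton_iff.1 hu2, mul_inv_cancel_right]] at h2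
            show s * u * s⁻¹ * x = x * (s * u * s⁻¹)
            calc s * u * s⁻¹ * x = x * (s * u * s⁻¹) * x⁻¹ * x := by rw [← h2]
              _ = _ := by group
        set K' := Z ⊔ S
        have hK'p : IsPGroup p K' := (CfsgLib.PLocal.elemAb_isPGroup hZ).to_sup_of_normal_left' hS.2.1
          (hS.1.trans (hPK.trans hKZ))
        have : (U.subgroupOf K').Normal := normal_subgroupOf_of_le_normalizer hUn
        have hZn : (Z.subgroupOf K').Normal :=
          normal_subgroupOf_of_le_normalizer (sup_le le_normalizer (hS.1.trans (hPK.trans hKZ)))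
        set π := QuotientGroup.mk' (U.subgroupOf K')
        have hQp : IsPGroup p (K' ⧸ U.subgroupOf K') := hK'p.to_quotient _
        haveI := hQp.isNilpotent
        have := hZn.map π (QuotientGroup.mk'_surjective _)
        have hne' : (Z.subgroupOf K').map π ≠ ⊥ := by
          intro h
          rw [eq_bot_iff, map_le_iff_le_comap, MonoidHom.comap_bot, QuotientGroup.ker_mk'] at h
          exact hne fun z hz => mem_centralizer_singleton_iff.1
            (mem_inf.1 (h (show (⟨z, mem_sup_left hz⟩ : K') ∈ Z.subgroupOf K' from hz))).2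
        obtain ⟨⟨w, hw⟩, hw1⟩ := (Subgroup.ne_bot_iff_exists_ne_one.1
          (CfsgLib.Solvable.normal_inf_center_ne_bot ((Z.subgroupOf K').map π) hne'))
        obtain ⟨⟨z, hz, rfl⟩, hwc⟩ := mem_inf.1 hw
        have hzZ : (z : G) ∈ Z := hz
        set z' := x * (z : G) * x⁻¹ * (z : G)⁻¹
        have hz'Z : z' ∈ Z := mul_mem (hxZ _ hzZ) (inv_mem hzZ)
        have hz'1 : z' ∈ Z1 := by
          refine hS1 z' hz'Z fun s hs => ?_
          have hu : s * (z : G) * s⁻¹ * (z : G)⁻¹ ∈ U := by
            have h1 := mem_center_iff.1 hwc (π ⟨s, mem_sup_right hs⟩)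
            have h2 : π (⟨s, mem_sup_right hs⟩ * z * (⟨s, mem_sup_right hs⟩ : K')⁻¹ * z⁻¹) = 1 := by
              rw [map_mul, map_mul, map_mul, map_inv, map_inv, h1]; group
            exact (QuotientGroup.eq_one_iff (N := U.subgroupOf K') _).1 h2
          obtain ⟨hu1, hu2⟩ := mem_inf.1 hu
          set u := s * (z : G) * s⁻¹ * (z : G)⁻¹ with hu'
          have hsz : s * (z : G) * s⁻¹ = u * z := by rw [hu']; group
          have hux : x * u * x⁻¹ = u := by rw [← mem_centralizer_singleton_iff.1 hu2, mul_inv_cancel_right]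
          have : s * z' * s⁻¹ = z' :=
            calc s * z' * s⁻¹ = s * (x * z * x⁻¹) * s⁻¹ * (s * (z : G) * s⁻¹)⁻¹ := by simp only [z']; group
              _ = (x * u * x⁻¹) * (x * z * x⁻¹) * (u * z)⁻¹ := by rw [hcom s (hS.1 hs) _ hzZ, hsz]; group
              _ = u * z' * u⁻¹ := by rw [hux]; simp only [z']; group
              _ = z' := by rw [hZc u hu1 z' hz'Z, mul_inv_cancel_right]
          exact mul_inv_eq_iff_eq_mul.1 this
        have hfix : x * z' * x⁻¹ = z' := by rw [← hx1 z' hz'1, mul_inv_cancel_right]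
        have hpow : ∀ n : ℕ, x ^ n * z * (x ^ n)⁻¹ = z' ^ n * z := by
          intro n
          induction n with
          | zero => simp
          | succ n ihn =>
            calc x ^ (n + 1) * z * (x ^ (n + 1))⁻¹ = x * (x ^ n * z * (x ^ n)⁻¹) * x⁻¹ := by rw [pow_succ']; group
              _ = (x * z' * x⁻¹) ^ n * (x * z * x⁻¹) := by rw [ihn, conj_pow]; group
              _ = z' ^ (n + 1) * z := by rw [hfix, pow_succ]; simp only [z']; group
        have h1 := hpow (orderOf x)
        rw [pow_orderOf_eq_one, inv_one, mul_one, one_mul] at h1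
        have h2 : z' ^ orderOf x = 1 := by simpa using h1.symm
        have h3 : z' = 1 := eq_one_of_coprime_of_mem (CfsgLib.PLocal.elemAb_isPGroup hZ)
          (Nat.Coprime.coprime_dvd_left (orderOf_dvd_of_pow_eq_one h2) hxp) hz'Z
        apply hw1
        refine Subtype.ext ?_
        refine (QuotientGroup.eq_one_iff _).2 (mem_inf.2 ⟨hzZ, mem_centralizer_singleton_iff.2 ?_⟩)
        exact (mul_inv_eq_iff_eq_mul.1 (mul_inv_eq_one.1 h3)).symm
      have hZ1L : ∀ D : Subgroup G, D ≤ L → L ≤ normalizer (D : Set G) →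
          PMod p (centralizer (Z1 : Set G)) D → D ≤ centralizer (Z : Set G) := fun D hDL hLD hD =>
        hZL D hDL hLD (pMod_of_coprime_mem fun x hx hxp => key x (hDL hx) hxp (hD.mem_of_coprime hx hxp))
      refine hZ1L D₀ inf_le_left hLD₀ fun x hx => ⟨0, ?_⟩
      rw [pow_zero, pow_one]
      exact ih Z1 hlt (inf_le_left.trans hZK)
        (normalizes_inf hKZ (le_normalizer_centralizer' hKP))
        (CfsgLib.PLocal.elemAb_mono hZ inf_le_left)
        (fun D hDL hLD hD => (hZ1L D hDL hLD hD).trans (centralizer_le inf_le_left)) hx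
  refine main _ (hYL.1.trans hLK) ?_ hYL.2.2.1 hYL.2.2.2
  intro k hk
  apply CfsgLib.PLocal.mem_normalizer_map_conj.2
  refine eq_of_le_of_card_ge (hmaxL _ ?_) (CfsgLib.Coprime.card_map_conj k _).ge
  have hL' : L.map (MulAut.conj k).toMonoidHom = L := CfsgLib.Coprime.map_conj_of_mem_normalizer (hKL hk)
  refine ⟨(map_mono hYL.1).trans hL'.le, hL'.ge.trans ((map_mono hYL.2.1).trans (le_normalizer_map _)),
    CfsgLib.PLocal.elemAb_map _ hYL.2.2.1, fun D hDL hLD hD => ?_⟩
  have hk' : k⁻¹ ∈ normalizer (L : Set G) := inv_mem (hKL hk)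
  set D' := D.map (MulAut.conj k⁻¹).toMonoidHom
  have hD'1 : D' ≤ L := (map_mono hDL).trans (CfsgLib.Coprime.map_conj_of_mem_normalizer hk').le
  have hD'2 : L ≤ normalizer (D' : Set G) :=
    (CfsgLib.Coprime.map_conj_of_mem_normalizer hk').ge.trans ((map_mono hLD).trans (le_normalizer_map _))
  have hcz : ∀ d, d ∈ centralizer (((largestPReducedOf p L).map (MulAut.conj k).toMonoidHom : Subgroup G) : Set G) ↔
      k⁻¹ * d * k ∈ centralizer (largestPReducedOf p L : Set G) := by
    intro d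
    constructor
    · intro hd y hy
      have h1 : k * y * k⁻¹ * d = d * (k * y * k⁻¹) := hd _ ⟨y, hy, rfl⟩
      calc y * (k⁻¹ * d * k) = k⁻¹ * (k * y * k⁻¹ * d) * k := by group
        _ = _ := by rw [h1]; group
    · rintro hd _ ⟨y, hy, rfl⟩
      have h1 := hd y hy
      show k * y * k⁻¹ * d = d * (k * y * k⁻¹)
      calc k * y * k⁻¹ * d = k * (y * (k⁻¹ * d * k)) * k⁻¹ := by group
        _ = _ := by rw [h1]; group
  have hD'3 : PMod p (centralizer (largestPReducedOf p L : Set G)) D' := by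
    rintro _ ⟨d, hd, rfl⟩
    obtain ⟨j, hj⟩ := hD d hd
    refine ⟨j, ?_⟩
    rw [← map_pow]
    have := (hcz _).1 hj
    simpa using this
  intro d hd
  exact (hcz d).2 (hYL.2.2.2 D' hD'1 hD'2 hD'3 ⟨d, hd, by simp⟩)

end CfsgLib.Amalgam
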