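import Cfsg.Agent.Lib.Transfer.Frobenius
import Cfsg.Agent.Lib.Solvable.Supersolvable
import Cfsg.Agent.Lib.Solvable.MinNormal
import Cfsg.Agent.Lib.Solvable.Basic
import Cfsg.Agent.Lib.StructB.SuperTower

/-!
# Supersolvability from the orders of subgroups generated by conjugate pairs

If no `⟨x, g x g⁻¹⟩`, `x` a `p`-element and `g` a `q`-element, `p ≠ q`, has order divisible by
`q²`, the group is supersolvable.
-/

set_option autoImplicit false

namespace CfsgLib.Amalgam

open Subgroup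

universe u

/-- The hypothesis. -/
def PairOrder (G : Type u) [Group G] : Prop :=
  ∀ (p q : ℕ), p.Prime → q.Prime → p ≠ q → ∀ (x g : G), (∃ a : ℕ, orderOf x = p ^ a) →
    (∃ b : ℕ, orderOf g = q ^ b) → ¬ q ^ 2 ∣ Nat.card ↥(zpowers x ⊔ zpowers (g * x * g⁻¹))

theorem PairOrder.subgroup {G : Type u} [Group G] (h : PairOrder G) (S : Subgroup G) : PairOrder S := by
  intro p q hp hq hne x g hx hg
  have e : (zpowers x ⊔ zpowers (g * x * g⁻¹)).map S.subtype
      = zpowers (x : G) ⊔ zpowers ((g : G) * x * (g : G)⁻¹) := by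
    rw [Subgroup.map_sup, MonoidHom.map_zpowers, MonoidHom.map_zpowers]; rfl
  rw [← card_map_of_injective S.subtype_injective, e]
  exact h p q hp hq hne x g (by simpa [Subgroup.orderOf_coe] using hx)
    (by simpa [Subgroup.orderOf_coe] using hg)

/-- Prime power elements lift to prime power elements. -/
theorem exists_prime_pow_lift {G G' : Type*} [Group G] [Finite G] [Group G'] (f : G →* G')
    (hf : Function.Surjective f) {p : ℕ} (hp : p.Prime) {y : G'} (hy : ∃ a, orderOf y = p ^ a) :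
    ∃ x : G, f x = y ∧ ∃ a, orderOf x = p ^ a := by
  obtain ⟨x₀, rfl⟩ := hf y
  obtain ⟨a, ha⟩ := hy
  obtain ⟨s, m, hm, hsm⟩ := Nat.exists_eq_pow_mul_and_not_dvd (orderOf_pos x₀).ne' p hp.ne_one
  obtain ⟨t, ht⟩ := exists_pow_eq_self_of_coprime (x := f x₀) (n := m)
    (ha ▸ ((hp.coprime_iff_not_dvd.2 hm).pow_left a).symm)
  refine ⟨(x₀ ^ m) ^ t, by rw [map_pow, map_pow, ht], ?_⟩
  have h1 : ((x₀ ^ m) ^ t) ^ p ^ s = 1 := by
    rw [← pow_mul, ← pow_mul, show m * (t * p ^ s) = (p ^ s * m) * t by ring, pow_mul, ← hsm,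
      pow_orderOf_eq_one, one_pow]
  obtain ⟨l, -, hl⟩ := (Nat.dvd_prime_pow hp).1 (orderOf_dvd_of_pow_eq_one h1)
  exact ⟨l, hl⟩

theorem PairOrder.quotient {G : Type u} [Group G] [Finite G] (h : PairOrder G) (N : Subgroup G)
    [N.Normal] : PairOrder (G ⧸ N) := by
  intro p q hp hq hne y k hy hk hd
  obtain ⟨x, rfl, hx⟩ := exists_prime_pow_lift (QuotientGroup.mk' N) (QuotientGroup.mk'_surjective N) hp hy
  obtain ⟨g, rfl, hg⟩ := exists_prime_pow_lift (QuotientGroup.mk' N) (QuotientGroup.mk'_surjective N) hq hk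
  refine h p q hp hq hne x g hx hg (hd.trans ?_)
  have e : zpowers (QuotientGroup.mk' N x) ⊔ zpowers (QuotientGroup.mk' N g * QuotientGroup.mk' N x * (QuotientGroup.mk' N g)⁻¹)
      = (zpowers x ⊔ zpowers (g * x * g⁻¹)).map (QuotientGroup.mk' N) := by
    rw [Subgroup.map_sup, MonoidHom.map_zpowers, MonoidHom.map_zpowers, map_mul, map_mul, map_inv]
  rw [e]
  exact card_map_dvd _ _

/-- A group all of whose proper subgroups are supersolvable is solvable. -/
theorem isSolvable_of_proper_supersolvable : ∀ (n : ℕ) {G : Type u} [Group G] [Finite G],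
    Nat.card G = n → (∀ H : Subgroup G, H ≠ ⊤ → Cfsg.IsSupersolvable H) → Group.IsSolvable G := by
  intro n
  induction n using Nat.strong_induction_on with
  | _ n ih =>
    intro G _ _ hn h
    rcases subsingleton_or_nontrivial G with hs | hs
    · exact Group.isSolvable_of_comm fun a b => Subsingleton.elim _ _
    set p := (Nat.card G).minFac
    have hc : Nat.card G ≠ 1 := (Finite.one_lt_card (α := G)).ne'
    haveI hp : Fact p.Prime := ⟨Nat.minFac_prime hc⟩
    have hsol : ∀ H : Subgroup G, H ≠ ⊤ → Group.IsSolvable H := fun H hH => by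
      refine ih _ (hn ▸ ?_) rfl fun K _ => CfsgLib.Solvable.isSupersolvable_subgroup (h H hH) K
      exact lt_of_le_of_ne (Nat.card_le_card_of_injective _ H.subtype_injective)
        fun e => hH (eq_top_of_card_eq H e)
    by_cases hnpc : Cfsg.HasNormalPComplement p G
    · obtain ⟨P, N, hN, hc'⟩ := hnpc
      have hNt : N ≠ ⊤ := fun e => by
        have h1 : (P : Subgroup G) = ⊥ := by
          have := hc'.disjoint
          rwa [e, top_disjoint] at this
        exact P.ne_bot_of_dvd_card (Nat.minFac_dvd _) h1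
      haveI := hsol N hNt
      have hq : IsPGroup p (G ⧸ N) :=
        P.2.of_equiv hc'.symm.QuotientMulEquiv.symm
      haveI : Group.IsSolvable (G ⧸ N) := by
        haveI := hq.isNilpotent
        infer_instance
      exact Group.isSolvable_of_ker_le_range N.subtype (QuotientGroup.mk' N) (by simp)
    rw [CfsgLib.Transfer.hasNormalPComplement_iff_frobenius] at hnpc
    push Not at hnpc
    obtain ⟨D, hD, g, hgN, hgp, hgC⟩ := hnpc
    by_cases hND : normalizer (D : Set G) = ⊤
    · haveI : D.Normal := normalizer_eq_top_iff.1 hND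
      have hD1 : D ≠ ⊥ := fun e => hgC (by rw [mem_centralizer_iff]; simp [e])
      haveI : Group.IsSolvable D := by
        haveI := hD.isNilpotent
        infer_instance
      haveI : Group.IsSolvable (G ⧸ D) := by
        refine ih _ (hn ▸ CfsgLib.Solvable.card_quotient_lt hD1) rfl fun K hK => ?_
        have hK' : K.comap (QuotientGroup.mk' D) ≠ ⊤ := fun e => hK (by
          rw [← map_comap_eq_self_of_surjective (QuotientGroup.mk'_surjective D) K, e,
            map_top_of_surjective _ (QuotientGroup.mk'_surjective D)])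
        exact CfsgLib.Solvable.isSupersolvable_of_surjective ((QuotientGroup.mk' D).subgroupComap K)
          (fun ⟨b, hb⟩ => by
            obtain ⟨a, rfl⟩ := QuotientGroup.mk'_surjective D b
            exact ⟨⟨a, hb⟩, rfl⟩) (h _ hK')
      exact Group.isSolvable_of_ker_le_range D.subtype (QuotientGroup.mk' D) (by simp)
    obtain ⟨N, hN, hNc, hNi⟩ := CfsgLib.StructB.exists_tower_of_supersolvable (h _ hND) (p + 1)
    refine absurd (mem_centralizer_iff.2 fun d hd => ?_) hgC
    have hg : (⟨g, hgN⟩ : normalizer (D : Set G)) ∈ N := by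
      refine (CfsgLib.StructB.mem_iff_allGE hNc hNi _).2 fun r hr hrd => ?_
      rw [Subgroup.orderOf_mk] at hrd
      have h1 : p ≤ r := Nat.minFac_le_of_dvd hr.two_le (hrd.trans (orderOf_dvd_natCard g))
      rcases eq_or_lt_of_le h1 with h2 | h2
      · exact absurd (h2 ▸ hrd) ((hp.out.coprime_iff_not_dvd).1 hgp.symm)
      · omega
    set d' : normalizer (D : Set G) := ⟨d, le_normalizer hd⟩
    have h1 : d' * ⟨g, hgN⟩ * d'⁻¹ * (⟨g, hgN⟩ : normalizer (D : Set G))⁻¹ ∈ N :=
      mul_mem (hN.conj_mem _ hg d') (inv_mem hg)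
    have h2 : d * g * d⁻¹ * g⁻¹ ∈ D := by
      have := (mem_normalizer_iff.1 hgN d⁻¹).1 (inv_mem hd)
      simpa [mul_assoc] using mul_mem hd this
    obtain ⟨k, hk⟩ := hD ⟨_, h2⟩
    have h3 := congrArg Subtype.val hk
    simp only [SubgroupClass.coe_pow, OneMemClass.coe_one] at h3
    obtain ⟨l, -, hl⟩ := (Nat.dvd_prime_pow hp.out).1 (orderOf_dvd_of_pow_eq_one h3)
    have h4 := hNc.of_dvd (Subgroup.orderOf_dvd_natCard N h1)
    rw [← Subgroup.orderOf_coe] at h4
    have h5 : orderOf (d * g * d⁻¹ * g⁻¹) = 1 := by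
      rw [hl]
      rcases Nat.eq_zero_or_pos l with rfl | hl0
      · rw [pow_zero]
      · have := h4 p hp.out (show p ∣ orderOf (d * g * d⁻¹ * g⁻¹) from hl ▸ dvd_pow_self p hl0.ne')
        omega
    rw [orderOf_eq_one_iff, mul_inv_eq_one, mul_inv_eq_iff_eq_mul] at h5
    exact h5

section Module

theorem div_zpow_eq {M : Type*} [CommGroup M] (w : M) (i j : ℤ) :
    w ^ ((i - 1) * j) = w ^ (i * j) / w ^ j := by
  rw [sub_mul, one_mul, zpow_sub, div_eq_mul_inv]

variable {M : Type u} [CommGroup M] [Finite M] {q : ℕ} [hq : Fact q.Prime]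

omit [Finite M] in
theorem eigen_congr (hM : ∀ v : M, v ^ q = 1) {w w' : M} (hw : w ≠ 1) (hw' : w' ≠ 1) {i j k : ℤ}
    (e : w ^ i * w' ^ j = (w * w') ^ k) (f : MulAut M) (hi : f w = w ^ i) (hj : f w' = w' ^ j) :
    (i : ZMod q) = j := by
  have hc : ∀ {v : M}, v ≠ 1 → ∀ a b : ℤ, v ^ a = v ^ b ↔ (a : ZMod q) = b := fun {v} hv a b => by
    rw [zpow_eq_zpow_iff_modEq, orderOf_eq_prime (hM v) hv, ZMod.intCast_eq_intCast_iff]
  rw [mul_zpow] at e
  by_cases hik : (i : ZMod q) = k
  · rw [(hc hw i k).2 hik, mul_right_inj] at e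
    rw [hik, (hc hw' j k).1 e]
  obtain ⟨t, ht⟩ : ∃ t : ℤ, w = w' ^ t := by
    haveI : Fact q.Prime := hq
    obtain ⟨y, hy⟩ : ∃ y : ℤ, (((i - k) * y : ℤ) : ZMod q) = 1 :=
      ⟨((((i - k : ℤ) : ZMod q))⁻¹).val, by
        push_cast
        rw [ZMod.natCast_zmod_val, mul_inv_cancel₀ (sub_ne_zero.2 hik)]⟩
    refine ⟨(k - j) * y, ?_⟩
    have e1 : w ^ (i - k) = w' ^ (k - j) := by
      rw [zpow_sub, zpow_sub, ← div_eq_mul_inv, ← div_eq_mul_inv, div_eq_div_iff_mul_eq_mul, e,
        mul_comm]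
    rw [zpow_mul, ← e1, ← zpow_mul]
    exact ((hc hw _ 1).2 (by rw [hy, Int.cast_one])).trans (zpow_one w) |>.symm
  rw [← hc hw, ← hi, ht, map_zpow, hj, ← zpow_mul, ← zpow_mul, mul_comm]

omit [Finite M] hq in
/-- An element acting on every cyclic subgroup acts as one power map. -/
theorem exists_uniform_power [Fact q.Prime] (hM : ∀ v : M, v ^ q = 1) (f : MulAut M)
    (hf : ∀ v, f v ∈ zpowers v) : ∃ k : ℤ, ∀ v, f v = v ^ k := by
  rcases subsingleton_or_nontrivial M with hs | hs
  · exact ⟨1, fun v => Subsingleton.elim _ _⟩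
  obtain ⟨v₀, hv₀⟩ := exists_ne (1 : M)
  obtain ⟨k, hk⟩ := mem_zpowers_iff.1 (hf v₀)
  refine ⟨k, fun v => ?_⟩
  rcases eq_or_ne v 1 with rfl | hv
  · simp
  obtain ⟨i, hi⟩ := mem_zpowers_iff.1 (hf v)
  obtain ⟨l, hl⟩ := mem_zpowers_iff.1 (hf (v * v₀))
  have := eigen_congr hM hv hv₀ (e := show v ^ i * v₀ ^ k = (v * v₀) ^ l by rw [hl, map_mul, hi, hk]) f hi.symm hk.symm
  rw [← hi, zpow_eq_zpow_iff_modEq, orderOf_eq_prime (hM v) hv, ← ZMod.intCast_eq_intCast_iff]
  exact this

omit [Finite M] hq in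
theorem commute_of_mem_zpowers [Fact q.Prime] (hM : ∀ v : M, v ^ q = 1) {f : MulAut M}
    (hf : ∀ v, f v ∈ zpowers v) (g : MulAut M) : f * g = g * f := by
  obtain ⟨k, hk⟩ := exists_uniform_power hM f hf
  ext v
  simp [MulAut.mul_apply, hk]

/-- The irreducible step: the module has prime order. -/
theorem card_eq_prime_of_supersolvable [Nontrivial M] (hM : ∀ v : M, v ^ q = 1)
    (H : Subgroup (MulAut M)) (hH : Cfsg.IsSupersolvable H)
    (hirr : ∀ U : Subgroup M, (∀ h ∈ H, ∀ v ∈ U, h v ∈ U) → U = ⊥ ∨ U = ⊤)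
    (hyp : ∀ h ∈ H, ∀ p : ℕ, p.Prime → p ≠ q → (∃ a, orderOf h = p ^ a) →
      ∀ v : M, h (h v * v⁻¹) ∈ zpowers (h v * v⁻¹)) : Nat.card M = q := by
  have hqp := hq.out
  haveI : Finite (MulAut M) := inferInstance
  -- fixed points
  let Fx : MulAut M → Subgroup M := fun f => f.toMonoidHom.eqLocus (MonoidHom.id M)
  have hFx : ∀ f v, v ∈ Fx f ↔ f v = v := fun f v => Iff.rfl
  have fixed_cases : ∀ f ∈ H, (∀ h ∈ H, h⁻¹ * f * h ∈ zpowers f) → Fx f = ⊥ ∨ f = 1 := by
    intro f hf hnorm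
    rcases hirr (Fx f) (fun h hh v hv => by
        obtain ⟨k, hk⟩ := mem_zpowers_iff.1 (hnorm h hh)
        have h2 : f ^ k ∈ (MulAction.stabilizer (MulAut M) v) :=
          zpow_mem (show f ∈ MulAction.stabilizer (MulAut M) v from hv) k
        rw [hk] at h2
        have h3 : (h⁻¹ * f * h) v = v := h2
        have h4 := congrArg h h3
        rwa [← MulAut.mul_apply, ← mul_assoc, ← mul_assoc, mul_inv_cancel, one_mul, MulAut.mul_apply] at h4) with h1 | h1
    · exact Or.inl h1
    · exact Or.inr (MulEquiv.ext fun v => (hFx f v).1 (h1 ▸ mem_top v))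
  have scalar_of_fpf : ∀ f ∈ H, ∀ p : ℕ, p.Prime → p ≠ q → (∃ a, orderOf f = p ^ a) → Fx f = ⊥ →
      ∀ v, f v ∈ zpowers v := by
    intro f hf p hp hpne hfo hfix v
    let d : M →* M := f.toMonoidHom / MonoidHom.id M
    have hd : Function.Injective d := by
      rw [injective_iff_map_eq_one]
      intro x hx
      exact mem_bot.1 (hfix ▸ (hFx f x).2 (div_eq_one.1 hx))
    obtain ⟨x, rfl⟩ := Finite.surjective_of_injective hd v
    simpa [d, div_eq_mul_inv] using hyp f hf p hp hpne hfo x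
  have no_q : ∀ R : Subgroup H, R.Normal → IsPGroup q R → R = ⊥ := by
    intro R hR hRq
    let R' := R.map H.subtype
    have hR' : IsPGroup q R' := hRq.map _
    let U : Subgroup M := ⨅ f : R', Fx (f : MulAut M)
    have hU : ∀ v, v ∈ U ↔ ∀ f ∈ R', f v = v := fun v => by
      simp only [U, mem_iInf, Subtype.forall, hFx]
    have hdvd : q ∣ Nat.card M := by
      obtain ⟨v, hv⟩ := exists_ne (1 : M)
      exact orderOf_eq_prime (hM v) hv ▸ orderOf_dvd_natCard v
    obtain ⟨b, hb1, hb2⟩ := hR'.exists_fixed_point_of_prime_dvd_card_of_fixed_point (α := M) hdvd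
      (a := 1) (fun f => map_one (f : MulAut M))
    have hinv : ∀ h ∈ H, ∀ v ∈ U, h v ∈ U := fun h hh v hv => (hU _).2 (by
      rintro _ ⟨f, hf, rfl⟩
      have h2 := (hU v).1 hv _ (mem_map_of_mem H.subtype (hR.conj_mem f hf ⟨h, hh⟩⁻¹))
      have h3 := congrArg h h2
      simpa using h3)
    rcases hirr U hinv with h1 | h1
    · exact absurd (mem_bot.1 (h1 ▸ (hU b).2 fun f hf => hb1 ⟨f, hf⟩)).symm hb2
    · rw [eq_bot_iff]
      rintro ⟨f, hf⟩ hfR
      exact mem_bot.2 (Subtype.ext (MulEquiv.ext fun v =>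
        (hU v).1 (h1 ▸ mem_top v) f (mem_map_of_mem H.subtype hfR)))
  have eq_prime_of_all_scalar : (∀ h ∈ H, ∀ v, h v ∈ zpowers v) → Nat.card M = q := by
    intro hall
    obtain ⟨v, hv⟩ := exists_ne (1 : M)
    rcases hirr (zpowers v) (fun h hh w hw => by
        exact (zpowers_le.2 hw) (hall h hh w)) with h1 | h1
    · exact absurd (zpowers_eq_bot.1 h1) hv
    · rw [← card_top (G := M), ← h1, Nat.card_zpowers, orderOf_eq_prime (hM v) hv]
  have central_scalar : ∀ f : H, f ∈ center H → ∀ p : ℕ, p.Prime → (∃ a, orderOf f = p ^ a) →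
      ∀ v, (f : MulAut M) v ∈ zpowers v := by
    intro f hf p hp hfo
    by_cases hpne : p = q
    · have : f = 1 := by
        have hb := no_q (zpowers f) ⟨fun n hn g => by
          rw [(mem_center_iff.1 ((zpowers_le.2 hf) hn) g), mul_inv_cancel_right]; exact hn⟩ (by
          obtain ⟨a, ha⟩ := hfo
          exact IsPGroup.of_card (n := a) (by rw [Nat.card_zpowers, ha, hpne]))
        exact mem_bot.1 (hb ▸ mem_zpowers f)
      intro v
      rw [this]; exact mem_zpowers v
    rcases fixed_cases _ f.2 (fun h hh => by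
        have h2 := congrArg Subtype.val (mem_center_iff.1 hf ⟨h, hh⟩)
        simp only [Subgroup.coe_mul] at h2
        rw [mul_assoc, ← h2, inv_mul_cancel_left]
        exact mem_zpowers _) with h1 | h1
    · exact scalar_of_fpf _ f.2 p hp hpne (by simpa [Subgroup.orderOf_coe] using hfo) h1
    · intro v; rw [h1]; exact mem_zpowers v
  by_cases hab : center H = ⊤
  · apply eq_prime_of_all_scalar
    let S : Subgroup (MulAut M) :=
      { carrier := {f | ∀ v, f v ∈ zpowers v}
        one_mem' := fun v => mem_zpowers v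
        mul_mem' := fun {a b} ha hb v => (zpowers_le.2 (hb v)) (ha (b v))
        inv_mem' := fun {a} ha v => by
          obtain ⟨k, hk⟩ := exists_uniform_power hM a ha
          have h1 : a⁻¹ v ^ k = v := by rw [← hk]; exact MulEquiv.apply_symm_apply a v
          have h2 : a⁻¹ v ^ q = 1 := hM _
          rcases eq_or_ne v 1 with rfl | hv
          · simp
          have h3 : orderOf (a⁻¹ v) = q := orderOf_eq_prime h2 fun e => hv (by rw [← h1, e, one_zpow])
          have h4 : zpowers v = zpowers (a⁻¹ v) := eq_of_le_of_card_ge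
            (zpowers_le.2 (by
              have h5 := zpow_mem (mem_zpowers (a⁻¹ v)) k
              rwa [h1] at h5))
            (by rw [Nat.card_zpowers, Nat.card_zpowers, h3, orderOf_eq_prime (hM v) hv])
          rw [h4]; exact mem_zpowers _ }
    suffices ∀ f : H, (f : MulAut M) ∈ S from fun h hh => this ⟨h, hh⟩
    intro f
    obtain ⟨n, hn⟩ : ∃ n, orderOf f = n := ⟨_, rfl⟩
    induction n using Nat.recOnPrimeCoprime generalizing f with
    | zero => exact absurd hn (orderOf_pos f).ne'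
    | prime_pow p n hp => exact central_scalar f (hab ▸ mem_top f) p hp ⟨n, hn⟩
    | coprime a b ha hb hco iha ihb =>
      have h1 := iha (f ^ b) (by rw [orderOf_pow_of_dvd (by omega) (hn ▸ Dvd.intro_left a rfl), hn,
        Nat.mul_div_cancel _ (by omega)])
      have h2 := ihb (f ^ a) (by rw [orderOf_pow_of_dvd (by omega) (hn ▸ Dvd.intro b rfl), hn,
        Nat.mul_div_cancel_left _ (by omega)])
      have h3 : (f : MulAut M) = ((f : MulAut M) ^ b) ^ Nat.gcdB a b * ((f : MulAut M) ^ a) ^ Nat.gcdA a b := by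
        rw [← zpow_natCast, ← zpow_natCast, ← zpow_mul, ← zpow_mul, ← zpow_add, add_comm,
          ← Nat.gcd_eq_gcd_ab, hco.gcd_eq_one, Nat.cast_one, zpow_one]
      rw [h3]
      simp only [SubgroupClass.coe_pow] at h1 h2
      exact mul_mem (zpow_mem h1 _) (zpow_mem h2 _)
  -- a non-central element with central `p`-th power
  haveI : Nontrivial (H ⧸ center H) := QuotientGroup.nontrivial_iff.2 hab
  obtain ⟨Q, hQn, hQp⟩ := CfsgLib.StructB.exists_normal_prime_of_supersolvable
    (CfsgLib.Solvable.isSupersolvable_of_surjective _ (QuotientGroup.mk'_surjective (center H)) hH)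
  set π := QuotientGroup.mk' (center H)
  have hπ0 : ∀ x : H, π x = 1 ↔ x ∈ center H := fun x => QuotientGroup.eq_one_iff x
  set p := Nat.card Q
  haveI : Fact p.Prime := ⟨hQp⟩
  haveI : Nontrivial Q := Finite.one_lt_card_iff_nontrivial.1 hQp.one_lt
  obtain ⟨y, hy⟩ := exists_ne (1 : Q)
  have hyo : orderOf (y : H ⧸ center H) = p := by
    rw [Subgroup.orderOf_coe]; exact orderOf_eq_prime pow_card_eq_one' hy
  obtain ⟨a, ha, hao⟩ := exists_prime_pow_lift π (QuotientGroup.mk'_surjective _) hQp ⟨1, by rw [hyo, pow_one]⟩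
  have haZ : a ∉ center H := fun h => by
    rw [← hπ0, ha] at h
    exact hy (Subtype.ext h)
  have hQy : ∀ x : H ⧸ center H, x ∈ Q → x ∈ zpowers (π a) := fun x hx => by
    have : zpowers (π a) = Q := eq_of_le_of_card_ge (zpowers_le.2 (ha ▸ y.2))
      (by rw [Nat.card_zpowers, ha, hyo])
    rwa [this]
  let A : Subgroup H := center H ⊔ zpowers a
  have hAmem : ∀ x : H, π x ∈ Q → x ∈ A := by
    intro x hx
    obtain ⟨i, hi⟩ := mem_zpowers_iff.1 (hQy _ hx)
    have : x * (a ^ i)⁻¹ ∈ center H := by rw [← hπ0, map_mul, map_inv, map_zpow, hi, mul_inv_cancel]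
    rw [← inv_mul_cancel_right x (a ^ i)]
    exact mul_mem (mem_sup_left this) (mem_sup_right (zpow_mem (mem_zpowers a) i))
  have hAQ : ∀ x ∈ A, π x ∈ Q := fun x hx => by
    have : A ≤ Q.comap π := sup_le (fun z hz => by
      rw [mem_comap, (hπ0 z).2 hz]; exact one_mem _) (zpowers_le.2 (by rw [mem_comap, ha]; exact y.2))
    exact this hx
  have hAn : A.Normal := ⟨fun x hx g => hAmem _ (by
    rw [map_mul, map_mul, map_inv]; exact hQn.conj_mem _ (hAQ x hx) _)⟩
  have hAc : ∀ x ∈ A, ∀ w ∈ A, Commute x w := by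
    intro x hx w hw
    have hx' := hx
    rw [← SetLike.mem_coe, normal_mul] at hx hw
    obtain ⟨z, hz, _, ⟨i, rfl⟩, rfl⟩ := hx
    obtain ⟨z', hz', _, ⟨j, rfl⟩, rfl⟩ := hw
    have c1 : ∀ s, Commute z s := fun s => (mem_center_iff.1 hz s).symm
    have c2 : ∀ s, Commute z' s := fun s => (mem_center_iff.1 hz' s).symm
    exact (c1 _).mul_left ((c2 _).symm.mul_right ((Commute.refl a).zpow_zpow i j))
  -- the `r`-elements of `A`
  have hpart : ∀ r : ℕ, r.Prime → ∃ R : Subgroup H, R.Normal ∧ IsPGroup r R ∧ R ≤ A ∧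
      ∀ x ∈ A, (∃ k, orderOf x = r ^ k) → x ∈ R := by
    intro r hr
    let R : Subgroup H :=
      { carrier := {x | x ∈ A ∧ ∃ k, x ^ r ^ k = 1}
        one_mem' := ⟨one_mem _, 0, one_pow _⟩
        mul_mem' := fun {x w} ⟨hx, k, hk⟩ ⟨hw, l, hl⟩ => ⟨mul_mem hx hw, k + l, by
          rw [(hAc x hx w hw).mul_pow, pow_add, pow_mul, hk, one_pow, one_mul, mul_comm, pow_mul, hl, one_pow]⟩
        inv_mem' := fun {x} ⟨hx, k, hk⟩ => ⟨inv_mem hx, k, by rw [inv_pow, hk, inv_one]⟩ }
    refine ⟨R, ⟨fun x ⟨hx, k, hk⟩ g => ⟨hAn.conj_mem x hx g, k, by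
      rw [conj_pow, hk, mul_one, mul_inv_cancel]⟩⟩, fun x => ?_, fun x hx => hx.1, fun x hx ⟨k, hk⟩ =>
        ⟨hx, k, by rw [← hk, pow_orderOf_eq_one]⟩⟩
    obtain ⟨-, k, hk⟩ := x.2
    exact ⟨k, Subtype.ext (by simpa using hk)⟩
  have haA : a ∈ A := mem_sup_right (mem_zpowers a)
  have hpq : p ≠ q := by
    intro e
    obtain ⟨R, hRn, hRq, -, hR⟩ := hpart q hqp
    exact haZ (by
      have h1 := hR a haA (e ▸ hao)
      rw [no_q R hRn hRq, mem_bot] at h1
      rw [h1]; exact one_mem _)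
  -- a central element `z` of order `p` without fixed points
  obtain ⟨z, hzc, hzo⟩ : ∃ z : H, z ∈ center H ∧ orderOf z = p := by
    obtain ⟨R, hRn, hRp, hRA, hR⟩ := hpart p hQp
    obtain ⟨T, hTn, hTR, hTp⟩ := CfsgLib.Solvable.exists_normal_prime_le hH (N := R) (fun e =>
      haZ (by
        have h1 := hR a haA hao
        rw [e, mem_bot] at h1
        rw [h1]; exact one_mem _))
    haveI : Nontrivial T := Finite.one_lt_card_iff_nontrivial.1 hTp.one_lt
    obtain ⟨z, hz⟩ := exists_ne (1 : T)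
    have hzo : orderOf z = Nat.card T :=
      @orderOf_eq_prime _ _ _ _ ⟨hTp⟩ pow_card_eq_one' hz
    obtain ⟨k, hk⟩ := hRp ⟨z, hTR z.2⟩
    have h2 : (z : H) ^ p ^ k = 1 := by simpa using congrArg Subtype.val hk
    have hTp' : Nat.card T = p := by
      rw [← hzo, ← Subgroup.orderOf_coe]
      have h3 := orderOf_dvd_of_pow_eq_one h2
      rw [Subgroup.orderOf_coe, hzo] at h3 ⊢
      exact (Nat.prime_dvd_prime_iff_eq hTp hQp).1 (hTp.dvd_of_dvd_pow h3)
    refine ⟨z, ?_, by rw [Subgroup.orderOf_coe, hzo, hTp']⟩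
    have hfix : Fx ((z : H) : MulAut M) = ⊥ := by
      refine (fixed_cases _ (z : H).2 fun h hh => ?_).resolve_right fun e => hz (Subtype.ext (Subtype.ext e))
      have hzT : zpowers (z : H) = T := eq_of_le_of_card_ge (zpowers_le.2 z.2)
        (by rw [Nat.card_zpowers, Subgroup.orderOf_coe, hzo])
      have := hTn.conj_mem _ z.2 (⟨h, hh⟩ : H)⁻¹
      obtain ⟨i, hi⟩ := mem_zpowers_iff.1 (hzT.ge this)
      refine mem_zpowers_iff.2 ⟨i, ?_⟩
      have := congrArg Subtype.val hi
      simpa using this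
    refine mem_center_iff.2 fun g => Subtype.ext ?_
    exact (commute_of_mem_zpowers hM (scalar_of_fpf _ (z : H).2 p hQp hpq
      ⟨1, by rw [Subgroup.orderOf_coe, Subgroup.orderOf_coe, hzo, hTp', pow_one]⟩ hfix) (g : MulAut M)).symm
  have hzfix : ∀ m : ℕ, ¬ p ∣ m → ∀ v : M, ((z : MulAut M) ^ m) v = v → v = 1 := by
    intro m hm v hv
    have hcm : z ^ m ∈ center H := pow_mem hzc m
    rcases fixed_cases ((z : MulAut M) ^ m) (pow_mem z.2 m) (fun h hh => by
        have h2 := congrArg Subtype.val (mem_center_iff.1 hcm ⟨h, hh⟩)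
        simp only [Subgroup.coe_mul, SubgroupClass.coe_pow] at h2
        rw [mul_assoc, ← h2, inv_mul_cancel_left]
        exact mem_zpowers _) with h1 | h1
    · exact mem_bot.1 (h1 ▸ (hFx _ v).2 hv)
    · rw [← SubgroupClass.coe_pow] at h1
      exact absurd (hzo ▸ orderOf_dvd_of_pow_eq_one (Subtype.ext h1 : z ^ m = 1)) hm
  have hzs : ∀ v, (z : MulAut M) v ∈ zpowers v := central_scalar z hzc p hQp ⟨1, by rw [hzo, pow_one]⟩
  -- non-central `p`-elements fix a vector
  have hfixv : ∀ x : H, x ∉ center H → (∃ k, orderOf x = p ^ k) → ∃ v : M, v ≠ 1 ∧ (x : MulAut M) v = v := by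
    intro x hx hxo
    by_contra! hall
    refine hx (mem_center_iff.2 fun g => Subtype.ext ?_)
    refine (commute_of_mem_zpowers hM (scalar_of_fpf _ x.2 p hQp hpq
      (by simpa [Subgroup.orderOf_coe] using hxo) ?_) (g : MulAut M)).symm
    rw [eq_bot_iff]
    intro v hv
    exact mem_bot.2 (by_contra fun h => hall v h hv)
  obtain ⟨v, hv1, hav⟩ := hfixv a haZ hao
  have hap : a ^ p = 1 := by
    have hc : a ^ p ∈ center H := by
      rw [← hπ0, map_pow, ha, ← hyo, pow_orderOf_eq_one]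
    rcases fixed_cases (((a ^ p : H)) : MulAut M) (a ^ p).2 (fun h hh => by
        have h2 := congrArg Subtype.val (mem_center_iff.1 hc ⟨h, hh⟩)
        simp only [Subgroup.coe_mul] at h2
        rw [mul_assoc, ← h2, inv_mul_cancel_left]
        exact mem_zpowers _) with h1 | h1
    · refine absurd (mem_bot.1 (h1 ▸ (hFx _ v).2 ?_)) hv1
      have : (a : MulAut M) ∈ MulAction.stabilizer (MulAut M) v := hav
      exact pow_mem this p
    · exact Subtype.ext h1
  -- eigenvectors of `a` for the powers of `z`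
  have heig : ∀ m : ℕ, ¬ p ∣ m → ∃ w : M, w ≠ 1 ∧ (z : MulAut M) ^ m • ((a : MulAut M) w) = w := by
    intro m hm
    obtain ⟨w, hw, hw'⟩ := hfixv (z ^ m * a) (fun hc => haZ (by
      simpa using mul_mem (inv_mem (pow_mem hzc m)) hc)) (by
      have h1 : (z ^ m * a) ^ p = 1 := by
        rw [(show Commute (z ^ m) a from (mem_center_iff.1 (pow_mem hzc m) a).symm).mul_pow, hap, mul_one,
          ← pow_mul, mul_comm, pow_mul, ← hzo, pow_orderOf_eq_one, one_pow]
      obtain ⟨l, -, hl⟩ := (Nat.dvd_prime_pow hQp).1 (show orderOf (z ^ m * a) ∣ p ^ 1 from by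
        rw [pow_one]; exact orderOf_dvd_of_pow_eq_one h1)
      exact ⟨l, hl⟩)
    exact ⟨w, hw, by simpa [MulAut.mul_apply, MulAut.smul_def] using hw'⟩
  obtain ⟨c₀, hc₀⟩ := exists_uniform_power hM _ hzs
  have hzpow : ∀ m : ℕ, ∀ u : M, ((z : MulAut M) ^ m) u = u ^ (c₀ ^ m) := by
    intro m
    induction m with
    | zero => simp
    | succ m ih => intro u; rw [pow_succ', MulAut.mul_apply, ih, hc₀, ← zpow_mul, ← pow_succ]
  have himg : ∀ m : ℕ, ¬ p ∣ m → ∀ w : M, (z : MulAut M) ^ m • ((a : MulAut M) w) = w →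
      ∃ i : ℤ, (a : MulAut M) w = w ^ i ∧ ((i * c₀ ^ m : ℤ) : ZMod q) = 1 ∨ w = 1 := by
    intro m hm w hw
    rw [MulAut.smul_def, hzpow] at hw
    rcases eq_or_ne w 1 with h | h
    · exact ⟨0, Or.inr h⟩
    haveI : Fact q.Prime := hq
    have hne : ((c₀ ^ m : ℤ) : ZMod q) ≠ 0 := by
      intro e
      rw [ZMod.intCast_zmod_eq_zero_iff_dvd] at e
      obtain ⟨d, hd⟩ := e
      rw [hd, zpow_mul, zpow_natCast, hM, one_zpow] at hw
      exact h hw.symm
    obtain ⟨i, hi⟩ : ∃ i : ℤ, ((i * c₀ ^ m : ℤ) : ZMod q) = 1 :=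
      ⟨((((c₀ ^ m : ℤ) : ZMod q))⁻¹).val, by
        rw [Int.cast_mul, Int.cast_natCast, ZMod.natCast_zmod_val, inv_mul_cancel₀ hne]⟩
    refine ⟨i, Or.inl ⟨?_, hi⟩⟩
    have h0 : (a : MulAut M) w ≠ 1 := fun e => h ((map_eq_one_iff _ (MulEquiv.injective _)).1 e)
    calc (a : MulAut M) w = ((a : MulAut M) w) ^ (i * c₀ ^ m) := by
          conv_lhs => rw [← zpow_one ((a : MulAut M) w)]
          rw [zpow_eq_zpow_iff_modEq, orderOf_eq_prime (hM _) h0, ← ZMod.intCast_eq_intCast_iff, hi, Int.cast_one]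
      _ = w ^ i := by rw [mul_comm, zpow_mul, hw]
  have hinimg : ∀ m : ℕ, ¬ p ∣ m → ∀ w : M, w ≠ 1 → ∀ i : ℤ, (a : MulAut M) w = w ^ i →
      ((i * c₀ ^ m : ℤ) : ZMod q) = 1 →
      w ∈ ((a : MulAut M).toMonoidHom / MonoidHom.id M).range := by
    intro m hm w hw i hi hic
    have h1 : ((i - 1 : ℤ) : ZMod q) ≠ 0 := by
      intro e
      rw [Int.cast_sub, Int.cast_one, sub_eq_zero] at e
      rw [Int.cast_mul, e, one_mul] at hic
      refine hw (hzfix m hm w ?_)
      rw [hzpow]
      conv_rhs => rw [← zpow_one w]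
      rw [zpow_eq_zpow_iff_modEq, orderOf_eq_prime (hM _) hw, ← ZMod.intCast_eq_intCast_iff, hic, Int.cast_one]
    haveI : Fact q.Prime := hq
    obtain ⟨j, hj⟩ : ∃ j : ℤ, (((i - 1) * j : ℤ) : ZMod q) = 1 :=
      ⟨((((i - 1 : ℤ) : ZMod q))⁻¹).val, by
        rw [Int.cast_mul, Int.cast_natCast, ZMod.natCast_zmod_val, mul_inv_cancel₀ h1]⟩
    refine ⟨w ^ j, ?_⟩
    show (a : MulAut M) (w ^ j) / w ^ j = w
    rw [map_zpow, hi, ← zpow_mul, ← div_zpow_eq w i j]
    conv_rhs => rw [← zpow_one w]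
    rw [zpow_eq_zpow_iff_modEq, orderOf_eq_prime (hM _) hw, ← ZMod.intCast_eq_intCast_iff, hj, Int.cast_one]
  have hp2 : p = 2 := by
    by_contra hne
    have hp3 : 3 ≤ p := by have := hQp.two_le; omega
    have h1 : ¬ p ∣ 1 := hQp.not_dvd_one
    have h2 : ¬ p ∣ 2 := fun h => by have := Nat.le_of_dvd two_pos h; omega
    obtain ⟨w, hw, hw'⟩ := heig 1 h1
    obtain ⟨w', hw2, hw2'⟩ := heig 2 h2
    obtain ⟨i, hi | hi⟩ := himg 1 h1 w hw'
    swap; · exact hw hi
    obtain ⟨j, hj | hj⟩ := himg 2 h2 w' hw2'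
    swap; · exact hw2 hj
    obtain ⟨n, hn⟩ := mul_mem (hinimg 1 h1 w hw i hi.1 hi.2) (hinimg 2 h2 w' hw2 j hj.1 hj.2)
    have h3 : (a : MulAut M) (w * w') ∈ zpowers (w * w') := by
      rw [← hn]
      simpa [div_eq_mul_inv] using hyp _ a.2 p hQp hpq (by simpa [Subgroup.orderOf_coe] using hao) n
    obtain ⟨k, hk⟩ := mem_zpowers_iff.1 h3
    have h4 : (i : ZMod q) = j :=
      eigen_congr hM hw hw2 (e := show w ^ i * w' ^ j = (w * w') ^ k by rw [hk, map_mul, hi.1, hj.1]) _ hi.1 hj.1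
    have h5 := hi.2
    have h6 := hj.2
    simp only [Int.cast_mul, Int.cast_pow, h4, pow_one] at h5 h6
    rw [pow_two, ← mul_assoc, h5, one_mul] at h6
    refine hw (hzfix 1 h1 w ?_)
    rw [hzpow, pow_one]
    conv_rhs => rw [← zpow_one w]
    rw [zpow_eq_zpow_iff_modEq, orderOf_eq_prime (hM _) hw, ← ZMod.intCast_eq_intCast_iff, h6, Int.cast_one]
  have hq2 : q ≠ 2 := fun e => hpq (hp2.trans e.symm)
  have hz2 : ∀ u : M, (z : MulAut M) ((z : MulAut M) u) = u := fun u => by
    have h1 : z ^ 2 = 1 := by rw [← hp2, ← hzo, pow_orderOf_eq_one]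
    have := congrArg (fun f : H => (f : MulAut M) u) h1
    simpa [pow_two, MulAut.mul_apply] using this
  have hzinv : ∀ u : M, (z : MulAut M) u = u⁻¹ := by
    intro u
    have h1 := hzfix 1 (hp2 ▸ by norm_num) (u * (z : MulAut M) u) (by
      rw [pow_one, map_mul, hz2, mul_comm])
    exact eq_inv_of_mul_eq_one_right h1
  have hsq : ∀ u : M, u * u = 1 → u = 1 := fun u hu => by
    have h1 := Nat.dvd_gcd (orderOf_dvd_of_pow_eq_one (hM u)) (orderOf_dvd_of_pow_eq_one (n := 2) (by rw [pow_two, hu]))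
    rw [(Nat.coprime_primes hqp Nat.prime_two).2 hq2, Nat.dvd_one] at h1
    exact orderOf_eq_one_iff.1 h1
  have haa : a * a = 1 := by rw [← pow_two, ← hp2, hap]
  -- every conjugate of `a` is `a` or `a * z`
  have hconj : ∀ g : H, g * a * g⁻¹ = a ∨ g * a * g⁻¹ = a * z := by
    intro g
    set b := g * a * g⁻¹ with hb
    have hbA : b ∈ A := hAn.conj_mem a haA g
    have hb2 : b * b = 1 := by
      rw [hb, show g * a * g⁻¹ * (g * a * g⁻¹) = g * (a * a) * g⁻¹ by simp [mul_assoc], haa, mul_one,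
        mul_inv_cancel]
    have hcZ : a * b ∈ center H := by
      rw [← hπ0, map_mul]
      have h1 : π b ∈ zpowers (π a) := hQy _ (hAQ b hbA)
      have h2 : π b ≠ 1 := fun e => haZ (by
        rw [hπ0] at e
        have h3 : g⁻¹ * b * g⁻¹⁻¹ ∈ center H := Subgroup.Normal.conj_mem inferInstance b e g⁻¹
        rw [hb] at h3
        simpa [mul_assoc] using h3)
      obtain ⟨i, hi⟩ := mem_zpowers_iff.1 h1
      rcases Int.even_or_odd' i with ⟨l, rfl | rfl⟩
      · refine absurd ?_ h2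
        rw [← hi, zpow_mul, zpow_ofNat, pow_two, ← map_mul, haa, map_one, one_zpow]
      · rw [← hi, zpow_add, zpow_mul, zpow_ofNat, pow_two, ← map_mul π a a, haa, map_one, one_zpow,
          one_mul, zpow_one, ← map_mul, haa, map_one]
    have hc2 : (a * b) ^ 2 = 1 := by
      rw [(hAc a haA b hbA).mul_pow, pow_two, pow_two, haa, hb2, one_mul]
    by_cases hc1 : a * b = 1
    · left
      rw [← inv_mul_cancel_left a b, hc1, mul_one]
      exact inv_eq_of_mul_eq_one_right haa
    right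
    have hcz : a * b = z := by
      have hcs := central_scalar _ hcZ p hQp ⟨1, by rw [pow_one, hp2]; exact orderOf_eq_prime hc2 hc1⟩
      obtain ⟨k, hk⟩ := exists_uniform_power hM _ hcs
      refine Subtype.ext (MulEquiv.ext fun u => ?_)
      rw [hzinv]
      have h1 : (((a * b : H) : MulAut M)) (u * ((a * b : H) : MulAut M) u) = u * ((a * b : H) : MulAut M) u := by
        have h2 : ((a * b : H) : MulAut M) (((a * b : H) : MulAut M) u) = u := by
          have := congrArg (fun f : H => (f : MulAut M) u) hc2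
          simpa [pow_two, MulAut.mul_apply] using this
        rw [map_mul, h2, mul_comm]
      rcases fixed_cases _ (a * b).2 (fun h hh => by
          have h4 := congrArg Subtype.val (mem_center_iff.1 hcZ ⟨h, hh⟩)
          simp only [Subgroup.coe_mul] at h4 ⊢
          rw [mul_assoc, ← h4, inv_mul_cancel_left]
          exact mem_zpowers _) with h3 | h3
      · exact eq_inv_of_mul_eq_one_right (mem_bot.1 (h3 ▸ (hFx _ _).2 h1))
      · exact absurd (Subtype.ext h3) hc1
    rw [← inv_mul_cancel_left a b, hcz, inv_eq_of_mul_eq_one_right haa]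
  obtain ⟨g, hg⟩ : ∃ g : H, g * a * g⁻¹ = a * z := by
    by_contra! hall
    exact haZ (mem_center_iff.2 fun g => mul_inv_eq_iff_eq_mul.1 ((hconj g).resolve_right (hall g)))
  have hzz : z * z = 1 := by rw [← pow_two, ← hp2, ← hzo, pow_orderOf_eq_one]
  -- a `2`-element interchanging the two eigenspaces
  obtain ⟨s, m, hm, hsm⟩ := Nat.exists_eq_pow_mul_and_not_dvd (orderOf_pos g).ne' 2 (by norm_num)
  obtain ⟨h, hh, hho⟩ : ∃ h : H, h * a * h⁻¹ = a * z ∧ ∃ l, orderOf h = p ^ l := by
    refine ⟨g ^ m, ?_, ?_⟩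
    · have key : ∀ i : ℕ, g ^ i * a * (g ^ i)⁻¹ = a * z ^ i := by
        intro i
        induction i with
        | zero => simp
        | succ i ih =>
          rw [pow_succ', mul_inv_rev, show g * g ^ i * a * ((g ^ i)⁻¹ * g⁻¹) = g * (g ^ i * a * (g ^ i)⁻¹) * g⁻¹ by
            simp [mul_assoc], ih, show g * (a * z ^ i) * g⁻¹ = (g * a * g⁻¹) * (g * z ^ i * g⁻¹) by simp [mul_assoc],
            hg, mem_center_iff.1 (pow_mem hzc i) g, mul_inv_cancel_right, mul_assoc, ← pow_succ']
      rw [key]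
      obtain ⟨l, rfl⟩ : ∃ l, m = 2 * l + 1 := ⟨m / 2, by omega⟩
      rw [pow_succ, pow_mul, pow_two, hzz, one_pow, one_mul]
    · have h1 : (g ^ m) ^ (p ^ s) = 1 := by
        rw [← pow_mul, mul_comm, hp2, ← hsm, pow_orderOf_eq_one]
      obtain ⟨l, -, hl⟩ := (Nat.dvd_prime_pow hQp).1 (orderOf_dvd_of_pow_eq_one h1)
      exact ⟨l, hl⟩
  have key : ∀ h : H, h * a * h⁻¹ = a * z → (∃ l, orderOf h = p ^ l) →
      (h : MulAut M) ((h : MulAut M) v) = v := by
    intro h hh hho
    have hah : ∀ u, (a : MulAut M) ((h : MulAut M) u) = (h : MulAut M) (((a : MulAut M) u)⁻¹) := by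
      intro u
      have h2 : a * h = h * (z * a) := by
        have h3 := mul_inv_eq_iff_eq_mul.1 hh
        have h4 : a * z * h = a * (h * z) := by rw [mul_assoc, mem_center_iff.1 hzc h]
        rw [h4] at h3
        rw [mem_center_iff.1 hzc a |>.symm, ← mul_assoc, h3, mul_assoc a, mul_assoc h, hzz, mul_one]
      have h5 := congrArg (fun f : H => (f : MulAut M) u) h2
      simpa [MulAut.mul_apply, hzinv] using h5
    set w := (h : MulAut M) v with hw
    have haw : (a : MulAut M) w = w⁻¹ := by rw [hw, hah, hav, map_inv]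
    set y := (h : MulAut M) w with hy
    have hay : (a : MulAut M) y = y := by rw [hy, hah, haw, inv_inv]
    obtain ⟨c, hc⟩ := mem_zpowers_iff.1 (hyp _ h.2 p hQp hpq (by simpa [Subgroup.orderOf_coe] using hho) v)
    rw [map_mul, map_inv, ← hw, ← hy] at hc
    have hc' := congrArg (a : MulAut M) hc
    simp only [map_mul, map_inv, map_zpow, hav, haw, hay, inv_inv] at hc'
    -- `hc : (w v⁻¹)^c = y w⁻¹`, `hc' : (w⁻¹ v⁻¹)^c = y w`
    have hy2 : y = v ^ (-c) := by
      have h1 : (y * v ^ c) * (y * v ^ c) = 1 := by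
        have h2 : (y * w⁻¹) * (y * w) = (w * v⁻¹) ^ c * (w⁻¹ * v⁻¹) ^ c := by rw [hc, hc']
        rw [← mul_zpow, show w * v⁻¹ * (w⁻¹ * v⁻¹) = v⁻¹ * v⁻¹ by
          rw [mul_mul_mul_comm, mul_inv_cancel, one_mul], mul_zpow, inv_zpow,
          show y * w⁻¹ * (y * w) = y * y by rw [mul_mul_mul_comm, inv_mul_cancel, mul_one]] at h2
        rw [mul_mul_mul_comm, h2, mul_mul_mul_comm, inv_mul_cancel, one_mul]
      rw [zpow_neg]
      exact eq_inv_of_mul_eq_one_left (hsq _ h1)
    have hwc : w ^ (c + 1) = 1 := by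
      rw [mul_zpow, inv_zpow, ← zpow_neg, ← hy2, mul_comm] at hc
      rw [zpow_add, zpow_one, mul_left_cancel hc, inv_mul_cancel]
    have hw1 : w ≠ 1 := fun e => hv1 ((map_eq_one_iff _ (MulEquiv.injective _)).1 e)
    have hd : (q : ℤ) ∣ c + 1 := by
      have := orderOf_dvd_iff_zpow_eq_one.2 hwc
      rwa [orderOf_eq_prime (hM w) hw1] at this
    obtain ⟨d, hd⟩ := hd
    rw [hy2, show -c = 1 + (q : ℤ) * (-d) by rw [mul_neg, ← hd]; ring, zpow_add, zpow_one, zpow_mul,
      zpow_natCast, hM, one_zpow, mul_one]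
  have h1 := key h hh hho
  have hha : (h * a) * a * (h * a)⁻¹ = a * z := by
    rw [mul_inv_rev, show h * a * a * (a⁻¹ * h⁻¹) = h * a * h⁻¹ by simp [mul_assoc], hh]
  have hho' : ∃ l, orderOf (h * a) = p ^ l := by
    have hzh : Commute z h := (mem_center_iff.1 hzc h).symm
    have e2 : (h * a) * (h * a) = (h * h) * z := by
      have h3 : a * h = h * (z * a) := by
        have h4 := mul_inv_eq_iff_eq_mul.1 hh
        rw [mul_assoc a z h, hzh.eq] at h4
        rw [mem_center_iff.1 hzc a |>.symm, ← mul_assoc, h4, mul_assoc a, mul_assoc h, hzz, mul_one]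
      rw [mul_assoc h a, ← mul_assoc a h a, h3, mul_assoc h (z * a) a, mul_assoc z a a, haa, mul_one,
        ← mul_assoc]
    obtain ⟨l, hl⟩ := hho
    have h5 : (h * a) ^ (2 * p ^ (l + 1)) = 1 := by
      rw [pow_mul, pow_two, e2, ((hzh.mul_right hzh).symm).mul_pow, ← pow_two, ← pow_mul, pow_succ,
        show 2 * (p ^ l * p) = p ^ l * (2 * p) by ring, pow_mul h, ← hl, pow_orderOf_eq_one, one_pow,
        one_mul, mul_comm, pow_mul, ← hzo, pow_orderOf_eq_one, one_pow]
    obtain ⟨i, -, hi⟩ := (Nat.dvd_prime_pow hQp).1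
      (show orderOf (h * a) ∣ p ^ (l + 2) by
        refine orderOf_dvd_of_pow_eq_one ?_
        rw [show l + 2 = (l + 1) + 1 by rfl, pow_succ' p (l + 1)]
        nth_rewrite 1 [hp2]
        exact h5)
    exact ⟨i, hi⟩
  have h2 := key (h * a) hha hho'
  rw [Subgroup.coe_mul, MulAut.mul_apply, MulAut.mul_apply, hav] at h2
  have h3 : (a : MulAut M) ((h : MulAut M) v) = ((h : MulAut M) v)⁻¹ := by
    have h4 : a * h = h * (z * a) := by
      have h5 := mul_inv_eq_iff_eq_mul.1 hh
      rw [mul_assoc a z h, (mem_center_iff.1 hzc h).symm] at h5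
      rw [mem_center_iff.1 hzc a |>.symm, ← mul_assoc, h5, mul_assoc a, mul_assoc h, hzz, mul_one]
    have h6 := congrArg (fun f : H => (f : MulAut M) v) h4
    simpa [MulAut.mul_apply, hzinv, hav] using h6
  rw [h3, map_inv, h1] at h2
  exact absurd (hsq v (by nth_rewrite 1 [← h2]; exact inv_mul_cancel v)) hv1

end Module

/-- **Supersolvability criterion.** -/
theorem isSupersolvable_of_pairOrder : ∀ (n : ℕ) {G : Type u} [Group G] [Finite G],
    Nat.card G = n → PairOrder G → Cfsg.IsSupersolvable G := by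
  intro n
  induction n using Nat.strong_induction_on with
  | _ n ih =>
    intro G _ _ hn h
    rcases subsingleton_or_nontrivial G with hs | hs
    · exact CfsgLib.Solvable.isSupersolvable_of_subsingleton G
    haveI : Group.IsSolvable G := isSolvable_of_proper_supersolvable _ rfl fun H hH =>
      ih _ (hn ▸ lt_of_le_of_ne (Nat.card_le_card_of_injective _ H.subtype_injective)
        fun e => hH (eq_top_of_card_eq H e)) rfl (h.subgroup H)
    obtain ⟨N, hN, hN1, hmin⟩ := CfsgLib.Solvable.exists_minimal_normal (G := G)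
    obtain ⟨q, hq, hNq, hNe, hNc⟩ := CfsgLib.Solvable.exists_isPGroup_of_minimal_normal hN1 hmin
    haveI : Fact q.Prime := ⟨hq⟩
    have hGN : Cfsg.IsSupersolvable (G ⧸ N) :=
      ih _ (hn ▸ CfsgLib.Solvable.card_quotient_lt hN1) rfl (h.quotient N)
    suffices hcard : Nat.card N = q by
      haveI := CfsgLib.Solvable.isCyclic_of_card_prime (hcard ▸ hq)
      exact CfsgLib.Solvable.isSupersolvable_of_cyclic_normal N hGN
    let _ : CommGroup N := { (inferInstance : Group N) with mul_comm := hNc.is_comm.comm }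
    haveI : Nontrivial N := N.nontrivial_iff_ne_bot.2 hN1
    let φ : G →* MulAut N := MulAut.conjNormal
    have hφ : ∀ (g : G) (v : N), ((φ g v : N) : G) = g * v * g⁻¹ := fun g v => MulAut.conjNormal_apply g v
    have hker : N ≤ φ.rangeRestrict.ker := fun a ha => by
      rw [MonoidHom.ker_rangeRestrict, MonoidHom.mem_ker]
      refine MulEquiv.ext fun v => Subtype.ext ?_
      have hc := congrArg Subtype.val (hNc.is_comm.comm ⟨a, ha⟩ v)
      simp only [Subgroup.coe_mul] at hc
      rw [hφ, hc, mul_inv_cancel_right]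
      rfl
    refine card_eq_prime_of_supersolvable (M := N) (fun v => Subtype.ext (by simpa using hNe v v.2)) φ.range
      (CfsgLib.Solvable.isSupersolvable_of_surjective (QuotientGroup.lift N φ.rangeRestrict hker)
        (QuotientGroup.lift_surjective_of_surjective N _ φ.rangeRestrict_surjective hker) hGN) ?_ ?_
    · intro U hU
      have hUn : (U.map N.subtype).Normal := ⟨by
        rintro _ ⟨v, hv, rfl⟩ g
        exact ⟨φ g v, hU _ ⟨g, rfl⟩ v hv, hφ g v⟩⟩
      rcases hmin _ hUn (map_subtype_le U) with h1 | h1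
      · exact Or.inl ((map_eq_bot_iff_of_injective _ N.subtype_injective).1 h1)
      · exact Or.inr (map_injective N.subtype_injective (by rw [h1, ← MonoidHom.range_eq_map, N.range_subtype]))
    · intro f hf p hp hpq hfo v
      obtain ⟨x, hx, hxo⟩ := exists_prime_pow_lift φ.rangeRestrict φ.rangeRestrict_surjective hp
        (y := ⟨f, hf⟩) (by simpa [← Subgroup.orderOf_coe] using hfo)
      obtain rfl : φ x = f := congrArg Subtype.val hx
      set u := φ x v * v⁻¹ with hu
      set K := zpowers x ⊔ zpowers ((v : G) * x * (v : G)⁻¹) with hK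
      have hxK : x ∈ K := mem_sup_left (mem_zpowers x)
      have huK : (u : G) ∈ K := by
        have h1 : (v : G) * x * (v : G)⁻¹ ∈ K := mem_sup_right (mem_zpowers _)
        have h2 := mul_mem hxK (inv_mem h1)
        rw [hu, Subgroup.coe_mul, hφ, InvMemClass.coe_inv]
        simpa [mul_assoc] using h2
      have huK' : ((φ x u : N) : G) ∈ K := by
        rw [hφ]; exact mul_mem (mul_mem hxK huK) (inv_mem hxK)
      by_contra hu'
      have hu1 : u ≠ 1 := fun e => hu' (by rw [e, map_one]; exact one_mem _)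
      set V : Subgroup N := zpowers u ⊔ zpowers (φ x u)
      have hlt : zpowers u < V := lt_of_le_of_ne le_sup_left fun e => hu' (e ▸ mem_sup_right (mem_zpowers _))
      have hVq : IsPGroup q V := hNq.to_subgroup V
      obtain ⟨j, hj⟩ := hVq.exists_card_eq
      have huo : Nat.card (zpowers u) = q := by
        rw [Nat.card_zpowers]; exact orderOf_eq_prime (Subtype.ext (by simpa using hNe u u.2)) hu1
      have hj2 : 2 ≤ j := by
        by_contra hj2
        refine hlt.ne (eq_of_le_of_card_ge hlt.le ?_)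
        rw [hj, huo]
        exact le_trans (Nat.pow_le_pow_right hq.pos (show j ≤ 1 by omega)) (pow_one q).le
      have hVK : V.map N.subtype ≤ K := by
        rw [Subgroup.map_le_iff_le_comap]
        exact sup_le (zpowers_le.2 huK) (zpowers_le.2 huK')
      obtain ⟨b, hb⟩ := hNq v
      obtain ⟨b', -, hb'⟩ := (Nat.dvd_prime_pow hq).1 (orderOf_dvd_of_pow_eq_one
        (show (v : G) ^ q ^ b = 1 by simpa using congrArg Subtype.val hb))
      refine h p q hp hq hpq x v hxo ⟨b', hb'⟩ (dvd_trans ?_ (card_dvd_of_le hVK))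
      rw [card_map_of_injective N.subtype_injective, hj]
      exact pow_dvd_pow q hj2

end CfsgLib.Amalgam
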