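import Cfsg.Prelude.Def_LocalStructure
import Cfsg.Agent.Lib.Coprime.Basic
import Cfsg.Agent.Lib.PLocal.Sylow
import Cfsg.Agent.Lib.Transfer.Frobenius

/-!
The weak closure of a subgroup in another, and Sylow subgroups of subgroups as subgroups of the
ambient group.
-/

set_option autoImplicit false
set_option linter.unusedSectionVars false

namespace CfsgLib.Amalgam

open Cfsg Subgroup

variable {G : Type*} [Group G] [Finite G]

theorem weakClosure_le (A P : Subgroup G) : weakClosure A P ≤ P := iSup_le fun g => g.2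

theorem conj_le_weakClosure {A P : Subgroup G} {g : G}
    (h : A.map (MulAut.conj g).toMonoidHom ≤ P) :
    A.map (MulAut.conj g).toMonoidHom ≤ weakClosure A P :=
  le_iSup (fun g : {g : G // A.map (MulAut.conj g).toMonoidHom ≤ P} =>
    A.map (MulAut.conj (g : G)).toMonoidHom) ⟨g, h⟩

theorem self_le_weakClosure {A P : Subgroup G} (h : A ≤ P) : A ≤ weakClosure A P := by
  have e : A.map (MulAut.conj (1 : G)).toMonoidHom = A := by
    ext x
    rw [CfsgLib.Coprime.mem_map_conj]; simp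
  exact e.ge.trans (conj_le_weakClosure (e.le.trans h))

theorem weakClosure_mono {A P Q : Subgroup G} (h : P ≤ Q) : weakClosure A P ≤ weakClosure A Q :=
  iSup_le fun g => conj_le_weakClosure (g.2.trans h)

theorem map_weakClosure_conj (A P : Subgroup G) (x : G) :
    (weakClosure A P).map (MulAut.conj x).toMonoidHom =
      weakClosure A (P.map (MulAut.conj x).toMonoidHom) := by
  have key : ∀ (x : G) (P : Subgroup G), (weakClosure A P).map (MulAut.conj x).toMonoidHom ≤
      weakClosure A (P.map (MulAut.conj x).toMonoidHom) := by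
    intro x P
    rw [weakClosure, Subgroup.map_iSup]
    refine iSup_le fun g => ?_
    rw [CfsgLib.Coprime.map_conj_conj]
    exact conj_le_weakClosure (by rw [← CfsgLib.Coprime.map_conj_conj]; exact map_mono g.2)
  refine le_antisymm (key x P) ?_
  have h := map_mono (f := (MulAut.conj x).toMonoidHom) (key x⁻¹ (P.map (MulAut.conj x).toMonoidHom))
  have e : ∀ Q : Subgroup G, Q.map (MulAut.conj (1 : G)).toMonoidHom = Q := fun Q => by
    ext y
    rw [CfsgLib.Coprime.mem_map_conj]; simp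
  rw [CfsgLib.Coprime.map_conj_conj, CfsgLib.Coprime.map_conj_conj, mul_inv_cancel, inv_mul_cancel,
    e, e] at h
  exact h

theorem normalizer_le_normalizer_weakClosure (A P : Subgroup G) :
    normalizer (P : Set G) ≤ normalizer (weakClosure A P : Set G) := fun x hx =>
  CfsgLib.PLocal.mem_normalizer_map_conj.2 (by
    rw [map_weakClosure_conj, CfsgLib.Coprime.map_conj_of_mem_normalizer hx])

variable {p : ℕ} [Fact p.Prime]

/-- `P` is a Sylow `p`-subgroup of `L`, both subgroups of `G`. -/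
def IsSylIn (p : ℕ) (L P : Subgroup G) : Prop :=
  P ≤ L ∧ IsPGroup p P ∧ Nat.card P = p ^ (Nat.card L).factorization p

theorem exists_isSylIn_ge {L Q : Subgroup G} (hQ : IsPGroup p Q) (hQL : Q ≤ L) :
    ∃ P : Subgroup G, IsSylIn p L P ∧ Q ≤ P := by
  obtain ⟨W, hW⟩ := (hQ.of_equiv (subgroupOfEquivOfLe hQL).symm).exists_le_sylow
  refine ⟨(W : Subgroup L).map L.subtype,
    ⟨map_subtype_le _, W.isPGroup'.map _, ?_⟩, fun x hx => ⟨⟨x, hQL hx⟩, hW hx, rfl⟩⟩
  rw [Subgroup.card_map_of_injective L.subtype_injective, W.card_eq_multiplicity]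

theorem exists_isSylIn (L : Subgroup G) : ∃ P : Subgroup G, IsSylIn p L P :=
  let ⟨P, hP, _⟩ := exists_isSylIn_ge (IsPGroup.of_bot (p := p)) (bot_le (a := L))
  ⟨P, hP⟩

theorem isSylIn_top (T : Sylow p G) : IsSylIn p ⊤ (T : Subgroup G) :=
  ⟨le_top, T.isPGroup', by rw [T.card_eq_multiplicity, card_top]⟩

theorem IsSylIn.eq_of_le {L P Q : Subgroup G} (hP : IsSylIn p L P) (hPQ : P ≤ Q) (hQL : Q ≤ L)
    (hQ : IsPGroup p Q) : Q = P := by
  obtain ⟨R, hR, hQR⟩ := exists_isSylIn_ge hQ hQL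
  exact (eq_of_le_of_card_ge hPQ ((card_le_of_le hQR).trans (hR.2.2.trans hP.2.2.symm).le)).symm

theorem IsSylIn.mono {L K P : Subgroup G} (hP : IsSylIn p L P) (hPK : P ≤ K) (hKL : K ≤ L) :
    IsSylIn p K P := by
  obtain ⟨R, hR, hPR⟩ := exists_isSylIn_ge hP.2.1 hPK
  rwa [hP.eq_of_le hPR (hR.1.trans hKL) hR.2.1] at hR

/-- a Sylow subgroup of an intermediate group containing a Sylow subgroup is a Sylow subgroup. -/
theorem IsSylIn.of_le {L K P Q : Subgroup G} (hP : IsSylIn p L P) (hPK : P ≤ K) (hKL : K ≤ L)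
    (hQ : IsSylIn p K Q) : IsSylIn p L Q :=
  ⟨hQ.1.trans hKL, hQ.2.1, by rw [hQ.2.2, ← (hP.mono hPK hKL).2.2, hP.2.2]⟩

theorem IsSylIn.exists_conj {L P Q : Subgroup G} (hP : IsSylIn p L P) (hQ : IsSylIn p L Q) :
    ∃ l ∈ L, P.map (MulAut.conj l).toMonoidHom = Q := by
  let P' : Sylow p L := Sylow.ofCard (P.subgroupOf L)
    (by rw [Nat.card_congr (subgroupOfEquivOfLe hP.1).toEquiv, hP.2.2])
  let Q' : Sylow p L := Sylow.ofCard (Q.subgroupOf L)
    (by rw [Nat.card_congr (subgroupOfEquivOfLe hQ.1).toEquiv, hQ.2.2])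
  obtain ⟨l, hl⟩ := MulAction.exists_smul_eq L P' Q'
  refine ⟨l, l.2, eq_of_le_of_card_ge ?_ ?_⟩
  · rintro _ ⟨x, hx, rfl⟩
    have h1 : (l * ⟨x, hP.1 hx⟩ * l⁻¹ : L) ∈ (Q' : Subgroup L) := by
      rw [← hl, Sylow.coe_subgroup_smul, mem_pointwise_smul_iff_inv_smul_mem, MulAut.smul_def,
        MulAut.conj_inv_apply]
      show (l⁻¹ * (l * ⟨x, hP.1 hx⟩ * l⁻¹) * l : L) ∈ P.subgroupOf L
      rw [show (l⁻¹ * (l * ⟨x, hP.1 hx⟩ * l⁻¹) * l : L) = ⟨x, hP.1 hx⟩ by group]
      exact hx
    exact h1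
  · rw [CfsgLib.Coprime.card_map_conj, hP.2.2, hQ.2.2]

/-- if `A`'s conjugates generate a proper part of those in a `p`-group `P`, one outside normalises it. -/
theorem exists_conj_normalizing {A Q P : Subgroup G} (hP : IsPGroup p P)
    (hne : weakClosure A Q < weakClosure A P) :
    ∃ g : G, A.map (MulAut.conj g).toMonoidHom ≤ P ⊓ normalizer (weakClosure A Q : Set G) ∧
      ¬ A.map (MulAut.conj g).toMonoidHom ≤ weakClosure A Q := by
  set R := weakClosure A Q with hR
  set W := weakClosure A P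
  by_contra hno
  have hall : ∀ g : G, A.map (MulAut.conj g).toMonoidHom ≤ P ⊓ normalizer (R : Set G) →
      A.map (MulAut.conj g).toMonoidHom ≤ R := by
    intro g hg
    by_contra h
    exact hno ⟨g, hg, h⟩
  set K := W ⊓ normalizer (R : Set G)
  have hK : K < W := by
    refine lt_of_le_not_ge inf_le_left fun h => hne.not_ge (iSup_le fun g => hall _ ?_)
    exact le_inf g.2 ((conj_le_weakClosure g.2).trans (h.trans inf_le_right))
  obtain ⟨z, hzW, hzN, hzK⟩ :=
    CfsgLib.Transfer.exists_mem_normalizer_not_mem (hP.to_le (weakClosure_le A P)) hK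
  refine hzK (mem_inf.2 ⟨hzW, CfsgLib.PLocal.mem_normalizer_map_conj.2
    (eq_of_le_of_card_ge ?_ (CfsgLib.Coprime.card_map_conj z R).ge)⟩)
  rw [hR, weakClosure, Subgroup.map_iSup]
  refine iSup_le fun g => ?_
  rw [CfsgLib.Coprime.map_conj_conj]
  refine hall _ ?_
  rw [← CfsgLib.Coprime.map_conj_conj]
  have h1 : A.map (MulAut.conj (g : G)).toMonoidHom ≤ K :=
    (conj_le_weakClosure g.2).trans (le_inf hne.le le_normalizer)
  refine (map_mono h1).trans ((CfsgLib.Coprime.map_conj_of_mem_normalizer hzN).le.trans ?_)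
  exact inf_le_inf_right _ (weakClosure_le A P)

end CfsgLib.Amalgam
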