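import Cfsg.Agent.Lib.Amalgam.CharPLocal
import Cfsg.Agent.Lib.Amalgam.WeakClosure
import Cfsg.Agent.Lib.PLocal.SubnormalJoin
import Mathlib.GroupTheory.Transfer

/-!
A Sylow subgroup meets the join of two subnormal subgroups in the join of its intersections with them.

Induction on the order: a minimal normal subgroup normalizes both subnormal subgroups, so it is covered by its
intersections with them or is central; a unique central minimal normal subgroup of order `p` outside the join of
the intersections would have a normal complement by transfer.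
-/

set_option autoImplicit false
set_option linter.unusedSectionVars false

namespace CfsgLib.Amalgam

open Cfsg Subgroup

universe u v

variable {p : ℕ} [Fact p.Prime]

theorem isSylIn_inf_sylow {G : Type u} [Group G] [Finite G] (S : Sylow p G) {A : Subgroup G}
    (hA : A.IsSubnormal) : IsSylIn p A (A ⊓ (S : Subgroup G)) := by
  obtain ⟨T, hT⟩ := exists_sylow_subnormal S hA
  refine ⟨inf_le_left, S.isPGroup'.to_le inf_le_right, ?_⟩
  have h : Nat.card ((T : Subgroup A).map A.subtype) = Nat.card (A ⊓ (S : Subgroup G) : Subgroup G) := by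
    rw [hT, subgroupOf_map_subtype, inf_comm]
  rw [← h, card_map_of_injective A.subtype_injective, T.card_eq_multiplicity]

theorem isSylIn_map {G : Type u} [Group G] [Finite G] {H : Type v} [Group H] [Finite H] (f : G →* H)
    {A P : Subgroup G} (hP : IsSylIn p A P) : IsSylIn p (A.map f) (P.map f) := by
  let T : Sylow p A := Sylow.ofCard (P.subgroupOf A)
    (by rw [Nat.card_congr (subgroupOfEquivOfLe hP.1).toEquiv, hP.2.2])
  have hs := MonoidHom.subgroupMap_surjective f A
  have e : ((T.mapSurjective hs : Sylow p (A.map f)) : Subgroup (A.map f)).map (A.map f).subtype = P.map f := by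
    rw [Sylow.coe_mapSurjective, Subgroup.map_map]
    show (P.subgroupOf A).map _ = _
    have e' : P = (P.subgroupOf A).map A.subtype := by rw [subgroupOf_map_subtype, inf_eq_left.2 hP.1]
    conv_rhs => rw [e', Subgroup.map_map]
    rfl
  refine ⟨map_mono hP.1, hP.2.1.map f, ?_⟩
  rw [← e, card_map_of_injective (A.map f).subtype_injective, Sylow.card_eq_multiplicity]

theorem sylow_le_sup_of_normal {G : Type u} [Group G] [Finite G] (S : Sylow p G) {A B : Subgroup G}
    [A.Normal] (hB : B.IsSubnormal) (htop : A ⊔ B = ⊤) :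
    (S : Subgroup G) ≤ (A ⊓ (S : Subgroup G)) ⊔ (B ⊓ (S : Subgroup G)) := by
  set π := QuotientGroup.mk' A
  have hπ : Function.Surjective π := QuotientGroup.mk'_surjective A
  have hBtop : B.map π = ⊤ := by
    have h := congrArg (Subgroup.map π) htop
    rwa [Subgroup.map_sup, QuotientGroup.map_mk'_self, bot_sup_eq, Subgroup.map_top_of_surjective _ hπ] at h
  have h1 := isSylIn_map π (isSylIn_inf_sylow S hB)
  rw [hBtop] at h1
  have h2 := h1.eq_of_le (map_mono inf_le_right) le_top (S.isPGroup'.map π)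
  intro s hs
  obtain ⟨b, hb, hbs⟩ := h2.le (⟨s, hs, rfl⟩ : π s ∈ (S : Subgroup G).map π)
  have hm : s * b⁻¹ ∈ A ⊓ (S : Subgroup G) := mem_inf.2 ⟨(QuotientGroup.eq_one_iff _).1 (by
    show π (s * b⁻¹) = 1
    rw [map_mul, map_inv, hbs, mul_inv_cancel]), mul_mem hs (inv_mem (mem_inf.1 hb).2)⟩
  have := mul_mem (mem_sup_left (T := B ⊓ (S : Subgroup G)) hm) (mem_sup_right hb)
  rwa [inv_mul_cancel_right] at this

theorem inf_sylow_sup_le_aux : ∀ (n : ℕ) (G : Type u) [Group G] [Finite G], Nat.card G = n →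
    ∀ (S : Sylow p G) (A B : Subgroup G), A.IsSubnormal → B.IsSubnormal →
      (A ⊔ B) ⊓ (S : Subgroup G) ≤ (A ⊓ (S : Subgroup G)) ⊔ (B ⊓ (S : Subgroup G)) := by
  intro n
  induction n using Nat.strong_induction_on with
  | _ n ih =>
  intro G _ _ hn S A B hA hB
  set X := (A ⊓ (S : Subgroup G)) ⊔ (B ⊓ (S : Subgroup G)) with hXdef
  rcases ne_or_eq (A ⊔ B) ⊤ with hJ | htop
  · set J := A ⊔ B
    have hcard : Nat.card J < n := hn ▸ lt_of_le_of_ne (card_le_card_group J)
      fun hc => hJ (eq_top_of_card_eq _ hc)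
    obtain ⟨S', hS'⟩ := (S.isPGroup'.comap_of_injective J.subtype J.subtype_injective).exists_le_sylow
    have key : ∀ C : Subgroup G, C.IsSubnormal → C ≤ J →
        (C.subgroupOf J ⊓ (S' : Subgroup J)).map J.subtype ≤ C ⊓ (S : Subgroup G) := by
      intro C hC hCJ
      refine ((isSylIn_inf_sylow S hC).eq_of_le ?_ ?_ ((S'.isPGroup'.to_le inf_le_right).map _)).le
      · intro x hx
        exact ⟨⟨x, hCJ (mem_inf.1 hx).1⟩, mem_inf.2 ⟨(mem_inf.1 hx).1, hS' (mem_inf.1 hx).2⟩, rfl⟩
      · rintro _ ⟨x, hx, rfl⟩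
        exact (mem_inf.1 hx).1
    have h1 := ih _ hcard J rfl S' (A.subgroupOf J) (B.subgroupOf J) hA.subgroupOf hB.subgroupOf
    have etop : A.subgroupOf J ⊔ B.subgroupOf J = ⊤ := by
      rw [← Subgroup.subgroupOf_sup le_sup_left le_sup_right, subgroupOf_self]
    rw [etop, top_inf_eq] at h1
    intro x hx
    have h2 : x ∈ (S' : Subgroup J).map J.subtype := ⟨⟨x, (mem_inf.1 hx).1⟩, hS' (mem_inf.1 hx).2, rfl⟩
    have h3 := map_mono (f := J.subtype) h1 h2
    rw [Subgroup.map_sup] at h3
    exact sup_le ((key A hA le_sup_left).trans le_sup_left) ((key B hB le_sup_right).trans le_sup_right) h3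
  rw [htop, top_inf_eq]
  by_contra hnot
  have hXS : X ≤ (S : Subgroup G) := sup_le inf_le_right inf_le_right
  cases subsingleton_or_nontrivial G with
  | inl h =>
    exact hnot fun x _ => by rw [Subsingleton.elim x 1]; exact one_mem X
  | inr h =>
  -- modulo a minimal normal subgroup
  have hq : ∀ M : Subgroup G, M.Normal → M ≠ ⊥ → (S : Subgroup G) ≤ X ⊔ (M ⊓ (S : Subgroup G)) := by
    intro M hM hM1
    set π := QuotientGroup.mk' M
    have hπ : Function.Surjective π := QuotientGroup.mk'_surjective M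
    have hcard : Nat.card (G ⧸ M) < n := by
      rw [← hn, card_eq_card_quotient_mul_card_subgroup M]
      exact lt_mul_of_one_lt_right Nat.card_pos (one_lt_card_iff_ne_bot _ |>.2 hM1)
    have h1 := ih _ hcard (G ⧸ M) rfl (S.mapSurjective hπ) _ _ (hA.map hπ) (hB.map hπ)
    rw [← Subgroup.map_sup, htop, Subgroup.map_top_of_surjective _ hπ, top_inf_eq, Sylow.coe_mapSurjective] at h1
    have key : ∀ C : Subgroup G, C.IsSubnormal →
        C.map π ⊓ (S : Subgroup G).map π ≤ (C ⊓ (S : Subgroup G)).map π := fun C hC =>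
      ((isSylIn_map π (isSylIn_inf_sylow S hC)).eq_of_le (le_inf (map_mono inf_le_left) (map_mono inf_le_right))
        inf_le_left ((S.isPGroup'.map π).to_le inf_le_right)).le
    intro s hs
    have h2 := h1.trans (sup_le_sup (key A hA) (key B hB)) (⟨s, hs, rfl⟩ : π s ∈ (S : Subgroup G).map π)
    rw [← Subgroup.map_sup] at h2
    obtain ⟨x, hx, hxs⟩ := h2
    have hm : x⁻¹ * s ∈ M ⊓ (S : Subgroup G) :=
      mem_inf.2 ⟨QuotientGroup.eq.1 hxs, mul_mem (inv_mem (hXS hx)) hs⟩
    have := mul_mem (mem_sup_left (T := M ⊓ (S : Subgroup G)) hx) (mem_sup_right hm)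
    rwa [mul_inv_cancel_left] at this
  -- each minimal normal subgroup is central of order `p` and not in `X`
  have hmin : ∀ M : Subgroup G, M.Normal → M ≠ ⊥ →
      (∀ K : Subgroup G, K.Normal → K ≤ M → K = ⊥ ∨ K = M) →
      M ≤ center G ∧ M ≤ (S : Subgroup G) ∧ Nat.card M = p ∧ ¬ M ≤ X ∧ A ⊓ M = ⊥ ∧ B ⊓ M = ⊥ := by
    intro M hM hM1 hmin
    have hMA := CfsgLib.PLocal.minimalNormal_le_normalizer hM hM1 hmin hA
    have hMB := CfsgLib.PLocal.minimalNormal_le_normalizer hM hM1 hmin hB
    have hnX : ¬ M ⊓ (S : Subgroup G) ≤ X := fun hle => hnot ((hq M hM hM1).trans (sup_le le_rfl hle))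
    have hcA : ⁅M, A⁆ ≤ A ⊓ M := le_inf (Subgroup.le_normalizer_iff_commutator_le_right.1 hMA)
      (CfsgLib.Comp.commutator_le_of_le_normalizer (CfsgLib.Comp.le_normalizer_of_normal' M A))
    have hcB : ⁅M, B⁆ ≤ B ⊓ M := le_inf (Subgroup.le_normalizer_iff_commutator_le_right.1 hMB)
      (CfsgLib.Comp.commutator_le_of_le_normalizer (CfsgLib.Comp.le_normalizer_of_normal' M B))
    set K := (A ⊓ M) ⊔ (B ⊓ M)
    have hKM : K ≤ M := sup_le inf_le_right inf_le_right
    have hKn : K.Normal := by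
      apply CfsgLib.Comp.normal_of_top_le_normalizer
      rw [← htop]
      refine sup_le ?_ ?_
      · exact Subgroup.le_normalizer_iff_commutator_le_left.2
          ((commutator_mono hKM le_rfl).trans (hcA.trans le_sup_left))
      · exact Subgroup.le_normalizer_iff_commutator_le_left.2
          ((commutator_mono hKM le_rfl).trans (hcB.trans le_sup_right))
    rcases hmin K hKn hKM with hK | hK
    · have hA0 : A ⊓ M = ⊥ := le_bot_iff.1 (hK ▸ le_sup_left)
      have hB0 : B ⊓ M = ⊥ := le_bot_iff.1 (hK ▸ le_sup_right)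
      have hcen : M ≤ center G := by
        intro m hm
        rw [mem_center_iff]
        intro g
        have hg : g ∈ centralizer (M : Set G) := by
          have : A ⊔ B ≤ centralizer (M : Set G) := sup_le
            (Subgroup.commutator_eq_bot_iff_le_centralizer.1
              (by rw [Subgroup.commutator_comm]; exact le_bot_iff.1 (hcA.trans hA0.le)))
            (Subgroup.commutator_eq_bot_iff_le_centralizer.1
              (by rw [Subgroup.commutator_comm]; exact le_bot_iff.1 (hcB.trans hB0.le)))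
          exact this (htop.ge (mem_top g))
        exact (hg m hm).symm
      have hne : M ⊓ (S : Subgroup G) ≠ ⊥ := fun hb => hnX (hb.le.trans bot_le)
      obtain ⟨k, hk⟩ := (S.isPGroup'.to_le (inf_le_right : M ⊓ (S : Subgroup G) ≤ _)).exists_card_eq
      have hk0 : k ≠ 0 := fun h0 => hne (Subgroup.card_eq_one.1 (by rw [hk, h0, pow_zero]))
      obtain ⟨z, hz⟩ := exists_prime_orderOf_dvd_card' p (hk ▸ dvd_pow_self p hk0)
      have hzM : (z : G) ∈ M := (mem_inf.1 z.2).1
      have hzn : (zpowers (z : G)).Normal := ⟨fun x hx g => by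
        have hc := mem_center_iff.1 (hcen (zpowers_le.2 hzM hx)) g
        rwa [hc, mul_inv_cancel_right]⟩
      have hzne : zpowers (z : G) ≠ ⊥ := fun h0 => by
        rw [zpowers_eq_bot] at h0
        rw [← Subgroup.orderOf_coe, h0, orderOf_one] at hz
        exact (Fact.out : p.Prime).one_lt.ne hz
      have hzeq : zpowers (z : G) = M := (hmin _ hzn (zpowers_le.2 hzM)).resolve_left hzne
      have hMS : M ≤ (S : Subgroup G) := hzeq.ge.trans (zpowers_le.2 (mem_inf.1 z.2).2)
      refine ⟨hcen, hMS, ?_, fun hle => hnX (inf_le_left.trans hle), hA0, hB0⟩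
      rw [← hzeq, Nat.card_zpowers, Subgroup.orderOf_coe, hz]
    · exfalso
      apply hnX
      have : ((A ⊓ M).subgroupOf M).Normal :=
        normal_subgroupOf_of_le_normalizer ((le_inf hMA le_normalizer).trans inf_normalizer_le_normalizer_inf)
      obtain ⟨SM, hSM⟩ := exists_sylow_subnormal S hM.isSubnormal
      have htopM : (A ⊓ M).subgroupOf M ⊔ (B ⊓ M).subgroupOf M = ⊤ := by
        rw [← Subgroup.subgroupOf_sup inf_le_right inf_le_right]
        show K.subgroupOf M = ⊤
        rw [hK, subgroupOf_self]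
      have h1 := sylow_le_sup_of_normal SM (A := (A ⊓ M).subgroupOf M) (B := (B ⊓ M).subgroupOf M)
        (hB.inf hM.isSubnormal).subgroupOf htopM
      intro x hx
      have h2 := map_mono (f := M.subtype) h1
        (⟨⟨x, (mem_inf.1 hx).1⟩, hSM.ge (mem_subgroupOf.2 (mem_inf.1 hx).2), rfl⟩ :
          x ∈ (SM : Subgroup M).map M.subtype)
      rw [Subgroup.map_sup] at h2
      refine (sup_le ?_ ?_ : _ ⊔ _ ≤ X) h2
      · rintro _ ⟨y, hy, rfl⟩
        exact mem_sup_left (mem_inf.2 ⟨(mem_inf.1 (mem_subgroupOf.1 (mem_inf.1 hy).1)).1,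
          mem_subgroupOf.1 (hSM.le (mem_inf.1 hy).2)⟩)
      · rintro _ ⟨y, hy, rfl⟩
        exact mem_sup_right (mem_inf.2 ⟨(mem_inf.1 (mem_subgroupOf.1 (mem_inf.1 hy).1)).1,
          mem_subgroupOf.1 (hSM.le (mem_inf.1 hy).2)⟩)
  obtain ⟨M, hM, hM1, hMm⟩ := CfsgLib.Solvable.exists_minimal_normal (G := G)
  obtain ⟨hMc, hMS, hMp, hMX, hAM, hBM⟩ := hmin M hM hM1 hMm
  have hsup : X ⊔ M = (S : Subgroup G) :=
    le_antisymm (sup_le hXS hMS) ((hq M hM hM1).trans (sup_le_sup_left inf_le_left _))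
  have hSn : (S : Subgroup G) ≤ normalizer (X : Set G) := hsup.ge.trans (sup_le le_normalizer
    (hMc.trans ((center_le_centralizer _).trans (centralizer_le_normalizer _))))
  have hXn : (X.subgroupOf (S : Subgroup G)).Normal := normal_subgroupOf_of_le_normalizer hSn
  set πX := QuotientGroup.mk' (X.subgroupOf (S : Subgroup G))
  have hπX : Function.Surjective πX := QuotientGroup.mk'_surjective _
  have himg : ∀ q, ∃ m : M, πX ⟨m, hMS m.2⟩ = q := by
    intro q
    obtain ⟨⟨s, hs⟩, rfl⟩ := hπX q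
    obtain ⟨x, hx, m, hm, rfl⟩ := Subgroup.mem_sup_of_normal_right.1 (hsup.ge hs)
    refine ⟨⟨m, hm⟩, ?_⟩
    rw [show (⟨x * m, hs⟩ : (S : Subgroup G)) = ⟨x, hXS hx⟩ * ⟨m, hMS hm⟩ from rfl, map_mul,
      show πX ⟨x, hXS hx⟩ = 1 from (QuotientGroup.eq_one_iff _).2 hx, one_mul]
  let _ : CommGroup (↥(S : Subgroup G) ⧸ X.subgroupOf (S : Subgroup G)) :=
    { (inferInstance : Group (↥(S : Subgroup G) ⧸ X.subgroupOf (S : Subgroup G))) with
      mul_comm := fun a b => by
        obtain ⟨m, rfl⟩ := himg a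
        obtain ⟨m', rfl⟩ := himg b
        rw [← map_mul, ← map_mul]
        exact congrArg πX (Subtype.ext (mem_center_iff.1 (hMc m'.2) m : (m : G) * m' = m' * m)) }
  set τ := MonoidHom.transfer πX
  obtain ⟨z, hz⟩ := exists_prime_orderOf_dvd_card' (G := M) p (hMp ▸ dvd_rfl)
  have hzτ : τ (z : G) ≠ 1 := by
    intro h0
    have hzc := mem_center_iff.1 (hMc z.2)
    rw [MonoidHom.transfer_eq_pow πX (z : G) fun k g₀ _ => by
      have hc : Commute g₀ ((z : G) ^ k) := Commute.pow_right (hzc g₀) k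
      rw [mul_assoc, ← hc.eq, inv_mul_cancel_left]] at h0
    have h1 : (z : G) ^ (S : Subgroup G).index ∈ X :=
      mem_subgroupOf.1 ((QuotientGroup.eq_one_iff (N := X.subgroupOf (S : Subgroup G)) _).1 h0)
    have hcop : (S : Subgroup G).index.Coprime (orderOf (z : G)) := by
      rw [Subgroup.orderOf_coe, hz]
      exact ((Fact.out : p.Prime).coprime_iff_not_dvd.2 S.not_dvd_index).symm
    obtain ⟨j, hj⟩ := exists_pow_eq_self_of_coprime hcop
    have hzX : (z : G) ∈ X := hj ▸ pow_mem h1 j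
    refine hMX ?_
    have hzt : zpowers (z : G) = M := eq_of_le_of_card_ge (zpowers_le.2 z.2)
      (by rw [hMp, Nat.card_zpowers, Subgroup.orderOf_coe, hz])
    exact hzt.ge.trans (zpowers_le.2 hzX)
  rcases eq_or_ne τ.ker ⊥ with hK | hK
  · -- then `G = M`
    have h1 : Nat.card G ≤ Nat.card M :=
      (Nat.card_le_card_of_injective τ ((MonoidHom.ker_eq_bot_iff τ).1 hK)).trans
        (Nat.card_le_card_of_surjective _ himg)
    have hMtop : M = ⊤ := eq_top_of_le_card _ h1
    rw [hMtop, inf_top_eq] at hAM hBM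
    rw [hAM, hBM, bot_sup_eq] at htop
    exact bot_ne_top htop
  · obtain ⟨M', hM', hM'1, hM'K, hM'm⟩ := CfsgLib.Solvable.exists_minimal_normal_le τ.normal_ker hK
    obtain ⟨hM'c, hM'S, hM'p, hM'X, -, -⟩ := hmin M' hM' hM'1 hM'm
    have hne : M' ≠ M := fun h0 => hzτ (hM'K (h0 ▸ z.2))
    obtain ⟨z', hz'⟩ := exists_prime_orderOf_dvd_card' (G := M') p (hM'p ▸ dvd_rfl)
    obtain ⟨x, hx, m, hm, hxm⟩ := Subgroup.mem_sup_of_normal_right.1 (hsup.ge (hM'S z'.2))
    have hz't : zpowers (z' : G) = M' := eq_of_le_of_card_ge (zpowers_le.2 z'.2)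
      (by rw [hM'p, Nat.card_zpowers, Subgroup.orderOf_coe, hz'])
    have hxe : x = z' * m⁻¹ := by rw [← hxm, mul_inv_cancel_right]
    have hxc : x ∈ center G := hxe ▸ mul_mem (hM'c z'.2) (inv_mem (hMc hm))
    have hx1 : x ≠ 1 := by
      intro h0
      rw [h0, one_mul] at hxm
      refine hne (eq_of_le_of_card_ge (hz't.ge.trans (zpowers_le.2 (hxm ▸ hm))) (by rw [hMp, hM'p]))
    have hxn : (zpowers x).Normal := ⟨fun y hy g => by
      have hc := mem_center_iff.1 ((zpowers_le.2 hxc) hy) g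
      rwa [hc, mul_inv_cancel_right]⟩
    have hxne : zpowers x ≠ ⊥ := zpowers_ne_bot.2 hx1
    obtain ⟨M'', hM'', hM''1, hle, hM''m⟩ := CfsgLib.Solvable.exists_minimal_normal_le hxn hxne
    exact (hmin M'' hM'' hM''1 hM''m).2.2.2.1 (hle.trans (zpowers_le.2 hx))

/-- A Sylow subgroup meets the join of subnormal subgroups in the join of the intersections. -/
theorem inf_sylow_sup_eq {G : Type u} [Group G] [Finite G] (S : Sylow p G) {A B : Subgroup G}
    (hA : A.IsSubnormal) (hB : B.IsSubnormal) :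
    (A ⊔ B) ⊓ (S : Subgroup G) = (A ⊓ (S : Subgroup G)) ⊔ (B ⊓ (S : Subgroup G)) :=
  le_antisymm (inf_sylow_sup_le_aux _ G rfl S A B hA hB)
    (sup_le (inf_le_inf_right _ le_sup_left) (inf_le_inf_right _ le_sup_right))

/-- A subnormal subgroup containing a Sylow subgroup contains every `p`-subgroup. -/
theorem le_of_subnormal_of_sylow_le {G : Type u} [Group G] [Finite G] {X : Subgroup G} (hX : X.IsSubnormal)
    (S : Sylow p G) (hSX : (S : Subgroup G) ≤ X) {P : Subgroup G} (hP : IsPGroup p P) : P ≤ X := by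
  obtain ⟨T, hPT⟩ := hP.exists_le_sylow
  have h1 := (isSylIn_inf_sylow T hX).2.2
  have h2 := (isSylIn_inf_sylow S hX).2.2
  rw [inf_eq_right.2 hSX] at h2
  refine hPT.trans ?_
  have : X ⊓ (T : Subgroup G) = T := eq_of_le_of_card_ge inf_le_right
    (by rw [h1, ← h2, T.card_eq_multiplicity, S.card_eq_multiplicity])
  exact inf_eq_right.1 this

end CfsgLib.Amalgam
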