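import Cfsg.Prelude.Def_LocalEven
import Cfsg.Prelude.Def_PLocal
import Cfsg.Agent.Lib.Classical.SLTwoSylow
import Cfsg.Agent.Lib.Solvable.PCore

/-!
# The group `Qd` over a finite field: translations, the Sylow subgroup and its outer involution
-/

set_option autoImplicit false

namespace CfsgLib.Amalgam.Qd

open Subgroup Matrix CfsgLib.Classical
open scoped MatrixGroups

variable {F : Type*} [Field F]

/-- The affine map `x ↦ M x + t` in `SL₃`. -/
def aff (t : Fin 2 → F) (M : SL(2, F)) : SL(3, F) :=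
  ⟨!![(M : Matrix (Fin 2) (Fin 2) F) 0 0, (M : Matrix (Fin 2) (Fin 2) F) 0 1, t 0;
      (M : Matrix (Fin 2) (Fin 2) F) 1 0, (M : Matrix (Fin 2) (Fin 2) F) 1 1, t 1;
      0, 0, 1], by
    have h := M.det_coe
    rw [Matrix.det_fin_two] at h
    rw [Matrix.det_fin_three]
    simp
    linear_combination h⟩

theorem aff_coe (t : Fin 2 → F) (M : SL(2, F)) :
    (aff t M : Matrix (Fin 3) (Fin 3) F) =
    !![(M : Matrix (Fin 2) (Fin 2) F) 0 0, (M : Matrix (Fin 2) (Fin 2) F) 0 1, t 0;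
      (M : Matrix (Fin 2) (Fin 2) F) 1 0, (M : Matrix (Fin 2) (Fin 2) F) 1 1, t 1;
      0, 0, 1] := rfl

theorem aff_mul (s t : Fin 2 → F) (M N : SL(2, F)) :
    aff s M * aff t N = aff (s + (M : Matrix (Fin 2) (Fin 2) F).mulVec t) (M * N) := by
  refine Subtype.ext ?_
  rw [Matrix.SpecialLinearGroup.coe_mul, aff_coe, aff_coe, aff_coe, Matrix.SpecialLinearGroup.coe_mul]
  ext i j
  fin_cases i <;> fin_cases j <;>
    simp [Matrix.mul_apply, Fin.sum_univ_three, Fin.sum_univ_two, Matrix.mulVec, dotProduct] <;> ring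

theorem aff_zero_one : aff (0 : Fin 2 → F) 1 = 1 := by
  refine Subtype.ext ?_
  rw [aff_coe]
  ext i j
  fin_cases i <;> fin_cases j <;> simp

theorem aff_injective {s t : Fin 2 → F} {M N : SL(2, F)} (h : aff s M = aff t N) : s = t ∧ M = N := by
  have e : ∀ i j, (aff s M : Matrix (Fin 3) (Fin 3) F) i j = (aff t N : Matrix (Fin 3) (Fin 3) F) i j :=
    fun i j => by rw [h]
  refine ⟨?_, Matrix.SpecialLinearGroup.ext _ _ ?_⟩
  · funext i
    fin_cases i
    · simpa [aff_coe] using e 0 2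
    · simpa [aff_coe] using e 1 2
  · intro i j
    fin_cases i <;> fin_cases j
    · simpa [aff_coe] using e 0 0
    · simpa [aff_coe] using e 0 1
    · simpa [aff_coe] using e 1 0
    · simpa [aff_coe] using e 1 1

/-- The element `x ↦ M x + t` of `Qd(F)`. -/
def el (t : Fin 2 → F) (M : SL(2, F)) : ↥(Cfsg.qdOver F) :=
  ⟨aff t M, Subgroup.subset_closure ⟨rfl, rfl, rfl⟩⟩

theorem el_mul (s t : Fin 2 → F) (M N : SL(2, F)) :
    el s M * el t N = el (s + (M : Matrix (Fin 2) (Fin 2) F).mulVec t) (M * N) :=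
  Subtype.ext (aff_mul s t M N)

theorem el_one : el (0 : Fin 2 → F) 1 = 1 := Subtype.ext aff_zero_one

theorem el_inj {s t : Fin 2 → F} {M N : SL(2, F)} (h : el s M = el t N) : s = t ∧ M = N :=
  aff_injective (congrArg Subtype.val h)

theorem el_inv (t : Fin 2 → F) (M : SL(2, F)) :
    (el t M)⁻¹ = el (-((↑(M⁻¹) : Matrix (Fin 2) (Fin 2) F)).mulVec t) M⁻¹ := by
  refine inv_eq_of_mul_eq_one_right ?_
  rw [el_mul, Matrix.mulVec_neg, Matrix.mulVec_mulVec, ← Matrix.SpecialLinearGroup.coe_mul,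
    mul_inv_cancel, Matrix.SpecialLinearGroup.coe_one, Matrix.one_mulVec, add_neg_cancel, el_one]

theorem el_surjective (g : ↥(Cfsg.qdOver F)) : ∃ t M, g = el t M := by
  obtain ⟨g, hg⟩ := g
  induction hg using Subgroup.closure_induction with
  | mem M hM =>
    have hd : (M : Matrix (Fin 3) (Fin 3) F).det = 1 := M.det_coe
    rw [Matrix.det_fin_three, hM.1, hM.2.1, hM.2.2] at hd
    refine ⟨![(M : Matrix (Fin 3) (Fin 3) F) 0 2, (M : Matrix (Fin 3) (Fin 3) F) 1 2],
      ⟨!![(M : Matrix (Fin 3) (Fin 3) F) 0 0, (M : Matrix (Fin 3) (Fin 3) F) 0 1;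
        (M : Matrix (Fin 3) (Fin 3) F) 1 0, (M : Matrix (Fin 3) (Fin 3) F) 1 1],
        by rw [Matrix.det_fin_two_of]; linear_combination hd⟩, Subtype.ext ?_⟩
    show M = aff _ _
    refine Matrix.SpecialLinearGroup.ext _ _ ?_
    intro i j
    fin_cases i <;> fin_cases j <;> simp [aff, hM.1, hM.2.1, hM.2.2]
  | one => exact ⟨0, 1, el_one.symm⟩
  | mul x y hx hy ihx ihy =>
    obtain ⟨s, M, hs⟩ := ihx
    obtain ⟨t, N, ht⟩ := ihy
    refine ⟨_, _, Eq.trans ?_ (el_mul s t M N)⟩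
    rw [← hs, ← ht]
    rfl
  | inv x hx ihx =>
    obtain ⟨s, M, hs⟩ := ihx
    refine ⟨_, _, Eq.trans ?_ (el_inv s M)⟩
    rw [← hs]
    rfl

theorem mem_translation_iff (g : ↥(Cfsg.qdOver F)) :
    (∃ t, g = el t 1) ↔
      ((g : SL(3, F)) : Matrix (Fin 3) (Fin 3) F) 0 0 = 1 ∧
      ((g : SL(3, F)) : Matrix (Fin 3) (Fin 3) F) 0 1 = 0 ∧
      ((g : SL(3, F)) : Matrix (Fin 3) (Fin 3) F) 1 0 = 0 ∧
      ((g : SL(3, F)) : Matrix (Fin 3) (Fin 3) F) 1 1 = 1 := by
  constructor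
  · rintro ⟨t, rfl⟩
    simp [el, aff_coe]
  · intro h
    obtain ⟨t, M, rfl⟩ := el_surjective g
    obtain ⟨h1, h2, h3, h4⟩ := h
    simp [el, aff_coe] at h1 h2 h3 h4
    refine ⟨t, ?_⟩
    congr 1
    refine Matrix.SpecialLinearGroup.ext _ _ ?_
    intro i j
    fin_cases i <;> fin_cases j <;> simp [h1, h2, h3, h4]

variable (F) in
/-- The linear part. -/
noncomputable def lin : ↥(Cfsg.qdOver F) →* SL(2, F) :=
  MonoidHom.mk' (fun g => (el_surjective g).choose_spec.choose) fun g h => by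
    have hg := (el_surjective g).choose_spec.choose_spec
    have hh := (el_surjective h).choose_spec.choose_spec
    have hgh := (el_surjective (g * h)).choose_spec.choose_spec
    exact (el_inj (hgh.symm.trans ((congrArg₂ (· * ·) hg hh).trans (el_mul _ _ _ _)))).2

theorem lin_el (t : Fin 2 → F) (M : SL(2, F)) : lin F (el t M) = M :=
  (el_inj (el_surjective (el t M)).choose_spec.choose_spec).2.symm

theorem lin_surjective : Function.Surjective (lin F) := fun M => ⟨el 0 M, lin_el 0 M⟩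

theorem mem_ker_iff (g : ↥(Cfsg.qdOver F)) : g ∈ (lin F).ker ↔ ∃ t, g = el t 1 := by
  constructor
  · intro h
    obtain ⟨t, M, rfl⟩ := el_surjective g
    rw [MonoidHom.mem_ker, lin_el] at h
    exact ⟨t, by rw [h]⟩
  · rintro ⟨t, rfl⟩
    rw [MonoidHom.mem_ker, lin_el]

theorem el_conj (s t : Fin 2 → F) (M : SL(2, F)) :
    el s M * el t 1 * (el s M)⁻¹ = el ((M : Matrix (Fin 2) (Fin 2) F).mulVec t) 1 := by
  rw [mul_inv_eq_iff_eq_mul, el_mul, el_mul, mul_one, one_mul, Matrix.SpecialLinearGroup.coe_one,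
    Matrix.one_mulVec, add_comm]

theorem el_pow (t : Fin 2 → F) (n : ℕ) : el t 1 ^ n = el (n • t) 1 := by
  induction n with
  | zero => rw [pow_zero, zero_smul, el_one]
  | succ n ih =>
    rw [pow_succ, ih, el_mul, Matrix.SpecialLinearGroup.coe_one, Matrix.one_mulVec, mul_one, succ_nsmul]

theorem exists_mulVec_eq {t : Fin 2 → F} (ht : t ≠ 0) :
    ∃ M : SL(2, F), (M : Matrix (Fin 2) (Fin 2) F).mulVec ![1, 0] = t := by
  by_cases h0 : t 0 = 0
  · have h1 : t 1 ≠ 0 := fun h1 => ht (by funext i; fin_cases i <;> simp [h0, h1])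
    refine ⟨⟨!![0, -(t 1)⁻¹; t 1, 0], by rw [Matrix.det_fin_two_of]; field_simp; ring⟩, ?_⟩
    funext i
    fin_cases i <;> simp [h0, Matrix.mulVec, dotProduct, Fin.sum_univ_two]
  · refine ⟨⟨!![t 0, 0; t 1, (t 0)⁻¹], by rw [Matrix.det_fin_two_of]; field_simp; ring⟩, ?_⟩
    funext i
    fin_cases i <;> simp [Matrix.mulVec, dotProduct, Fin.sum_univ_two]

/-- The translations form a minimal normal subgroup. -/
theorem ker_le_of_normal {N : Subgroup ↥(Cfsg.qdOver F)} (hN : N.Normal) (hNE : N ≤ (lin F).ker)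
    (hne : N ≠ ⊥) : (lin F).ker ≤ N := by
  obtain ⟨g, hg, hg1⟩ : ∃ g ∈ N, g ≠ 1 := by
    by_contra hall
    push Not at hall
    exact hne (eq_bot_iff.2 fun g hg => mem_bot.2 (hall g hg))
  obtain ⟨t, rfl⟩ := (mem_ker_iff g).1 (hNE hg)
  have ht : t ≠ 0 := fun e => hg1 (by rw [e, el_one])
  obtain ⟨M, hM⟩ := exists_mulVec_eq ht
  have he : el ![1, 0] 1 ∈ N := by
    have := hN.conj_mem _ hg (el 0 M⁻¹)
    rwa [el_conj, ← hM, Matrix.mulVec_mulVec, ← Matrix.SpecialLinearGroup.coe_mul, inv_mul_cancel,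
      Matrix.SpecialLinearGroup.coe_one, Matrix.one_mulVec] at this
  intro y hy
  obtain ⟨u, rfl⟩ := (mem_ker_iff y).1 hy
  by_cases hu : u = 0
  · rw [hu, el_one]; exact one_mem _
  · obtain ⟨M', hM'⟩ := exists_mulVec_eq hu
    have := hN.conj_mem _ he (el 0 M')
    rwa [el_conj, hM'] at this

variable [Fintype F] {p : ℕ} [Fact p.Prime] [CharP F p]

theorem isPGroup_ker : IsPGroup p (lin F).ker := by
  rintro ⟨g, hg⟩
  obtain ⟨t, rfl⟩ := (mem_ker_iff g).1 hg
  refine ⟨1, Subtype.ext ?_⟩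
  show el t 1 ^ p ^ 1 = 1
  rw [pow_one, el_pow, show p • t = 0 by funext i; simp, el_one]

/-- `SL₂` has no normal `p`-subgroup in characteristic `p`. -/
theorem normal_pgroup_sl_two {N : Subgroup SL(2, F)} (hN : N.Normal) (hp : IsPGroup p N) : N = ⊥ := by
  obtain ⟨P, hP⟩ := exists_sylow_uSL (F := F) p
  let w : SL(2, F) := ⟨!![0, 1; -1, 0], by rw [Matrix.det_fin_two_of]; ring⟩
  refine eq_bot_iff.2 fun g hg => mem_bot.2 ?_
  obtain ⟨b, hb⟩ := hP.le (CfsgLib.Solvable.normal_pgroup_le_sylow hp P hg)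
  obtain ⟨c, hc⟩ := hP.le (CfsgLib.Solvable.normal_pgroup_le_sylow hp P (hN.conj_mem g hg w))
  have e : (uElt c : Matrix (Fin 2) (Fin 2) F) * (w : Matrix (Fin 2) (Fin 2) F) =
      (w : Matrix (Fin 2) (Fin 2) F) * (uElt b : Matrix (Fin 2) (Fin 2) F) := by
    rw [← Matrix.SpecialLinearGroup.coe_mul, ← Matrix.SpecialLinearGroup.coe_mul, hc, hb, inv_mul_cancel_right]
  have e00 := congrFun (congrFun e 0) 0
  have e11 := congrFun (congrFun e 1) 1
  simp [uElt_val, w, Matrix.mul_apply, Fin.sum_univ_two] at e00 e11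
  rw [← hb]
  refine Matrix.SpecialLinearGroup.ext _ _ ?_
  intro i j
  rw [uElt_val]
  fin_cases i <;> fin_cases j <;> simp [e00, e11]

theorem pCore_eq_ker : Cfsg.pCore p ↥(Cfsg.qdOver F) = (lin F).ker := by
  refine le_antisymm ?_ (CfsgLib.Solvable.le_pCore inferInstance isPGroup_ker)
  have h := normal_pgroup_sl_two (p := p)
    (Normal.map (CfsgLib.Solvable.pCore_normal p _) (lin F) lin_surjective)
    ((CfsgLib.Solvable.pCore_isPGroup p).map (lin F))
  rwa [Subgroup.map_eq_bot_iff] at h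

variable (F) in
/-- The Sylow subgroup of translations and upper unitriangular maps. -/
noncomputable def syl : Subgroup ↥(Cfsg.qdOver F) := (uSL F).comap (lin F)

theorem exists_sylow_syl : ∃ P : Sylow p ↥(Cfsg.qdOver F), (P : Subgroup _) = syl F := by
  obtain ⟨P, hP⟩ := exists_sylow_uSL (F := F) p
  refine ⟨IsPGroup.toSylow (p := p) (P := syl F)
    ((hP ▸ P.isPGroup' : IsPGroup p (uSL F)).comap_of_ker_isPGroup (lin F) isPGroup_ker) ?_, rfl⟩
  rw [syl, index_comap_of_surjective _ lin_surjective, ← hP]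
  exact P.not_dvd_index

omit [Fintype F] [Fact p.Prime] [CharP F p] in
theorem mem_syl_iff (g : ↥(Cfsg.qdOver F)) :
    g ∈ syl F ↔ ∃ a b x, g = el ![a, b] (uElt x) := by
  constructor
  · intro h
    obtain ⟨t, M, rfl⟩ := el_surjective g
    rw [syl, mem_comap, lin_el] at h
    obtain ⟨x, rfl⟩ := h
    exact ⟨t 0, t 1, x, by congr 1; funext i; fin_cases i <;> rfl⟩
  · rintro ⟨a, b, x, rfl⟩
    rw [syl, mem_comap, lin_el]
    exact ⟨x, rfl⟩

/-- Coordinates on the Sylow subgroup. -/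
def tri (a b x : F) : ↥(syl F) :=
  ⟨el ![a, b] (uElt x), (mem_syl_iff _).2 ⟨a, b, x, rfl⟩⟩

omit [Fintype F] [Fact p.Prime] [CharP F p] in
theorem tri_mul (a b x a' b' x' : F) :
    tri a b x * tri a' b' x' = tri (a + a' + x * b') (b + b') (x + x') := by
  refine Subtype.ext ?_
  show el ![a, b] (uElt x) * el ![a', b'] (uElt x') = el _ _
  rw [el_mul, uElt_add]
  congr 1
  funext i
  fin_cases i <;> simp [uElt_val, Matrix.mulVec, dotProduct, Fin.sum_univ_two] <;> ring

omit [Fintype F] [Fact p.Prime] [CharP F p] in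
theorem tri_surjective (g : ↥(syl F)) : ∃ a b x, g = tri a b x := by
  obtain ⟨a, b, x, h⟩ := (mem_syl_iff _).1 g.2
  exact ⟨a, b, x, Subtype.ext h⟩

omit [Fintype F] [Fact p.Prime] [CharP F p] in
theorem tri_inj {a b x a' b' x' : F} (h : tri a b x = tri a' b' x') : a = a' ∧ b = b' ∧ x = x' := by
  obtain ⟨h1, h2⟩ := el_inj (congrArg Subtype.val h)
  exact ⟨by simpa using congrFun h1 0, by simpa using congrFun h1 1, uElt_injective h2⟩

omit [Fintype F] [Fact p.Prime] [CharP F p] in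
theorem tri_zero : tri (0 : F) 0 0 = 1 := by
  have h := tri_mul (0 : F) 0 0 0 0 0
  simp at h
  exact h

/-- The involutory automorphism of the Sylow subgroup exchanging the translations with the other
maximal elementary abelian subgroup. -/
theorem exists_swap :
    ∃ φ : MulAut ↥(syl F), ∀ a b x : F, φ (tri a b x) = tri (b * x - a) x b := by
  choose A B X hX using fun g : ↥(syl F) => tri_surjective g
  have hc : ∀ a b x, A (tri a b x) = a ∧ B (tri a b x) = b ∧ X (tri a b x) = x := fun a b x => by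
    obtain ⟨h1, h2, h3⟩ := tri_inj (hX (tri a b x))
    exact ⟨h1.symm, h2.symm, h3.symm⟩
  let f : ↥(syl F) → ↥(syl F) := fun g => tri (B g * X g - A g) (X g) (B g)
  have hf : ∀ a b x, f (tri a b x) = tri (b * x - a) x b := fun a b x => by
    obtain ⟨h1, h2, h3⟩ := hc a b x
    simp only [f, h1, h2, h3]
  have hmul : ∀ g h, f (g * h) = f g * f h := by
    intro g h
    obtain ⟨a, b, x, rfl⟩ := tri_surjective g
    obtain ⟨a', b', x', rfl⟩ := tri_surjective h
    rw [tri_mul, hf, hf, hf, tri_mul]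
    congr 1
    ring
  have hinv : Function.Involutive f := by
    intro g
    obtain ⟨a, b, x, rfl⟩ := tri_surjective g
    show f (f (tri a b x)) = tri a b x
    refine ((congrArg f (hf a b x)).trans (hf _ _ _)).trans ?_
    congr 1
    ring
  exact ⟨MulEquiv.ofBijective (MonoidHom.mk' f hmul) hinv.bijective, hf⟩

end CfsgLib.Amalgam.Qd
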