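import Cfsg.Agent.Lib.StructC.UniqueInvol
import Mathlib.GroupTheory.SpecificGroups.Quaternion

/-!
# Automorphisms of odd order of 2-groups with one involution

Such a group with a non-trivial automorphism of odd order is the quaternion group of order 8, on
which the automorphism permutes the three cyclic subgroups of order 4 regularly.
-/

set_option autoImplicit false
set_option linter.style.haveILetI false

namespace CfsgLib.Amalgam

open QuaternionGroup

/-- An automorphism of odd order of a cyclic 2-group is trivial. -/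
theorem oddAut_eq_one_of_isCyclic {C : Type*} [Group C] [Finite C] [IsCyclic C] (hC : IsPGroup 2 C)
    (φ : MulAut C) {m : ℕ} (hm : Odd m) (hφm : φ ^ m = 1) : φ = 1 := by
  haveI := Fact.mk Nat.prime_two
  rw [← orderOf_eq_one_iff]
  refine Nat.eq_one_of_dvd_coprimes ?_ (orderOf_dvd_of_pow_eq_one hφm) (orderOf_dvd_natCard φ)
  rw [IsCyclic.card_mulAut]
  obtain ⟨k, hk⟩ := hC.exists_card_eq
  rw [hk]
  cases k with
  | zero => simp
  | succ k =>
    rw [Nat.totient_prime_pow Nat.prime_two (by omega)]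
    simp only [Nat.add_sub_cancel, show 2 - 1 = 1 from rfl, mul_one]
    exact Nat.Coprime.pow_right k ((Nat.coprime_two_right).2 hm)

/-- An automorphism of odd order of a generalized quaternion group of order at least 16 is trivial. -/
theorem oddAut_quaternion_eq_one {n k : ℕ} (hn : n = 2 ^ k) (hk : 2 ≤ k)
    (φ : MulAut (QuaternionGroup n)) {m : ℕ} (hm : Odd m) (hφm : φ ^ m = 1) : φ = 1 := by
  haveI : NeZero n := ⟨by rw [hn]; positivity⟩
  have hn4 : 4 ≤ n := hn ▸ le_trans (by norm_num) (Nat.pow_le_pow_right (by norm_num) hk)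
  -- the image of the generator of the cyclic part
  obtain ⟨j, hj⟩ : ∃ j, φ (a 1) = a j := by
    rcases h : φ (a 1) with i | i
    · exact ⟨i, rfl⟩
    · exfalso
      have h1 : orderOf (φ (a 1)) = 2 * n := by
        rw [MulEquiv.orderOf_eq, orderOf_a_one]
      rw [h, orderOf_xa] at h1
      omega
  have hpow : ∀ (i : ℕ), (φ ^ i) (a 1) = a (j ^ i) := by
    intro i
    induction i with
    | zero => simp
    | succ i ih =>
      rw [pow_succ', MulAut.mul_apply, ih, pow_succ]
      have h1 : a (j ^ i) = (a 1 : QuaternionGroup n) ^ (j ^ i).val := by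
        rw [a_one_pow, ZMod.natCast_zmod_val]
      rw [h1, map_pow, hj]
      have : ∀ t : ℕ, (a j : QuaternionGroup n) ^ t = a ((t : ZMod (2 * n)) * j) := by
        intro t
        induction t with
        | zero => rw [pow_zero, Nat.cast_zero, zero_mul, a_zero]
        | succ t iht => rw [pow_succ, iht, a_mul_a]; push_cast; ring_nf
      rw [this, ZMod.natCast_zmod_val]
  have hj1 : j ^ m = 1 := by
    have := hpow m
    rw [hφm, MulAut.one_apply] at this
    exact (QuaternionGroup.a.inj this).symm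
  have hjo : j = 1 := by
    obtain ⟨u, rfl⟩ : IsUnit j := IsUnit.of_pow_eq_one hj1 hm.pos.ne'
    have hu : u ^ m = 1 := by ext; simpa using hj1
    have ho : orderOf u = 1 := by
      refine Nat.eq_one_of_dvd_coprimes ?_ (orderOf_dvd_of_pow_eq_one hu) (orderOf_dvd_natCard u)
      rw [Nat.card_eq_fintype_card, ZMod.card_units_eq_totient, hn, ← pow_succ',
        Nat.totient_prime_pow Nat.prime_two (by omega)]
      simp only [Nat.add_sub_cancel, show 2 - 1 = 1 from rfl, mul_one]
      exact Nat.Coprime.pow_right k ((Nat.coprime_two_right).2 hm)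
    rw [orderOf_eq_one_iff.1 ho]
    rfl
  subst hjo
  have hfa : ∀ i, φ (a i) = a i := fun i => by
    have h1 : (a i : QuaternionGroup n) = a 1 ^ i.val := by
      rw [a_one_pow, ZMod.natCast_zmod_val]
    rw [h1, map_pow, hj]
  obtain ⟨t, ht⟩ : ∃ t, φ (xa 0) = xa t := by
    rcases h : φ (xa 0) with i | i
    · exfalso
      have := φ.injective (h.trans (hfa i).symm)
      cases this
    · exact ⟨i, rfl⟩
  have hxa : ∀ i : ℕ, (φ ^ i) (xa 0) = xa ((i : ZMod (2 * n)) * t) := by
    intro i
    induction i with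
    | zero => simp
    | succ i ih =>
      rw [pow_succ', MulAut.mul_apply, ih]
      have h1 : (xa ((i : ZMod (2 * n)) * t)) = xa 0 * a ((i : ZMod (2 * n)) * t) := by
        rw [xa_mul_a, zero_add]
      rw [h1, map_mul, hfa, ht, xa_mul_a]
      push_cast; ring_nf
  have hmt : (m : ZMod (2 * n)) * t = 0 := by
    have := hxa m
    rw [hφm, MulAut.one_apply] at this
    exact (QuaternionGroup.xa.inj this).symm
  have hu : IsUnit (m : ZMod (2 * n)) := by
    rw [ZMod.isUnit_iff_coprime, hn, ← pow_succ']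
    exact Nat.Coprime.pow_right _ ((Nat.coprime_two_right).2 hm)
  have ht0 : t = 0 := (hu.mul_right_eq_zero).1 hmt
  refine MulEquiv.ext fun g => ?_
  rcases g with i | i
  · exact hfa i
  · have h1 : (xa i : QuaternionGroup n) = xa 0 * a i := by rw [xa_mul_a, zero_add]
    rw [MulAut.one_apply, h1, map_mul, hfa, ht, ht0]

/-- The map of the quaternion group determined by the images of the two generators. -/
def q8Map (u v : QuaternionGroup 2) : QuaternionGroup 2 → QuaternionGroup 2
  | .a i => u ^ i.val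
  | .xa i => v * u ^ i.val

set_option maxRecDepth 8000 in
theorem q8Map_facts : ∀ u v : QuaternionGroup 2,
    (∀ g h, q8Map u v (g * h) = q8Map u v g * q8Map u v h) →
    (∀ g, ∃ h, q8Map u v h = g) →
    (∀ g, (q8Map u v)^[12] g = g) ∧
    ((∀ g, (q8Map u v)^[3] g = g) → (∃ g, q8Map u v g ≠ g) →
      ∀ g, (q8Map u v g = g → g * g = 1) ∧
        ∀ h, g * g ≠ 1 → h * h ≠ 1 → h = g ∨ h = q8Map u v g ∨ h = q8Map u v (q8Map u v g) ∨
          h = g * (g * g) ∨ h = q8Map u v g * (g * g) ∨ h = q8Map u v (q8Map u v g) * (g * g)) := by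
  decide +kernel

theorem q8_center : ∀ g : QuaternionGroup 2, (∀ h, g * h = h * g) ↔ g * g = 1 := by decide

theorem q8_sq_sq : ∀ g : QuaternionGroup 2, g * g * (g * g) = 1 := by decide

theorem q8_gen : ∀ g h : QuaternionGroup 2, g * g ≠ 1 → h * h ≠ 1 → h ≠ g → h ≠ g * (g * g) →
    ∀ k, ∃ i : Fin 4, ∃ j : Fin 2, k = g ^ (i : ℕ) * h ^ (j : ℕ) := by decide +kernel

theorem q8_eq_q8Map (φ : MulAut (QuaternionGroup 2)) :
    ∀ g, φ g = q8Map (φ (a 1)) (φ (xa 0)) g := by
  rintro (i | i)
  · show φ (a i) = φ (a 1) ^ i.val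
    rw [← map_pow, a_one_pow, ZMod.natCast_zmod_val]
  · show φ (xa i) = φ (xa 0) * φ (a 1) ^ i.val
    rw [← map_pow, a_one_pow, ZMod.natCast_zmod_val, ← map_mul, xa_mul_a, zero_add]

/-- Facts about a non-trivial automorphism of odd order of a 2-group with one involution. -/
theorem oddAut_oneInvol {C : Type*} [Group C] [Finite C] (hC : IsPGroup 2 C)
    (hu : ∀ x y : C, orderOf x = 2 → orderOf y = 2 → x = y) (φ : MulAut C) {m : ℕ} (hm : Odd m)
    (hφm : φ ^ m = 1) (hφ : φ ≠ 1) :
    Nat.card C = 8 ∧ φ ^ 3 = 1 ∧ (∀ g : C, (∀ h : C, g * h = h * g) ↔ g * g = 1) ∧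
      (∀ g : C, φ g = g → g * g = 1) ∧
      (∀ g h : C, g * g ≠ 1 → h * h ≠ 1 → h = g ∨ h = φ g ∨ h = φ (φ g) ∨
          h = g * (g * g) ∨ h = φ g * (g * g) ∨ h = φ (φ g) * (g * g)) ∧
      (∀ g : C, g * g ≠ 1 → ∀ k, k ∈ Subgroup.closure {g, φ g}) ∧
      (∀ g : C, g * g * (g * g) = 1) := by
  rcases CfsgLib.StructC.isCyclic_or_quaternion hC
      (fun x y hx hy _ => hu x y hx hy ▸ Subgroup.mem_zpowers x) with hc | ⟨k, hk, ⟨e⟩⟩
  · exact absurd (oddAut_eq_one_of_isCyclic hC φ hm hφm) hφ
  set ψ : MulAut (QuaternionGroup (2 ^ k)) := MulAut.congr e φ with hψ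
  have hψm : ψ ^ m = 1 := by rw [hψ, ← map_pow, hφm, map_one]
  rcases Nat.lt_or_ge k 2 with hk2 | hk2
  swap
  · have := oddAut_quaternion_eq_one rfl hk2 ψ hm hψm
    exact absurd ((MulAut.congr e).map_eq_one_iff.1 this) hφ
  obtain rfl : k = 1 := by omega
  clear hk hk2
  revert e ψ
  rw [pow_one]
  intro e ψ hψ hψm
  have hap : ∀ g, ψ (e g) = e (φ g) := fun g => by simp [hψ]
  have hf := fun g => q8_eq_q8Map ψ g
  set u := ψ (QuaternionGroup.a 1)
  set v := ψ (QuaternionGroup.xa 0)
  obtain ⟨h12, h3⟩ := q8Map_facts u v (fun g h => by rw [← hf, ← hf, ← hf, map_mul])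
    (fun g => ⟨ψ.symm g, by rw [← hf, MulEquiv.apply_symm_apply]⟩)
  have hit : ∀ (i : ℕ) g, (q8Map u v)^[i] g = (ψ ^ i) g := by
    intro i
    induction i with
    | zero => intro g; rfl
    | succ i ih => intro g; rw [Function.iterate_succ_apply', ih, ← hf, pow_succ', MulAut.mul_apply]
  have hψ12 : ψ ^ 12 = 1 := MulEquiv.ext fun g => by rw [← hit, h12, MulAut.one_apply]
  have hψ3 : ψ ^ 3 = 1 := by
    rw [← orderOf_dvd_iff_pow_eq_one]
    have h1 : Nat.Coprime (orderOf ψ) 4 :=
      (Nat.Coprime.of_dvd_left (orderOf_dvd_of_pow_eq_one hψm)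
        (Nat.Coprime.pow_right 2 ((Nat.coprime_two_right).2 hm)))
    exact h1.dvd_of_dvd_mul_left (orderOf_dvd_of_pow_eq_one hψ12)
  have hne : ∃ g, q8Map u v g ≠ g := by
    by_contra hc
    simp only [not_exists, not_not] at hc
    refine hφ (MulEquiv.ext fun g => e.injective ?_)
    rw [← hap, hf, hc, MulAut.one_apply]
  have hfac := h3 (fun g => by rw [hit, hψ3, MulAut.one_apply]) hne
  have hφ3 : φ ^ 3 = 1 := by
    refine (MulAut.congr e).map_eq_one_iff.1 ?_
    rw [map_pow]; exact hψ3
  have horb : ∀ g h, g * g ≠ 1 → h * h ≠ 1 → h = g ∨ h = φ g ∨ h = φ (φ g) ∨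
          h = g * (g * g) ∨ h = φ g * (g * g) ∨ h = φ (φ g) * (g * g) := by
    intro g h hg hh
    have := (hfac (e g)).2 (e h) (by rwa [← map_mul, ne_eq, e.map_eq_one_iff])
      (by rwa [← map_mul, ne_eq, e.map_eq_one_iff])
    simpa only [← hf, hap, ← map_mul, e.injective.eq_iff] using this
  have hfix : ∀ g, φ g = g → g * g = 1 := fun g hg => by
    have := (hfac (e g)).1 (by rw [← hf, hap, hg])
    rwa [← map_mul, e.map_eq_one_iff] at this
  refine ⟨?_, hφ3, fun g => ?_, hfix, horb, ?_, fun g => e.injective (by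
    rw [map_mul, map_mul, map_one]; exact q8_sq_sq _)⟩
  · rw [Nat.card_congr e.toEquiv, Nat.card_eq_fintype_card, QuaternionGroup.card]
  · rw [← e.map_eq_one_iff, map_mul, ← q8_center (e g)]
    refine ⟨fun h x => ?_, fun h x => e.injective ?_⟩
    · obtain ⟨x, rfl⟩ := e.surjective x
      rw [← map_mul, ← map_mul, h]
    · rw [map_mul, map_mul]; exact h _
  · intro g hg k
    have hg' : φ g * φ g ≠ 1 := by rwa [← map_mul, ne_eq, φ.map_eq_one_iff]
    have h1 : φ g ≠ g := fun h => hg (hfix g h)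
    have h2 : φ g ≠ g * (g * g) := by
      intro h
      have hc : φ (φ g) = g := by
        have h' : φ g = g ^ 3 := by rw [h, pow_succ, pow_two, mul_assoc]
        have h4 : g ^ 8 = 1 := by
          have : Nat.card C = 8 := by
            rw [Nat.card_congr e.toEquiv, Nat.card_eq_fintype_card, QuaternionGroup.card]
          rw [← this]; exact pow_card_eq_one'
        rw [h', map_pow, h', ← pow_mul, show 3 * 3 = 8 + 1 from rfl, pow_add, h4, one_mul, pow_one]
      have : φ (φ (φ g)) = g := by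
        have := DFunLike.congr_fun hφ3 g
        simpa [pow_succ, MulAut.mul_apply] using this
      rw [hc] at this
      exact h1 this
    obtain ⟨i, j, hij⟩ := q8_gen (e g) (e (φ g)) (by rwa [← map_mul, ne_eq, e.map_eq_one_iff])
      (by rwa [← map_mul, ne_eq, e.map_eq_one_iff]) (fun h => h1 (e.injective h))
      (fun h => h2 (e.injective (by rw [map_mul, map_mul]; exact h))) (e k)
    have hk : k = g ^ (i : ℕ) * φ g ^ (j : ℕ) := e.injective (by rw [map_mul, map_pow, map_pow]; exact hij)
    rw [hk]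
    exact mul_mem (pow_mem (Subgroup.subset_closure (by simp)) _)
      (pow_mem (Subgroup.subset_closure (by simp)) _)

end CfsgLib.Amalgam
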