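import Mathlib
import Cfsg.Prelude.Def_Solvable
import Cfsg.Agent.Lib.Amalgam.PCore

/-!
Central `p`-elements of Sylow normalisers in groups with a rank-one `O^p`: a `p`-element centralising
`N_X(S)` is trivial if `O_p(X) = 1` and `O^p(X)` has a Bruhat decomposition with a suitable torus element.
-/

set_option autoImplicit false
set_option linter.unusedVariables false
set_option linter.style.haveILetI false

namespace CfsgLib.Amalgam.RankOneCentral

open Subgroup

/-- Bruhat data in rank one with a torus element of order dividing `p - 1`. -/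
structure RankOne (p : ℕ) {M : Type*} [Group M] (U : Subgroup M) (w t : M) : Prop where
  pgroup : IsPGroup p U
  pmem : ∀ g ∈ normalizer (U : Set M), ∀ k : ℕ, g ^ p ^ k = 1 → g ∈ U
  wnot : w ∉ normalizer (U : Set M)
  bruhat : ∀ g : M, g ∈ normalizer (U : Set M) ∨
    ∃ u ∈ U, ∃ b ∈ normalizer (U : Set M), g = u * w * b
  disj : ∀ u ∈ U, w⁻¹ * u * w ∈ U → u = 1
  tmem : t ∈ normalizer (U : Set M)
  tconj : w⁻¹ * t * w ∈ normalizer (U : Set M)
  tfix : ∀ u ∈ U, t * u * t⁻¹ = u → u = 1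
  tpow : t ^ (p - 1) = 1
  cyc : ∃ g0 ∈ normalizer (U : Set M), ∀ b ∈ normalizer (U : Set M), ∃ k : ℕ, (g0 ^ k)⁻¹ * b ∈ U
  gen : normalClosure (U : Set M) = ⊤

theorem pow_prime_pow_eq_one {M : Type*} [Group M] {p : ℕ} {U : Subgroup M} (hU : IsPGroup p U)
    {u : M} (hu : u ∈ U) : ∃ n : ℕ, u ^ p ^ n = 1 := by
  obtain ⟨n, hn⟩ := hU ⟨u, hu⟩
  exact ⟨n, congrArg Subtype.val hn⟩

/-- The data pass to a quotient by a central subgroup without `p`-torsion. -/
theorem RankOne.map {p : ℕ} [Fact p.Prime] {M R : Type*} [Group M] [Finite M] [Group R]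
    {U : Subgroup M} {w t : M} (h : RankOne p U w t) (f : M →* R) (hf : Function.Surjective f)
    (hc : f.ker ≤ center M) (hk : ∀ k ∈ f.ker, ∀ n : ℕ, k ^ p ^ n = 1 → k = 1) :
    RankOne p (U.map f) (f w) (f t) := by
  have hp : p.Prime := Fact.out
  have hpow : ∀ u' : M, u' ∈ U → ∀ k ∈ f.ker, ∀ x : M, x = u' * k → (∃ n : ℕ, x ^ p ^ n = 1) →
      k = 1 := by
    intro u' hu' k hk' x hx ⟨n, hn⟩
    obtain ⟨n', hn'⟩ := pow_prime_pow_eq_one h.pgroup hu'
    have hcomm : Commute u' k := mem_center_iff.1 (hc hk') u'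
    refine hk k hk' (n + n') ?_
    have h1 : x ^ p ^ (n + n') = 1 := by rw [pow_add, pow_mul, hn, one_pow]
    have h2 : u' ^ p ^ (n + n') = 1 := by rw [add_comm, pow_add, pow_mul, hn', one_pow]
    rw [hx, hcomm.mul_pow, h2, one_mul] at h1
    exact h1
  have hmem : ∀ g : M, f g ∈ normalizer ((U.map f : Subgroup R) : Set R) →
      g ∈ normalizer (U : Set M) := by
    intro g hg
    refine mem_normalizer_fintype fun u hu => ?_
    obtain ⟨u', hu', he⟩ := (mem_normalizer_iff.1 hg (f u)).1 ⟨u, hu, rfl⟩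
    obtain ⟨k, hk', hgk⟩ : ∃ k ∈ f.ker, g * u * g⁻¹ = u' * k :=
      ⟨u'⁻¹ * (g * u * g⁻¹), by
        rw [MonoidHom.mem_ker, map_mul, map_mul, map_mul, map_inv, map_inv, he, inv_mul_cancel],
        (mul_inv_cancel_left _ _).symm⟩
    obtain ⟨n, hn⟩ := pow_prime_pow_eq_one h.pgroup hu
    have hk1 := hpow u' hu' k hk' (g * u * g⁻¹) hgk ⟨n, by rw [conj_pow, hn, mul_one, mul_inv_cancel]⟩
    show g * u * g⁻¹ ∈ U
    rw [hgk, hk1, mul_one]
    exact hu'
  have hmap : ∀ g : M, g ∈ normalizer (U : Set M) →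
      f g ∈ normalizer ((U.map f : Subgroup R) : Set R) := fun g hg =>
    le_normalizer_map f ⟨g, hg, rfl⟩
  refine
    { pgroup := h.pgroup.map f
      pmem := ?_
      wnot := fun hw => h.wnot (hmem w hw)
      bruhat := ?_
      disj := ?_
      tmem := hmap t h.tmem
      tconj := by rw [← map_inv, ← map_mul, ← map_mul]; exact hmap _ h.tconj
      tfix := ?_
      tpow := by rw [← map_pow, h.tpow, map_one]
      cyc := ?_
      gen := ?_ }
  · intro r hr n hn
    obtain ⟨g, rfl⟩ := hf r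
    have hg : g ^ p ^ n ∈ f.ker := by rw [MonoidHom.mem_ker, map_pow, hn]
    have hcop : (Nat.card f.ker).Coprime (p ^ n) := by
      refine Nat.Coprime.pow_right n ((hp.coprime_iff_not_dvd.2 fun hdvd => ?_).symm)
      obtain ⟨x, hx⟩ := exists_prime_orderOf_dvd_card' p hdvd
      have h1 : (x : M) = 1 := hk x x.2 1 (by
        rw [pow_one, ← hx, ← orderOf_coe, pow_orderOf_eq_one])
      rw [← orderOf_coe, h1, orderOf_one] at hx
      exact hp.one_lt.ne hx
    obtain ⟨k, hk'⟩ := (powCoprime hcop).surjective ⟨_, hg⟩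
    have hk'' : (k : M) ^ p ^ n = g ^ p ^ n := congrArg Subtype.val hk'
    have hfk : f (g * (k : M)⁻¹) = f g := by
      rw [map_mul, map_inv, MonoidHom.mem_ker.1 k.2, inv_one, mul_one]
    have h1 : (g * (k : M)⁻¹) ^ p ^ n = 1 := by
      rw [(show Commute g (k : M) from mem_center_iff.1 (hc k.2) g).inv_right.mul_pow, inv_pow, hk'',
        mul_inv_cancel]
    exact ⟨g * (k : M)⁻¹, h.pmem _ (hmem _ (hfk ▸ hr)) n h1, hfk⟩
  · intro r
    obtain ⟨g, rfl⟩ := hf r
    rcases h.bruhat g with hg | ⟨u, hu, b, hb, rfl⟩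
    · exact Or.inl (hmap g hg)
    · exact Or.inr ⟨f u, ⟨u, hu, rfl⟩, f b, hmap b hb, by rw [map_mul, map_mul]⟩
  · rintro r ⟨u, hu, rfl⟩ ⟨u', hu', he⟩
    obtain ⟨n, hn⟩ := pow_prime_pow_eq_one h.pgroup hu
    have hk1 := hpow u' hu' (u'⁻¹ * (w⁻¹ * u * w)) (by
      rw [MonoidHom.mem_ker, map_mul, map_mul, map_mul, map_inv, map_inv, he, inv_mul_cancel])
      (w⁻¹ * u * w) (mul_inv_cancel_left _ _).symm ⟨n, by
        rw [show w⁻¹ * u * w = w⁻¹ * u * w⁻¹⁻¹ by rw [inv_inv], conj_pow, hn, mul_one, mul_inv_cancel]⟩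
    rw [h.disj u hu (by rw [inv_mul_eq_one.1 hk1] at hu'; exact hu'), map_one]
  · rintro r ⟨u, hu, rfl⟩ he
    have hk1 := hpow u hu (u⁻¹ * (t * u * t⁻¹)) (by
      rw [MonoidHom.mem_ker, map_mul, map_mul, map_mul, map_inv, map_inv, he, inv_mul_cancel])
      (t * u * t⁻¹) (mul_inv_cancel_left _ _).symm (by
        obtain ⟨n, hn⟩ := pow_prime_pow_eq_one h.pgroup hu
        exact ⟨n, by rw [conj_pow, hn, mul_one, mul_inv_cancel]⟩)
    rw [h.tfix u hu (inv_mul_eq_one.1 hk1).symm, map_one]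
  · obtain ⟨g0, hg0, hb⟩ := h.cyc
    refine ⟨f g0, hmap g0 hg0, fun r hr => ?_⟩
    obtain ⟨b, rfl⟩ := hf r
    obtain ⟨k, hk'⟩ := hb b (hmem b hr)
    exact ⟨k, ⟨_, hk', by rw [map_mul, map_inv, map_pow]⟩⟩
  · rw [coe_map, ← map_normalClosure _ f hf, h.gen, map_top_of_surjective f hf]

theorem RankOne.exists_sylow {p : ℕ} [Fact p.Prime] {M : Type*} [Group M] [Finite M] {U : Subgroup M}
    {w t : M} (h : RankOne p U w t) : ∃ P : Sylow p M, (P : Subgroup M) = U := by
  obtain ⟨P, hP⟩ := h.pgroup.exists_le_sylow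
  refine ⟨P, le_antisymm ?_ hP⟩
  by_contra hle
  haveI : Group.IsNilpotent ↥(P : Subgroup M) := P.isPGroup'.isNilpotent
  have hlt : U.subgroupOf (P : Subgroup M) < ⊤ := lt_top_iff_ne_top.2 fun e =>
    hle (subgroupOf_eq_top.1 e)
  obtain ⟨x, hx, hxU⟩ := SetLike.exists_of_lt (Group.normalizerCondition_of_isNilpotent _ hlt)
  obtain ⟨n, hn⟩ := pow_prime_pow_eq_one P.isPGroup' x.2
  refine hxU (h.pmem x ?_ n hn)
  refine mem_normalizer_fintype fun u hu => ?_
  exact (mem_normalizer_iff.1 hx ⟨u, hP hu⟩).1 hu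

theorem eq_one_aux {p : ℕ} [Fact p.Prime] {X : Type*} [Group X] [Finite X] (R : Subgroup X) [R.Normal]
    (hR : ∀ x : X, (orderOf x).Coprime p → x ∈ R) (hO : Cfsg.pCore p X = ⊥) {U : Subgroup ↥R}
    {w t : ↥R} (hd : RankOne p U w t) (S : Sylow p X) (hSU : (S : Subgroup X) ⊓ R = U.map R.subtype)
    (z : X) (hzS : z ∈ S) (hz : ∀ n ∈ normalizer ((S : Subgroup X) : Set X), n * z = z * n) :
    z = 1 := by
  have hp : p.Prime := Fact.out
  have hzs : ∀ s ∈ S, s * z = z * s := fun s hs => hz s (le_normalizer hs)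
  have hUS : ∀ u ∈ U, (u : X) ∈ S := fun u hu => (hSU.ge ⟨u, hu, rfl⟩).1
  have hUmem : ∀ r : ↥R, (r : X) ∈ S → r ∈ U := fun r hr => by
    obtain ⟨u, hu, he⟩ := hSU.le ⟨hr, r.2⟩
    exact Subtype.ext he ▸ hu
  set N := normalizer (U : Set ↥R) with hN
  have hconjU : ∀ s ∈ S, ∀ u ∈ U, MulAut.conjNormal s u ∈ U := fun s hs u hu => hUmem _ (by
    rw [MulAut.conjNormal_apply]
    exact mul_mem (mul_mem hs (hUS u hu)) (inv_mem hs))
  have hconjN : ∀ s ∈ S, ∀ b ∈ N, MulAut.conjNormal s b ∈ N := by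
    intro s hs b hb
    refine mem_normalizer_fintype fun u hu => ?_
    have h1 := hconjU s hs _ ((mem_normalizer_iff.1 hb _).1 (hconjU s⁻¹ (inv_mem hs) u hu))
    rw [map_mul, map_mul, map_inv (MulAut.conjNormal s)] at h1
    have h2 : MulAut.conjNormal s (MulAut.conjNormal s⁻¹ u) = u := by
      rw [← MulAut.mul_apply, ← map_mul, mul_inv_cancel, map_one, MulAut.one_apply]
    rw [h2] at h1
    exact h1
  -- `S` fixes `t` modulo `U`
  have ht : ∀ s ∈ S, t⁻¹ * MulAut.conjNormal s t ∈ U := by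
    intro s hs
    obtain ⟨g0, hg0, hcyc⟩ := hd.cyc
    haveI : (U.subgroupOf N).Normal := normal_in_normalizer
    set π := QuotientGroup.mk' (U.subgroupOf N)
    haveI : IsCyclic (↥N ⧸ U.subgroupOf N) := by
      refine ⟨π ⟨g0, hg0⟩, fun c => ?_⟩
      obtain ⟨b, rfl⟩ := QuotientGroup.mk'_surjective _ c
      obtain ⟨k, hk⟩ := hcyc b.1 b.2
      refine ⟨k, ?_⟩
      show π ⟨g0, hg0⟩ ^ (k : ℤ) = π b
      rw [zpow_natCast, ← map_pow]
      exact QuotientGroup.eq.2 hk
    let φ' : ↥N →* ↥N := MonoidHom.mk' (fun b => ⟨MulAut.conjNormal s b.1, hconjN s hs b.1 b.2⟩)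
      fun a b => Subtype.ext (map_mul (MulAut.conjNormal s) a.1 b.1)
    let φ := QuotientGroup.map (U.subgroupOf N) (U.subgroupOf N) φ' fun b hb => hconjU s hs b.1 hb
    obtain ⟨m, hm⟩ := φ.map_cyclic
    set T := π ⟨t, hd.tmem⟩
    have hiter : ∀ n : ℕ, ∀ h : MulAut.conjNormal (s ^ n) t ∈ N,
        π ⟨MulAut.conjNormal (s ^ n) t, h⟩ = T ^ (m ^ n) := by
      intro n
      induction n with
      | zero =>
        intro h
        rw [show m ^ 0 = 1 from pow_zero m, zpow_one]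
        congr 1
        exact Subtype.ext (by simp)
      | succ n ih =>
        intro h
        have h' := hconjN _ (pow_mem hs n) t hd.tmem
        calc π ⟨MulAut.conjNormal (s ^ (n + 1)) t, h⟩
            = φ (π ⟨MulAut.conjNormal (s ^ n) t, h'⟩) := by
              refine (congrArg π (Subtype.ext ?_)).trans
                (QuotientGroup.map_mk' _ _ φ' _ ⟨MulAut.conjNormal (s ^ n) t, h'⟩).symm
              show MulAut.conjNormal (s ^ (n + 1)) t = MulAut.conjNormal s (MulAut.conjNormal (s ^ n) t)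
              rw [pow_succ', map_mul, MulAut.mul_apply]
          _ = _ := by rw [hm, ih, ← zpow_mul, pow_succ]
    obtain ⟨j, hj⟩ := pow_prime_pow_eq_one S.isPGroup' hs
    have h1 := hiter (p ^ j) (hconjN _ (pow_mem hs _) t hd.tmem)
    have h0 : π ⟨MulAut.conjNormal (s ^ p ^ j) t, hconjN _ (pow_mem hs _) t hd.tmem⟩ = T := by
      congr 1
      exact Subtype.ext (show MulAut.conjNormal (s ^ p ^ j) t = t by rw [hj, map_one]; rfl)
    rw [h0] at h1
    set d := orderOf T with hdT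
    have hd1 : d ∣ p - 1 := orderOf_dvd_of_pow_eq_one (by
      rw [← map_pow, show (⟨t, hd.tmem⟩ : ↥N) ^ (p - 1) = 1 from Subtype.ext hd.tpow, map_one])
    haveI : NeZero d := ⟨(orderOf_pos T).ne'⟩
    have h2 : (m : ZMod d) ^ p ^ j = 1 := by
      have h3 := zpow_eq_zpow_iff_modEq.1 ((zpow_one T).trans h1)
      have h4 := (ZMod.intCast_eq_intCast_iff _ _ _).2 h3
      push_cast at h4
      exact h4.symm
    obtain ⟨v, hv⟩ : IsUnit (m : ZMod d) := IsUnit.of_pow_eq_one h2 (pow_ne_zero _ hp.ne_zero)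
    have h5 : orderOf v ∣ p ^ j := orderOf_dvd_of_pow_eq_one (Units.ext (by rw [Units.val_pow_eq_pow_val,
      hv, h2, Units.val_one]))
    have h6 : orderOf v ∣ d.totient := by
      rw [← ZMod.card_units_eq_totient d]
      exact orderOf_dvd_card
    have hlt : d.totient < p := lt_of_le_of_lt (Nat.totient_le d)
      (lt_of_le_of_lt (Nat.le_of_dvd (by have := hp.two_le; omega) hd1) (by have := hp.two_le; omega))
    have h7 : (p ^ j).Coprime d.totient := Nat.Coprime.pow_left j (hp.coprime_iff_not_dvd.2 fun hdvd =>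
      absurd (Nat.le_of_dvd (Nat.totient_pos.2 (orderOf_pos T)) hdvd) (not_le.2 hlt))
    have h8 : (m : ZMod d) = 1 := by
      rw [← hv, orderOf_eq_one_iff.1 (Nat.eq_one_of_dvd_coprimes h7 h5 h6), Units.val_one]
    have h9 : T ^ m = T := by
      conv_rhs => rw [← zpow_one T]
      refine zpow_eq_zpow_iff_modEq.2 ((ZMod.intCast_eq_intCast_iff _ _ _).1 ?_)
      rw [h8, Int.cast_one]
    have h10 : π ⟨t, hd.tmem⟩ = π ⟨MulAut.conjNormal s t, hconjN s hs t hd.tmem⟩ := by
      refine h9.symm.trans ((hm T).symm.trans ?_)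
      exact QuotientGroup.map_mk' _ _ φ' _ ⟨t, hd.tmem⟩
    exact (QuotientGroup.eq (s := U.subgroupOf N)).1 h10
  -- so `t` normalises `S`
  have htS : (t : X) ∈ normalizer ((S : Subgroup X) : Set X) := by
    refine mem_normalizer_fintype fun s hs => ?_
    set c : ↥R := t * (t⁻¹ * MulAut.conjNormal s t)⁻¹ * t⁻¹ with hc
    have hcU : c ∈ U := (mem_normalizer_iff.1 hd.tmem _).1 (inv_mem (ht s hs))
    have he : (t : X) * s * (t : X)⁻¹ = (c : X) * s := by
      rw [hc]
      push_cast [MulAut.conjNormal_apply]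
      group
    show (t : X) * s * (t : X)⁻¹ ∈ (S : Subgroup X)
    rw [he]
    exact mul_mem (hUS c hcU) hs
  set ψ : MulAut ↥R := MulAut.conjNormal z
  have hψ : ∀ r : ↥R, ((r : X) * z = z * r) → ψ r = r := fun r hr => Subtype.ext (by
    rw [MulAut.conjNormal_apply, ← hr, mul_inv_cancel_right])
  have hψU : ∀ u ∈ U, ψ u = u := fun u hu => hψ u (hzs _ (hUS u hu))
  have hψt : ψ t = t := hψ t (hz _ htS)
  have hψN : ∀ g : ↥R, ψ g ∈ N ↔ g ∈ N := by
    intro g
    constructor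
    · intro h
      refine mem_normalizer_fintype fun u hu => ?_
      have h1 := (mem_normalizer_iff.1 h u).1 hu
      rw [← hψU u hu, ← map_inv, ← map_mul, ← map_mul] at h1
      have h2 := hψU _ h1
      rw [ψ.injective h2] at h1
      exact h1
    · exact hconjN z hzS g
  -- `z` fixes the opposite Sylow subgroup
  obtain ⟨b, hb, hψw⟩ : ∃ b ∈ N, ψ w = w * b := by
    rcases hd.bruhat (ψ w) with h | ⟨u, hu, b, hb, he⟩
    · exact absurd ((hψN w).1 h) hd.wnot
    refine ⟨b, hb, ?_⟩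
    have h1 : (ψ w)⁻¹ * t * ψ w ∈ N := by
      have := (hψN (w⁻¹ * t * w)).2 hd.tconj
      rwa [map_mul, map_mul, map_inv, hψt] at this
    have h2 : w⁻¹ * (u⁻¹ * t * u) * w ∈ N := by
      rw [he] at h1
      have := mul_mem (mul_mem hb h1) (inv_mem hb)
      convert this using 1
      group
    set x := t⁻¹ * (u⁻¹ * t * u) with hx
    have hxU : x ∈ U := by
      have h3 : t⁻¹ * u⁻¹ * t ∈ U := (mem_normalizer_iff''.1 hd.tmem _).1 (inv_mem hu)
      have := mul_mem h3 hu
      rw [hx]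
      simpa only [mul_assoc] using this
    have h4 : w⁻¹ * x * w ∈ N := by
      have := mul_mem (inv_mem hd.tconj) h2
      convert this using 1
      rw [hx]; group
    obtain ⟨n, hn⟩ := pow_prime_pow_eq_one hd.pgroup hxU
    have h5 : x = 1 := hd.disj x hxU (hd.pmem _ h4 n (by
      rw [show w⁻¹ * x * w = w⁻¹ * x * w⁻¹⁻¹ by rw [inv_inv], conj_pow, hn, mul_one, mul_inv_cancel]))
    have h6 : u = 1 := hd.tfix u hu (by
      rw [hx, inv_mul_eq_one] at h5
      calc t * u * t⁻¹ = u * (u⁻¹ * t * u) * t⁻¹ := by group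
        _ = u * t * t⁻¹ := by rw [← h5]
        _ = u := mul_inv_cancel_right _ _)
    rw [he, h6, one_mul]
  have hk : ∀ g : ↥R, g⁻¹ * ψ g ∈ N := by
    intro g
    rcases hd.bruhat g with hg | ⟨u, hu, c, hc, rfl⟩
    · exact mul_mem (inv_mem hg) ((hψN g).2 hg)
    · rw [map_mul, map_mul, hψU u hu, hψw]
      have : (u * w * c)⁻¹ * (u * (w * b) * ψ c) = c⁻¹ * b * ψ c := by group
      rw [this]
      exact mul_mem (mul_mem (inv_mem hc) hb) ((hψN c).2 hc)
  have hcore : ∀ g : ↥R, g⁻¹ * ψ g ∈ N.normalCore := fun g a => by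
    have h1 := hk (g * a⁻¹)
    have h2 := hk a⁻¹
    rw [map_mul] at h1
    have := mul_mem h1 (inv_mem h2)
    convert this using 1
    rw [inv_inv]
    group
  have hKU : ∀ x ∈ N.normalCore, x ∈ U → x = 1 := fun x hx hxU => by
    have h1 : w⁻¹ * x * w⁻¹⁻¹ ∈ N := hx w⁻¹
    obtain ⟨n, hn⟩ := pow_prime_pow_eq_one hd.pgroup hxU
    refine hd.disj x hxU (hd.pmem _ (by rwa [inv_inv] at h1) n ?_)
    rw [show w⁻¹ * x * w = w⁻¹ * x * w⁻¹⁻¹ by rw [inv_inv], conj_pow, hn, mul_one, mul_inv_cancel]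
  have hKc : ∀ k ∈ N.normalCore, ∀ v ∈ U, k * v * k⁻¹ = v := fun k hk' v hv => by
    refine mul_inv_eq_one.1 (hKU _ ?_ (mul_mem ((mem_normalizer_iff.1 (normalCore_le N hk') v).1 hv)
      (inv_mem hv)))
    have := mul_mem hk' (N.normalCore_normal.conj_mem _ (inv_mem hk') v)
    convert this using 1
    group
  have hid : ∀ g : ↥R, ψ g = g := by
    intro g
    have hg : g ∈ normalClosure (U : Set ↥R) := hd.gen ▸ mem_top g
    induction hg using closure_induction with
    | mem x hx =>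
      obtain ⟨v, hv, hvx⟩ := Group.mem_conjugatesOfSet_iff.1 hx
      obtain ⟨c, rfl⟩ := isConj_iff.1 hvx
      rw [map_mul, map_mul, map_inv, hψU v hv]
      have := hKc _ (hcore c) v hv
      calc ψ c * v * (ψ c)⁻¹ = c * ((c⁻¹ * ψ c) * v * (c⁻¹ * ψ c)⁻¹) * c⁻¹ := by group
        _ = _ := by rw [this]
    | one => exact map_one ψ
    | mul a b _ _ ha hb => rw [map_mul, ha, hb]
    | inv a _ ha => rw [map_inv, ha]
  -- `z` lies in a normal `p`-subgroup
  set C := centralizer (R : Set X) with hC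
  have hzC : z ∈ C := mem_centralizer_iff.2 fun r hr => by
    have := congrArg Subtype.val (hid ⟨r, hr⟩)
    rw [MulAut.conjNormal_apply] at this
    exact (mul_inv_eq_iff_eq_mul.1 this).symm
  haveI : C.Normal := by rw [hC]; infer_instance
  set Q := C ⊓ (S : Subgroup X)
  have hQn : Q.Normal := by
    rw [← normalizer_eq_top_iff, eq_top_iff]
    intro x _
    -- every element is a product of a `p'`-element and a `p`-element
    have key : ∀ y : X, (orderOf y).Coprime p → y ∈ normalizer (Q : Set X) := fun y hy =>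
      mem_normalizer_fintype fun q hq => by
        have h1 : y * q = q * y := mem_centralizer_iff.1 hq.1 y (hR y hy)
        show y * q * y⁻¹ ∈ Q
        rw [h1, mul_inv_cancel_right]
        exact hq
    have hS : (S : Subgroup X) ≤ normalizer (Q : Set X) := fun s hs => mem_normalizer_fintype
      fun q hq => ⟨Subgroup.Normal.conj_mem inferInstance q hq.1 s,
        (S : Subgroup X).mul_mem ((S : Subgroup X).mul_mem hs hq.2) ((S : Subgroup X).inv_mem hs)⟩
    have hRN : R ≤ normalizer (Q : Set X) := fun y hy => mem_normalizer_fintype fun q hq => by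
      have h1 : y * q = q * y := mem_centralizer_iff.1 hq.1 y hy
      show y * q * y⁻¹ ∈ Q
      rw [h1, mul_inv_cancel_right]
      exact hq
    have htop : (S : Subgroup X) ⊔ R = ⊤ := by
      set H := (S : Subgroup X) ⊔ R
      refine eq_top_of_card_eq _ (Nat.dvd_antisymm (card_subgroup_dvd_card H) ?_)
      refine (Nat.dvd_iff_prime_pow_dvd_dvd _ _).2 fun r k hr hrk => ?_
      obtain ⟨P, hP⟩ := @Sylow.exists_subgroup_card_pow_prime X _ _ r k ⟨hr⟩ hrk
      rcases eq_or_ne r p with rfl | hrp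
      · exact ((S.pow_dvd_card_of_pow_dvd_card hrk).trans (card_dvd_of_le le_sup_left))
      · rw [← hP]
        refine card_dvd_of_le (le_trans (fun x hx => hR x ?_) le_sup_right)
        have h1 : orderOf x ∣ r ^ k := hP ▸ orderOf_dvd_natCard P hx
        exact Nat.Coprime.coprime_dvd_left h1 (Nat.Coprime.pow_left _ ((Nat.coprime_primes hr hp).2 hrp))
    exact sup_le hS hRN (htop ▸ mem_top x)
  have hQ : Q ≤ Cfsg.pCore p X := CfsgLib.Amalgam.le_pCore hQn (S.isPGroup'.to_le inf_le_right)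
  rw [hO] at hQ
  exact mem_bot.1 (hQ ⟨hzC, hzS⟩)

/-- A `p`-element centralising `N_X(S)` is trivial. -/
theorem eq_one_of_central {p : ℕ} [Fact p.Prime] {X : Type*} [Group X] [Finite X] (R : Subgroup X)
    [R.Normal] (hR : ∀ x : X, (orderOf x).Coprime p → x ∈ R) (hO : Cfsg.pCore p X = ⊥)
    {U : Subgroup ↥R} {w t : ↥R} (hd : RankOne p U w t) (S : Sylow p X) (z : X) (hzS : z ∈ S)
    (hz : ∀ n ∈ normalizer ((S : Subgroup X) : Set X), n * z = z * n) : z = 1 := by
  obtain ⟨P, hP⟩ := hd.exists_sylow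
  obtain ⟨S', hS'⟩ := (hd.pgroup.map R.subtype).exists_le_sylow
  have hSU : (S' : Subgroup X) ⊓ R = U.map R.subtype := by
    refine le_antisymm ?_ (le_inf hS' (map_subtype_le U))
    rintro x ⟨hxS, hxR⟩
    have hle : (P : Subgroup ↥R) ≤ (S' : Subgroup X).comap R.subtype := by
      rw [hP]; exact map_le_iff_le_comap.1 hS'
    have := P.is_maximal' (S'.isPGroup'.comap_of_injective R.subtype R.subtype_injective) hle
    exact ⟨⟨x, hxR⟩, hP ▸ this ▸ (show (⟨x, hxR⟩ : ↥R) ∈ (S' : Subgroup X).comap R.subtype from hxS),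
      rfl⟩
  obtain ⟨g, rfl⟩ := MulAction.exists_smul_eq X S S'
  have hmem : ∀ x : X, x ∈ ((g • S : Sylow p X) : Subgroup X) ↔ g⁻¹ * x * g ∈ (S : Subgroup X) := by
    intro x
    rw [Sylow.coe_subgroup_smul, mem_pointwise_smul_iff_inv_smul_mem]
    simp [MulAut.smul_def]
  have hzg : g * z * g⁻¹ = 1 := by
    refine eq_one_aux R hR hO hd (g • S) hSU _ ((hmem _).2 (by group; exact hzS)) fun n hn => ?_
    have hn' : g⁻¹ * n * g ∈ normalizer ((S : Subgroup X) : Set X) := by
      refine mem_normalizer_fintype fun x hx => ?_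
      have h1 : n * (g * x * g⁻¹) * n⁻¹ ∈ ((g • S : Sylow p X) : Subgroup X) :=
        (mem_normalizer_iff.1 hn _).1 ((hmem _).2 (by group; exact hx))
      rw [hmem] at h1
      show g⁻¹ * n * g * x * (g⁻¹ * n * g)⁻¹ ∈ (S : Subgroup X)
      convert h1 using 1
      group
    have h2 := hz _ hn'
    calc n * (g * z * g⁻¹) = g * ((g⁻¹ * n * g) * z) * g⁻¹ := by group
      _ = g * (z * (g⁻¹ * n * g)) * g⁻¹ := by rw [h2]
      _ = _ := by group
  simpa using hzg

end CfsgLib.Amalgam.RankOneCentral
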