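import Cfsg.Agent.Lib.Amalgam.RankOneCentral
import Cfsg.Agent.Lib.Classical.SLTwoSylow
import Cfsg.Agent.Lib.KnownB.SUTwoGen

/-!
Rank-one Bruhat data for `SL₂(q)` and `SU₃(q)`, `p ≥ 5`, with the torus element built from `2 ∈ F_p`.
-/

set_option autoImplicit false
set_option linter.unusedVariables false
set_option linter.unusedSectionVars false
set_option linter.style.haveILetI false

namespace CfsgLib.Amalgam.RankOneCentral

open Subgroup

/-- A multiplicative entry whose kernel is unitriangular makes `N(U)/U` cyclic. -/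
theorem cyc_of_entry {M F : Type*} [Group M] [Finite M] [Field F] [Finite F] {U : Subgroup M}
    (χ : M → F) (h1 : χ 1 = 1)
    (hmul : ∀ a ∈ normalizer (U : Set M), ∀ b ∈ normalizer (U : Set M), χ (a * b) = χ a * χ b)
    (hker : ∀ a ∈ normalizer (U : Set M), χ a = 1 → a ∈ U) :
    ∃ g0 ∈ normalizer (U : Set M), ∀ b ∈ normalizer (U : Set M), ∃ k : ℕ, (g0 ^ k)⁻¹ * b ∈ U := by
  set N := normalizer (U : Set M)
  let f : ↥N →* F :=
    { toFun := fun a => χ a.1
      map_one' := h1
      map_mul' := fun a b => hmul a.1 a.2 b.1 b.2 }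
  obtain ⟨⟨_, g0, rfl⟩, hgen⟩ := IsCyclic.exists_monoid_generator (α := ↥f.toHomUnits.range)
  refine ⟨g0.1, g0.2, fun b hb => ?_⟩
  obtain ⟨k, hk⟩ := hgen ⟨_, ⟨b, hb⟩, rfl⟩
  refine ⟨k, hker _ ((g0 ^ k)⁻¹ * (⟨b, hb⟩ : ↥N)).2 ?_⟩
  have h2 : f.toHomUnits g0 ^ k = f.toHomUnits ⟨b, hb⟩ := congrArg Subtype.val hk
  have h3 : f.toHomUnits ((g0 ^ k)⁻¹ * ⟨b, hb⟩) = 1 := by
    rw [map_mul, map_inv, map_pow, h2, inv_mul_cancel]
  exact congrArg Units.val h3

theorem two_pow_sub_one {F : Type*} [Field F] {p : ℕ} [Fact p.Prime] [CharP F p] (hp : 5 ≤ p) :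
    (2 : F) ^ (p - 1) = 1 := by
  have h2 : (2 : ZMod p) ≠ 0 := by
    intro h
    have := Nat.le_of_dvd (by norm_num) ((ZMod.natCast_eq_zero_iff 2 p).1 (by exact_mod_cast h))
    omega
  have h := congrArg (ZMod.castHom (dvd_refl p) F) (ZMod.pow_card_sub_one_eq_one h2)
  rwa [map_pow, map_one, map_ofNat] at h

theorem natCast_ne_zero_of_lt {F : Type*} [Field F] {p : ℕ} [CharP F p] {n : ℕ} (hn : 0 < n)
    (h : n < p) : (n : F) ≠ 0 := fun h0 =>
  absurd (Nat.le_of_dvd hn ((CharP.cast_eq_zero_iff F p n).1 h0)) (not_le.2 h)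

/-- In a perfect group with a Bruhat decomposition and `N(U)/U` cyclic, `U` generates normally. -/
theorem gen_of_perfect {M : Type*} [Group M] {U : Subgroup M} (hperf : commutator M = ⊤) (w : M)
    (hbr : ∀ g : M, g ∈ normalizer (U : Set M) ∨
      ∃ u ∈ U, ∃ b ∈ normalizer (U : Set M), g = u * w * b)
    (hcyc : ∃ g0 ∈ normalizer (U : Set M), ∀ b ∈ normalizer (U : Set M), ∃ k : ℕ, (g0 ^ k)⁻¹ * b ∈ U) :
    normalClosure (U : Set M) = ⊤ := by
  obtain ⟨g0, hg0, hb⟩ := hcyc
  set Q := normalClosure (U : Set M)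
  set B := normalizer (U : Set M)
  set Y := Q ⊔ B
  let π := QuotientGroup.mk' Q
  have hY : Y.map π ≤ zpowers (π g0) := by
    rw [Subgroup.map_sup, show Q.map π = ⊥ by rw [Subgroup.map_eq_bot_iff, QuotientGroup.ker_mk'],
      bot_sup_eq]
    rintro _ ⟨b, hbB, rfl⟩
    obtain ⟨k, hk⟩ := hb b hbB
    refine ⟨k, ?_⟩
    show π g0 ^ (k : ℤ) = π b
    rw [zpow_natCast, ← map_pow]
    exact QuotientGroup.eq.2 (subset_normalClosure hk)
  have hcov : ∀ g : M, g ∈ Y ∨ g * w ∈ Y := by
    intro g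
    rcases hbr g⁻¹ with h | ⟨u, hu, c, hc, he⟩
    · exact Or.inl (inv_mem_iff.1 (mem_sup_right h))
    · refine Or.inr (inv_mem_iff.1 ?_)
      rw [mul_inv_rev, he, show w⁻¹ * (u * w * c) = (w⁻¹ * u * w⁻¹⁻¹) * c by group]
      exact mul_mem (mem_sup_left (normalClosure_normal.conj_mem u (subset_normalClosure hu) _))
        (mem_sup_right hc)
  have htop : Y = ⊤ := by
    by_contra hne
    have hwY : w ∉ Y := fun hwY => hne (eq_top_iff.2 fun g _ => (hcov g).elim id fun h => by
      simpa using mul_mem h (inv_mem hwY))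
    have hidx : Y.index = 2 := index_eq_two_iff.2 ⟨w, fun g => by
      rcases hcov g with h | h
      · exact Or.inr ⟨h, fun h' => hwY (by simpa using mul_mem (inv_mem h) h')⟩
      · exact Or.inl ⟨h, fun h' => hwY (by simpa using mul_mem (inv_mem h') h)⟩⟩
    refine hne (eq_top_iff.2 ?_)
    rw [← hperf, commutator_def, commutator_le]
    intro a _ c _
    rw [commutatorElement_def]
    simp only [mul_mem_iff_of_index_two hidx, inv_mem_iff]
    tauto
  rw [eq_top_iff, ← hperf, commutator_def, commutator_le]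
  intro a _ c _
  rw [← QuotientGroup.eq_one_iff, commutatorElement_def]
  obtain ⟨i, hi⟩ := hY ⟨a, htop ▸ mem_top a, rfl⟩
  obtain ⟨j, hj⟩ := hY ⟨c, htop ▸ mem_top c, rfl⟩
  show π (a * c * a⁻¹ * c⁻¹) = 1
  rw [map_mul, map_mul, map_mul, map_inv, map_inv, ← hi, ← hj]
  group

section SLTwo

open CfsgLib.Classical
open scoped MatrixGroups

variable {F : Type*} [Field F]

theorem conj_uElt_entries (g : SL(2, F)) (b : F) :
    ((g * uElt b * g⁻¹ : SL(2, F)) : Matrix (Fin 2) (Fin 2) F) =
      !![1 - g 0 0 * g 1 0 * b, g 0 0 ^ 2 * b; -(g 1 0 ^ 2 * b), 1 + g 0 0 * g 1 0 * b] := by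
  have hd := g.2
  rw [Matrix.det_fin_two] at hd
  simp only [Matrix.SpecialLinearGroup.coe_mul, Matrix.SpecialLinearGroup.coe_inv,
    Matrix.adjugate_fin_two, uElt_val]
  ext i j
  fin_cases i <;> fin_cases j <;> simp [Matrix.mul_apply, Fin.sum_univ_two] <;> grind

theorem mem_uSL_iff (g : SL(2, F)) : g ∈ uSL F ↔ g 1 0 = 0 ∧ g 0 0 = 1 := by
  constructor
  · rintro ⟨b, rfl⟩
    simp [uElt_val]
  · rintro ⟨hC, hA⟩
    have hd := g.2
    rw [Matrix.det_fin_two, hC, hA, one_mul, mul_zero, sub_zero] at hd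
    refine ⟨g 0 1, Subtype.ext ?_⟩
    rw [uElt_val]
    ext i j
    fin_cases i <;> fin_cases j <;> simp [hC, hA, hd]

theorem mem_normalizer_uSL [Fintype F] {g : SL(2, F)} :
    g ∈ normalizer (uSL F : Set SL(2, F)) ↔ g 1 0 = 0 := by
  constructor
  · intro hg
    have h := (mem_uSL_iff _).1 ((mem_normalizer_iff.1 hg (uElt 1)).1 ⟨1, rfl⟩)
    rw [conj_uElt_entries] at h
    simpa using h.1
  · intro hC
    refine mem_normalizer_fintype fun u hu => ?_
    obtain ⟨b, rfl⟩ := hu
    refine (mem_uSL_iff _).2 ⟨?_, ?_⟩ <;> rw [conj_uElt_entries] <;> simp [hC]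

theorem entry_mul (a b : SL(2, F)) (hb : b 1 0 = 0) : (a * b) 0 0 = a 0 0 * b 0 0 := by
  simp [Matrix.SpecialLinearGroup.coe_mul, Matrix.mul_apply, Fin.sum_univ_two, hb]

/-- Rank-one data of `SL₂(q)`. -/
theorem sl_two_data [Fintype F] (p : ℕ) [Fact p.Prime] [CharP F p] (hp : 5 ≤ p) :
    ∃ (U : Subgroup SL(2, F)) (w t : SL(2, F)), RankOne p U w t := by
  have h2 : (2 : F) ≠ 0 := by simpa using natCast_ne_zero_of_lt (F := F) (p := p) (n := 2) (by omega) (by omega)
  have h3 : (3 : F) ≠ 0 := by simpa using natCast_ne_zero_of_lt (F := F) (p := p) (n := 3) (by omega) (by omega)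
  let w : SL(2, F) := ⟨!![0, -1; 1, 0], by simp [Matrix.det_fin_two]⟩
  let t : SL(2, F) := ⟨!![2, 0; 0, 2⁻¹], by simp [Matrix.det_fin_two, mul_inv_cancel₀ h2]⟩
  have hw : (w : Matrix (Fin 2) (Fin 2) F) = !![0, -1; 1, 0] := rfl
  have ht : (t : Matrix (Fin 2) (Fin 2) F) = !![2, 0; 0, 2⁻¹] := rfl
  obtain ⟨P, hP⟩ := exists_sylow_uSL (F := F) p
  refine ⟨uSL F, w, t, ?_⟩
  refine
    { pgroup := hP ▸ P.isPGroup'
      pmem := ?_
      wnot := ?_
      bruhat := ?_
      disj := ?_
      tmem := mem_normalizer_uSL.2 (by simp [ht])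
      tconj := mem_normalizer_uSL.2 ?_
      tfix := ?_
      tpow := ?_
      cyc := ?_
      gen := ?_ }
  · intro g hg k hk
    have hC := mem_normalizer_uSL.1 hg
    have hpow : ∀ m : ℕ, (g ^ m) 0 0 = g 0 0 ^ m := by
      intro m
      induction m with
      | zero => simp
      | succ m ih => rw [pow_succ, entry_mul _ _ hC, ih, pow_succ]
    have h := hpow (p ^ k)
    rw [hk] at h
    simp at h
    exact (mem_uSL_iff _).2 ⟨hC, CfsgLib.Fusion.FormGroup.eq_one_of_pow (p := p) h.symm⟩
  · intro h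
    have := mem_normalizer_uSL.1 h
    simp [hw] at this
  · intro g
    by_cases hC : g 1 0 = 0
    · exact Or.inl (mem_normalizer_uSL.2 hC)
    · refine Or.inr ⟨uElt (g 0 0 / g 1 0), ⟨_, rfl⟩, w⁻¹ * (uElt (g 0 0 / g 1 0))⁻¹ * g,
        mem_normalizer_uSL.2 ?_, by group⟩
      simp [Matrix.SpecialLinearGroup.coe_mul, Matrix.SpecialLinearGroup.coe_inv,
        Matrix.adjugate_fin_two, hw, uElt_val, Matrix.mul_apply, Fin.sum_univ_two]
      field_simp
      ring
  · intro u hu h
    obtain ⟨b, rfl⟩ := hu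
    have h' := (mem_uSL_iff _).1 h
    rw [show w⁻¹ * uElt b * w = w⁻¹ * uElt b * w⁻¹⁻¹ by rw [inv_inv], conj_uElt_entries] at h'
    have hb : b = 0 := by
      simpa [Matrix.SpecialLinearGroup.coe_inv, Matrix.adjugate_fin_two, hw] using h'.1
    subst hb
    exact Matrix.SpecialLinearGroup.transvection_coeff_zero _
  · simp [Matrix.SpecialLinearGroup.coe_mul, Matrix.SpecialLinearGroup.coe_inv,
      Matrix.adjugate_fin_two, hw, ht, Matrix.mul_apply, Fin.sum_univ_two]
  · intro u hu h
    obtain ⟨b, rfl⟩ := hu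
    have h' := congrArg (fun x : SL(2, F) => x 0 1) h
    simp only [conj_uElt_entries] at h'
    simp [ht, uElt_val] at h'
    have hb : (3 : F) * b = 0 := by linear_combination h'
    rw [(mul_eq_zero.1 hb).resolve_left h3]
    exact Matrix.SpecialLinearGroup.transvection_coeff_zero _
  · have hpow : ∀ m : ℕ, ((t ^ m : SL(2, F)) : Matrix (Fin 2) (Fin 2) F) = !![2 ^ m, 0; 0, (2⁻¹) ^ m] := by
      intro m
      induction m with
      | zero => simp [Matrix.one_fin_two]
      | succ m ih =>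
        rw [pow_succ, Matrix.SpecialLinearGroup.coe_mul, ih, ht]
        ext i j
        fin_cases i <;> fin_cases j <;> simp [Matrix.mul_apply, Fin.sum_univ_two, pow_succ]
    apply Subtype.ext
    rw [hpow, inv_pow, two_pow_sub_one hp, inv_one]
    exact Matrix.one_fin_two.symm
  · exact cyc_of_entry (fun g : SL(2, F) => g 0 0) (by simp)
      (fun a _ b hb => entry_mul a b (mem_normalizer_uSL.1 hb))
      (fun a ha h => (mem_uSL_iff a).2 ⟨mem_normalizer_uSL.1 ha, h⟩)
  · rw [eq_top_iff, ← uSL_sup_conj_eq_top (g := w) (by simp [hw])]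
    refine sup_le subset_normalClosure ?_
    rintro _ ⟨x, hx, rfl⟩
    exact normalClosure_normal.conj_mem x (subset_normalClosure hx) w

end SLTwo

section SUThree

open Matrix CfsgLib.Fusion.FormGroup

variable {K : Type*} [Field K] [Fintype K] {σ : K ≃+* K}

theorem rev_zero' : Fin.rev (0 : Fin 3) = 2 := rfl
theorem rev_one' : Fin.rev (1 : Fin 3) = 1 := rfl
theorem rev_two' : Fin.rev (2 : Fin 3) = 0 := rfl

theorem col_rel_three (g : (suDat σ 3).group) (a b : Fin 3) :
    mat g 0 a * σ (mat g 2 b) + mat g 1 a * σ (mat g 1 b) + mat g 2 a * σ (mat g 0 b) =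
      if b = Fin.rev a then 1 else 0 := by
  have h := (mat_isom g).col_apply a b
  rw [Fin.sum_univ_three, rev_zero', rev_one', rev_two'] at h
  simpa only [CfsgLib.KnownB.SUTwoGen.e_one, CfsgLib.KnownB.SUTwoGen.σ_eq, mul_one] using h

/-- Inverses of upper triangular elements are upper triangular. -/
theorem upper_inv {g : (suDat σ 3).group} (hg : ∀ a b : Fin 3, b < a → mat g a b = 0) :
    ∀ a b : Fin 3, b < a → mat g⁻¹ a b = 0 := by
  have : Finite (suDat σ 3).group := inferInstance
  have h : g⁻¹ = g ^ (orderOf g - 1) := by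
    refine inv_eq_of_mul_eq_one_left ?_
    rw [← pow_succ, Nat.sub_add_cancel (orderOf_pos g), pow_orderOf_eq_one]
  rw [h]
  induction orderOf g - 1 with
  | zero => intro a b hab; rw [pow_zero, mat_one, Matrix.one_apply_ne hab.ne']
  | succ m ih =>
    intro a b hab
    rw [pow_succ, mat_mul, mul_apply_diag ih hg a b hab.le, if_neg hab.ne']

theorem upper_normalizes {g : (suDat σ 3).group} (hg : ∀ a b : Fin 3, b < a → mat g a b = 0) :
    g ∈ normalizer (U (suDat σ 3) : Set (suDat σ 3).group) := by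
  refine mem_normalizer_fintype fun u hu => ?_
  have hu' : IsUni (mat u) := hu
  have h1 : ∀ a b : Fin 3, b ≤ a → (mat g * mat u) a b = if a = b then mat g a a else 0 := fun a b h => by
    rw [mul_apply_diag hg hu'.lower a b h, hu'.diag, mul_one]
  show IsUni (mat (g * u * g⁻¹))
  intro a b h
  rw [mat_mul, mat_mul, mul_apply_diag (fun a b h => by rw [h1 a b h.le, if_neg h.ne']) (upper_inv hg) a b h,
    h1 a a le_rfl, if_pos rfl]
  split_ifs with hab
  · have h2 := congrFun (congrFun (mat_mul_inv g) a) a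
    rwa [mul_apply_diag hg (upper_inv hg) a a le_rfl, if_pos rfl, Matrix.one_apply_eq] at h2
  · rfl

theorem upper_of_corner {g : (suDat σ 3).group} (h : mat g 2 0 = 0) :
    ∀ a b : Fin 3, b < a → mat g a b = 0 := by
  have h00 := col_rel_three g 0 0
  have h01 := col_rel_three g 0 1
  rw [rev_zero', if_neg (by decide), h] at h00 h01
  simp only [map_zero, mul_zero, zero_mul, zero_add, add_zero] at h00 h01
  have h10 : mat g 1 0 = 0 := by simpa using h00
  rw [h10] at h01
  have h0 : mat g 0 0 ≠ 0 := by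
    intro h0
    have hd := mat_det g
    rw [Matrix.det_eq_zero_of_column_eq_zero 0 (fun i => by fin_cases i <;> simp [h0, h10, h])] at hd
    exact zero_ne_one hd
  have h21 : mat g 2 1 = 0 := by simpa [h0] using h01
  intro a b hab
  fin_cases a <;> fin_cases b <;> first | exact h10 | exact h | exact h21 | exact absurd hab (by decide)

/-- Rank-one data of `SU₃(q)` in the antidiagonal form. -/
theorem su_three_data (p : ℕ) [Fact p.Prime] [CharP K p] (hp : 5 ≤ p) (hσ : orderOf σ = 2)
    (hperf : commutator (suDat σ 3).group = ⊤) :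
    ∃ (V : Subgroup (suDat σ 3).group) (w t : (suDat σ 3).group), RankOne p V w t := by
  have hD : (suDat σ 3).Good := suGood hσ le_rfl
  have h2 : (2 : K) ≠ 0 := by simpa using natCast_ne_zero_of_lt (F := K) (p := p) (n := 2) (by omega) (by omega)
  have h3 : (3 : K) ≠ 0 := by simpa using natCast_ne_zero_of_lt (F := K) (p := p) (n := 3) (by omega) (by omega)
  have hN : ∀ g : (suDat σ 3).group, g ∈ normalizer (U (suDat σ 3) : Set (suDat σ 3).group) ↔ mat g 2 0 = 0 :=
    fun g => ⟨fun hg => normalizer_upper p hD hg 2 0 (by decide), fun h => upper_normalizes (upper_of_corner h)⟩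
  obtain ⟨w, W, hW0, hw⟩ : ∃ (w : (suDat σ 3).group) (W : Fin 3 → K), (∀ i, W i ≠ 0) ∧
      mat w = mono Fin.revPerm W := by
    obtain ⟨g, hg, W, hW, hgv⟩ := exists_weyl hD Fin.revPerm fun i => by simp
    exact ⟨⟨g, hg⟩, W, hW, hgv⟩
  obtain ⟨t, ht⟩ : ∃ t : (suDat σ 3).group, mat t = Matrix.diagonal ![2, 1, 2⁻¹] := by
    obtain ⟨g, hg, hgv⟩ := exists_mono (D := suDat σ 3) 1 (fun _ => rfl) ![2, 1, 2⁻¹] (fun i => by
        fin_cases i <;> simp [CfsgLib.KnownB.SUTwoGen.e_one, CfsgLib.KnownB.SUTwoGen.σ_eq, rev_zero', rev_one', rev_two', map_ofNat, h2])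
      (fun i => by fin_cases i <;> simp [h2]) (by
        rw [mono_one, det_diagonal]; simp [Fin.prod_univ_three, h2])
    exact ⟨⟨g, hg⟩, by rw [← mono_one]; exact hgv⟩
  have hwmul : ∀ (X : Matrix (Fin 3) (Fin 3) K) (a b : Fin 3),
      (mono Fin.revPerm W * X) a b = W (Fin.rev a) * X (Fin.rev a) b := fun X a b => by
    rw [Matrix.mul_apply, Finset.sum_eq_single (Fin.rev a) (fun c _ hc => by
      simp [mono, show ¬ a = Fin.rev c from fun e => hc (by rw [e, Fin.rev_rev])]) (by simp)]
    simp [mono]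
  have hmulw : ∀ (X : Matrix (Fin 3) (Fin 3) K) (a b : Fin 3),
      (X * mono Fin.revPerm W) a b = X a (Fin.rev b) * W b := fun X a b => by
    rw [Matrix.mul_apply, Finset.sum_eq_single (Fin.rev b) (fun c _ hc => by
      simp [mono, show ¬ c = Fin.rev b from hc]) (by simp)]
    simp [mono]
  have hbruhat : ∀ g : (suDat σ 3).group, g ∈ normalizer (U (suDat σ 3) : Set (suDat σ 3).group) ∨
      ∃ u ∈ U (suDat σ 3), ∃ b ∈ normalizer (U (suDat σ 3) : Set (suDat σ 3).group), g = u * w * b := by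
    intro g
    by_cases hC : mat g 2 0 = 0
    · exact Or.inl ((hN g).2 hC)
    have h00 := col_rel_three g 0 0
    rw [rev_zero', if_neg (by decide)] at h00
    set r := mat g 2 0
    set b := mat g 0 0 / r
    set c := mat g 1 0 / r
    have hσσ : ∀ x, σ (σ x) = x := hD.hσ
    have hσr : σ r ≠ 0 := by simpa using hC
    have hb : b + σ b + -σ c * σ (-σ c) = 0 := by
      have q1 : b * r = mat g 0 0 := div_mul_cancel₀ _ hC
      have q2 : c * r = mat g 1 0 := div_mul_cancel₀ _ hC
      have q3 : σ b * σ r = σ (mat g 0 0) := by rw [← map_mul, q1]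
      have q4 : σ c * σ r = σ (mat g 1 0) := by rw [← map_mul, q2]
      rw [← q1, ← q2, map_mul, map_mul] at h00
      rw [map_neg, hσσ]
      refine (mul_eq_zero.1 (?_ : (b + σ b + -σ c * -c) * (r * σ r) = 0)).resolve_right
        (mul_ne_zero hC hσr)
      linear_combination h00
    obtain ⟨u, hu, -⟩ := exists_mdG p hD (i := (0 : Fin 3)) (j := 1) rfl (by decide) (by decide) hb
    have huU : u ∈ U (suDat σ 3) := md_mem_U rfl (by decide) hu
    refine Or.inr ⟨u, huU, w⁻¹ * u⁻¹ * g, (hN _).2 ?_, by group⟩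
    set X := mat (u⁻¹ * g) with hX
    have hg : mat g = mat u * X := by rw [hX, ← mat_mul, mul_inv_cancel_left]
    have hY : X = mono Fin.revPerm W * mat (w⁻¹ * u⁻¹ * g) := by
      rw [← hw, ← mat_mul, hX]; congr 1; group
    have e0 := congrFun (congrFun hg 0) 0
    have e1 := congrFun (congrFun hg 1) 0
    have e2 := congrFun (congrFun hg 2) 0
    rw [hu] at e0 e1 e2
    simp [mdM, Matrix.mul_apply, Fin.sum_univ_three, Matrix.single_apply, CfsgLib.KnownB.SUTwoGen.σ_eq,
      rev_zero', hσσ] at e0 e1 e2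
    have x1 : X 1 0 = 0 := by
      have : mat g 1 0 = c * r := (div_mul_cancel₀ _ hC).symm
      rw [← e2] at e1
      linear_combination this - e1
    have x0 : X 0 0 = 0 := by
      have : mat g 0 0 = b * r := (div_mul_cancel₀ _ hC).symm
      rw [← e2, x1] at e0
      linear_combination this - e0
    rw [hY, hwmul, rev_zero'] at x0
    exact (mul_eq_zero.1 x0).resolve_left (hW0 _)
  have hcyc : ∃ g0 ∈ normalizer (U (suDat σ 3) : Set (suDat σ 3).group),
      ∀ b ∈ normalizer (U (suDat σ 3) : Set (suDat σ 3).group), ∃ k : ℕ, (g0 ^ k)⁻¹ * b ∈ U (suDat σ 3) := by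
    refine cyc_of_entry (fun g : (suDat σ 3).group => mat g 0 0) (by simp [mat_one]) ?_ ?_
    · intro a ha c hc
      show mat (a * c) 0 0 = _
      rw [mat_mul, mul_apply_diag (upper_of_corner ((hN a).1 ha)) (upper_of_corner ((hN c).1 hc)) 0 0 le_rfl,
        if_pos rfl]
    · intro a ha (h1 : mat a 0 0 = 1)
      have hup := upper_of_corner ((hN a).1 ha)
      have h02 := col_rel_three a 0 2
      rw [rev_zero', if_pos rfl, hup 1 0 (by decide), hup 2 0 (by decide), h1] at h02
      simp only [zero_mul, add_zero, one_mul, EmbeddingLike.map_eq_one_iff] at h02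
      have hd := mat_det a
      rw [Matrix.det_fin_three, hup 1 0 (by decide), hup 2 0 (by decide), hup 2 1 (by decide), h1, h02] at hd
      have h11 : mat a 1 1 = 1 := by linear_combination hd
      intro i j hij
      split_ifs with e
      · subst e; fin_cases i <;> assumption
      · exact hup i j (lt_of_le_of_ne hij (Ne.symm e))
  refine ⟨U (suDat σ 3), w, t, ?_⟩
  refine
    { pgroup := isPGroup_U hD
      pmem := fun g hg k hk => pElement_mem hD hg k hk
      wnot := ?_
      bruhat := hbruhat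
      disj := ?_
      tmem := upper_normalizes fun a b hab => by rw [ht, Matrix.diagonal_apply_ne _ hab.ne']
      tconj := ?_
      tfix := ?_
      tpow := ?_
      cyc := hcyc
      gen := ?_ }
  · intro h
    have := (hN w).1 h
    rw [hw] at this
    simp [mono, rev_zero', hW0] at this
  · intro u hu h
    have hu' : IsUni (mat u) := hu
    have hv : IsUni (mat (w⁻¹ * u * w)) := h
    refine mat_inj (Matrix.ext fun a c => ?_)
    rw [mat_one]
    rcases le_or_gt c a with hca | hca
    · rw [hu' a c hca, Matrix.one_apply]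
    have he : mat u * mat w = mat w * mat (w⁻¹ * u * w) := by
      rw [← mat_mul, ← mat_mul]; congr 1; group
    have h1 := congrFun (congrFun he a) (Fin.rev c)
    rw [hw, hmulw, hwmul, Fin.rev_rev, hv.lower _ _ (Fin.rev_lt_rev.2 hca), mul_zero] at h1
    rw [Matrix.one_apply_ne hca.ne]
    exact (mul_eq_zero.1 h1).resolve_right (hW0 _)
  · refine (hN _).2 ?_
    have he : mat t * mat w = mat w * mat (w⁻¹ * t * w) := by
      rw [← mat_mul, ← mat_mul]; congr 1; group
    have h1 := congrFun (congrFun he 0) 0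
    rw [hw, hmulw, hwmul, rev_zero', ht, Matrix.diagonal_apply_ne _ (by decide), zero_mul] at h1
    exact (mul_eq_zero.1 h1.symm).resolve_left (hW0 _)
  · intro u hu h
    have hu' : IsUni (mat u) := hu
    have he : mat t * mat u = mat u * mat t := by
      rw [← mat_mul, ← mat_mul]; exact congrArg mat (mul_inv_eq_iff_eq_mul.1 h)
    refine mat_inj (Matrix.ext fun a c => ?_)
    rw [mat_one]
    rcases le_or_gt c a with hca | hca
    · rw [hu' a c hca, Matrix.one_apply]
    have h1 := congrFun (congrFun he a) c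
    rw [ht, Matrix.diagonal_mul, Matrix.mul_diagonal] at h1
    rw [Matrix.one_apply_ne hca.ne]
    have hne : (![2, 1, 2⁻¹] : Fin 3 → K) a ≠ ![2, 1, 2⁻¹] c := by
      fin_cases a <;> fin_cases c <;> simp_all
      · intro e; exact one_ne_zero (α := K) (by linear_combination e)
      · intro e
        refine h3 ?_
        field_simp at e
        linear_combination e
      · intro e
        field_simp at e
        exact one_ne_zero (α := K) (by linear_combination e)
    exact (mul_eq_zero.1 (show ((![2, 1, 2⁻¹] : Fin 3 → K) a - ![2, 1, 2⁻¹] c) * mat u a c = 0 by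
      linear_combination h1)).resolve_left (sub_ne_zero.2 hne)
  · refine mat_inj ?_
    rw [mat_pow, ht, Matrix.diagonal_pow, mat_one, ← Matrix.diagonal_one]
    congr 1
    funext i
    fin_cases i <;> simp [two_pow_sub_one hp]
  · exact gen_of_perfect hperf w hbruhat hcyc

end SUThree

end CfsgLib.Amalgam.RankOneCentral
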