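import Cfsg.Agent.Lib.Amalgam.PGLTwoPrime
import Cfsg.Agent.Lib.Amalgam.CubeTorus

/-!
# Automizers of rank-two subgroups of an extraspecial Sylow subgroup of order `p³`
-/

set_option autoImplicit false

namespace CfsgLib.Amalgam.RuizViruel

open Subgroup Matrix Projectivization CfsgLib.Amalgam.CubeTorus CfsgLib.Geom.Moebius CfsgLib.Amalgam.PGLTwoPrime
open scoped MatrixGroups commutatorElement

variable {G : Type*} [Group G] [Finite G] {p : ℕ} [Fact p.Prime]

/-- Generator data of the centre of an extraspecial Sylow subgroup of order `p³` and exponent `p`. -/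
structure Data (P : Sylow p G) (z : G) : Prop where
  card : Nat.card P = p ^ 3
  exp : ∀ s ∈ (P : Subgroup G), s ^ p = 1
  mem : z ∈ (P : Subgroup G)
  ord : orderOf z = p
  central : ∀ s ∈ (P : Subgroup G), Commute z s
  comm : ∀ s ∈ (P : Subgroup G), ∀ t ∈ (P : Subgroup G), s * t * s⁻¹ * t⁻¹ ∈ zpowers z
  center_le : ∀ x ∈ (P : Subgroup G), (∀ s ∈ (P : Subgroup G), Commute x s) → x ∈ zpowers z

theorem exists_data (P : Sylow p G) (hE : Cfsg.IsExtraspecial p P) (hcard : Nat.card P = p ^ 3)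
    (hexp : Monoid.exponent P = p) : ∃ z, Data P z := by
  obtain ⟨⟨hP, hfr, hcom⟩, hZ⟩ := hE
  obtain ⟨⟨z₀, hz₀⟩, hzo⟩ := exists_prime_orderOf_dvd_card' (G := center P) p (by rw [hZ])
  rw [Subgroup.orderOf_mk] at hzo
  have hZz : zpowers z₀ = center P := eq_of_le_of_card_ge (zpowers_le.2 hz₀) (by
    rw [hZ, Nat.card_zpowers, hzo])
  have hmem : ∀ w : P, w ∈ center P → (w : G) ∈ zpowers (z₀ : G) := by
    intro w hw
    rw [← hZz, mem_zpowers_iff] at hw
    obtain ⟨i, rfl⟩ := hw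
    exact mem_zpowers_iff.2 ⟨i, (SubgroupClass.coe_zpow z₀ i).symm⟩
  refine ⟨z₀, hcard, fun s hs => ?_, z₀.2, by rw [Subgroup.orderOf_coe]; exact hzo,
    fun s hs => congrArg Subtype.val (mem_center_iff.1 hz₀ ⟨s, hs⟩).symm, fun s hs t ht => ?_, fun x hx h => ?_⟩
  · have := congrArg Subtype.val (Monoid.pow_exponent_eq_one (⟨s, hs⟩ : (P : Subgroup G)))
    rw [hexp] at this
    simpa using this
  · have : ⁅(⟨s, hs⟩ : P), ⟨t, ht⟩⁆ ∈ center P :=
      hcom ▸ commutator_mem_commutator (mem_top _) (mem_top _)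
    have h2 := hmem _ this
    rwa [commutatorElement_def] at h2
  · exact hmem ⟨x, hx⟩ (mem_center_iff.2 fun s => Subtype.ext (h s s.2).symm.eq)

variable {P : Sylow p G} {z : G}

namespace Data

theorem orderOf_of_notMem (D : Data P z) {x : G} (hx : x ∈ (P : Subgroup G)) (hxz : x ∉ zpowers z) :
    orderOf x = p :=
  orderOf_eq_prime (D.exp x hx) fun h => hxz (h ▸ one_mem _)

/-- The subgroup `⟨z, x⟩`. -/
def line (D : Data P z) (x : G) (hx : x ∈ (P : Subgroup G)) : Subgroup G where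
  carrier := {g | ∃ v : ZMod p × ZMod p, el z x v = g}
  one_mem' := ⟨0, by simp [el]⟩
  mul_mem' := by
    rintro _ _ ⟨v, rfl⟩ ⟨w, rfl⟩
    exact ⟨v + w, el_add (D.ord ▸ pow_orderOf_eq_one z) (D.exp x hx) (D.central x hx) v w⟩
  inv_mem' := by
    rintro _ ⟨v, rfl⟩
    refine ⟨-v, eq_inv_of_mul_eq_one_left ?_⟩
    rw [← el_add (D.ord ▸ pow_orderOf_eq_one z) (D.exp x hx) (D.central x hx), neg_add_cancel]
    simp [el]

variable (D : Data P z) {x : G} (hx : x ∈ (P : Subgroup G)) (hxz : x ∉ zpowers z)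
include D hx hxz

theorem line_le : D.line x hx ≤ (P : Subgroup G) := by
  rintro _ ⟨v, rfl⟩
  exact mul_mem (pow_mem D.mem _) (pow_mem hx _)

theorem self_mem_line : x ∈ D.line x hx := by
  haveI : Fact (1 < p) := ⟨(Fact.out : p.Prime).one_lt⟩
  exact ⟨(0, 1), by simp [el, ZMod.val_one]⟩

theorem card_line : Nat.card ↥(D.line x hx) = p ^ 2 := by
  have hinj := el_injective D.ord (D.orderOf_of_notMem hx hxz) (D.central x hx) hxz
  rw [← Nat.card_congr (Equiv.ofBijective (fun v : ZMod p × ZMod p => (⟨el z x v, v, rfl⟩ : D.line x hx))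
    ⟨fun a b h => hinj (congrArg Subtype.val h), by rintro ⟨_, v, rfl⟩; exact ⟨v, rfl⟩⟩),
    Nat.card_prod, Nat.card_zmod, sq]

theorem eq_line_of_le {B : Subgroup G} (h1 : D.line x hx ≤ B) (h2 : B ≤ (P : Subgroup G)) :
    B = D.line x hx ∨ B = (P : Subgroup G) := by
  obtain ⟨k, hk3, hk⟩ := (Nat.dvd_prime_pow Fact.out).1 (D.card ▸ card_dvd_of_le h2)
  have hle := card_dvd_of_le h1
  rw [D.card_line hx hxz, hk] at hle
  have hk2 := (Nat.pow_dvd_pow_iff_le_right (Fact.out : p.Prime).one_lt).1 hle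
  interval_cases k
  · exact Or.inl (eq_of_le_of_card_ge h1 (by rw [hk, D.card_line hx hxz])).symm
  · exact Or.inr (eq_of_le_of_card_ge h2 (by rw [hk]; exact D.card.le))

theorem inf_centralizer_line :
    (P : Subgroup G) ⊓ centralizer (D.line x hx : Set G) = D.line x hx := by
  refine (D.eq_line_of_le hx hxz (le_inf (D.line_le hx hxz) ?_) inf_le_left).resolve_right fun h => ?_
  · intro g hg
    obtain ⟨v, rfl⟩ := hg
    refine mem_centralizer_iff.2 fun b hb => ?_
    obtain ⟨w, rfl⟩ := hb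
    rw [← el_add (D.ord ▸ pow_orderOf_eq_one z) (D.exp x hx) (D.central x hx),
      ← el_add (D.ord ▸ pow_orderOf_eq_one z) (D.exp x hx) (D.central x hx), add_comm]
  · refine hxz (D.center_le x hx fun s hs => ?_)
    exact mem_centralizer_iff.1 (inf_eq_left.1 h hs) x (D.self_mem_line hx hxz)

theorem exists_complement : ∃ y ∈ (P : Subgroup G), y ∉ D.line x hx ∧
    D.line x hx ⊔ zpowers y = (P : Subgroup G) ∧ ∃ r : ZMod p, r ≠ 0 ∧ y * x * y⁻¹ = el z x (r, 1) := by
  haveI : Fact (1 < p) := ⟨(Fact.out : p.Prime).one_lt⟩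
  have hne : ¬ (P : Subgroup G) ≤ D.line x hx := fun h => by
    have h1 := card_le_of_le h
    rw [D.card_line hx hxz] at h1
    have := D.card
    have h3 := Nat.pow_lt_pow_right (Fact.out : p.Prime).one_lt (show 2 < 3 by norm_num)
    omega
  obtain ⟨y, hy, hyA⟩ := Set.not_subset.1 hne
  refine ⟨y, hy, hyA, ?_, ?_⟩
  · exact (D.eq_line_of_le hx hxz le_sup_left (sup_le (D.line_le hx hxz) (zpowers_le.2 hy))).resolve_left
      fun h => hyA (h ▸ mem_sup_right (mem_zpowers y))
  · have hzp : z ^ p = 1 := D.ord ▸ pow_orderOf_eq_one z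
    obtain ⟨i, hi⟩ := mem_zpowers_iff.1 (D.comm y hy x hx)
    have hzi : z ^ ((i : ZMod p)).val = z ^ i := by
      rw [← zpow_natCast, zpow_eq_zpow_iff_modEq, D.ord, ← ZMod.intCast_eq_intCast_iff]
      simp
    have e : y * x * y⁻¹ = el z x ((i : ZMod p), 1) := by
      rw [el, ZMod.val_one, pow_one, hzi, hi, inv_mul_cancel_right]
    refine ⟨(i : ZMod p), fun h0 => hyA ?_, e⟩
    rw [h0] at e
    have hc : Commute y x := mul_inv_eq_iff_eq_mul.1 (by simpa [el, ZMod.val_one] using e)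
    rw [← D.inf_centralizer_line hx hxz]
    refine ⟨hy, mem_centralizer_iff.2 ?_⟩
    rintro _ ⟨v, rfl⟩
    exact (((D.central y hy).pow_left _).mul_left (hc.symm.pow_left _)).eq

/-- Conjugation in `P` gives all upper transvections. -/
theorem realized_upper (c : ZMod p) : Realized z x (upper c) := by
  haveI : Fact (1 < p) := ⟨(Fact.out : p.Prime).one_lt⟩
  haveI : NeZero p := ⟨(Fact.out : p.Prime).ne_zero⟩
  obtain ⟨y, hy, -, -, r, hr, hyx⟩ := D.exists_complement hx hxz
  have hzp : z ^ p = 1 := D.ord ▸ pow_orderOf_eq_one z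
  have hstep : ∀ v, y * el z x v * y⁻¹ = el z x (upper r v) := by
    intro v
    rw [show y * el z x v * y⁻¹ = (y * z * y⁻¹) ^ v.1.val * (y * x * y⁻¹) ^ v.2.val by
      rw [el, conj_pow, conj_pow]; group, ← (D.central y hy).eq, mul_inv_cancel_right, hyx, el, el, upper,
      ZMod.val_one, pow_one, ((D.central x hx).pow_left _).mul_pow, ← pow_val_mul hzp,
      ← mul_assoc, ← pow_val_add hzp]
  have hn : ∀ n : ℕ, ∀ v, y ^ n * el z x v * (y ^ n)⁻¹ = el z x (upper ((n : ZMod p) * r) v) := by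
    intro n
    induction n with
    | zero => intro v; simp [upper]
    | succ n ih =>
      intro v
      rw [pow_succ', show y * y ^ n * el z x v * (y * y ^ n)⁻¹ =
        y * (y ^ n * el z x v * (y ^ n)⁻¹) * y⁻¹ by group, ih, hstep]
      refine congrArg (el z x) (Prod.ext ?_ rfl)
      simp only [upper, Nat.cast_succ]
      ring
  refine ⟨y ^ (c / r).val, fun v => ?_⟩
  rw [hn, ZMod.natCast_zmod_val, div_mul_cancel₀ c hr]

end Data

/-- Coordinates on an elementary abelian group of order `p²`, as a module. -/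
theorem exists_coords_module {V : Type*} [CommGroup V] [Finite V] [Module (ZMod p) (Additive V)]
    (hcard : Nat.card V = p ^ 2) :
    ∃ (π : V → Fin 2 → ZMod p) (ρ : Monoid.End V →* Matrix (Fin 2) (Fin 2) (ZMod p)),
      (∀ a b, π (a * b) = π a + π b) ∧ (∀ a, π a = 0 ↔ a = 1) ∧ Function.Surjective π ∧
      ∀ (q : Monoid.End V) (a : V), ρ q *ᵥ π a = π (q a) := by
  haveI : Module.Finite (ZMod p) (Additive V) := Module.Finite.of_finite
  have hr : Module.finrank (ZMod p) (Additive V) = 2 := by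
    have h := Module.natCard_eq_pow_finrank (K := ZMod p) (V := Additive V)
    rw [Nat.card_congr Additive.toMul, hcard, Nat.card_zmod] at h
    exact (Nat.pow_right_injective (Fact.out : p.Prime).two_le h).symm
  let b : Module.Basis (Fin 2) (ZMod p) (Additive V) := Module.finBasisOfFinrankEq (ZMod p) (Additive V) hr
  let L : Monoid.End V → Module.End (ZMod p) (Additive V) := fun q =>
    (MonoidHom.toAdditive (show V →* V from q)).toZModLinearMap p
  refine ⟨fun a => b.equivFun (Additive.ofMul a),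
    { toFun := fun q => LinearMap.toMatrix b b (L q)
      map_one' := by
        rw [show L 1 = 1 from LinearMap.ext fun u => rfl]
        exact LinearMap.toMatrix_id b
      map_mul' := fun q r => by
        rw [← LinearMap.toMatrix_mul, show L (q * r) = L q * L r from LinearMap.ext fun u => rfl] },
    fun a c => ?_, fun a => ?_, ?_, fun q a => ?_⟩
  · show b.equivFun (Additive.ofMul a + Additive.ofMul c) = _
    rw [map_add]
  · show b.equivFun (Additive.ofMul a) = 0 ↔ _
    rw [LinearEquiv.map_eq_zero_iff]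
    exact Iff.rfl
  · exact b.equivFun.surjective.comp Additive.ofMul.surjective
  · show LinearMap.toMatrix b b (L q) *ᵥ b.equivFun _ = b.equivFun _
    rw [b.equivFun_apply, b.equivFun_apply, LinearMap.toMatrix_mulVec_repr]
    rfl

/-- Coordinates on an elementary abelian group of order `p²`. -/
theorem exists_coords_comm {V : Type*} [CommGroup V] [Finite V] (hexp : ∀ v : V, v ^ p = 1)
    (hcard : Nat.card V = p ^ 2) :
    ∃ (π : V → Fin 2 → ZMod p) (ρ : Monoid.End V →* Matrix (Fin 2) (Fin 2) (ZMod p)),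
      (∀ a b, π (a * b) = π a + π b) ∧ (∀ a, π a = 0 ↔ a = 1) ∧ Function.Surjective π ∧
      ∀ (q : Monoid.End V) (a : V), ρ q *ᵥ π a = π (q a) :=
  @exists_coords_module p _ V _ _ (AddCommGroup.zmodModule fun u => by
    show Additive.ofMul (Additive.toMul u ^ p) = Additive.ofMul 1
    rw [hexp]) hcard

/-- Coordinates on `P / Z(P)`. -/
theorem exists_coords {S : Type*} [Group S] [Finite S] (hcomm : ∀ a b : S, ⁅a, b⁆ ∈ center S)
    (hexp : ∀ a : S, a ^ p = 1) (hcard : Nat.card (S ⧸ center S) = p ^ 2) :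
    ∃ (π : S → Fin 2 → ZMod p) (ρ : MulAut S →* Matrix (Fin 2) (Fin 2) (ZMod p)),
      (∀ a b, π (a * b) = π a + π b) ∧ (∀ a, π a = 0 ↔ a ∈ center S) ∧ Function.Surjective π ∧
      ∀ φ a, ρ φ *ᵥ π a = π (φ a) := by
  letI : CommGroup (S ⧸ center S) := { (inferInstance : Group (S ⧸ center S)) with
    mul_comm := fun u v => by
      induction u using QuotientGroup.induction_on with | _ a =>
      induction v using QuotientGroup.induction_on with | _ b =>
      have h : (QuotientGroup.mk' (center S)) ⁅a, b⁆ = 1 := (QuotientGroup.eq_one_iff _).2 (hcomm a b)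
      rw [map_commutatorElement, commutatorElement_eq_one_iff_mul_comm] at h
      exact h }
  have hexp' : ∀ u : S ⧸ center S, u ^ p = 1 := fun u => by
    induction u using QuotientGroup.induction_on with | _ a =>
    rw [← QuotientGroup.mk_pow, hexp]; rfl
  obtain ⟨π, ρ, h1, h2, h3, h4⟩ := exists_coords_comm hexp' hcard
  let q : MulAut S →* Monoid.End (S ⧸ center S) :=
    { toFun := fun φ => QuotientGroup.map (center S) (center S) φ.toMonoidHom fun a ha => by
        rw [mem_comap, mem_center_iff]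
        intro c
        obtain ⟨d, rfl⟩ := φ.surjective c
        show φ d * φ a = φ a * φ d
        rw [← map_mul, ← map_mul, mem_center_iff.1 ha d]
      map_one' := MonoidHom.ext fun u => by induction u using QuotientGroup.induction_on with | _ a => rfl
      map_mul' := fun φ ψ => MonoidHom.ext fun u => by
        induction u using QuotientGroup.induction_on with | _ a => rfl }
  refine ⟨fun a => π (a : S ⧸ center S), ρ.comp q, fun a c => h1 (a : S ⧸ center S) c, fun a => ?_,
    h3.comp QuotientGroup.mk_surjective, fun φ a => h4 _ _⟩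
  rw [h2, QuotientGroup.eq_one_iff]

variable (P z)

/-- The points of `P / Z(P)` where `N(P)` contains a large torus. -/
theorem exists_points (D : Data P z) : ∃ (M : Subgroup PGL(2, ZMod p))
    (pnt : G → Line (ZMod p)), ¬ p ∣ Nat.card M ∧
      (∀ q : Line (ZMod p), ∃ x ∈ (P : Subgroup G), x ∉ zpowers z ∧ pnt x = q) ∧
      (∀ x₁ x₂, ∀ hx₁ : x₁ ∈ (P : Subgroup G), ∀ hx₂ : x₂ ∈ (P : Subgroup G), x₁ ∉ zpowers z →
        x₂ ∉ zpowers z → pnt x₁ = pnt x₂ → x₁ ∈ D.line x₂ hx₂) ∧
      ∀ x ∈ (P : Subgroup G), x ∉ zpowers z → (∀ c : ZMod p, Realized z x (lower c)) →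
        ∀ d : ℕ, (∀ n : ℕ, p - 1 ∣ 3 * n → d ∣ n) → pnt x ∈ bigPoints M d := by
  classical
  haveI : NeZero p := ⟨(Fact.out : p.Prime).ne_zero⟩
  haveI : Fact (1 < p) := ⟨(Fact.out : p.Prime).one_lt⟩
  set P' : Subgroup G := (P : Subgroup G) with hP'
  have hcen : ∀ w : P', w ∈ center P' ↔ (w : G) ∈ zpowers z := by
    intro w
    constructor
    · exact fun h => D.center_le w w.2 fun s hs => (congrArg Subtype.val (mem_center_iff.1 h ⟨s, hs⟩)).symm
    · intro h
      obtain ⟨i, hi⟩ := mem_zpowers_iff.1 h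
      refine mem_center_iff.2 fun s => Subtype.ext ?_
      show (s : G) * w = w * s
      rw [← hi]
      exact ((D.central s s.2).zpow_left i).symm.eq
  have hcq : Nat.card (P' ⧸ center P') = p ^ 2 := by
    have hc : Nat.card (center P') = p := by
      rw [← card_map_of_injective P'.subtype_injective,
        show (center P').map P'.subtype = zpowers z from ?_, Nat.card_zpowers, D.ord]
      ext w
      constructor
      · rintro ⟨u, hu, rfl⟩; exact (hcen u).1 hu
      · intro hw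
        exact ⟨⟨w, (zpowers_le.2 D.mem) hw⟩, (hcen _).2 hw, rfl⟩
    have h := card_eq_card_quotient_mul_card_subgroup (center P')
    rw [hc, show Nat.card P' = p ^ 3 from D.card] at h
    exact Nat.eq_of_mul_eq_mul_right (Fact.out : p.Prime).pos (h.symm.trans (pow_succ p 2))
  obtain ⟨π, ρ, hadd, hzero, hsurj, hρ⟩ := exists_coords (p := p) (S := P')
    (fun a b => (hcen _).2 (by
      show ((⁅a, b⁆ : P') : G) ∈ zpowers z
      rw [commutatorElement_def]; exact D.comm a a.2 b b.2))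
    (fun a => Subtype.ext (D.exp a a.2)) hcq
  have hpow : ∀ (a : P') (n : ℕ), π (a ^ n) = (n : ZMod p) • π a := by
    intro a n
    induction n with
    | zero => rw [pow_zero, Nat.cast_zero, zero_smul]; exact (hzero 1).2 (one_mem _)
    | succ n ih => rw [pow_succ, hadd, ih, Nat.cast_succ, add_smul, one_smul]
  let pnt : G → Line (ZMod p) := fun x =>
    if h : x ∈ P' ∧ x ∉ zpowers z then
      Projectivization.mk (ZMod p) (π ⟨x, h.1⟩) (fun e => h.2 ((hcen _).1 ((hzero _).1 e)))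
    else inf
  have hpnt : ∀ x (hx : x ∈ P') (hxz : x ∉ zpowers z), pnt x = Projectivization.mk (ZMod p) (π ⟨x, hx⟩)
      (fun e => hxz ((hcen _).1 ((hzero _).1 e))) := fun x hx hxz => dif_pos ⟨hx, hxz⟩
  let c : normalizer (P' : Set G) →* MulAut P' := Subgroup.normalizerMonoidHom P'
  let ν : normalizer (P' : Set G) →* GL (Fin 2) (ZMod p) := (ρ.comp c).toHomUnits
  let ψ : normalizer (P' : Set G) →* PGL(2, ZMod p) := ProjGenLinGroup.mk.comp ν
  have hν : ∀ (g : normalizer (P' : Set G)) (a : P'),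
      (ν g : Matrix (Fin 2) (Fin 2) (ZMod p)) *ᵥ π a = π (c g a) := fun g a => hρ _ _
  have hker : P'.subgroupOf (normalizer (P' : Set G)) ≤ ψ.ker := by
    intro g hg
    rw [MonoidHom.mem_ker]
    show ProjGenLinGroup.mk (ν g) = 1
    rw [show ν g = 1 from Units.ext (Matrix.ext_of_mulVec_single fun i => ?_), map_one]
    obtain ⟨a, ha⟩ := hsurj (Pi.single i 1)
    rw [← ha, hν, Units.val_one, Matrix.one_mulVec]
    have e : (c g a : P') * a⁻¹ ∈ center P' := (hcen _).2 (D.comm g hg a a.2)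
    have h2 := hadd (c g a * a⁻¹) a
    rwa [inv_mul_cancel_right, (hzero _).2 e, zero_add] at h2
  refine ⟨ψ.range, pnt, fun hd => ?_, fun q => ?_, fun x₁ x₂ hx₁ hx₂ h₁ h₂ he => ?_, ?_⟩
  · rw [← Subgroup.index_ker] at hd
    have h1 := hd.trans (index_dvd_of_le hker)
    exact P.not_dvd_index (h1.trans (relIndex_dvd_index_of_le le_normalizer))
  · induction q using Projectivization.ind with | _ v hv =>
    obtain ⟨a, rfl⟩ := hsurj v
    have ha : (a : G) ∉ zpowers z := fun h => hv ((hzero a).2 ((hcen a).2 h))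
    exact ⟨a, a.2, ha, hpnt _ a.2 ha⟩
  · rw [hpnt x₁ hx₁ h₁, hpnt x₂ hx₂ h₂, Projectivization.mk_eq_mk_iff'] at he
    obtain ⟨t, ht⟩ := he
    have h0 : π (⟨x₁, hx₁⟩ * (⟨x₂, hx₂⟩ ^ (-t).val)) = 0 := by
      rw [hadd, hpow, ZMod.natCast_zmod_val, ← ht, ← add_smul, add_neg_cancel, zero_smul]
    have h3 : x₁ * x₂ ^ (-t).val ∈ D.line x₂ hx₂ := by
      obtain ⟨i, hi⟩ := mem_zpowers_iff.1 ((hcen _).1 ((hzero _).1 h0))
      have hzl : z ∈ D.line x₂ hx₂ := ⟨(1, 0), by simp [el, ZMod.val_one]⟩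
      have := zpow_mem hzl i
      rwa [hi] at this
    simpa using mul_mem h3 (inv_mem (pow_mem (D.self_mem_line hx₂ h₂) (-t).val))
  intro x hx hxz hF d hd
  obtain ⟨y, hy, hyA, hgen, r, -, hyx⟩ := D.exists_complement hx hxz
  obtain ⟨a, ha⟩ := IsCyclic.exists_ofOrder_eq_natCard (α := (ZMod p)ˣ)
  rw [Nat.card_eq_fintype_card, ZMod.card_units] at ha
  obtain ⟨g, hg, hgx, w, hw, hgy⟩ := exists_torus P (D.line_le hx hxz) D.ord
    (D.orderOf_of_notMem hx hxz) D.central (fun _ => Iff.rfl) (D.inf_centralizer_line hx hxz) hy hgen hyx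
    a.ne_zero (realized_torus (D.realized_upper hx hxz) hF a.ne_zero)
  set g' : normalizer (P' : Set G) := ⟨g, hg⟩
  set X := π ⟨x, hx⟩
  set Y := π ⟨y, hy⟩
  set α : ZMod p := (a : ZMod p)⁻¹
  set β : ZMod p := (a : ZMod p) ^ 2
  have hindep : ∀ i j : ZMod p, i • X + j • Y = 0 → i = 0 ∧ j = 0 := by
    intro i j h
    have h1 : π (⟨x, hx⟩ ^ i.val * ⟨y, hy⟩ ^ j.val) = 0 := by
      rw [hadd, hpow, hpow, ZMod.natCast_zmod_val, ZMod.natCast_zmod_val]; exact h
    obtain ⟨k, hk⟩ := mem_zpowers_iff.1 ((hcen _).1 ((hzero _).1 h1))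
    have hzA : z ∈ D.line x hx := ⟨(1, 0), by simp [el, ZMod.val_one]⟩
    have hj : y ^ j.val ∈ D.line x hx := by
      have := mul_mem (inv_mem (pow_mem (D.self_mem_line hx hxz) i.val)) (zpow_mem hzA k)
      rw [hk] at this
      simpa using this
    have hj0 : j = 0 := by
      by_contra hne
      refine hyA ?_
      have hcop : (j.val).Coprime (orderOf y) := by
        rw [orderOf_eq_prime (D.exp y hy) fun e => hyA (e ▸ one_mem _), Nat.coprime_comm,
          (Fact.out : p.Prime).coprime_iff_not_dvd]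
        exact fun hdvd => hne ((ZMod.val_eq_zero _).1 (Nat.eq_zero_of_dvd_of_lt hdvd (ZMod.val_lt _)))
      obtain ⟨m, hm⟩ := exists_pow_eq_self_of_coprime hcop
      rw [← hm]
      exact pow_mem hj m
    refine ⟨?_, hj0⟩
    rw [hj0, zero_smul, add_zero] at h
    by_contra hne
    exact hxz ((hcen _).1 ((hzero _).1 ((smul_eq_zero.1 h).resolve_left hne)))
  have hX : π (c g' ⟨x, hx⟩) = α • X := by
    rw [show c g' ⟨x, hx⟩ = (⟨x, hx⟩ : P') ^ ((a : ZMod p)⁻¹).val from Subtype.ext hgx, hpow,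
      ZMod.natCast_zmod_val]
  obtain ⟨γ, hY⟩ : ∃ γ : ZMod p, π (c g' ⟨y, hy⟩) = β • Y + γ • X := by
    obtain ⟨v, rfl⟩ := hw
    refine ⟨v.2, ?_⟩
    rw [show c g' ⟨y, hy⟩ = (⟨z, D.mem⟩ : P') ^ v.1.val * ⟨x, hx⟩ ^ v.2.val * ⟨y, hy⟩ ^ ((a : ZMod p) ^ 2).val
      from Subtype.ext hgy, hadd, hadd, hpow, hpow, hpow, ZMod.natCast_zmod_val, ZMod.natCast_zmod_val,
      ZMod.natCast_zmod_val, (hzero _).2 ((hcen _).2 (mem_zpowers z)), smul_zero, zero_add, add_comm]
  have hfixX : ψ g' • pnt x = pnt x := by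
    rw [hpnt x hx hxz]
    refine gl_smul_mk_eq _ _ _ ⟨α, ?_⟩
    rw [hν, hX]
  refine ⟨ψ g', ⟨g', rfl⟩, hd _ ?_, hfixX⟩
  set n := orderOf (ψ g')
  have hn1 : ψ (g' ^ n) = 1 := by rw [map_pow, pow_orderOf_eq_one]
  have hXn : ∀ m : ℕ, (ν (g' ^ m) : Matrix (Fin 2) (Fin 2) (ZMod p)) *ᵥ X = α ^ m • X := by
    intro m
    induction m with
    | zero => rw [pow_zero, map_one, Units.val_one, one_mulVec, pow_zero, one_smul]
    | succ m ih =>
      rw [pow_succ', map_mul, Units.val_mul, ← mulVec_mulVec, ih, mulVec_smul, hν, hX, smul_smul, ← pow_succ]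
  have hYn : ∀ m : ℕ, ∃ δ : ZMod p,
      (ν (g' ^ m) : Matrix (Fin 2) (Fin 2) (ZMod p)) *ᵥ Y = β ^ m • Y + δ • X := by
    intro m
    induction m with
    | zero => exact ⟨0, by rw [pow_zero, map_one, Units.val_one, one_mulVec, pow_zero, one_smul, zero_smul, add_zero]⟩
    | succ m ih =>
      obtain ⟨δ, hδ⟩ := ih
      refine ⟨β ^ m * γ + δ * α, ?_⟩
      rw [pow_succ', map_mul, Units.val_mul, ← mulVec_mulVec, hδ, mulVec_add, mulVec_smul, mulVec_smul,
        hν, hν, hX, hY, smul_add, smul_smul, smul_smul, smul_smul, add_smul, pow_succ, add_assoc]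
  obtain ⟨δ, hδ⟩ := hYn n
  have hfix : ∀ v : Fin 2 → ZMod p, v ≠ 0 →
      ∃ μ : ZMod p, μ • v = (ν (g' ^ n) : Matrix (Fin 2) (Fin 2) (ZMod p)) *ᵥ v := by
    intro v hv
    have h1 : ψ (g' ^ n) • Projectivization.mk (ZMod p) v hv = Projectivization.mk (ZMod p) v hv := by
      rw [hn1, one_smul]
    change ProjGenLinGroup.mk (ν (g' ^ n)) • _ = _ at h1
    rw [PGL.mk_smul_mk, Projectivization.mk_eq_mk_iff'] at h1
    obtain ⟨μ, hμ⟩ := h1
    exact ⟨μ, by rw [hμ]; simp [Units.smul_def, smul_eq_mulVec]⟩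
  have hYne : Y ≠ 0 := fun h => by simpa using (hindep 0 1 (by rw [h]; simp)).2
  obtain ⟨μ, hμ⟩ := hfix Y hYne
  rw [hδ] at hμ
  have hδ0 := hindep δ (β ^ n - μ) (by rw [sub_smul, hμ]; abel)
  obtain ⟨μ', hμ'⟩ := hfix (X + Y) fun h => by simpa using (hindep 1 1 (by simpa using h)).1
  rw [mulVec_add, hXn, hδ, hδ0.1, zero_smul, add_zero] at hμ'
  have h2 := hindep (α ^ n - μ') (β ^ n - μ') (by
    rw [sub_smul, sub_smul, sub_add_sub_comm, ← smul_add, hμ', sub_self])
  have heq : α ^ n = β ^ n := by rw [sub_eq_zero.1 h2.1, sub_eq_zero.1 h2.2]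
  rw [← ha]
  refine orderOf_dvd_of_pow_eq_one (Units.ext ?_)
  rw [Units.val_pow_eq_pow_val, Units.val_one, pow_mul, show (a : ZMod p) ^ 3 = β / α from ?_, div_pow, heq,
    div_self]
  · exact pow_ne_zero _ (pow_ne_zero 2 a.ne_zero)
  · simp only [α, β]
    field_simp

end CfsgLib.Amalgam.RuizViruel

namespace CfsgLib.Amalgam.RuizViruel

open Subgroup CfsgLib.Amalgam.CubeTorus CfsgLib.Amalgam.PGLTwoPrime

variable {G : Type*} [Group G] [Finite G] {p : ℕ} [Fact p.Prime] {P : Sylow p G} {z : G}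

/-- A subgroup of order `p²` of `P` is a line containing the centre. -/
theorem exists_line (D : Data P z) {A : Subgroup G} (hAP : A ≤ (P : Subgroup G)) (hcard : Nat.card A = p ^ 2) :
    ∃ (x : G) (hx : x ∈ (P : Subgroup G)), x ∉ zpowers z ∧ A = D.line x hx := by
  haveI : NeZero p := ⟨(Fact.out : p.Prime).ne_zero⟩
  have hne : ¬ A ≤ zpowers z := fun h => by
    have := card_le_of_le h
    rw [hcard, Nat.card_zpowers, D.ord] at this
    have h3 := Nat.pow_lt_pow_right (Fact.out : p.Prime).one_lt (show 1 < 2 by norm_num)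
    rw [pow_one] at h3
    omega
  obtain ⟨x, hxA, hxz⟩ := Set.not_subset.1 hne
  refine ⟨x, hAP hxA, hxz, ?_⟩
  have hzA : z ∈ A := by
    by_contra hzA
    haveI : IsMulCommutative A := IsPGroup.isMulCommutative_of_card_eq_prime_sq hcard
    have hAc : A ≤ centralizer (A : Set G) := le_centralizer A
    have hzc : zpowers z ≤ centralizer (A : Set G) :=
      zpowers_le.2 (mem_centralizer_iff.2 fun a ha => (D.central a (hAP ha)).symm.eq)
    have hlt : A < A ⊔ zpowers z := lt_of_le_of_ne le_sup_left fun e => hzA (e ▸ mem_sup_right (mem_zpowers z))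
    obtain ⟨k, hk3, hk⟩ := (Nat.dvd_prime_pow Fact.out).1
      (D.card ▸ card_dvd_of_le (sup_le hAP (zpowers_le.2 D.mem) : A ⊔ zpowers z ≤ (P : Subgroup G)))
    have hge : p ^ 2 < p ^ k := by
      rw [← hk, ← hcard]
      exact lt_of_le_of_ne (card_le_of_le hlt.le) fun e => hlt.ne (eq_of_le_of_card_ge hlt.le e.ge)
    have hk2 : 2 < k := (Nat.pow_lt_pow_iff_right (Fact.out : p.Prime).one_lt).1 hge
    have hP : A ⊔ zpowers z = (P : Subgroup G) :=
      eq_of_le_of_card_ge (sup_le hAP (zpowers_le.2 D.mem)) (by rw [hk, show k = 3 by omega]; exact D.card.le)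
    refine hxz (D.center_le x (hAP hxA) fun s hs => ?_)
    rw [← hP] at hs
    exact (mem_centralizer_iff.1 ((sup_le hAc hzc) hs) x hxA)
  refine (eq_of_le_of_card_ge ?_ (by rw [hcard, D.card_line (hAP hxA) hxz])).symm
  rintro _ ⟨v, rfl⟩
  exact mul_mem (pow_mem hzA _) (pow_mem hxA _)

theorem iterate_lower (c : ZMod p) : ∀ (n : ℕ) (v : ZMod p × ZMod p),
    (lower c)^[n] v = lower ((n : ZMod p) * c) v
  | 0, v => by simp [lower]
  | n + 1, v => by
    rw [Function.iterate_succ_apply', iterate_lower c n]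
    refine Prod.ext rfl ?_
    simp only [lower, Nat.cast_succ]
    ring

/-- If every automorphism of order `p` of the line is induced in `G`, all lower transvections are realized. -/
theorem realized_lower_of_aut (D : Data P z) {x : G} (hx : x ∈ (P : Subgroup G)) (hxz : x ∉ zpowers z)
    (hA : ∀ φ : MulAut ↥(D.line x hx), orderOf φ = p →
      ∃ g : G, ∀ a : ↥(D.line x hx), (φ a : G) = g * (a : G) * g⁻¹) (c : ZMod p) :
    Realized z x (lower c) := by
  haveI : NeZero p := ⟨(Fact.out : p.Prime).ne_zero⟩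
  haveI : Fact (1 < p) := ⟨(Fact.out : p.Prime).one_lt⟩
  rcases eq_or_ne c 0 with rfl | hc
  · exact ⟨1, fun v => by simp [lower]⟩
  have hz := D.ord ▸ pow_orderOf_eq_one z
  let E : ZMod p × ZMod p ≃ ↥(D.line x hx) :=
    Equiv.ofBijective (fun v => ⟨el z x v, v, rfl⟩)
      ⟨fun a b h => el_injective D.ord (D.orderOf_of_notMem hx hxz) (D.central x hx) hxz (congrArg Subtype.val h),
        by rintro ⟨_, v, rfl⟩; exact ⟨v, rfl⟩⟩
  have hEmul : ∀ v w, E (v + w) = E v * E w := fun v w =>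
    Subtype.ext (el_add hz (D.exp x hx) (D.central x hx) v w)
  let T : ZMod p × ZMod p ≃ ZMod p × ZMod p :=
    ⟨lower c, lower (-c), fun v => Prod.ext rfl (by simp [lower]), fun v => Prod.ext rfl (by simp [lower])⟩
  have hTadd : ∀ v w, T (v + w) = T v + T w := fun v w => by
    refine Prod.ext rfl ?_
    show (v.2 + w.2) + c * (v.1 + w.1) = (v.2 + c * v.1) + (w.2 + c * w.1)
    ring
  let φ : MulAut ↥(D.line x hx) :=
    { toEquiv := E.symm.trans (T.trans E)
      map_mul' := fun a b => by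
        obtain ⟨v, rfl⟩ := E.surjective a
        obtain ⟨w, rfl⟩ := E.surjective b
        show E (T (E.symm (E v * E w))) = E (T (E.symm (E v))) * E (T (E.symm (E w)))
        rw [← hEmul, E.symm_apply_apply, E.symm_apply_apply, E.symm_apply_apply, hTadd, hEmul] }
  have hpow : ∀ (n : ℕ) v, (φ ^ n) (E v) = E ((lower c)^[n] v) := by
    intro n
    induction n with
    | zero => intro v; rfl
    | succ n ih =>
      intro v
      rw [pow_succ', MulAut.mul_apply, ih, Function.iterate_succ_apply']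
      show E (T (E.symm (E _))) = _
      rw [E.symm_apply_apply]
      rfl
  have hord : orderOf φ = p := by
    refine orderOf_eq_prime ?_ fun h1 => ?_
    · refine MulEquiv.ext fun a => ?_
      obtain ⟨v, rfl⟩ := E.surjective a
      rw [hpow, iterate_lower, ZMod.natCast_self, zero_mul, MulAut.one_apply]
      exact congrArg E (Prod.ext rfl (by simp [lower]))
    · have h2 := hpow 1 (1, 0)
      rw [pow_one, h1, MulAut.one_apply] at h2
      have h3 := congrArg Prod.snd (E.injective h2)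
      simp [lower] at h3
      exact hc h3.symm
  obtain ⟨g, hg⟩ := hA φ hord
  refine ⟨g, fun v => ?_⟩
  have h := hg (E v)
  rw [← pow_one φ, hpow] at h
  exact h.symm

/-- If all nonidentity elements of `P` are conjugate, all lower transvections are realized. -/
theorem realized_lower_of_conj (D : Data P z) {x : G} (hx : x ∈ (P : Subgroup G)) (hxz : x ∉ zpowers z)
    (hconj : ∀ a b : ↥(P : Subgroup G), a ≠ 1 → b ≠ 1 → ∃ g : G, g * (a : G) * g⁻¹ = (b : G))
    (c : ZMod p) : Realized z x (lower c) := by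
  haveI : NeZero p := ⟨(Fact.out : p.Prime).ne_zero⟩
  haveI : Fact (1 < p) := ⟨(Fact.out : p.Prime).one_lt⟩
  obtain ⟨g, hg⟩ := hconj ⟨x, hx⟩ ⟨z, D.mem⟩
    (fun h => hxz (by rw [show x = 1 from congrArg Subtype.val h]; exact one_mem _))
    (fun h => by
      have h1 : z = 1 := congrArg Subtype.val h
      have h2 := D.ord
      rw [h1, orderOf_one] at h2
      exact (Fact.out : p.Prime).one_lt.ne h2)
  set C := centralizer ({x} : Set G)
  set A := D.line x hx with hAdef
  have hgmem : ∀ t ∈ (P : Subgroup G), g⁻¹ * t * g ∈ C := by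
    intro t ht
    have hx' : x = g⁻¹ * z * g := by rw [← show g * x * g⁻¹ = z from hg]; group
    rw [mem_centralizer_singleton_iff, hx',
      show g⁻¹ * t * g * (g⁻¹ * z * g) = g⁻¹ * (t * z) * g by group, ← (D.central t ht).eq]
    group
  let P' : Sylow p C := (g⁻¹ • P).subtype (by
    rintro _ ⟨t, ht, rfl⟩
    show g⁻¹ * t * g⁻¹⁻¹ ∈ C
    rw [inv_inv]
    exact hgmem t ht)
  have hAC : A ≤ C := by
    rintro _ ⟨v, rfl⟩
    rw [mem_centralizer_singleton_iff]
    exact (((D.central x hx).pow_left _).mul_left ((Commute.refl x).pow_left _)).eq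
  have hAp : IsPGroup p (A.subgroupOf C) := (P.2.to_le (D.line_le hx hxz)).comap_subtype
  obtain ⟨R, hR⟩ := hAp.exists_le_sylow
  obtain ⟨h, hh⟩ := MulAction.exists_smul_eq C P' R
  set k := (h : G) * g⁻¹ with hk
  have hkA : ∀ a ∈ A, k⁻¹ * a * k ∈ (P : Subgroup G) := by
    intro a ha
    have h1 : (⟨a, hAC ha⟩ : C) ∈ (R : Subgroup C) := hR ha
    rw [← hh, Sylow.coe_subgroup_smul] at h1
    obtain ⟨b, hb, hbe⟩ := h1
    obtain ⟨t, ht, htb⟩ := (show (b : G) ∈ ((g⁻¹ • P : Sylow p G) : Subgroup G) from hb)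
    have hab : a = (h : G) * (g⁻¹ * t * g⁻¹⁻¹) * (h : G)⁻¹ := by
      rw [show g⁻¹ * t * g⁻¹⁻¹ = (b : G) from htb]
      exact (congrArg Subtype.val hbe).symm
    have hka : k⁻¹ * a * k = t := by rw [hab, hk]; group
    rw [hka]
    exact ht
  have hkz : k * z * k⁻¹ = x := by
    rw [hk, ← show g * x * g⁻¹ = z from hg]
    have hc' : (h : G) * x = x * (h : G) := mem_centralizer_singleton_iff.1 h.2
    calc (h : G) * g⁻¹ * (g * x * g⁻¹) * ((h : G) * g⁻¹)⁻¹ = (h : G) * x * (h : G)⁻¹ := by group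
      _ = x := by rw [hc', mul_inv_cancel_right]
  set x' := k⁻¹ * z * k with hx'def
  have hx'P : x' ∈ (P : Subgroup G) := hkA z ⟨(1, 0), by simp [el, ZMod.val_one]⟩
  have hx'z : x' ∉ zpowers z := by
    intro hmem
    obtain ⟨i, hi⟩ := mem_zpowers_iff.1 hmem
    have hzx : z ∈ zpowers x := mem_zpowers_iff.2 ⟨i, by
      rw [← hkz, conj_zpow, hi, hx'def]; group⟩
    have heq : zpowers z = zpowers x := eq_of_le_of_card_ge (zpowers_le.2 hzx)
      (by rw [Nat.card_zpowers, Nat.card_zpowers, D.ord, D.orderOf_of_notMem hx hxz])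
    exact hxz (heq ▸ mem_zpowers x)
  obtain ⟨y, hy⟩ := D.realized_upper hx'P hx'z c
  refine ⟨k * y * k⁻¹, fun v => ?_⟩
  have e : ∀ i j : ZMod p, k * el z x' (i, j) * k⁻¹ = el z x (j, i) := by
    intro i j
    rw [el, el, show k * (z ^ i.val * x' ^ j.val) * k⁻¹ = (k * z * k⁻¹) ^ i.val * (k * x' * k⁻¹) ^ j.val by
      rw [conj_pow, conj_pow]; group, hkz, show k * x' * k⁻¹ = z by rw [hx'def]; group]
    exact ((D.central x hx).pow_pow j.val i.val).symm.eq
  obtain ⟨i, j⟩ := v
  rw [← e j i, show k * y * k⁻¹ * (k * el z x' (j, i) * k⁻¹) * (k * y * k⁻¹)⁻¹ =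
    k * (y * el z x' (j, i) * y⁻¹) * k⁻¹ by group, hy, upper, e]
  rfl

end CfsgLib.Amalgam.RuizViruel

namespace CfsgLib.Amalgam.RuizViruel

open Subgroup CfsgLib.Amalgam.CubeTorus CfsgLib.Amalgam.PGLTwoPrime CfsgLib.Geom.Moebius

variable {G : Type*} [Group G] [Finite G] {p : ℕ} [Fact p.Prime]

theorem exists_degree (h : 11 ≤ p) :
    ∃ d : ℕ, (∀ n : ℕ, p - 1 ∣ 3 * n → d ∣ n) ∧ (p ≠ 13 → 6 ≤ d) ∧ (p = 13 → d = 4) := by
  by_cases h3 : 3 ∣ p - 1
  · obtain ⟨e, he⟩ := h3
    refine ⟨e, fun n hn => Nat.dvd_of_mul_dvd_mul_left (by norm_num) (he ▸ hn), fun h13 => ?_, fun h13 => by omega⟩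
    by_contra hlt
    have hp := (Fact.out : p.Prime)
    have : p = 16 := by omega
    exact absurd (this ▸ hp) (by norm_num)
  · refine ⟨p - 1, fun n hn => ?_, fun _ => by omega, fun h13 => absurd (by omega : 3 ∣ p - 1) h3⟩
    exact (((Nat.prime_three.coprime_iff_not_dvd).2 h3).symm).dvd_of_dvd_mul_left hn

theorem ncard_line_ge : p + 1 ≤ (Set.univ : Set (Line (ZMod p))).ncard := by
  haveI : NeZero p := ⟨(Fact.out : p.Prime).ne_zero⟩
  let f : Option (ZMod p) → Line (ZMod p) := fun o => o.elim inf pt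
  have hf : Function.Injective f := by
    rintro (_ | a) (_ | b) h
    · rfl
    · exact absurd h.symm (pt_ne_inf b)
    · exact absurd h (pt_ne_inf a)
    · exact congrArg some (pt_injective h)
  haveI : Finite (Line (ZMod p)) := Finite.of_surjective f fun q => by
    rcases point_cases q with rfl | ⟨a, rfl⟩
    · exact ⟨none, rfl⟩
    · exact ⟨some a, rfl⟩
  rw [Set.ncard_univ]
  refine le_trans ?_ (Nat.card_le_card_of_injective f hf)
  rw [Nat.card_eq_fintype_card, Fintype.card_option, ZMod.card]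

/-- **Ruiz–Viruel**: three rank-two subgroups with large automizer force `p ≤ 13`. -/
theorem le_thirteen (P : Sylow p G) (hE : Cfsg.IsExtraspecial p P) (hcard : Nat.card P = p ^ 3)
    (hexp : Monoid.exponent P = p) (A : Fin 3 → Subgroup G) (hA : Function.Injective A)
    (hAP : ∀ i, A i ≤ (P : Subgroup G)) (hAcard : ∀ i, Nat.card ↥(A i) = p ^ 2)
    (hSL : ∀ i, ∀ φ : MulAut ↥(A i), orderOf φ = p →
      ∃ g : G, ∀ a : ↥(A i), (φ a : G) = g * (a : G) * g⁻¹) : p ≤ 13 := by
  by_contra hlt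
  obtain ⟨z, D⟩ := exists_data P hE hcard hexp
  obtain ⟨M, pnt, hM, -, hinj, hbig⟩ := exists_points P z D
  obtain ⟨d, hd, hd6, -⟩ := exists_degree (p := p) (by omega)
  choose x hx hxz hAx using fun i => exists_line D (hAP i) (hAcard i)
  have hmem : ∀ i, pnt (x i) ∈ bigPoints M d := fun i => by
    refine hbig (x i) (hx i) (hxz i) (fun c => realized_lower_of_aut D (hx i) (hxz i) ?_ c) d hd
    rw [← hAx i]
    exact hSL i
  have hinj' : Function.Injective fun i => pnt (x i) := by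
    intro i j hij
    refine hA ?_
    rw [hAx i, hAx j]
    refine eq_of_le_of_card_ge ?_ (by rw [D.card_line (hx i) (hxz i), D.card_line (hx j) (hxz j)])
    have hz : z ∈ D.line (x j) (hx j) := ⟨(1, 0), by
      haveI : Fact (1 < p) := ⟨(Fact.out : p.Prime).one_lt⟩
      simp [el, ZMod.val_one]⟩
    rintro _ ⟨v, rfl⟩
    exact mul_mem (pow_mem hz _) (pow_mem (hinj _ _ (hx i) (hx j) (hxz i) (hxz j) hij) _)
  haveI : Finite (Line (ZMod p)) := Set.finite_univ_iff.1 (Set.finite_of_ncard_pos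
    (lt_of_lt_of_le (Nat.succ_pos p) ncard_line_ge))
  have h3 : 3 ≤ (bigPoints M d).ncard := by
    refine le_trans (le_of_eq ?_) (Set.ncard_le_ncard (Set.range_subset_iff.2 hmem) (Set.toFinite _))
    rw [Set.ncard_range_of_injective hinj', Nat.card_fin]
  have h2 := bigPoints_le_two M hM (hd6 (by omega))
  omega

/-- **Ruiz–Viruel**: all nonidentity elements conjugate forces `p ≤ 7`. -/
theorem le_seven (P : Sylow p G) (hE : Cfsg.IsExtraspecial p P) (hcard : Nat.card P = p ^ 3)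
    (hexp : Monoid.exponent P = p)
    (hconj : ∀ a b : ↥(P : Subgroup G), a ≠ 1 → b ≠ 1 → ∃ g : G, g * (a : G) * g⁻¹ = (b : G)) :
    p ≤ 7 := by
  by_contra hlt
  have h11 : 11 ≤ p := by
    have hp := (Fact.out : p.Prime)
    by_contra h
    have : p = 8 ∨ p = 9 ∨ p = 10 := by omega
    rcases this with rfl | rfl | rfl <;> exact absurd hp (by norm_num)
  obtain ⟨z, D⟩ := exists_data P hE hcard hexp
  obtain ⟨M, pnt, hM, hsurj, -, hbig⟩ := exists_points P z D
  obtain ⟨d, hd, hd6, hd4⟩ := exists_degree (p := p) h11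
  have hall : bigPoints M d = Set.univ := Set.eq_univ_of_forall fun q => by
    obtain ⟨x, hx, hxz, rfl⟩ := hsurj q
    exact hbig x hx hxz (fun c => realized_lower_of_conj D hx hxz hconj c) d hd
  have hge := hall ▸ ncard_line_ge (p := p)
  by_cases h13 : p = 13
  · have := bigPoints_four_le M hM
    rw [← hd4 h13] at this
    omega
  · have := bigPoints_le_two M hM (hd6 h13)
    omega

end CfsgLib.Amalgam.RuizViruel
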