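import Cfsg.Agent.S3012
import Cfsg.Agent.Lib.Amalgam.FrakH
import Cfsg.Agent.Lib.Amalgam.AsymmetricL
import Cfsg.Agent.Lib.Comp.Components
import Cfsg.Agent.Lib.Comp.FStar
import Cfsg.Agent.Lib.Solvable.MinNormal

/-!
A minimal counterexample to the Sidki pair problem is almost simple with complement `V`.
-/

set_option autoImplicit false
set_option linter.unusedSectionVars false
set_option linter.style.haveILetI false

namespace CfsgLib.Amalgam.Sidki

open Cfsg Subgroup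
open scoped commutatorElement

universe u

variable {G : Type u} [Group G] [Finite G]

/-- The minimal configuration. -/
structure Data (V : Subgroup G) : Prop where
  elem : IsElementaryAbelian 2 V
  ne : V ≠ ⊥
  pair : IsSidkiPair V
  free2 : V ⊓ pCore 2 G = ⊥
  minG : ∀ (H : Type u) [Group H] [Finite H] (W : Subgroup H), Nat.card H < Nat.card G →
    IsElementaryAbelian 2 W → W ≠ ⊥ → IsSidkiPair W → W ⊓ pCore 2 H ≠ ⊥
  minV : ∀ W : Subgroup G, Nat.card W < Nat.card V → IsElementaryAbelian 2 W → W ≠ ⊥ →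
    IsSidkiPair W → W ⊓ pCore 2 G ≠ ⊥

variable {V : Subgroup G} (d : Data V)
include d

theorem Data.comm {a b : G} (ha : a ∈ V) (hb : b ∈ V) : a * b = b * a :=
  congrArg Subtype.val (d.elem.1.is_comm.comm (⟨a, ha⟩ : V) ⟨b, hb⟩)

theorem Data.inv_eq {a : G} (ha : a ∈ V) : a⁻¹ = a :=
  inv_eq_of_mul_eq_one_right (by rw [← pow_two]; exact d.elem.2 a ha)

theorem Data.isPGroup_of_le {A : Subgroup G} (hA : A ≤ V) : IsPGroup 2 A := fun a =>
  ⟨1, Subtype.ext (by simpa using d.elem.2 a (hA a.2))⟩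

theorem Data.elem_of_le {A : Subgroup G} (hA : A ≤ V) : IsElementaryAbelian 2 A :=
  ⟨⟨⟨fun a b => Subtype.ext (d.comm (hA a.2) (hA b.2))⟩⟩, fun a ha => d.elem.2 a (hA ha)⟩

theorem Data.elem_subgroupOf {A H : Subgroup G} (hA : A ≤ V) : IsElementaryAbelian 2 (A.subgroupOf H) :=
  ⟨⟨⟨fun a b => Subtype.ext (Subtype.ext (d.comm (hA (mem_subgroupOf.1 a.2)) (hA (mem_subgroupOf.1 b.2))))⟩⟩,
    fun a ha => Subtype.ext (by simpa using d.elem.2 _ (hA (mem_subgroupOf.1 ha)))⟩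

theorem Data.subgroupOf_ne_bot {A H : Subgroup G} (hAH : A ≤ H) (hA : A ≠ ⊥) : A.subgroupOf H ≠ ⊥ := by
  rw [Ne, subgroupOf_eq_bot, disjoint_iff, inf_eq_left.2 hAH]; exact hA

/-- In a proper subgroup, a subgroup of `V` missing `O_2` is not a Sidki pair. -/
theorem Data.exists_free {H W : Subgroup G} (hH : H ≠ ⊤) (hWH : W ≤ H) (hWV : W ≤ V) (hW : W ≠ ⊥)
    (hcore : W ⊓ pCoreOf 2 H = ⊥) :
    ∃ h ∈ H, Odd (orderOf h) ∧ ∃ w ∈ W, w * h * w⁻¹ = h⁻¹ ∧ ∀ u ∈ W, u * h = h * u → u = 1 := by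
  by_contra hcon
  push Not at hcon
  have hlt : Nat.card H < Nat.card G := by
    refine lt_of_le_of_ne (card_le_card_group H) fun e => hH (eq_top_of_card_eq H e)
  refine d.minG H (W.subgroupOf H) hlt (d.elem_subgroupOf hWV) (d.subgroupOf_ne_bot hWH hW) ?_ ?_
  · intro h w hw hodd hinv
    obtain ⟨u, hu, huc, hu1⟩ := hcon h h.2 (by rwa [Subgroup.orderOf_coe]) w (mem_subgroupOf.1 hw)
      (congrArg Subtype.val hinv :)
    exact ⟨⟨u, hWH hu⟩, hu, fun e => hu1 (congrArg Subtype.val e), Subtype.ext huc⟩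
  · refine (Subgroup.eq_bot_iff_forall _).2 fun x hx => Subtype.ext ?_
    exact mem_bot.1 (hcore ▸ mem_inf.2 ⟨mem_subgroupOf.1 (mem_inf.1 hx).1, ⟨x, (mem_inf.1 hx).2, rfl⟩⟩)

/-- A proper subgroup containing `V` meets it in its `O_2`. -/
theorem Data.inf_core_ne_bot {H : Subgroup G} (hH : H ≠ ⊤) (hVH : V ≤ H) : V ⊓ pCoreOf 2 H ≠ ⊥ := by
  intro hcore
  obtain ⟨h, -, hodd, w, hw, hinv, hfree⟩ := d.exists_free hH hVH le_rfl d.ne hcore
  obtain ⟨u, hu, hu1, huc⟩ := d.pair h w hw hodd hinv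
  exact hu1 (hfree u hu huc)

theorem Data.exists_in_quotient {N : Subgroup G} [N.Normal] (hN : N ≠ ⊥) (hVN : V ⊓ N = ⊥) :
    ∃ v ∈ V, v ≠ 1 ∧ v ∈ (pCore 2 (G ⧸ N)).comap (QuotientGroup.mk' N) := by
  by_contra hcon
  push Not at hcon
  refine d.minG (G ⧸ N) (V.map (QuotientGroup.mk' N)) ?_ ?_ ?_
    (Cfsg.Agent.S3012.result V N d.elem d.ne d.pair hVN) ?_
  · rw [card_eq_card_quotient_mul_card_subgroup N]
    exact lt_mul_of_one_lt_right Nat.card_pos ((one_lt_card_iff_ne_bot N).2 hN)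
  · refine ⟨⟨⟨?_⟩⟩, ?_⟩
    · rintro ⟨_, a, ha, rfl⟩ ⟨_, b, hb, rfl⟩
      exact Subtype.ext (show QuotientGroup.mk' N a * QuotientGroup.mk' N b = _ by
        rw [← map_mul, d.comm ha hb, map_mul]; rfl)
    · rintro _ ⟨a, ha, rfl⟩
      rw [← map_pow, d.elem.2 a ha, map_one]
  · rw [Ne, Subgroup.map_eq_bot_iff, QuotientGroup.ker_mk']
    exact fun h => d.ne (hVN ▸ (inf_eq_left.2 h).symm)
  · refine (Subgroup.eq_bot_iff_forall _).2 ?_
    intro x hx
    obtain ⟨⟨v, hv, rfl⟩, hx2⟩ := mem_inf.1 hx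
    by_cases hv1 : v = 1
    · rw [hv1, map_one]
    · exact absurd (mem_comap.2 hx2) (hcon v hv hv1)

theorem Data.core_eq_bot : pCore 2 G = ⊥ := by
  by_contra h
  haveI := normal_pCore (p := 2) (G := G)
  obtain ⟨v, hv, hv1, hvK⟩ := d.exists_in_quotient h d.free2
  rw [CfsgLib.Solvable.pCore_quotient_eq_bot, MonoidHom.comap_bot, QuotientGroup.ker_mk'] at hvK
  exact hv1 (mem_bot.1 (d.free2 ▸ mem_inf.2 ⟨hv, hvK⟩))

theorem Data.pCoreOf_normal_eq_bot (E : Subgroup G) [E.Normal] : pCoreOf 2 E = ⊥ := by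
  haveI : Fact (Nat.Prime 2) := ⟨Nat.prime_two⟩
  refine le_bot_iff.1 ((pCoreOf_le_of_normal (H := (⊤ : Subgroup G)) le_top
    (CfsgLib.Comp.le_normalizer_of_normal' E ⊤)).trans ?_)
  rw [pCoreOf_top, d.core_eq_bot]

/-- The `O_2` of an overgroup centralizes a normal subgroup. -/
theorem Data.core_centralizes (E : Subgroup G) [E.Normal] {H : Subgroup G} (hEH : E ≤ H) :
    pCoreOf 2 H ≤ centralizer (E : Set G) := by
  haveI : Fact (Nat.Prime 2) := ⟨Nat.prime_two⟩
  rw [← commutator_eq_bot_iff_le_centralizer, eq_bot_iff, ← d.pCoreOf_normal_eq_bot E]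
  have hn : E ≤ normalizer (pCoreOf 2 H : Set G) := hEH.trans (le_normalizer_pCoreOf H)
  refine (le_inf (by rw [Subgroup.commutator_comm]
                     exact CfsgLib.Comp.commutator_le_of_le_normalizer
                       (CfsgLib.Comp.le_normalizer_of_normal' E _))
    (CfsgLib.Comp.commutator_le_of_le_normalizer hn)).trans (le_pCoreOf inf_le_left ?_
      ((isPGroup_pCoreOf H).to_le inf_le_right))
  exact (le_inf le_normalizer hn).trans inf_normalizer_le_normalizer_inf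

/-- A normal subgroup meeting a nontrivial normal subgroup trivially does not complete `V` to `G`. -/
theorem Data.sup_ne_top {M M' : Subgroup G} [M.Normal] [M'.Normal] (h : M' ⊓ M = ⊥) (hM' : M' ≠ ⊥)
    {A : Subgroup G} (hA : A ≤ V) : M ⊔ A ≠ ⊤ := by
  intro htop
  apply hM'
  haveI : Fact (Nat.Prime 2) := ⟨Nat.prime_two⟩
  have hp : IsPGroup 2 M' := by
    intro m
    have hm : (m : G) ∈ M ⊔ A := htop ▸ mem_top _
    obtain ⟨a, ha, b, hb, hab⟩ := CfsgLib.Comp.exists_mul_of_mem_sup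
      (CfsgLib.Comp.le_normalizer_of_normal' M A) hm
    refine ⟨1, Subtype.ext ?_⟩
    have h2 : ((m : G)) ^ 2 ∈ M := by
      rw [← hab, pow_two, show a * b * (a * b) = a * (b * a * b⁻¹) * (b ^ 2) by group,
        d.elem.2 b (hA hb), mul_one]
      exact mul_mem ha (Subgroup.Normal.conj_mem inferInstance a ha b)
    have : ((m : G)) ^ 2 ∈ M' ⊓ M := mem_inf.2 ⟨pow_mem m.2 2, h2⟩
    rw [h, mem_bot] at this
    simpa using this
  exact le_bot_iff.1 (d.core_eq_bot ▸ le_pCore inferInstance hp)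

theorem Data.fitting_eq_bot : fittingSubgroup G = ⊥ := by
  classical
  haveI : Fact (Nat.Prime 2) := ⟨Nat.prime_two⟩
  by_contra hF
  obtain ⟨N, hNn, hN1, hNF, hNmin⟩ := CfsgLib.Solvable.exists_minimal_normal_le
    (CfsgLib.Comp.fittingSubgroup_normal G) hF
  haveI := hNn
  haveI := CfsgLib.Comp.isNilpotent_fittingSubgroup G
  haveI : Group.IsSolvable N := Group.isSolvable_of_isSolvable_injective (inclusion_injective hNF)
  haveI hab := CfsgLib.Solvable.isMulCommutative_of_minimal_normal hN1 hNmin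
  have hcomm : ∀ a ∈ N, ∀ b ∈ N, a * b = b * a := fun a ha b hb =>
    congrArg Subtype.val (hab.is_comm.comm (⟨a, ha⟩ : N) ⟨b, hb⟩)
  -- `N` has odd order
  have hNodd : ∀ a ∈ N, a ^ 2 = 1 → a = 1 := by
    intro a ha ha2
    haveI : IsMulCommutative N := hab
    let T : Subgroup G :=
      { carrier := {x | x ∈ N ∧ x ^ 2 = 1}
        one_mem' := ⟨one_mem N, one_pow _⟩
        mul_mem' := fun {x y} hx hy => ⟨mul_mem hx.1 hy.1, by
          rw [(show Commute x y from hcomm x hx.1 y hy.1).mul_pow, hx.2, hy.2, one_mul]⟩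
        inv_mem' := fun {x} hx => ⟨inv_mem hx.1, by rw [inv_pow, hx.2, inv_one]⟩ }
    haveI : T.Normal := ⟨fun x hx g => ⟨Subgroup.Normal.conj_mem inferInstance x hx.1 g, by
      rw [conj_pow, hx.2, mul_one, mul_inv_cancel]⟩⟩
    have hT : IsPGroup 2 T := fun x => ⟨1, Subtype.ext (by simpa using x.2.2)⟩
    exact mem_bot.1 (d.core_eq_bot ▸ le_pCore inferInstance hT (show a ∈ T from ⟨ha, ha2⟩))
  have hVN : V ⊓ N = ⊥ := (Subgroup.eq_bot_iff_forall _).2 fun x hx =>
    hNodd x (mem_inf.1 hx).2 (d.elem.2 x (mem_inf.1 hx).1)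
  set C := centralizer (N : Set G) with hC
  have hNC : N ≤ C := fun a ha b hb => hcomm b hb a ha
  haveI hCn : C.Normal := inferInstance
  -- `G = C V`
  have hCV : C ⊔ V = ⊤ := by
    by_contra hne
    refine d.inf_core_ne_bot hne le_sup_right ((Subgroup.eq_bot_iff_forall _).2 fun x hx => ?_)
    have h1 := d.core_centralizes C le_sup_left (mem_inf.1 hx).2
    have h2 : x ∈ C := centralizer_le hNC h1
    have h3 : pCoreOf 2 (C ⊔ V) ⊓ C ≤ pCoreOf 2 C := le_pCoreOf inf_le_right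
      ((le_inf (le_sup_left.trans (le_normalizer_pCoreOf _)) le_normalizer).trans inf_normalizer_le_normalizer_inf)
      ((isPGroup_pCoreOf _).to_le inf_le_left)
    exact mem_bot.1 (d.pCoreOf_normal_eq_bot C ▸ h3 (mem_inf.2 ⟨(mem_inf.1 hx).2, h2⟩))
  -- every element of `V` centralizes or inverts `N`
  have hact : ∀ v ∈ V, v ∈ C ∨ ∀ a ∈ N, v * a * v⁻¹ = a⁻¹ := by
    intro v hv
    set F := N ⊓ centralizer ({v} : Set G)
    haveI : F.Normal := by
      rw [← normalizer_eq_top_iff, eq_top_iff, ← hCV]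
      refine sup_le (fun c hc => AsymL.mem_normalizer_of_conj' fun a ha => ?_)
        (fun w hw => AsymL.mem_normalizer_of_conj' fun a ha => mem_inf.2
          ⟨Subgroup.Normal.conj_mem inferInstance a (mem_inf.1 ha).1 w, ?_⟩)
      · rw [show c * a * c⁻¹ = a from mul_inv_eq_iff_eq_mul.2 (hc a (mem_inf.1 ha).1).symm]
        exact ha
      · rw [mem_centralizer_singleton_iff]
        have h1 := mem_centralizer_singleton_iff.1 (mem_inf.1 ha).2
        have h2 : Commute w v := d.comm hw hv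
        exact ((h2.mul_left h1).mul_left h2.inv_left).eq
    rcases hNmin F inferInstance inf_le_left with h | h
    · right
      intro a ha
      have hmem : a * (v * a * v⁻¹) ∈ F := by
        refine mem_inf.2 ⟨mul_mem ha (Subgroup.Normal.conj_mem inferInstance a ha v), ?_⟩
        rw [mem_centralizer_singleton_iff]
        have hc := hcomm a ha (v * a * v⁻¹) (Subgroup.Normal.conj_mem inferInstance a ha v)
        have hvv : v * v = 1 := by rw [← pow_two]; exact d.elem.2 v hv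
        rw [d.inv_eq hv] at hc ⊢
        calc a * (v * a * v) * v = a * (v * a * (v * v)) := by group
          _ = (v * v) * (a * (v * a)) := by rw [hvv, mul_one, one_mul]
          _ = v * (v * a * v * a) := by
                rw [show (v * v) * (a * (v * a)) = v * (v * a * v * a) by group]
          _ = v * (a * (v * a * v)) := by rw [hc]
      rw [h, mem_bot] at hmem
      exact eq_inv_of_mul_eq_one_right hmem
    · exact Or.inl fun a ha => (mem_centralizer_singleton_iff.1 (mem_inf.1 (h.ge ha)).2)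
  -- the element inverting `N`
  obtain ⟨v1, hv1V, hv11, hv1K⟩ := d.exists_in_quotient hN1 hVN
  set K := (pCore 2 (G ⧸ N)).comap (QuotientGroup.mk' N)
  haveI : (pCore 2 (G ⧸ N)).Normal := normal_pCore
  haveI hKn : K.Normal := Subgroup.Normal.comap inferInstance _
  have hKC : K ⊓ C ≤ N := by
    obtain ⟨P, hP⟩ := exists_isSylIn (p := 2) (K ⊓ C)
    have hmod : PMod 2 N (K ⊓ C) := fun x hx => by
      obtain ⟨k, hk⟩ := isPGroup_pCore (p := 2) (G := G ⧸ N) ⟨_, mem_comap.1 (mem_inf.1 hx).1⟩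
      refine ⟨k, (QuotientGroup.eq_one_iff _).1 ?_⟩
      have := congrArg Subtype.val hk
      exact this
    have hcov := pMod_cover (CfsgLib.Comp.le_normalizer_of_normal' N (K ⊓ C)) hmod hP
    have hPn : K ⊓ C ≤ normalizer (P : Set G) := hcov.trans (sup_le
      ((inf_le_left : N ⊓ (K ⊓ C) ≤ N).trans ((le_centralizer_iff.1 (hP.1.trans inf_le_right)).trans
        (CfsgLib.Comp.centralizer_le_normalizer P))) le_normalizer)
    have hP1 : P = ⊥ := le_bot_iff.1 (d.pCoreOf_normal_eq_bot (K ⊓ C) ▸ le_pCoreOf hP.1 hPn hP.2.1)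
    exact hcov.trans (sup_le inf_le_left (hP1 ▸ bot_le))
  have hv1C : v1 ∉ C := fun h =>
    hv11 (mem_bot.1 (hVN ▸ mem_inf.2 ⟨hv1V, hKC (mem_inf.2 ⟨hv1K, h⟩)⟩))
  have hinv1 : ∀ a ∈ N, v1 * a * v1⁻¹ = a⁻¹ := (hact v1 hv1V).resolve_left hv1C
  -- `C = N C_C(v1)`
  have hsplit : ∀ c ∈ C, ∃ m ∈ N, m⁻¹ * c ∈ centralizer ({v1} : Set G) := by
    intro c hc
    have hk : c * v1 * c⁻¹ * v1⁻¹ ∈ N := by
      refine hKC (mem_inf.2 ⟨mul_mem (Subgroup.Normal.conj_mem inferInstance v1 hv1K c) (inv_mem hv1K), ?_⟩)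
      intro a ha
      refine mul_inv_eq_iff_eq_mul.1 ?_ |>.symm
      have hca : ∀ b ∈ N, c * b * c⁻¹ = b := fun b hb => mul_inv_eq_iff_eq_mul.2 (hc b hb).symm
      have hcb : ∀ b ∈ N, c⁻¹ * b * c = b := fun b hb => by
        rw [mul_assoc, hc b hb, inv_mul_cancel_left]
      calc c * v1 * c⁻¹ * v1⁻¹ * a * (c * v1 * c⁻¹ * v1⁻¹)⁻¹
          = c * (v1 * (c⁻¹ * (v1⁻¹ * a * v1) * c) * v1⁻¹) * c⁻¹ := by group
        _ = a := by
            have e : v1⁻¹ * a * v1 = a⁻¹ := by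
              have := hinv1 a⁻¹ (inv_mem ha)
              rw [inv_inv] at this
              nth_rewrite 1 [← this]
              group
            rw [e, hcb _ (inv_mem ha), hinv1 _ (inv_mem ha), inv_inv, hca a ha]
    obtain ⟨m, hmN, hm⟩ : ∃ m ∈ N, m * m = c * v1 * c⁻¹ * v1⁻¹ := by
      have hinj : Function.Injective (fun a : N => a * a) := fun a b h => by
        have h' : (a : G) * a = b * b := congrArg Subtype.val h
        refine Subtype.ext (mul_inv_eq_one.1 (hNodd _ (mul_mem a.2 (inv_mem b.2)) ?_))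
        rw [(show Commute (a : G) (b : G)⁻¹ from hcomm _ a.2 _ (inv_mem b.2)).mul_pow, inv_pow, pow_two, pow_two,
          h', mul_inv_cancel]
      obtain ⟨m, hm⟩ := Finite.surjective_of_injective hinj ⟨_, hk⟩
      exact ⟨m, m.2, congrArg Subtype.val hm⟩
    refine ⟨m, hmN, mem_centralizer_singleton_iff.2 ?_⟩
    have e1 : v1 * m = m⁻¹ * v1 := mul_inv_eq_iff_eq_mul.1 (hinv1 m hmN)
    have e2 : c * v1 = m * m * v1 * c := by rw [hm]; group
    calc m⁻¹ * c * v1 = m⁻¹ * (m * m * v1 * c) := by rw [mul_assoc, e2]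
      _ = m * v1 * c := by group
      _ = v1 * (m⁻¹ * c) := by
          have e3 : v1 * m⁻¹ = m * v1 := by
            have := mul_inv_eq_iff_eq_mul.1 (hinv1 m⁻¹ (inv_mem hmN))
            rwa [inv_inv] at this
          rw [← e3, mul_assoc]
  -- `V ∩ C` is a smaller Sidki pair
  set W := V ⊓ C
  have hVdec : ∀ v ∈ V, v ∈ C ∨ v * v1 ∈ C := fun v hv => by
    rcases hact v hv with h | h
    · exact Or.inl h
    · refine Or.inr fun a ha => (mul_inv_eq_iff_eq_mul.1 ?_).symm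
      calc v * v1 * a * (v * v1)⁻¹ = v * (v1 * a * v1⁻¹) * v⁻¹ := by group
        _ = a := by rw [hinv1 a ha, h _ (inv_mem ha), inv_inv]
  obtain ⟨m0, hm0, hm01⟩ : ∃ m ∈ N, m ≠ 1 := by
    by_contra h
    push Not at h
    exact hN1 ((Subgroup.eq_bot_iff_forall _).2 h)
  have hkey : ∀ h : G, ∀ w ∈ W, Odd (orderOf h) → w * h * w⁻¹ = h⁻¹ →
      ∃ u ∈ W, u ≠ 1 ∧ u * h = h * u := by
    intro h w hw hodd hinv
    obtain ⟨hwV, hwC⟩ := mem_inf.1 hw
    -- `h` centralizes `N`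
    have hhC : h ∈ C := by
      have hG : h ∈ C ⊔ V := hCV ▸ mem_top h
      exact mem_of_coprime_sup (CfsgLib.Comp.le_normalizer_of_normal' C V) (d.isPGroup_of_le le_rfl) hG
        (Nat.coprime_two_right.2 hodd)
    obtain ⟨m, hm, hd⟩ := hsplit h hhC
    -- the `N`-part of `h` is trivial
    have hm1 : m = 1 := by
      have hwd : Commute w v1 := d.comm hwV hv1V
      have h1 : m * m = 1 := by
        have hc1 : v1 * (m⁻¹ * h) = m⁻¹ * h * v1 := (mem_centralizer_singleton_iff.1 hd).symm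
        have hhm : h * m = m * h := (hhC m hm).symm
        have e1 : v1 * h * v1⁻¹ = m⁻¹ * m⁻¹ * h := by
          calc v1 * h * v1⁻¹ = (v1 * m * v1⁻¹) * (v1 * (m⁻¹ * h) * v1⁻¹) := by group
            _ = m⁻¹ * (m⁻¹ * h) := by rw [hinv1 m hm, hc1]; group
            _ = _ := by group
        have hwm : ∀ b ∈ N, w * b * w⁻¹ = b := fun b hb => mul_inv_eq_iff_eq_mul.2 (hwC b hb).symm
        have e2 : w * (v1 * h * v1⁻¹) * w⁻¹ = v1 * h⁻¹ * v1⁻¹ := by
          rw [← hinv]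
          calc w * (v1 * h * v1⁻¹) * w⁻¹ = (w * v1) * h * (w * v1)⁻¹ := by group
            _ = (v1 * w) * h * (v1 * w)⁻¹ := by rw [hwd.eq]
            _ = _ := by group
        have e3 : v1 * h⁻¹ * v1⁻¹ = h⁻¹ * m * m := by
          rw [show v1 * h⁻¹ * v1⁻¹ = (v1 * h * v1⁻¹)⁻¹ by group, e1]
          simp [mul_assoc]
        rw [e3, e1, show w * (m⁻¹ * m⁻¹ * h) * w⁻¹ = (w * (m⁻¹ * m⁻¹) * w⁻¹) * (w * h * w⁻¹) by group,
          hwm _ (mul_mem (inv_mem hm) (inv_mem hm)), hinv] at e2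
        have e4 : h * (m⁻¹ * m⁻¹) * h⁻¹ = m⁻¹ * m⁻¹ :=
          mul_inv_eq_iff_eq_mul.2 (hhC _ (mul_mem (inv_mem hm) (inv_mem hm))).symm
        have e5 : m⁻¹ * m⁻¹ = m * m := by
          rw [← e4, show h * (m⁻¹ * m⁻¹) * h⁻¹ = h * (m⁻¹ * m⁻¹ * h⁻¹) by group, e2]; group
        refine hNodd _ (mul_mem hm hm) ?_
        rw [pow_two]
        nth_rewrite 1 [← e5]
        group
      exact hNodd m hm (by rw [pow_two]; exact h1)
    rw [hm1, inv_one, one_mul] at hd
    have hv1h : v1 * h = h * v1 := (mem_centralizer_singleton_iff.1 hd).symm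
    have hodd' : Odd (orderOf (m0 * h)) :=
      Odd.of_dvd_nat ((?_ : Odd (orderOf m0)).mul hodd) (show Commute m0 h from hhC m0 hm0).orderOf_mul_dvd_mul_orderOf
    · have hinv' : v1 * w * (m0 * h) * (v1 * w)⁻¹ = (m0 * h)⁻¹ := by
        calc v1 * w * (m0 * h) * (v1 * w)⁻¹ = v1 * ((w * m0 * w⁻¹) * (w * h * w⁻¹)) * v1⁻¹ := by group
          _ = v1 * (m0 * h⁻¹) * v1⁻¹ := by rw [hinv, mul_inv_eq_iff_eq_mul.2 (hwC m0 hm0).symm]
          _ = (v1 * m0 * v1⁻¹) * (v1 * h * v1⁻¹)⁻¹ := by group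
          _ = m0⁻¹ * h⁻¹ := by rw [hinv1 m0 hm0, hv1h]; group
          _ = (m0 * h)⁻¹ := by rw [hhC m0 hm0, mul_inv_rev]
      obtain ⟨u, hu, hu1, huc⟩ := d.pair (m0 * h) (v1 * w) (mul_mem hv1V hwV) hodd' hinv'
      have huC : u ∈ C := by
        rcases hVdec u hu with h' | h'
        · exact h'
        exfalso
        apply hm01
        have hu2 : ∀ b ∈ N, u * b * u⁻¹ = b⁻¹ := fun b hb => by
          have e := h' (v1⁻¹ * b * v1) (by simpa using Subgroup.Normal.conj_mem hNn b hb v1⁻¹)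
          calc u * b * u⁻¹ = (u * v1) * (v1⁻¹ * b * v1) * (u * v1)⁻¹ := by group
            _ = v1⁻¹ * b * v1 := by rw [← e]; group
            _ = b⁻¹ := by
                have := hinv1 b⁻¹ (inv_mem hb)
                rw [inv_inv] at this
                nth_rewrite 1 [← this]
                group
        have e1 : u * h * u⁻¹ = m0 * m0 * h := by
          have : u * (m0 * h) * u⁻¹ = m0 * h := mul_inv_eq_iff_eq_mul.2 huc
          rw [show u * (m0 * h) * u⁻¹ = (u * m0 * u⁻¹) * (u * h * u⁻¹) by group, hu2 m0 hm0] at this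
          rw [show u * h * u⁻¹ = m0 * (m0⁻¹ * (u * h * u⁻¹)) by group, this]
          group
        have e2 : v1 * (u * h * u⁻¹) * v1⁻¹ = u * h * u⁻¹ := by
          calc v1 * (u * h * u⁻¹) * v1⁻¹ = (v1 * u) * h * (v1 * u)⁻¹ := by group
            _ = (u * v1) * h * (u * v1)⁻¹ := by rw [d.comm hv1V hu]
            _ = u * (v1 * h * v1⁻¹) * u⁻¹ := by group
            _ = _ := by rw [hv1h, mul_inv_cancel_right]
        rw [e1, show v1 * (m0 * m0 * h) * v1⁻¹ = (v1 * (m0 * m0) * v1⁻¹) * (v1 * h * v1⁻¹) by group,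
          hinv1 _ (mul_mem hm0 hm0), hv1h, mul_inv_cancel_right, mul_left_inj] at e2
        refine hNodd m0 hm0 (hNodd _ (pow_mem hm0 2) ?_)
        rw [pow_two (m0 ^ 2), pow_two]
        nth_rewrite 1 [← e2]
        group
      refine ⟨u, mem_inf.2 ⟨hu, huC⟩, hu1, ?_⟩
      have e : u * m0 = m0 * u := (huC m0 hm0).symm
      have h' := huc
      rw [← mul_assoc, e, mul_assoc, mul_assoc, mul_right_inj] at h'
      exact h'
    · rw [← Nat.coprime_two_right]
      refine (Nat.coprime_two_right).2 (Nat.odd_iff.2 ?_)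
      by_contra hcon
      have h2 : 2 ∣ orderOf m0 := Nat.dvd_of_mod_eq_zero (by omega)
      obtain ⟨j, hj⟩ := h2
      have := hNodd (m0 ^ j) (pow_mem hm0 j) (by rw [← pow_mul, mul_comm, ← hj, pow_orderOf_eq_one])
      have hd := orderOf_dvd_of_pow_eq_one this
      have hpos := orderOf_pos m0
      rcases Nat.eq_zero_or_pos j with rfl | hj0
      · omega
      · have := Nat.le_of_dvd hj0 hd; omega
  have hW1 : W ≠ ⊥ := by
    intro hW
    have hodd0 : Odd (orderOf (1 : G)) := by simp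
    obtain ⟨u, hu, hu1, -⟩ := hkey 1 1 (one_mem W) hodd0 (by group)
    exact hu1 (mem_bot.1 (hW ▸ hu))
  refine d.minV W ?_ (d.elem_of_le inf_le_left) hW1 (fun h w hw hodd hinv => hkey h w hw hodd hinv) ?_
  · refine lt_of_le_of_ne (Subgroup.card_le_of_le inf_le_left) fun e => hv1C ?_
    exact ((Subgroup.eq_of_le_of_card_ge inf_le_left e.ge).ge hv1V).2
  · rw [d.core_eq_bot, inf_bot_eq]

theorem Data.centralizer_layer : centralizer (layer G : Set G) = ⊥ := by
  have h := CfsgLib.Comp.centralizer_generalizedFitting_le G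
  have hFs : generalizedFittingSubgroup G = layer G := by
    show layer G ⊔ fittingSubgroup G = layer G
    rw [d.fitting_eq_bot, sup_bot_eq]
  rw [hFs] at h
  have h2 := CfsgLib.Comp.fittingSubgroup_inf_layer G
  rw [d.fitting_eq_bot, bot_inf_eq] at h2
  exact le_bot_iff.1 ((le_inf h le_rfl).trans h2.ge)

/-- A normal subgroup with trivial centralizer completes `V` to `G`. -/
theorem Data.sup_eq_top (E : Subgroup G) [E.Normal] (hE : centralizer (E : Set G) = ⊥) : E ⊔ V = ⊤ := by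
  by_contra hne
  refine d.inf_core_ne_bot hne le_sup_right (le_bot_iff.1 (inf_le_right.trans ?_))
  rw [← hE]
  exact d.core_centralizes E le_sup_left

theorem Data.inf_centralizer_bot (N : Subgroup G) [N.Normal] : N ⊓ centralizer (N : Set G) = ⊥ := by
  refine le_bot_iff.1 (le_trans ?_ d.fitting_eq_bot.le)
  refine CfsgLib.Comp.le_fittingSubgroup_of_abelian (Subgroup.Normal.isSubnormal inferInstance) ?_
  exact inf_le_right.trans (centralizer_le inf_le_left)

/-- Any minimal normal subgroup has trivial centralizer. -/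
theorem Data.centralizer_eq_bot (N : Subgroup G) [N.Normal] (hN : N ≠ ⊥) : centralizer (N : Set G) = ⊥ := by
  classical
  haveI : Fact (Nat.Prime 2) := ⟨Nat.prime_two⟩
  by_contra hC1
  set C := centralizer (N : Set G) with hC
  haveI hCn : C.Normal := inferInstance
  have hNC : N ⊓ C = ⊥ := d.inf_centralizer_bot N
  have hCN : C ⊓ N = ⊥ := by rw [inf_comm]; exact hNC
  set A := V ⊓ C
  have hA : A ≠ ⊥ := by
    intro hA
    refine d.inf_core_ne_bot (d.sup_ne_top hCN hC1 le_rfl) le_sup_right (le_bot_iff.1 ?_)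
    rw [← hA]
    exact le_inf inf_le_left (inf_le_right.trans (d.core_centralizes N le_sup_left))
  have hHA : A ⊓ pCoreOf 2 (C ⊔ A) = ⊥ := by
    refine le_bot_iff.1 (le_trans ?_ (d.inf_centralizer_bot C).le)
    exact le_inf (inf_le_left.trans inf_le_right) (inf_le_right.trans (d.core_centralizes C le_sup_left))
  obtain ⟨h2, hh2, hodd2, a, ha, hinv2, hfree2⟩ :=
    d.exists_free (d.sup_ne_top hNC hN inf_le_left) le_sup_right inf_le_left hA hHA
  have hh2C : h2 ∈ C := mem_of_coprime_sup (CfsgLib.Comp.le_normalizer_of_normal' C A)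
    (d.isPGroup_of_le inf_le_left) hh2 (Nat.coprime_two_right.2 hodd2)
  set W := V ⊓ centralizer ({h2} : Set G)
  by_cases hW : W = ⊥
  · obtain ⟨u, hu, hu1, huc⟩ := d.pair h2 a (mem_inf.1 ha).1 hodd2 hinv2
    exact hu1 (mem_bot.1 (hW ▸ mem_inf.2 ⟨hu, mem_centralizer_singleton_iff.2 huc⟩))
  have hHW : W ⊓ pCoreOf 2 (N ⊔ W) = ⊥ := (Subgroup.eq_bot_iff_forall _).2 fun u hu => by
    obtain ⟨huW, huO⟩ := mem_inf.1 hu
    exact hfree2 u (mem_inf.2 ⟨(mem_inf.1 huW).1, d.core_centralizes N le_sup_left huO⟩)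
      (mem_centralizer_singleton_iff.1 (mem_inf.1 huW).2)
  obtain ⟨h1, hh1, hodd1, w, hw, hinv1, hfree1⟩ :=
    d.exists_free (d.sup_ne_top hCN hC1 inf_le_left) le_sup_right inf_le_left hW hHW
  have hh1N : h1 ∈ N := mem_of_coprime_sup (CfsgLib.Comp.le_normalizer_of_normal' N W)
    (d.isPGroup_of_le inf_le_left) hh1 (Nat.coprime_two_right.2 hodd1)
  have hc12 : Commute h1 h2 := hh2C h1 hh1N
  have hodd : Odd (orderOf (h1 * h2)) :=
    Odd.of_dvd_nat (hodd1.mul hodd2) hc12.orderOf_mul_dvd_mul_orderOf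
  have hinv : a * w * (h1 * h2) * (a * w)⁻¹ = (h1 * h2)⁻¹ := by
    have e2 : w * h2 * w⁻¹ = h2 := mul_inv_eq_iff_eq_mul.2 (mem_centralizer_singleton_iff.1 (mem_inf.1 hw).2)
    have e1 : a * h1⁻¹ * a⁻¹ = h1⁻¹ :=
      mul_inv_eq_iff_eq_mul.2 ((mem_inf.1 ha).2 _ (inv_mem hh1N)).symm
    calc a * w * (h1 * h2) * (a * w)⁻¹ = a * ((w * h1 * w⁻¹) * (w * h2 * w⁻¹)) * a⁻¹ := by group
      _ = (a * h1⁻¹ * a⁻¹) * (a * h2 * a⁻¹) := by rw [hinv1, e2]; group
      _ = h1⁻¹ * h2⁻¹ := by rw [e1, hinv2]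
      _ = (h1 * h2)⁻¹ := by rw [hc12.inv_inv.eq, mul_inv_rev]
  obtain ⟨u, hu, hu1, huc⟩ :=
    d.pair (h1 * h2) (a * w) (mul_mem (mem_inf.1 ha).1 (mem_inf.1 hw).1) hodd hinv
  have e : (u * h1 * u⁻¹) * (u * h2 * u⁻¹) = h1 * h2 := by
    rw [show (u * h1 * u⁻¹) * (u * h2 * u⁻¹) = u * (h1 * h2) * u⁻¹ by group]
    exact mul_inv_eq_iff_eq_mul.2 huc
  have e' : h1⁻¹ * (u * h1 * u⁻¹) = h2 * (u * h2 * u⁻¹)⁻¹ := by
    rw [eq_mul_inv_iff_mul_eq, mul_assoc, e, inv_mul_cancel_left]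
  have hm : h1⁻¹ * (u * h1 * u⁻¹) ∈ N ⊓ C := mem_inf.2
    ⟨mul_mem (inv_mem hh1N) (Subgroup.Normal.conj_mem inferInstance h1 hh1N u),
     e' ▸ mul_mem hh2C (inv_mem (Subgroup.Normal.conj_mem hCn h2 hh2C u))⟩
  rw [hNC, mem_bot] at hm
  have huh1 : u * h1 = h1 * u := mul_inv_eq_iff_eq_mul.1 (inv_mul_eq_one.1 hm).symm
  rw [hm] at e'
  have huh2 : u * h2 = h2 * u := mul_inv_eq_iff_eq_mul.1 (mul_inv_eq_one.1 e'.symm).symm
  exact hu1 (hfree1 u (mem_inf.2 ⟨hu, mem_centralizer_singleton_iff.2 huh2⟩) huh1)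

theorem Data.layer_ne_bot : layer G ≠ ⊥ := by
  intro h
  have h1 := d.centralizer_layer
  rw [h] at h1
  have htop : centralizer ((⊥ : Subgroup G) : Set G) = ⊤ := eq_top_iff.2 fun x _ y hy => by
    rw [mem_bot.1 hy, one_mul, mul_one]
  rw [htop] at h1
  exact d.ne (le_bot_iff.1 (h1 ▸ le_top))

/-- The layer is a component. -/
theorem Data.layer_component {L : Subgroup G} (hL : IsComponent L) : L = layer G := by
  classical
  haveI : Fact (Nat.Prime 2) := ⟨Nat.prime_two⟩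
  haveI := CfsgLib.Comp.layer_normal G
  set E := layer G
  have hEV := d.sup_eq_top E d.centralizer_layer
  have hLE : L ≤ E := CfsgLib.Comp.le_layer hL
  have hEn : E ≤ normalizer (L : Set G) := CfsgLib.Comp.layer_le_normalizer_component hL
  have hL1 := CfsgLib.Comp.ne_bot_of_isComponent hL
  by_cases hLn : V ≤ normalizer (L : Set G)
  · haveI : L.Normal := normalizer_eq_top_iff.1 (eq_top_iff.2 (hEV ▸ sup_le hEn hLn))
    refine le_antisymm hLE (sSup_le fun K hK => ?_)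
    rcases CfsgLib.Comp.component_eq_or_le_centralizer hK hL with rfl | h
    · exact le_rfl
    · rw [d.centralizer_eq_bot L hL1] at h
      exact absurd (le_bot_iff.1 h) (CfsgLib.Comp.ne_bot_of_isComponent hK)
  exfalso
  obtain ⟨u₀, hu₀, hu₀L⟩ := SetLike.not_le_iff_exists.1 hLn
  -- a centralizer of `L` in `V` is trivial
  set M := ⨆ v : V, L.map (MulAut.conj (v : G)).toMonoidHom
  haveI : M.Normal := by
    refine normalizer_eq_top_iff.1 (eq_top_iff.2 (hEV ▸ sup_le ?_ ?_))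
    · exact CfsgLib.Comp.le_normalizer_iSup _ fun v =>
        CfsgLib.Comp.layer_le_normalizer_component (CfsgLib.Comp.isComponent_map_conj hL _)
    · intro v hv
      apply CfsgLib.PLocal.mem_normalizer_map_conj.2
      refine eq_of_le_of_card_ge ?_ (CfsgLib.Coprime.card_map_conj v _).ge
      rw [Subgroup.map_iSup]
      refine iSup_le fun s => ?_
      rw [CfsgLib.Coprime.map_conj_conj]
      exact le_iSup_of_le (⟨v, hv⟩ * s : V) le_rfl
  have hLM : L ≤ M := le_iSup_of_le (1 : V) (by rw [OneMemClass.coe_one, map_conj_one'])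
  have hMc : centralizer (M : Set G) = ⊥ :=
    d.centralizer_eq_bot M fun h => hL1 (le_bot_iff.1 (h ▸ hLM))
  have hVc : ∀ b ∈ V, b ∈ centralizer (L : Set G) → b = 1 := by
    intro b hb hbL
    rw [← mem_bot, ← hMc]
    suffices h : M ≤ centralizer ((zpowers b : Subgroup G) : Set G) from
      le_centralizer_iff.1 h (mem_zpowers b)
    refine iSup_le fun v => ?_
    refine le_centralizer_iff.1 (zpowers_le.2 ?_)
    rintro _ ⟨x, hx, rfl⟩
    show (v : G) * x * (v : G)⁻¹ * b = b * ((v : G) * x * (v : G)⁻¹)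
    have h1 : Commute b (v : G) := d.comm hb v.2
    exact ((h1.mul_right (show Commute b x from (hbL x hx).symm)).mul_right h1.inv_right).eq.symm
  -- distinct conjugates centralize each other
  have hdist : ∀ v ∈ V, v ∉ normalizer (L : Set G) →
      L.map (MulAut.conj v).toMonoidHom ≤ centralizer (L : Set G) := fun v _ hv =>
    (CfsgLib.Comp.component_eq_or_le_centralizer (CfsgLib.Comp.isComponent_map_conj hL v) hL).resolve_left
      fun e => hv (CfsgLib.PLocal.mem_normalizer_map_conj.2 e)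
  have hcenter : ∀ x ∈ L, x ∈ centralizer (L : Set G) → x = 1 := by
    intro x hx hxc
    have h := CfsgLib.Comp.component_inf_centralizer_le_fittingSubgroup hL (mem_inf.2 ⟨hx, hxc⟩)
    rwa [d.fitting_eq_bot, mem_bot] at h
  set B := V ⊓ normalizer (L : Set G)
  by_cases hB : B = ⊥
  · obtain ⟨x, hx, hx1, hxodd⟩ : ∃ x ∈ L, x ≠ 1 ∧ Odd (orderOf x) := by
      by_contra hcon
      push Not at hcon
      have hp : IsPGroup 2 L := CfsgLib.PLocal.isPGroup_of_forall_coprime fun g hg hgc => by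
        by_contra hg1
        exact hcon g hg hg1 (Nat.coprime_two_right.1 hgc)
      haveI := hp.isNilpotent
      exact CfsgLib.Comp.not_isSolvable_of_isQuasisimple hL.2 inferInstance
    have hyc : u₀ * x⁻¹ * u₀⁻¹ ∈ centralizer (L : Set G) :=
      hdist u₀ hu₀ hu₀L ⟨x⁻¹, inv_mem hx, rfl⟩
    have hxy : Commute x (u₀ * x⁻¹ * u₀⁻¹) := hyc x hx
    have hodd : Odd (orderOf (x * (u₀ * x⁻¹ * u₀⁻¹))) := by
      refine Odd.of_dvd_nat (hxodd.mul ?_) hxy.orderOf_mul_dvd_mul_orderOf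
      rwa [show orderOf (u₀ * x⁻¹ * u₀⁻¹) = orderOf x from by
        rw [← MulAut.conj_apply, MulEquiv.orderOf_eq, orderOf_inv]]
    have huu : u₀ * u₀ = 1 := by rw [← pow_two]; exact d.elem.2 u₀ hu₀
    have hinv : u₀ * (x * (u₀ * x⁻¹ * u₀⁻¹)) * u₀⁻¹ = (x * (u₀ * x⁻¹ * u₀⁻¹))⁻¹ := by
      calc u₀ * (x * (u₀ * x⁻¹ * u₀⁻¹)) * u₀⁻¹ = (u₀ * x * u₀⁻¹) * ((u₀ * u₀) * x⁻¹ * (u₀ * u₀)⁻¹) := by group
        _ = (x * (u₀ * x⁻¹ * u₀⁻¹))⁻¹ := by rw [huu]; group
    obtain ⟨v, hv, hv1, hvc⟩ := d.pair _ u₀ hu₀ hodd hinv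
    have hvL : v ∉ normalizer (L : Set G) := fun h => hv1 (mem_bot.1 (hB ▸ mem_inf.2 ⟨hv, h⟩))
    by_cases hvu : v = u₀
    · subst hvu
      set h := x * (v * x⁻¹ * v⁻¹)
      have h2 : h = h⁻¹ := by rw [← hinv]; exact (mul_inv_eq_iff_eq_mul.2 hvc).symm
      have h3 : h = 1 := by
        obtain ⟨k, hk⟩ := hodd
        have h22 : h ^ 2 = 1 := by rw [pow_two]; exact mul_eq_one_iff_eq_inv.2 h2
        have := pow_orderOf_eq_one h
        rw [hk, pow_succ, pow_mul, h22, one_pow, one_mul] at this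
        exact this
      refine hx1 (hcenter x hx ?_)
      rw [eq_inv_of_mul_eq_one_left h3]
      exact inv_mem hyc
    · have hvu' : v * u₀ ∉ normalizer (L : Set G) := fun h =>
        hvu (by
          have e := mem_bot.1 (hB.le (mem_inf.2 ⟨mul_mem hv hu₀, h⟩))
          rw [eq_inv_of_mul_eq_one_left e, d.inv_eq hu₀])
      have h1 := hdist v hv hvL ⟨x, hx, rfl⟩
      have h2 : v * (u₀ * x⁻¹ * u₀⁻¹) * v⁻¹ ∈ centralizer (L : Set G) :=
        hdist _ (mul_mem hv hu₀) hvu' ⟨x⁻¹, inv_mem hx, by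
          show v * u₀ * x⁻¹ * (v * u₀)⁻¹ = _
          group⟩
      refine hx1 (hcenter x hx ?_)
      have e : x = (v * x * v⁻¹) * (v * (u₀ * x⁻¹ * u₀⁻¹) * v⁻¹) * (u₀ * x⁻¹ * u₀⁻¹)⁻¹ := by
        rw [show (v * x * v⁻¹) * (v * (u₀ * x⁻¹ * u₀⁻¹) * v⁻¹) = v * (x * (u₀ * x⁻¹ * u₀⁻¹)) * v⁻¹ by group,
          mul_inv_eq_iff_eq_mul.2 hvc, mul_inv_cancel_right]
      rw [e]
      exact mul_mem (mul_mem h1 h2) (inv_mem hyc)
  · have hne : L ⊔ B ≠ ⊤ := fun h => hu₀L ((h ▸ sup_le le_normalizer inf_le_right : (⊤ : Subgroup G) ≤ _) (mem_top u₀))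
    have hcore : B ⊓ pCoreOf 2 (L ⊔ B) = ⊥ := (Subgroup.eq_bot_iff_forall _).2 fun b hb => by
      refine hVc b (mem_inf.1 (mem_inf.1 hb).1).1 ?_
      have hLn' : L ≤ normalizer (pCoreOf 2 (L ⊔ B) : Set G) :=
        (le_sup_left : L ≤ L ⊔ B).trans (le_normalizer_pCoreOf _)
      have hOn : pCoreOf 2 (L ⊔ B) ≤ normalizer (L : Set G) :=
        (pCoreOf_le _).trans (sup_le le_normalizer inf_le_right)
      have hQ : ⁅L, pCoreOf 2 (L ⊔ B)⁆ ≤ L ⊓ pCoreOf 2 (L ⊔ B) := le_inf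
        (CfsgLib.Comp.commutator_le_of_le_normalizer hOn)
        (by rw [Subgroup.commutator_comm]; exact CfsgLib.Comp.commutator_le_of_le_normalizer hLn')
      have hbot : L ⊓ pCoreOf 2 (L ⊔ B) = ⊥ := by
        refine le_bot_iff.1 fun y hy => ?_
        haveI : ((L ⊓ pCoreOf 2 (L ⊔ B)).subgroupOf L).Normal := normal_subgroupOf_of_le_normalizer
          ((le_inf le_normalizer hLn').trans inf_normalizer_le_normalizer_inf)
        rcases CfsgLib.Comp.normal_eq_top_or_le_center hL.2 ((L ⊓ pCoreOf 2 (L ⊔ B)).subgroupOf L) with h | h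
        · exfalso
          have hp : IsPGroup 2 L := (isPGroup_pCoreOf (L ⊔ B)).to_le ((subgroupOf_eq_top.1 h).trans inf_le_right)
          haveI := hp.isNilpotent
          exact CfsgLib.Comp.not_isSolvable_of_isQuasisimple hL.2 inferInstance
        · exact mem_bot.2 (hcenter y (mem_inf.1 hy).1 fun z hz =>
            congrArg Subtype.val (mem_center_iff.1 (h (x := (⟨y, (mem_inf.1 hy).1⟩ : L)) (mem_subgroupOf.2 hy)) ⟨z, hz⟩))
      rw [hbot, le_bot_iff, commutator_eq_bot_iff_le_centralizer] at hQ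
      exact le_centralizer_iff.1 hQ (mem_inf.1 hb).2
    obtain ⟨x, hxH, hxodd, b, hb, hinv, hfree⟩ := d.exists_free hne le_sup_right inf_le_left hB hcore
    have hxL : x ∈ L := mem_of_coprime_sup inf_le_right (d.isPGroup_of_le inf_le_left) hxH
      (Nat.coprime_two_right.2 hxodd)
    obtain ⟨v, hv, hv1, hvc⟩ := d.pair x b (mem_inf.1 hb).1 hxodd hinv
    by_cases hvL : v ∈ normalizer (L : Set G)
    · exact hv1 (hfree v (mem_inf.2 ⟨hv, hvL⟩) hvc)
    · have hxc : x ∈ centralizer (L : Set G) :=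
        hdist v hv hvL ⟨x, hxL, mul_inv_eq_iff_eq_mul.2 hvc⟩
      have hx1 := hcenter x hxL hxc
      obtain ⟨b', hb', hb'1⟩ := (Subgroup.bot_or_exists_ne_one B).resolve_left hB
      exact hb'1 (hfree b' hb' (by rw [hx1, mul_one, one_mul]))

theorem Data.main : IsSimpleGroup ↥(generalizedFittingSubgroup G) ∧
    ¬ IsMulCommutative ↥(generalizedFittingSubgroup G) ∧ V ⊔ generalizedFittingSubgroup G = ⊤ := by
  have hFs : generalizedFittingSubgroup G = layer G := by
    show layer G ⊔ fittingSubgroup G = layer G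
    rw [d.fitting_eq_bot, sup_bot_eq]
  rw [hFs]
  haveI := CfsgLib.Comp.layer_normal G
  obtain ⟨L, hL⟩ : ∃ L : Subgroup G, IsComponent L := by
    by_contra h
    push Not at h
    exact d.layer_ne_bot (le_bot_iff.1 (sSup_le fun K hK => absurd hK (h K)))
  have hLE := d.layer_component hL
  rw [← hLE]
  have hz : center ↥L = ⊥ := (Subgroup.eq_bot_iff_forall _).2 fun z hz => by
    have h := CfsgLib.Comp.component_inf_centralizer_le_fittingSubgroup hL
      (mem_inf.2 ⟨z.2, fun y hy => congrArg Subtype.val (mem_center_iff.1 hz ⟨y, hy⟩)⟩)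
    rw [d.fitting_eq_bot, mem_bot] at h
    exact Subtype.ext h
  refine ⟨?_, ?_, ?_⟩
  · haveI := hL.2.2
    exact ((QuotientGroup.quotientMulEquivOfEq hz).trans QuotientGroup.quotientBot).symm.isSimpleGroup
  · haveI := hL.2.1
    haveI := CfsgLib.Comp.nontrivial_of_isQuasisimple hL.2
    exact Group.IsPerfect.not_isMulCommutative _
  · rw [sup_comm, hLE]
    exact d.sup_eq_top _ d.centralizer_layer

end CfsgLib.Amalgam.Sidki
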