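import Cfsg.Agent.Lib.Amalgam.DihedralWreath
import Cfsg.Agent.S0822
import Cfsg.Agent.S0303
import Cfsg.Agent.Lib.Classical.OrthOmega
import Cfsg.Agent.Lib.Classical.OrthOrder
import Cfsg.Agent.Lib.Classical.StdQuad
import Cfsg.Agent.Lib.Geom.OmegaIndex

/-!
# Sylow 2-subgroups of `O_6^-(2)` and of `PSp_4(3)`

Both come from the wreath product of a dihedral group of order 8 by a group of order 2.
-/

set_option autoImplicit false
set_option linter.style.haveILetI false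
set_option maxRecDepth 8000

namespace CfsgLib.Amalgam.SixMinus

open Matrix CfsgLib.Amalgam.DihWr

abbrev F2 := ZMod 2
abbrev I6 := (Fin 2 ⊕ Fin 2) ⊕ Fin 2
abbrev Q2 : (I6 → F2) → F2 := Cfsg.quadFormMinus 2 F2 1 1
abbrev O2 := Cfsg.isometryGroup F2 Q2

/-- Positions of the coordinates. -/
def idx : I6 → Fin 6 := Sum.elim (Sum.elim ![0, 1] ![2, 3]) ![4, 5]

/-- A matrix on the coordinates from rows. -/
def mat (M : Fin 6 → Fin 6 → F2) : Matrix I6 I6 F2 := Matrix.of fun i j => M (idx i) (idx j)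

def mR : Matrix I6 I6 F2 := mat ![![1, 0, 0, 0, 0, 0], ![0, 1, 0, 1, 0, 1], ![1, 1, 1, 1, 0, 0], ![1, 0, 0, 1, 0, 0], ![1, 0, 0, 1, 1, 1], ![0, 0, 0, 0, 0, 1]]
def mRi : Matrix I6 I6 F2 := mat ![![1, 0, 0, 0, 0, 0], ![1, 1, 0, 1, 0, 1], ![1, 1, 1, 0, 0, 1], ![1, 0, 0, 1, 0, 0], ![0, 0, 0, 1, 1, 1], ![0, 0, 0, 0, 0, 1]]
def mS : Matrix I6 I6 F2 := mat ![![1, 0, 0, 0, 0, 0], ![0, 1, 0, 1, 0, 1], ![0, 0, 1, 0, 0, 0], ![0, 0, 0, 1, 0, 0], ![0, 0, 0, 1, 1, 1], ![0, 0, 0, 0, 0, 1]]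
def mT : Matrix I6 I6 F2 := mat ![![1, 0, 0, 0, 0, 0], ![0, 1, 0, 1, 1, 0], ![0, 0, 1, 0, 0, 0], ![0, 0, 0, 1, 0, 0], ![0, 0, 0, 0, 1, 0], ![0, 0, 0, 1, 0, 1]]
def mXrs : Matrix I6 I6 F2 := mat ![![1, 0, 0, 0, 0, 0], ![1, 1, 0, 0, 0, 0], ![0, 1, 1, 1, 0, 1], ![0, 1, 0, 1, 0, 1], ![0, 1, 0, 0, 1, 0], ![0, 0, 0, 0, 0, 1]]
def mXrsi : Matrix I6 I6 F2 := mat ![![1, 0, 0, 0, 0, 0], ![1, 1, 0, 0, 0, 0], ![0, 0, 1, 1, 0, 0], ![1, 1, 0, 1, 0, 1], ![1, 1, 0, 0, 1, 0], ![0, 0, 0, 0, 0, 1]]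
def mXt : Matrix I6 I6 F2 := mat ![![1, 0, 0, 0, 0, 0], ![0, 1, 0, 1, 1, 1], ![0, 0, 1, 0, 0, 0], ![0, 0, 0, 1, 0, 0], ![0, 0, 0, 1, 1, 0], ![0, 0, 0, 0, 1, 1]]
def mXti : Matrix I6 I6 F2 := mat ![![1, 0, 0, 0, 0, 0], ![0, 1, 0, 1, 0, 1], ![0, 0, 1, 0, 0, 0], ![0, 0, 0, 1, 0, 0], ![0, 0, 0, 1, 1, 0], ![0, 0, 0, 1, 1, 1]]

theorem anisotropic : ∀ z₁ z₂ : F2, z₁ ^ 2 + 1 * z₁ * z₂ + 1 * z₂ ^ 2 = 0 → z₁ = 0 ∧ z₂ = 0 := by
  decide

/-- An element of the isometry group from a pair of inverse matrices. -/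
def elt (M N : Matrix I6 I6 F2) (h1 : M * N = 1) (h2 : N * M = 1)
    (h : ∀ u, Q2 (M *ᵥ u) = Q2 u) : O2 :=
  ⟨⟨M, N, h1, h2⟩, fun u _ => h u⟩

theorem elt_val {M N : Matrix I6 I6 F2} {h1 h2 h} :
    (((elt M N h1 h2 h : O2) : Matrix.GeneralLinearGroup I6 F2) : Matrix I6 I6 F2) = M := rfl

def gR : O2 := elt mR mRi (by decide +kernel) (by decide +kernel) (by decide +kernel)
def gS : O2 := elt mS mS (by decide +kernel) (by decide +kernel) (by decide +kernel)
def gT : O2 := elt mT mT (by decide +kernel) (by decide +kernel) (by decide +kernel)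
def gXrs : O2 := elt mXrs mXrsi (by decide +kernel) (by decide +kernel) (by decide +kernel)
def gXt : O2 := elt mXt mXti (by decide +kernel) (by decide +kernel) (by decide +kernel)

theorem ext' {x y : O2} (h : ((x : Matrix.GeneralLinearGroup I6 F2) : Matrix I6 I6 F2) =
    ((y : Matrix.GeneralLinearGroup I6 F2) : Matrix I6 I6 F2)) : x = y :=
  Subtype.ext (Units.ext h)

theorem rel : Rel gR gS gT where
  r4 := by rw [pow_succ, pow_succ, pow_two]; exact ext' (by decide +kernel)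
  s2 := ext' (by decide +kernel)
  srs := by
    rw [eq_inv_iff_mul_eq_one]
    exact ext' (by decide +kernel)
  t2 := ext' (by decide +kernel)
  cRR := ext' (by decide +kernel)
  cRS := ext' (by decide +kernel)
  cSS := ext' (by decide +kernel)

theorem center_ne : gR ^ 2 * (gT * gR ^ 2 * gT) ≠ 1 := by
  rw [pow_two]
  intro h
  exact absurd (congrArg (fun x : O2 => ((x : Matrix.GeneralLinearGroup I6 F2) : Matrix I6 I6 F2)) h)
    (by decide +kernel)

theorem gT_sq : gT = gXt * gXt := ext' (by decide +kernel)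

theorem gRS_sq : gR * gS = gXrs * gXrs := ext' (by decide +kernel)

theorem card_O2 : Nat.card O2 = 51840 := by
  rw [CfsgLib.Classical.card_isometryGroup_eq Q2 (CfsgLib.Classical.qfMinus 2 F2 1 1)
    (fun v => congrFun (CfsgLib.Classical.qfMinus_coe 2 1 1) v),
    CfsgLib.Classical.card_qfMinus_isoms anisotropic 2, ZMod.card, Finset.prod_range_succ,
    Finset.prod_range_one]
  norm_num

theorem omega_index : (Cfsg.Omega F2 Q2).index = 2 := by
  have := CfsgLib.Geom.omega_index_even (CfsgLib.Classical.qfMinus 2 F2 1 1)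
    (CfsgLib.Classical.qfMinus_sep 2 anisotropic) (Or.inr (by simp)) (by decide) (by simp)
  rwa [CfsgLib.Classical.qfMinus_coe] at this

theorem card_omega : Nat.card (Cfsg.Omega F2 Q2) = 25920 := by
  have := (Cfsg.Omega F2 Q2).card_mul_index
  rw [omega_index, card_O2] at this
  omega

/-- `PSp_4(3) ≅ Ω_6^-(2)`. -/
theorem pSp_equiv_omega (F : Type) [Field F] [Fintype F] (hF : Fintype.card F = 3) :
    Nonempty (Cfsg.PSp 2 F ≃* Cfsg.Omega F2 Q2) := by
  classical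
  let L := GaloisField 2 2
  haveI : Fintype L := Fintype.ofFinite L
  have hL : Fintype.card L = 4 := by
    rw [← Nat.card_eq_fintype_card, GaloisField.card 2 2 two_ne_zero]; norm_num
  obtain ⟨e1⟩ := Cfsg.Agent.S0822.result (F := L) (K := F) hL hF
  obtain ⟨e2⟩ := Cfsg.Agent.S0303.result (F := F2) (K := L) (q := 2) (ZMod.card 2)
    (by rw [hL]; norm_num) 1 1 anisotropic
  have hcard := CfsgLib.Classical.card_pOmega_minus (F := F2) (ZMod.card 2) 2 le_rfl anisotropic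
  rw [Finset.prod_range_succ, Finset.prod_range_one] at hcard
  have hv : (2 : ℕ) ^ ((2 + 1) * 2) * (2 ^ (2 + 1) + 1) *
      ((2 ^ (2 * (0 + 1)) - 1) * (2 ^ (2 * (1 + 1)) - 1)) = 25920 := by norm_num
  rw [hv, show Nat.gcd 4 ((2 : ℕ) ^ (2 + 1) + 1) = 1 by decide, one_mul] at hcard
  have hz : Subgroup.center (Cfsg.Omega F2 Q2) = ⊥ := by
    have h1 := (Subgroup.center (Cfsg.Omega F2 Q2)).card_mul_index
    rw [Subgroup.index_eq_card, card_omega] at h1
    change Nat.card _ * Nat.card (Cfsg.POmega F2 Q2) = _ at h1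
    rw [hcard] at h1
    exact Subgroup.eq_bot_of_card_eq _
      (Nat.eq_of_mul_eq_mul_right (by norm_num : 0 < 25920) (h1.trans (one_mul 25920).symm))
  exact ⟨(e1.symm.trans e2.symm).trans
    ((QuotientGroup.quotientMulEquivOfEq hz).trans QuotientGroup.quotientBot)⟩

/-- The sign on the wreath product. -/
theorem exists_char : ∃ χ : O2 →* ℤˣ, χ.ker = Cfsg.Omega F2 Q2 ∧ χ gR = -1 ∧ χ gS = -1 ∧ χ gT = 1 := by
  haveI : Fact (Nat.Prime 2) := ⟨Nat.prime_two⟩
  have hidx := omega_index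
  set Ω := Cfsg.Omega F2 Q2 with hΩ
  let e : (O2 ⧸ Ω) ≃* ℤˣ := mulEquivOfPrimeCardEq (p := 2)
    (by rw [← Subgroup.index_eq_card, hidx]) (by simp [Nat.card_eq_fintype_card])
  let χ : O2 →* ℤˣ := e.toMonoidHom.comp (QuotientGroup.mk' Ω)
  have hker : χ.ker = Ω := by
    ext x; simp [χ]
  have hiff : ∀ x, χ x = 1 ↔ x ∈ Ω := fun x => by rw [← hker, MonoidHom.mem_ker]
  have hT : gT ∈ Ω := gT_sq ▸ Subgroup.mul_self_mem_of_index_two hidx gXt
  have hRS : gR * gS ∈ Ω := gRS_sq ▸ Subgroup.mul_self_mem_of_index_two hidx gXrs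
  have hR : gR ∉ Ω := by
    intro hR
    have hS : gS ∈ Ω := (Ω.mul_mem_cancel_left hR).1 hRS
    have h1 : χ.comp (hom rel) = 1 := by
      refine hom_ext _ _ ?_ ?_ ?_
      · rw [MonoidHom.comp_apply, hom_wR, MonoidHom.one_apply, hiff]; exact hR
      · rw [MonoidHom.comp_apply, hom_wS, MonoidHom.one_apply, hiff]; exact hS
      · rw [MonoidHom.comp_apply, hom_wT, MonoidHom.one_apply, hiff]; exact hT
    have hle : (hom rel).range ≤ Ω := by
      rintro _ ⟨w, rfl⟩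
      exact (hiff _).1 (DFunLike.congr_fun h1 w)
    have hd := Subgroup.card_dvd_of_le hle
    rw [← Nat.card_congr (MonoidHom.ofInjective (hom_injective rel center_ne)).toEquiv, card_DW,
      hΩ, card_omega] at hd
    omega
  refine ⟨χ, hker, (Int.units_eq_one_or _).resolve_left fun h => hR ((hiff _).1 h), ?_, (hiff _).2 hT⟩
  refine (Int.units_eq_one_or _).resolve_left fun h => hR ?_
  exact (Ω.mul_mem_cancel_right ((hiff _).1 h)).1 hRS

end CfsgLib.Amalgam.SixMinus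

namespace CfsgLib.Amalgam.SixMinus

open Matrix CfsgLib.Amalgam.DihWr

/-- `O_6^-` over any field with two elements. -/
theorem isometryGroup_equiv (K : Type) [Field K] [Fintype K] (hK : Fintype.card K = 2) (a b : K)
    (hab : ∀ z₁ z₂ : K, z₁ ^ 2 + a * z₁ * z₂ + b * z₂ ^ 2 = 0 → z₁ = 0 ∧ z₂ = 0) :
    Nonempty (O2 ≃* Cfsg.isometryGroup K (Cfsg.quadFormMinus 2 K a b)) := by
  classical
  let e : F2 ≃+* K := FiniteField.ringEquivOfCardEq ((ZMod.card 2).trans hK.symm)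
  have hall : ∀ x : K, x = 0 ∨ x = 1 := fun x => by
    obtain ⟨y, rfl⟩ := e.surjective x
    rcases (by decide : ∀ y : F2, y = 0 ∨ y = 1) y with rfl | rfl
    · exact Or.inl (map_zero e)
    · exact Or.inr (map_one e)
  have hb : b = 1 := (hall b).resolve_left fun h => one_ne_zero (hab 0 1 (by rw [h]; ring)).2
  have ha : a = 1 := (hall a).resolve_left fun h => by
    refine one_ne_zero (hab 1 1 ?_).1
    rw [h, hb, show (1 : K) = e 1 from (map_one e).symm, show (0 : K) = e 0 from (map_zero e).symm]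
    simp only [← map_pow, ← map_mul, ← map_add]
    exact congrArg e (by decide)
  subst ha; subst hb
  have hQ : ∀ v : I6 → F2, Cfsg.quadFormMinus 2 K 1 1 (fun i => e (v i)) = e (Q2 v) := by
    intro v
    simp only [Cfsg.quadFormMinus, Q2, map_add, map_mul, map_sum, map_pow, map_one]
  let f : O2 →* Cfsg.isometryGroup K (Cfsg.quadFormMinus 2 K 1 1) :=
    ((Matrix.GeneralLinearGroup.map e.toRingHom).comp (Subgroup.subtype _)).codRestrict _ fun g => by
      intro u w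
      have hu : u = fun i => e ((fun i => e.symm (u i)) i) := funext fun i => (e.apply_symm_apply _).symm
      rw [hu]
      set u' : I6 → F2 := fun i => e.symm (u i) with hu'
      have h1 : (Units.coeHom (Matrix I6 I6 K)) (((Matrix.GeneralLinearGroup.map e.toRingHom).comp
          (Subgroup.subtype _)) g) *ᵥ (fun i => e (u' i)) =
          fun i => e ((((g : Matrix.GeneralLinearGroup I6 F2) : Matrix I6 I6 F2) *ᵥ u') i) := by
        funext i
        simp [Matrix.mulVec, dotProduct, map_sum, map_mul, Matrix.GeneralLinearGroup.map]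
      show Cfsg.quadFormMinus 2 K 1 1 _ = Cfsg.quadFormMinus 2 K 1 1 _
      rw [h1, hQ, hQ]
      exact congrArg e (g.2 u' u')
  have hinj : Function.Injective f := fun x y h => ext' (by
    ext i j
    exact e.injective (congrArg (fun z : Cfsg.isometryGroup K _ =>
      ((z : Matrix.GeneralLinearGroup I6 K) : Matrix I6 I6 K) i j) h))
  have hcard : Nat.card (Cfsg.isometryGroup K (Cfsg.quadFormMinus 2 K 1 1)) = 51840 := by
    rw [CfsgLib.Classical.card_isometryGroup_eq (Cfsg.quadFormMinus 2 K 1 1) (CfsgLib.Classical.qfMinus 2 K 1 1)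
      (fun v => congrFun (CfsgLib.Classical.qfMinus_coe 2 1 1) v),
      CfsgLib.Classical.card_qfMinus_isoms hab 2, hK, Finset.prod_range_succ, Finset.prod_range_one]
    norm_num
  exact ⟨MulEquiv.ofBijective f ((Nat.bijective_iff_injective_and_card f).2
    ⟨hinj, card_O2.trans hcard.symm⟩)⟩

/-! ### The symmetric group of degree 8 -/

def pR : Equiv.Perm (Fin 8) := Equiv.swap 0 1 * Equiv.swap 1 2 * Equiv.swap 2 3
def pS : Equiv.Perm (Fin 8) := Equiv.swap 0 2
def pT : Equiv.Perm (Fin 8) := Equiv.swap 0 4 * Equiv.swap 1 5 * Equiv.swap 2 6 * Equiv.swap 3 7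

theorem relPerm : Rel pR pS pT := by
  refine ⟨?_, ?_, ?_, ?_, ?_, ?_, ?_⟩ <;> decide +kernel

theorem center_ne_perm : pR ^ 2 * (pT * pR ^ 2 * pT) ≠ 1 := by decide +kernel

theorem sign_gens : Equiv.Perm.sign pR = -1 ∧ Equiv.Perm.sign pS = -1 ∧ Equiv.Perm.sign pT = 1 := by
  decide +kernel

/-- The two pairs of Sylow 2-subgroups are isomorphic. -/
theorem sylow_isos (F : Type) [Field F] [Fintype F] (hF : Fintype.card F = 3)
    (K : Type) [Field K] [Fintype K] (hK : Fintype.card K = 2) (a b : K)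
    (hab : ∀ z₁ z₂ : K, z₁ ^ 2 + a * z₁ * z₂ + b * z₂ ^ 2 = 0 → z₁ = 0 ∧ z₂ = 0)
    (P : Sylow 2 ↥(alternatingGroup (Fin 8))) (Q : Sylow 2 (Cfsg.PSp 2 F))
    (P' : Sylow 2 (Equiv.Perm (Fin 8)))
    (Q' : Sylow 2 ↥(Cfsg.isometryGroup K (Cfsg.quadFormMinus 2 K a b))) :
    Nonempty (↥(P : Subgroup ↥(alternatingGroup (Fin 8))) ≃* ↥(Q : Subgroup (Cfsg.PSp 2 F))) ∧
      Nonempty (↥(P' : Subgroup (Equiv.Perm (Fin 8))) ≃*
        ↥(Q' : Subgroup ↥(Cfsg.isometryGroup K (Cfsg.quadFormMinus 2 K a b)))) := by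
  haveI : Fact (Nat.Prime 2) := ⟨Nat.prime_two⟩
  constructor
  · obtain ⟨χ, hker, hR, hS, hT⟩ := exists_char
    have hcomp : χ.comp (hom rel) = Equiv.Perm.sign.comp (hom relPerm) := by
      refine hom_ext _ _ ?_ ?_ ?_ <;>
        simp [hom_wR, hom_wS, hom_wT, hR, hS, hT, sign_gens.1, sign_gens.2.1, sign_gens.2.2]
    have hsurj : Function.Surjective (χ.comp (hom rel)) := fun x => by
      rcases Int.units_eq_one_or x with rfl | rfl
      · exact ⟨1, map_one _⟩
      · exact ⟨wR, by rw [MonoidHom.comp_apply, hom_wR, hR]⟩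
    have hcard : Nat.card (χ.comp (hom rel)).ker = 64 := by
      have h := (χ.comp (hom rel)).ker.card_mul_index
      rw [Subgroup.index_ker, MonoidHom.range_eq_top.2 hsurj, Subgroup.card_top, card_DW,
        Nat.card_eq_fintype_card (α := ℤˣ), Fintype.card_units_int] at h
      omega
    obtain ⟨φ⟩ := pSp_equiv_omega F hF
    let QΩ : Sylow 2 (Cfsg.Omega F2 Q2) := Sylow.mapSurjective (p := 2) (f := φ.toMonoidHom) φ.surjective Q
    obtain ⟨i1⟩ := ker_isSylow χ _ hker.symm rel center_ne (m := 405)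
      (by rw [card_omega]) (by decide) hcard QΩ
    have hA : Nat.card ↥(alternatingGroup (Fin 8)) = 64 * 315 := by
      rw [Nat.card_eq_fintype_card, card_alternatingGroup, Fintype.card_fin]; rfl
    obtain ⟨i2⟩ := ker_isSylow Equiv.Perm.sign (alternatingGroup (Fin 8)) rfl relPerm center_ne_perm
      (m := 315) hA (by decide) (hcomp ▸ hcard) P
    have i3 : ↥(Q : Subgroup (Cfsg.PSp 2 F)) ≃* ↥(QΩ : Subgroup (Cfsg.Omega F2 Q2)) :=
      (Q : Subgroup (Cfsg.PSp 2 F)).equivMapOfInjective φ.toMonoidHom φ.injective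
    exact ⟨(i2.symm.trans ((MulEquiv.subgroupCongr (by rw [hcomp])).trans i1)).trans i3.symm⟩
  · obtain ⟨ψ⟩ := isometryGroup_equiv K hK a b hab
    obtain ⟨i1⟩ := range_isSylow rel center_ne (m := 405) (by rw [card_O2]) (by decide)
      (Sylow.mapSurjective (p := 2) (f := ψ.symm.toMonoidHom) ψ.symm.surjective Q')
    obtain ⟨i2⟩ := range_isSylow relPerm center_ne_perm (m := 315)
      (by rw [Nat.card_perm, Nat.card_eq_fintype_card, Fintype.card_fin]; rfl) (by decide) P'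
    exact ⟨(i2.symm.trans i1).trans
      ((Q' : Subgroup _).equivMapOfInjective ψ.symm.toMonoidHom ψ.symm.injective).symm⟩

end CfsgLib.Amalgam.SixMinus
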