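import Cfsg.Agent.Lib.PLocal.ClosedControl
import Cfsg.Agent.Lib.PLocal.StableControl
import Cfsg.Agent.Lib.PLocal.ZJClosedElem
import Cfsg.Agent.Lib.PLocal.ZJPStable

/-!
# `W(D)` controls fusion when the local subgroups are constrained and `p`-stable
-/

set_option autoImplicit false

namespace CfsgLib.Amalgam.StableClosed

open Subgroup CfsgLib.PLocal

universe u

variable {p : ℕ} [hp : Fact p.Prime]

theorem constrained_quot {G : Type u} [Group G] [Finite G] (h : Cfsg.IsPConstrained p G) :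
    Constrained p (G ⧸ Cfsg.pPrimeCore p G) :=
  (CfsgLib.Comp.isPConstrained_iff p G).1 h

/-- The step in a group which is constrained modulo its `p'`-core. -/
theorem exists_mem_normalizer {G : Type u} [Group G] [Finite G] {W : ∀ (Q : Type u) [Group Q], Subgroup Q}
    (hW : Cfsg.IsCharPFunctor.{u} p W) (P : Sylow p G) {D : Subgroup G}
    (hD : Cfsg.IsStronglyClosed D (P : Subgroup G))
    (hn : (Cfsg.inducedFunctor (G := G ⧸ Cfsg.pPrimeCore p G) W
      (D.map (QuotientGroup.mk' (Cfsg.pPrimeCore p G)))).Normal)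
    (A : Set G) (g : G) (hA : A ⊆ (P : Subgroup G)) (hAg : lconj g A ⊆ (P : Subgroup G)) :
    ∃ x ∈ normalizer (Cfsg.inducedFunctor (G := G) W D : Set G), ∀ a ∈ A, x * a * x⁻¹ = g * a * g⁻¹ := by
  set P' : Subgroup G := (P : Subgroup G) with hP'
  have hWc : Cfsg.IsConjugacyFunctor p (Cfsg.inducedFunctor (G := G) W) := induced_isConjugacyFunctor hW
  have hDp : IsPGroup p D := P.2.to_le hD.1
  set N := normalizer (Cfsg.inducedFunctor (G := G) W D : Set G) with hN
  have hPN : P' ≤ N := fun z hz =>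
    normalizer_le_normalizer_functor hWc hDp (stronglyClosed_normalized hD hz)
  set O := Cfsg.pPrimeCore p G with hOdef
  have hcop := CfsgLib.Comp.coprime_card_pPrimeCore p G
  set π := QuotientGroup.mk' O with hπ
  have hinj : Set.InjOn π (P' : Set G) := injOn_mk'_of_isPGroup hcop P.2
  have hx' : π g ∈ normalizer (Cfsg.inducedFunctor (G := G ⧸ O) W (D.map π) : Set (G ⧸ O)) := by
    rw [normalizer_eq_top_iff.2 hn]; exact mem_top _
  rw [← induced_map_of_injOn hW π hDp (hinj.mono hD.1), ← CfsgLib.Comp.map_normalizer_eq hcop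
    (P.2.to_le ((functor_le hWc hDp).trans hD.1))] at hx'
  obtain ⟨x, hx, hxg⟩ := hx'
  have hxa : ∀ a, π (x * a * x⁻¹) = π (g * a * g⁻¹) := fun a => by
    simp only [map_mul, map_inv]
    rw [hxg]
  have hxP : lconj x A ⊆ ((P' ⊔ O) ⊓ N : Subgroup G) := by
    rintro _ ⟨a, ha, rfl⟩
    refine ⟨?_, N.mul_mem (N.mul_mem hx (hPN (hA ha))) (N.inv_mem hx)⟩
    have h1 : π (x * a * x⁻¹) ∈ P'.map π := ⟨g * a * g⁻¹, hAg ⟨a, ha, rfl⟩, (hxa a).symm⟩
    rw [← mem_comap, comap_map_eq, hπ, QuotientGroup.ker_mk'] at h1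
    exact h1
  have hZp : IsPGroup p (closure (lconj x A)) :=
    (P.2.map (MulAut.conj x).toMonoidHom).to_le <| (closure_le _).2 <| by
      rintro _ ⟨a, ha, rfl⟩
      exact ⟨a, hA ha, rfl⟩
  have hsyl : SylowIn p P' ((P' ⊔ O) ⊓ N) := ⟨le_inf le_sup_left hPN, P.2, fun hd =>
    P.not_dvd_index (hd.trans (relIndex_dvd_index_of_le (le_inf le_sup_left hPN)))⟩
  obtain ⟨k, hk, hkle⟩ := hsyl.exists_conj_le hZp ((closure_le _).2 hxP)
  obtain ⟨s, hs, o, ho, rfl⟩ := mem_sup_of_normal_right.1 hk.1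
  have hoN : o ∈ N := by
    have := N.mul_mem (N.inv_mem (hPN hs)) hk.2
    simpa using this
  refine ⟨o * x, N.mul_mem hoN hx, fun a ha => hinj ?_ (hAg ⟨a, ha, rfl⟩) ?_⟩
  · have h3 : s * o * (x * a * x⁻¹) * (s * o)⁻¹ ∈ P' :=
      hkle (conj_mem_conjMap (subset_closure ⟨a, ha, rfl⟩))
    have := P'.mul_mem (P'.mul_mem (P'.inv_mem hs) h3) hs
    simpa [mul_assoc] using this
  · have ho1 : π o = 1 := (QuotientGroup.eq_one_iff o).2 ho
    simp only [map_mul, map_inv, ho1, one_mul]
    rw [hxg]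

/-- `Z(J(P))` controls. -/
theorem ctrl_zj {G : Type u} [Group G] [Finite G] (h2 : p ≠ 2) (hst : Cfsg.IsNormalizerPStable p G)
    (P : Sylow p G) (hc : ∀ U : Subgroup G, U ≤ (P : Subgroup G) → U ≠ ⊥ →
      Cfsg.IsPConstrained p ↥(normalizer (U : Set G))) :
    Cfsg.FamilyControlsStrongFusionIn p (indSet ({zjFunctor} : Set (∀ (Q : Type u) [Group Q], Subgroup Q)) G) ⊤ := by
  have h𝓦 : ∀ W ∈ ({zjFunctor} : Set (∀ (Q : Type u) [Group Q], Subgroup Q)),
      Cfsg.IsCharPFunctor.{u} p W := fun W h => by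
    rw [Set.mem_singleton_iff] at h; subst h; exact zjFunctor_isCharPFunctor
  refine familyControls_top P _ (indSet_functor h𝓦) (fullNormSet p (P : Subgroup G))
    (fun U hU => hU) (fun T hT => exists_fullNormalized P hT) fun U hU hne => familyControls_of_ctrl h𝓦 ?_
  haveI := Cfsg.pPrimeCore_normal p (normalizer (U : Set G))
  have hcop := CfsgLib.Comp.coprime_card_pPrimeCore p (normalizer (U : Set G))
  refine ctrl_of_quotient_coprime h𝓦 hcop ?_
  obtain ⟨T⟩ : Nonempty (Sylow p (↥(normalizer (U : Set G)) ⧸ Cfsg.pPrimeCore p ↥(normalizer (U : Set G)))) :=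
    inferInstance
  refine ctrl_of_normal T ?_
  rw [inducedFunctor_zj]
  exact centerThompsonAOf_normal h2 (constrained_quot (hc U hU.1 hne))
    (fun B _ hB => isPStableOn_of_isNormalizerPStable
      (isNormalizerPStable_quotient_coprime (isNormalizerPStable_subgroup hst _) hcop) B hB) T

/-- **Fusion control by `W(D)`.** -/
theorem controls {G : Type u} [Group G] [Finite G] (h2 : p ≠ 2) (hst : Cfsg.IsNormalizerPStable p G)
    (P : Sylow p G) (hc : ∀ U : Subgroup G, U ≤ (P : Subgroup G) → U ≠ ⊥ →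
      Cfsg.IsPConstrained p ↥(normalizer (U : Set G)))
    {D : Subgroup G} (hD : Cfsg.IsStronglyClosed D (P : Subgroup G))
    {W : ∀ (Q : Type u) [Group Q], Subgroup Q} (hW : Cfsg.IsCharPFunctor.{u} p W)
    (hnorm : ∀ (X : Type u) [Group X] [Finite X] (S : Sylow p X) (E : Subgroup X),
      Cfsg.IsStronglyClosed E (S : Subgroup X) →
      (∀ (B : Subgroup X) [B.Normal], IsPGroup p B → Cfsg.IsPStableOn p B) →
      centralizer (Cfsg.pCore p X : Set X) ≤ Cfsg.pCore p X →
      (Cfsg.inducedFunctor (G := X) W E).Normal) :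
    ∀ A : Set G, A ⊆ (P : Subgroup G) → Cfsg.ControlsStrongFusionOf
      (normalizer (Cfsg.inducedFunctor (G := G) W D : Set G)) (P : Subgroup G) A := by
  intro A hA
  refine ⟨hA, fun g hg => ?_⟩
  by_cases hP1 : (P : Subgroup G) = ⊥
  · refine ⟨1, one_mem _, fun a ha => ?_⟩
    have := hA ha
    rw [SetLike.mem_coe, hP1, mem_bot] at this
    subst this; simp
  set X := Cfsg.centerThompsonAOf (P : Subgroup G) with hX
  have h1 := familyControls_at (indSet_functor (fun W' h => by
    rw [Set.mem_singleton_iff] at h; subst h; exact zjFunctor_isCharPFunctor)) (ctrl_zj h2 hst P hc)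
    (sylowIn_top P) A g (mem_top g) hA hg
  have h2' := h1.map_mono (Q := fun x => x ∈ normalizer (X : Set G)) (by
    rintro x ⟨_, ⟨W', rfl, rfl⟩, hx⟩
    show x ∈ normalizer (Cfsg.centerThompsonAOf (P : Subgroup G) : Set G)
    rw [← inducedFunctor_zj]
    exact hx.2)
  obtain ⟨m, hm, hma⟩ := h2'.exists_single
  set M := normalizer (X : Set G)
  have hPM : (P : Subgroup G) ≤ M :=
    le_normalizer.trans (CfsgLib.PLocal.normalizer_le_normalizer_centerThompsonAOf (P : Subgroup G))
  have hXne : X ≠ ⊥ := by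
    have := functor_ne_bot (induced_isConjugacyFunctor (G := G) (zjFunctor_isCharPFunctor (p := p))) P.2 hP1
    rwa [inducedFunctor_zj] at this
  have hXle : X ≤ (P : Subgroup G) := by
    have := functor_le (induced_isConjugacyFunctor (G := G) (zjFunctor_isCharPFunctor (p := p))) P.2
    rwa [inducedFunctor_zj] at this
  have hMc : Cfsg.IsPConstrained p M := hc X hXle hXne
  obtain ⟨T, hT⟩ := CfsgLib.Fusion.exists_sylow_of P.2 hPM fun hd =>
    P.not_dvd_index (hd.trans (relIndex_dvd_index_of_le hPM))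
  have hDM : D ≤ M := hD.1.trans hPM
  have hDp : IsPGroup p D := P.2.to_le hD.1
  have hDT : Cfsg.IsStronglyClosed (D.subgroupOf M) (T : Subgroup M) := by
    rw [hT]
    exact ⟨comap_mono hD.1, fun y hy k hk => hD.2 _ hy (k : G) hk⟩
  haveI := Cfsg.pPrimeCore_normal p M
  have hcop := CfsgLib.Comp.coprime_card_pPrimeCore p M
  have hstM : Cfsg.IsNormalizerPStable p (↥M ⧸ Cfsg.pPrimeCore p ↥M) :=
    isNormalizerPStable_quotient_coprime (isNormalizerPStable_subgroup hst _) hcop
  have hn : (Cfsg.inducedFunctor (G := ↥M ⧸ Cfsg.pPrimeCore p ↥M) W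
      ((D.subgroupOf M).map (QuotientGroup.mk' (Cfsg.pPrimeCore p ↥M)))).Normal :=
    hnorm _ (T.mapSurjective (QuotientGroup.mk'_surjective _)) _
      (by rw [Sylow.coe_mapSurjective]; exact stronglyClosed_map_coprime T hDT)
      (fun B _ hB => isPStableOn_of_isNormalizerPStable hstM B hB) (constrained_quot hMc)
  obtain ⟨x, hx, hxa⟩ := exists_mem_normalizer hW T hDT hn (M.subtype ⁻¹' A) ⟨m, hm⟩
    (fun a ha => by rw [hT]; exact hA ha)
    (by
      rintro _ ⟨a, ha, rfl⟩
      rw [hT]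
      show m * (a : G) * m⁻¹ ∈ (P : Subgroup G)
      rw [hma a ha]
      exact hg ⟨a, ha, rfl⟩)
  refine ⟨x, ?_, fun a ha => ((congrArg Subtype.val (hxa ⟨a, hPM (hA ha)⟩ ha)).trans (hma a ha)).symm⟩
  have h3 := induced_map_of_injOn hW M.subtype (P := D.subgroupOf M) hDp.comap_subtype
    M.subtype_injective.injOn
  rw [map_subgroupOf_eq_of_le hDM] at h3
  rw [← h3]
  exact le_normalizer_map _ ⟨x, hx, rfl⟩

theorem inducedFunctor_omega {G : Type u} [Group G] [Finite G] (D : Subgroup G) :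
    Cfsg.inducedFunctor (G := G) (fun (Q : Type u) [Group Q] => Cfsg.omegaCenterThompson p Q) D =
      Cfsg.omegaOne p (Cfsg.centerThompsonOf p D) :=
  omegaCenterThompson_map_subtype D

end CfsgLib.Amalgam.StableClosed
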