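import Cfsg.Agent.Lib.Amalgam.StrongAlperinEss

/-!
Strong form of the fusion theorem: the decomposition of a fusing element.
-/

set_option autoImplicit false
set_option linter.unusedSectionVars false

namespace CfsgLib.Amalgam

open Cfsg Subgroup CfsgLib.Transfer

variable {G : Type*} [Group G] [Finite G] {p : ℕ} [Fact p.Prime]

/-- `D` is carried by `w` along essential steps. -/
inductive AGChain (P : Sylow p G) : Subgroup G → G → Prop
  | one (D : Subgroup G) : AGChain P D 1
  | cons (D H L X : Subgroup G) (x g : G) (hE : AGEss P H L) (hX : AGMin p H X)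
      (hx : x ∈ (Cfsg.pResidual p ↥X).map X.subtype) (hD : D ≤ H)
      (h : AGChain P (rconj x D) g) : AGChain P D (x * g)

/-- `g = c w y` with `c` centralizing `D`, `w` a chain from `D` and `y` normalizing `P`. -/
def AGGood (P : Sylow p G) (D : Subgroup G) (g : G) : Prop :=
  ∃ c ∈ centralizer (D : Set G), ∃ w : G, ∃ y ∈ normalizer ((P : Subgroup G) : Set G),
    g = c * w * y ∧ AGChain P D w

variable {P : Sylow p G}

theorem rconj_inj {y : G} {A B : Subgroup G} (h : rconj y A = rconj y B) : A = B := by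
  have := congrArg (rconj y⁻¹) h
  rwa [rconj_rconj, rconj_rconj, mul_inv_cancel, rconj_one, rconj_one] at this

theorem rconj_inf (y : G) (A B : Subgroup G) : rconj y (A ⊓ B) = rconj y A ⊓ rconj y B :=
  Subgroup.map_inf _ _ _ (MulEquiv.injective _)

theorem relIndex_rconj (y : G) (A B : Subgroup G) :
    (rconj y A).relIndex (rconj y B) = A.relIndex B :=
  relIndex_map_map_of_injective _ _ (MulEquiv.injective _)

theorem AGEss.rconj {H L : Subgroup G} (h : AGEss P H L) {y : G}
    (hy : y ∈ normalizer ((P : Subgroup G) : Set G)) :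
    AGEss P (rconj y H) (Transfer.rconj y L) := by
  have hP := rconj_eq_of_mem_normalizer hy
  refine ⟨(rconj_mono h.le).trans hP.le, fun he => h.ne (rconj_inj (he.trans hP.symm)), ?_, ?_, ?_, ?_⟩
  · rw [← rconj_normalizer]
    have := h.full
    rwa [← relIndex_rconj y, rconj_inf, hP] at this
  · intro c hc
    rw [mem_rconj]
    refine h.cen ?_
    rw [mem_centralizer_iff]
    intro u hu
    have := mem_centralizer_iff.1 hc (y⁻¹ * u * y) (mem_rconj.2 (by simpa [mul_assoc] using hu))
    calc u * (y * c * y⁻¹) = y * ((y⁻¹ * u * y) * c) * y⁻¹ := by group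
      _ = y * (c * (y⁻¹ * u * y)) * y⁻¹ := by rw [this]
      _ = y * c * y⁻¹ * u := by group
  · intro hle
    refine h.not_le fun x hx => ?_
    rw [← rconj_normalizer] at hle
    have := hle (mem_rconj.2 (show y * (y⁻¹ * x * y) * y⁻¹ ∈ normalizer (H : Set G) by
      simpa [mul_assoc] using hx))
    simpa [mem_rconj, mul_assoc] using this
  · intro E hHE hEP hEN x hx hxE
    rw [mem_rconj]
    rw [← rconj_normalizer] at hEN hx
    have hback : ∀ A : Subgroup G, Transfer.rconj y⁻¹ (Transfer.rconj y A) = A := fun A => by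
      rw [rconj_rconj, mul_inv_cancel, rconj_one]
    have hP' := rconj_eq_of_mem_normalizer ((normalizer ((P : Subgroup G) : Set G)).inv_mem hy)
    refine h.fus (Transfer.rconj y⁻¹ E) ?_ ((rconj_mono hEP).trans hP'.le)
      ((rconj_mono hEN).trans (hback _).le) _ (mem_rconj.1 hx) ?_
    · refine lt_of_le_not_ge ((hback H).symm.le.trans (rconj_mono hHE.le)) fun hle => hHE.not_ge ?_
      have := rconj_mono (g := y) hle
      rwa [rconj_rconj, inv_mul_cancel, rconj_one] at this
    · rw [rconj_rconj, show y⁻¹ * (y * x * y⁻¹) = x * y⁻¹ by group, ← rconj_rconj]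
      exact (rconj_mono hxE).trans hP'.le

theorem AGMin.rconj {H X : Subgroup G} (h : AGMin p H X) (y : G) :
    AGMin p (rconj y H) (Transfer.rconj y X) := by
  obtain ⟨h1, h2, h3, h4, h5⟩ := h
  have hN := (rconj_normalizer y H).symm
  refine ⟨rconj_mono h1, (rconj_mono h2).trans hN.ge, ?_, by rwa [relIndex_rconj], ?_⟩
  · rw [normal_subgroupOf_iff_le_normalizer (by rw [hN]; exact rconj_mono h2), hN,
      ← rconj_normalizer]
    exact rconj_mono ((normal_subgroupOf_iff_le_normalizer h2).1 h3)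
  · intro Y hY1 hY2 hY3 hY4
    have hback : ∀ A : Subgroup G, Transfer.rconj y⁻¹ (Transfer.rconj y A) = A := fun A => by
      rw [rconj_rconj, mul_inv_cancel, rconj_one]
    have hY2' : Transfer.rconj y⁻¹ Y ≤ normalizer (H : Set G) :=
      (rconj_mono (hY2.trans hN.le)).trans (hback _).le
    have hle := h5 (Transfer.rconj y⁻¹ Y) ((hback H).symm.le.trans (rconj_mono hY1)) hY2' (by
      rw [normal_subgroupOf_iff_le_normalizer hY2', ← rconj_normalizer, ← hback (normalizer (H : Set G))]
      refine rconj_mono ?_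
      rw [← hN]
      exact (normal_subgroupOf_iff_le_normalizer hY2).1 hY3)
      (by
        rw [← hback H, relIndex_rconj]
        exact hY4)
    have := rconj_mono (g := y) hle
    rwa [rconj_rconj, inv_mul_cancel, rconj_one] at this

theorem mem_pResidual_rconj {X : Subgroup G} {z : G} (hz : z ∈ (Cfsg.pResidual p ↥X).map X.subtype)
    (y : G) :
    y⁻¹ * z * y ∈ (Cfsg.pResidual p ↥(rconj y X)).map (rconj y X).subtype := by
  have hle : (Cfsg.pResidual p ↥X).map X.subtype ≤
      rconj y⁻¹ ((Cfsg.pResidual p ↥(rconj y X)).map (rconj y X).subtype) := by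
    rw [Cfsg.pResidual, MonoidHom.map_closure, Subgroup.closure_le]
    rintro _ ⟨u, hu, rfl⟩
    refine mem_rconj.2 ⟨⟨y⁻¹ * u * y, mem_rconj.2 (by simp [mul_assoc])⟩, ?_, by simp⟩
    refine subset_closure ?_
    show Nat.Coprime (orderOf (⟨y⁻¹ * u * y, _⟩ : ↥(rconj y X))) p
    rw [orderOf_mk, show y⁻¹ * (u : G) * y = MulAut.conj y⁻¹ (u : G) by simp, MulEquiv.orderOf_eq,
      Subgroup.orderOf_coe]
    exact hu
  simpa [mem_rconj] using hle hz

theorem AGChain.rconj {D : Subgroup G} {w : G} (h : AGChain P D w) {y : G}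
    (hy : y ∈ normalizer ((P : Subgroup G) : Set G)) :
    AGChain P (rconj y D) (y⁻¹ * w * y) := by
  induction h with
  | one D => simpa using AGChain.one (P := P) _
  | cons D H L X x g hE hX hx hD _ ih =>
    rw [show y⁻¹ * (x * g) * y = (y⁻¹ * x * y) * (y⁻¹ * g * y) by group]
    refine .cons _ _ _ _ _ _ (hE.rconj hy) (hX.rconj y) (mem_pResidual_rconj hx y) (rconj_mono hD) ?_
    rw [rconj_rconj, show y * (y⁻¹ * x * y) = x * y by group, ← rconj_rconj]
    exact ih

theorem AGChain.mono {D : Subgroup G} {w : G} (h : AGChain P D w) :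
    ∀ {E : Subgroup G}, E ≤ D → AGChain P E w := by
  induction h with
  | one D => exact fun _ => .one _
  | cons D H L X x g hE hX hx hD _ ih =>
    exact fun hle => .cons _ H L X x g hE hX hx (hle.trans hD) (ih (rconj_mono hle))

theorem AGChain.trans {D : Subgroup G} {w : G} (h : AGChain P D w) :
    ∀ {v : G}, AGChain P (Transfer.rconj w D) v → AGChain P D (w * v) := by
  induction h with
  | one D =>
    intro v hv
    rw [rconj_one] at hv
    rwa [one_mul]
  | cons D H L X x g hE hX hx hD _ ih =>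
    intro v hv
    rw [mul_assoc]
    exact .cons _ H L X x _ hE hX hx hD (ih (by rwa [rconj_rconj]))

theorem AGGood.of_centralizer {D : Subgroup G} {c : G} (hc : c ∈ centralizer (D : Set G)) :
    AGGood P D c :=
  ⟨c, hc, 1, 1, one_mem _, by simp, .one D⟩

theorem AGGood.of_normalizer {D : Subgroup G} {y : G}
    (hy : y ∈ normalizer ((P : Subgroup G) : Set G)) : AGGood P D y :=
  ⟨1, one_mem _, 1, y, hy, by simp, .one D⟩

theorem AGGood.mono {D E : Subgroup G} {g : G} (h : AGGood P D g) (hle : E ≤ D) : AGGood P E g := by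
  obtain ⟨c, hc, w, y, hy, he, hw⟩ := h
  exact ⟨c, centralizer_le hle hc, w, y, hy, he, hw.mono hle⟩

theorem rconj_eq_of_mem_centralizer {D : Subgroup G} {c : G} (hc : c ∈ centralizer (D : Set G)) :
    rconj c D = D := by
  refine rconj_eq_of_mem_normalizer (mem_normalizer_fintype fun u hu => ?_)
  show c * u * c⁻¹ ∈ D
  rw [← mem_centralizer_iff.1 hc u hu, mul_inv_cancel_right]
  exact hu

theorem AGGood.trans {D : Subgroup G} {g k : G} (h : AGGood P D g)
    (h' : AGGood P (Transfer.rconj g D) k) : AGGood P D (g * k) := by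
  obtain ⟨c, hc, w, y, hy, rfl, hw⟩ := h
  obtain ⟨c', hc', w', y', hy', rfl, hw'⟩ := h'
  have hD : Transfer.rconj (c * w * y) D = Transfer.rconj y (Transfer.rconj w D) := by
    rw [rconj_rconj, mul_assoc, ← rconj_rconj c, rconj_eq_of_mem_centralizer hc]
  rw [hD] at hc' hw'
  have hw'' := hw'.rconj ((normalizer ((P : Subgroup G) : Set G)).inv_mem hy)
  rw [rconj_rconj, mul_inv_cancel, rconj_one, inv_inv] at hw''
  refine ⟨c * (w * (y * c' * y⁻¹) * w⁻¹), mul_mem hc ?_, w * (y * w' * y⁻¹), y * y', mul_mem hy hy',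
    by group, hw.trans hw''⟩
  rw [mem_centralizer_iff]
  intro u hu
  have := mem_centralizer_iff.1 hc' (y⁻¹ * (w⁻¹ * u * w) * y)
    (mem_rconj.2 (mem_rconj.2 (by simpa [mul_assoc] using hu)))
  calc u * (w * (y * c' * y⁻¹) * w⁻¹) = w * y * ((y⁻¹ * (w⁻¹ * u * w) * y) * c') * y⁻¹ * w⁻¹ := by group
    _ = w * y * (c' * (y⁻¹ * (w⁻¹ * u * w) * y)) * y⁻¹ * w⁻¹ := by rw [this]
    _ = w * (y * c' * y⁻¹) * w⁻¹ * u := by group

theorem agGood_local {K : Subgroup G} (hKP : K ≤ (P : Subgroup G))
    (hfull : ¬ p ∣ ((P : Subgroup G) ⊓ normalizer (K : Set G)).relIndex (normalizer (K : Set G)))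
    (hbig : ∀ E : Subgroup G, K < E → E ≤ (P : Subgroup G) →
      ∀ x : G, rconj x E ≤ (P : Subgroup G) → AGGood P E x)
    {x : G} (hx : x ∈ normalizer (K : Set G)) : AGGood P K x := by
  by_cases hKeq : K = (P : Subgroup G)
  · subst hKeq; exact .of_normalizer hx
  set N := normalizer (K : Set G)
  let L : Subgroup G :=
    { carrier := {u | u ∈ N ∧ AGGood P K u}
      one_mem' := ⟨one_mem _, .of_normalizer (one_mem _)⟩
      mul_mem' := fun {a b} ha hb => ⟨mul_mem ha.1 hb.1, ha.2.trans (by
        rw [rconj_eq_of_mem_normalizer ha.1]; exact hb.2)⟩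
      inv_mem' := fun {a} ha => ⟨inv_mem ha.1, by
        have hpow : ∀ n : ℕ, a ^ n ∈ N ∧ AGGood P K (a ^ n) := by
          intro n
          induction n with
          | zero => exact ⟨by simp, by simpa using AGGood.of_normalizer (one_mem _)⟩
          | succ n ih =>
            rw [pow_succ]
            exact ⟨mul_mem ih.1 ha.1, ih.2.trans (by
              rw [rconj_eq_of_mem_normalizer ih.1]; exact ha.2)⟩
        rw [inv_eq_of_mul_eq_one_right (show a * a ^ (orderOf a - 1) = 1 by
          rw [← pow_succ', Nat.sub_add_cancel (orderOf_pos a), pow_orderOf_eq_one])]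
        exact (hpow _).2⟩ }
  suffices hNL : N ≤ L from (hNL hx).2
  by_contra hne
  have hCN : centralizer (K : Set G) ≤ N := by
    intro c hc
    refine mem_normalizer_fintype fun u hu => ?_
    show c * u * c⁻¹ ∈ K
    rw [← mem_centralizer_iff.1 hc u hu, mul_inv_cancel_right]
    exact hu
  have hE : AGEss P K L := ⟨hKP, hKeq, hfull, fun c hc => ⟨hCN hc, .of_centralizer hc⟩, hne,
    fun E h1 h2 _ u hu hv => ⟨hu, (hbig E h1 h2 u hv).mono h1.le⟩⟩
  obtain ⟨X, hX⟩ := hE.exists_min
  obtain ⟨hX1, hX2, hX3, hX4, hX5⟩ := id hX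
  have hres : (Cfsg.pResidual p ↥X).map X.subtype ≤ L := by
    intro z hz
    have hzN : z ∈ N := hX2 (map_subtype_le _ hz)
    refine ⟨hzN, 1, one_mem _, z, 1, one_mem _, by simp, ?_⟩
    have := AGChain.cons (P := P) K K L X z 1 hE hX hz le_rfl (.one _)
    rwa [mul_one] at this
  obtain ⟨S, hS⟩ := hE.exists_sylow
  obtain ⟨SX, hSX⟩ := Transfer.exists_sylow_eq_subgroupOf S (X.subgroupOf N)
  have hXL : X ≤ L := by
    intro u hu
    set e := subgroupOfEquivOfLe hX2
    have hsup : Cfsg.pResidual p ↥X ⊔ (SX.mapSurjective (f := e.toMonoidHom) (show Function.Surjective e.toMonoidHom from e.surjective) : Subgroup ↥X) = ⊤ :=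
      pResidual_sup_sylow _
    have hle : Cfsg.pResidual p ↥X ⊔ (SX.mapSurjective (f := e.toMonoidHom) (show Function.Surjective e.toMonoidHom from e.surjective) : Subgroup ↥X)
        ≤ L.subgroupOf X := by
      refine sup_le (fun q hq => hres ⟨q, hq, rfl⟩) ?_
      show (SX : Subgroup ↥(X.subgroupOf N)).map e.toMonoidHom ≤ _
      rintro _ ⟨s, hs, rfl⟩
      rw [hSX, SetLike.mem_coe, mem_subgroupOf, hS] at hs
      exact hE.inf_le ⟨hs, (s : N).2⟩
    exact hle (hsup ▸ mem_top (⟨u, hu⟩ : X))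
  haveI := hX3
  refine hne fun n hn => ?_
  obtain ⟨c, hc, m, hm, e⟩ := PLocal.frattini_mul S (X.subgroupOf N) ⟨n, hn⟩
  have hnm : n = (c : G) * m := congrArg Subtype.val e
  rw [hnm]
  refine mul_mem (hXL hc) (hE.fus ((P : Subgroup G) ⊓ X) (lt_of_le_not_ge (le_inf hKP hX1) ?_)
    inf_le_left (inf_le_right.trans hX2) m m.2 fun u hu => ?_)
  · intro hle
    have h1 : ¬ p ∣ ((P : Subgroup G) ⊓ X).relIndex X := by
      have h2 := SX.not_dvd_index
      rw [hSX, hS, ← relIndex, relIndex_subgroupOf hX2] at h2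
      rwa [inf_relIndex_right]
    exact h1 (hX4.trans (relIndex_dvd_of_le_left X hle))
  · rw [mem_rconj] at hu
    obtain ⟨huP, huX⟩ := mem_inf.1 hu
    have hmem : (⟨_, hX2 huX⟩ : N) ∈ (S : Subgroup N) ⊓ X.subgroupOf N :=
      ⟨by rw [hS]; exact huP, huX⟩
    have := (mem_normalizer_iff.1 (inv_mem hm) _).1 hmem
    rw [inv_inv] at this
    have h2 := this.1
    rw [hS] at h2
    simpa [mem_subgroupOf, mul_assoc] using h2

theorem agGood_of_le (P : Sylow p G) : ∀ (D : Subgroup G) (g : G), D ≤ (P : Subgroup G) →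
    rconj g D ≤ (P : Subgroup G) → AGGood P D g := by
  suffices key : ∀ n : ℕ, ∀ (D : Subgroup G) (g : G), Reach P D g →
      Nat.card (P : Subgroup G) - Nat.card D = n → AGGood P D g from
    fun D g h1 h2 => key _ D g (reach_of_le P D g h1 h2) rfl
  intro n
  induction n using Nat.strong_induction_on with
  | _ n ih =>
    intro D g h hn
    induction h with
    | one D => exact .of_normalizer (one_mem _)
    | cons D Q x g hT hx hD _ ih2 =>
      refine AGGood.trans ((agGood_local inf_le_left hT.1 ?_ hx).mono hD) (ih2 ?_)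
      · intro E hlt hEP u hu
        refine ih _ ?_ E u (reach_of_le P E u hEP hu) rfl
        have h1 := card_le_of_le hEP
        have h2 := card_le_of_le hD
        have h3 : Nat.card ((P : Subgroup G) ⊓ (Q : Subgroup G) : Subgroup G) < Nat.card E :=
          lt_of_le_of_ne (card_le_of_le hlt.le) fun e =>
            hlt.ne (eq_of_le_of_card_ge hlt.le e.ge)
        omega
      · rw [← hn]
        congr 1
        exact card_map_of_injective (MulEquiv.injective _)

theorem AGChain.exists_seq {D : Subgroup G} {w : G} (h : AGChain P D w) :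
    ∀ A : Set G, A ⊆ (D : Set G) → ∃ (n : ℕ) (H L X : Fin n → Subgroup G) (x : Fin n → G),
      (List.ofFn x).prod = w ∧ ∀ i : Fin n, AGEss P (H i) (L i) ∧ AGMin p (H i) (X i) ∧
        x i ∈ (Cfsg.pResidual p ↥(X i)).map (X i).subtype ∧
        (fun a => (((List.ofFn x).take i.val).prod)⁻¹ * a * ((List.ofFn x).take i.val).prod) '' A ⊆
          (H i : Set G) := by
  induction h with
  | one D =>
    exact fun A _ => ⟨0, Fin.elim0, Fin.elim0, Fin.elim0, Fin.elim0, by simp, fun i => i.elim0⟩
  | cons D H L X x g hE hX hx hD _ ih =>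
    intro A hA
    obtain ⟨n, Hs, Ls, Xs, xs, hprod, hall⟩ := ih ((fun a => x⁻¹ * a * x) '' A) (by
      rintro _ ⟨a, ha, rfl⟩
      refine mem_rconj.2 ?_
      simpa [mul_assoc] using hA ha)
    refine ⟨n + 1, Fin.cons H Hs, Fin.cons L Ls, Fin.cons X Xs, Fin.cons x xs, by simp [List.ofFn_succ, hprod], ?_⟩
    intro i
    cases i using Fin.cases with
    | zero =>
      refine ⟨hE, hX, hx, ?_⟩
      rintro _ ⟨a, ha, rfl⟩
      simpa using hD (hA ha)
    | succ j =>
      obtain ⟨h1, h2, h3, h4⟩ := hall j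
      refine ⟨h1, h2, h3, ?_⟩
      rintro _ ⟨a, ha, rfl⟩
      have := h4 ⟨x⁻¹ * a * x, ⟨a, ha, rfl⟩, rfl⟩
      simpa [List.ofFn_succ, mul_assoc] using this

end CfsgLib.Amalgam
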