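import Cfsg.Agent.Lib.Transfer.AlperinTame
import Cfsg.Agent.Lib.Transfer.HallComplement
import Cfsg.Agent.Lib.Amalgam.PEmbed
import Cfsg.Agent.Lib.Coprime.Generation
import Cfsg.Agent.Lib.PLocal.Sylow
import Cfsg.Agent.Lib.Comp.ExtLayer

/-!
Strong form of the fusion theorem: properties of essential subgroups of a Sylow subgroup.
-/

set_option autoImplicit false
set_option linter.unusedSectionVars false

namespace CfsgLib.Amalgam

open Cfsg Subgroup CfsgLib.Transfer
open scoped Pointwise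

variable {G : Type*} [Group G] [Finite G] {p : ℕ} [Fact p.Prime]

/-- In a group with a subgroup meeting its other conjugates in `p'`-groups, two normal subgroups of
order divisible by `p` meet in a subgroup of order divisible by `p`. -/
theorem dvd_card_inf_of_trivialMeet {M : Subgroup G} (hM : M ≠ ⊤) (hpM : p ∣ Nat.card M)
    (hT : PTrivialMeet p M) (N₁ N₂ : Subgroup G) [N₁.Normal] [N₂.Normal]
    (h₁ : p ∣ Nat.card N₁) (h₂ : p ∣ Nat.card N₂) : p ∣ Nat.card (N₁ ⊓ N₂ : Subgroup G) := by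
  by_contra hK
  have hL := pLocalsLe_iff_trivialMeet.2 hT
  obtain ⟨R, hR⟩ := exists_sylow_le hL hpM
  have hord : ∀ N : Subgroup G, N.Normal → p ∣ Nat.card N →
      ∃ x, x ∈ (R : Subgroup G) ∧ x ∈ N ∧ orderOf x = p := by
    intro N hN hd
    have hd' : p ∣ Nat.card ((R : Subgroup G) ⊓ N : Subgroup G) := by
      haveI := hN
      have hne := sylow_inf_normal_ne_bot R N hd
      haveI : Nontrivial ((R : Subgroup G) ⊓ N : Subgroup G) := (nontrivial_iff_ne_bot _).2 hne
      obtain ⟨k, hk, hc⟩ :=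
        (R.isPGroup'.to_le (inf_le_left : (R : Subgroup G) ⊓ N ≤ _)).nontrivial_iff_card.1 inferInstance
      exact hc ▸ dvd_pow_self p hk.ne'
    obtain ⟨x, ⟨hx, hx'⟩, ho⟩ := exists_mem_prime_order hd'
    exact ⟨x, hx, hx', ho⟩
  obtain ⟨x₁, hx₁R, hx₁N, ho₁⟩ := hord N₁ inferInstance h₁
  obtain ⟨x₂, hx₂R, hx₂N, ho₂⟩ := hord N₂ inferInstance h₂
  have hbot : ∀ u ∈ (R : Subgroup G), u ∈ N₁ ⊓ N₂ → u = 1 := by
    intro u hu hu'
    by_contra hne
    obtain ⟨k, hk⟩ := IsPGroup.iff_orderOf.1 R.isPGroup' ⟨u, hu⟩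
    rw [orderOf_mk] at hk
    rcases k with _ | k
    · exact hne (orderOf_eq_one_iff.1 (by simpa using hk))
    · exact hK ((dvd_pow_self p k.succ_ne_zero).trans
        (hk ▸ Subgroup.orderOf_dvd_natCard (N₁ ⊓ N₂) hu'))
  have hcomm : Commute x₁ x₂ := by
    have h : x₁ * x₂ * x₁⁻¹ * x₂⁻¹ = 1 := by
      refine hbot _ (mul_mem (mul_mem (mul_mem hx₁R hx₂R) (inv_mem hx₁R)) (inv_mem hx₂R)) ⟨?_, ?_⟩
      · rw [mul_assoc x₁ x₂, mul_assoc x₁]
        exact N₁.mul_mem hx₁N (‹N₁.Normal›.conj_mem _ (N₁.inv_mem hx₁N) x₂)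
      · exact N₂.mul_mem (‹N₂.Normal›.conj_mem _ hx₂N x₁) (N₂.inv_mem hx₂N)
    exact mul_inv_eq_iff_eq_mul.1 (mul_inv_eq_one.1 h)
  set A := zpowers x₁ ⊔ zpowers x₂ with hA
  have hAR : A ≤ (R : Subgroup G) := sup_le (zpowers_le.2 hx₁R) (zpowers_le.2 hx₂R)
  have hAab : IsMulCommutative A := by
    rw [hA, zpowers_eq_closure, zpowers_eq_closure, ← Subgroup.closure_union]
    refine isMulCommutative_closure ?_
    rintro a (rfl | rfl) b (rfl | rfl)
    · rfl
    · exact hcomm.eq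
    · exact hcomm.symm.eq
    · rfl
  have hnc : ¬ IsCyclic A := by
    intro hc
    have he := zpowers_eq_of_isCyclic hc (mem_sup_left (mem_zpowers x₁))
      (mem_sup_right (mem_zpowers x₂)) ho₁ ho₂
    have hx₁' : x₁ ∈ N₁ ⊓ N₂ := ⟨hx₁N, zpowers_le.2 hx₂N (he ▸ mem_zpowers x₁)⟩
    have := hbot x₁ hx₁R hx₁'
    rw [this, orderOf_one] at ho₁
    exact (Fact.out : p.Prime).one_lt.ne ho₁
  have hAN : A ≤ normalizer ((N₁ ⊓ N₂ : Subgroup G) : Set G) := by
    rw [normalizer_eq_top]; exact le_top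
  have hcop : (Nat.card A).Coprime (Nat.card (N₁ ⊓ N₂ : Subgroup G)) := by
    obtain ⟨k, hk⟩ := IsPGroup.iff_card.1 (R.isPGroup'.to_le hAR)
    rw [hk]
    exact ((Fact.out : p.Prime).coprime_iff_not_dvd.2 hK).pow_left k
  have hKM : N₁ ⊓ N₂ ≤ M := by
    rw [← CfsgLib.Coprime.iSup_centralizer_eq hAab hnc hAN hcop]
    refine iSup_le fun a => inf_le_right.trans ?_
    refine le_trans ?_ (hL (zpowers (a : G)) (zpowers_le.2 (hR (hAR a.2.1)))
      (R.isPGroup'.to_le (zpowers_le.2 (hAR a.2.1))) (by simpa [zpowers_eq_bot] using a.2.2))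
    intro c hc
    rw [mem_centralizer_singleton_iff] at hc
    refine mem_normalizer_fintype fun u hu => ?_
    obtain ⟨i, rfl⟩ := hu
    show c * (a : G) ^ i * c⁻¹ ∈ zpowers (a : G)
    rw [(Commute.zpow_right (show Commute c (a : G) from hc) i).eq, mul_inv_cancel_right]
    exact zpow_mem (mem_zpowers _) i
  refine not_normal_le hT hM h₁ fun n hn => mem_of_conj_mem hL ho₂ (hR hx₂R) ?_
  have h : x₂⁻¹ * (n⁻¹ * x₂ * n) ∈ N₁ ⊓ N₂ := by
    constructor
    · rw [show x₂⁻¹ * (n⁻¹ * x₂ * n) = (x₂⁻¹ * n⁻¹ * x₂⁻¹⁻¹) * n by group]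
      exact N₁.mul_mem (‹N₁.Normal›.conj_mem _ (N₁.inv_mem hn) _) hn
    · exact N₂.mul_mem (N₂.inv_mem hx₂N) (by simpa using ‹N₂.Normal›.conj_mem _ hx₂N n⁻¹)
  have := M.mul_mem (hR hx₂R) (hKM h)
  rwa [mul_inv_cancel_left] at this

/-- `H` is essential in `P`, with witness `L`: `L` contains every element of `N(H)` fusing a larger
subgroup of `P` into `P`. -/
structure AGEss (P : Sylow p G) (H L : Subgroup G) : Prop where
  le : H ≤ (P : Subgroup G)
  ne : H ≠ (P : Subgroup G)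
  full : ¬ p ∣ ((P : Subgroup G) ⊓ normalizer (H : Set G)).relIndex (normalizer (H : Set G))
  cen : centralizer (H : Set G) ≤ L
  not_le : ¬ normalizer (H : Set G) ≤ L
  fus : ∀ E : Subgroup G, H < E → E ≤ (P : Subgroup G) → E ≤ normalizer (H : Set G) →
    ∀ x ∈ normalizer (H : Set G), rconj x E ≤ (P : Subgroup G) → x ∈ L

/-- The smallest normal subgroup of `N(H) / H` of order divisible by `p`. -/
def AGMin (p : ℕ) (H X : Subgroup G) : Prop :=
  H ≤ X ∧ X ≤ normalizer (H : Set G) ∧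
    (X.subgroupOf (normalizer (H : Set G))).Normal ∧ p ∣ H.relIndex X ∧
    ∀ Y : Subgroup G, H ≤ Y → Y ≤ normalizer (H : Set G) →
      (Y.subgroupOf (normalizer (H : Set G))).Normal → p ∣ H.relIndex Y → X ≤ Y

variable {P : Sylow p G} {H L : Subgroup G}

theorem AGEss.lt_inf (h : AGEss P H L) :
    H < (P : Subgroup G) ⊓ normalizer (H : Set G) := by
  obtain ⟨y, hyP, hyN, hy⟩ := exists_mem_normalizer_not_mem P.2 (lt_of_le_of_ne h.le h.ne)
  exact lt_of_le_not_ge (le_inf h.le le_normalizer) fun hle => hy (hle (mem_inf.2 ⟨hyP, hyN⟩))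

theorem AGEss.inf_le (h : AGEss P H L) : (P : Subgroup G) ⊓ normalizer (H : Set G) ≤ L := by
  intro x hx
  refine h.fus _ h.lt_inf inf_le_left inf_le_right x hx.2 fun u hu => ?_
  rw [mem_rconj] at hu
  have hxP := (mem_inf.1 hx).1
  have := (P : Subgroup G).mul_mem ((P : Subgroup G).mul_mem ((P : Subgroup G).inv_mem hxP) (mem_inf.1 hu).1) hxP
  simpa [mul_assoc] using this

/-- The Sylow subgroup `N_P(H)` of `N(H)`. -/
theorem AGEss.exists_sylow (h : AGEss P H L) :
    ∃ S : Sylow p ↥(normalizer (H : Set G)),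
      (S : Subgroup ↥(normalizer (H : Set G))) = (P : Subgroup G).subgroupOf (normalizer (H : Set G)) := by
  have hp : IsPGroup p ↥((P : Subgroup G).subgroupOf (normalizer (H : Set G))) :=
    P.isPGroup'.comap_of_injective _ (normalizer (H : Set G)).subtype_injective
  exact ⟨hp.toSylow (by rw [← relIndex, ← inf_relIndex_right]; exact h.full), rfl⟩

theorem AGEss.centric (h : AGEss P H L) :
    (P : Subgroup G) ⊓ centralizer (H : Set G) ≤ H := by
  by_contra hne
  set N := normalizer (H : Set G)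
  have hCN : centralizer (H : Set G) ≤ N := by
    intro c hc
    refine mem_normalizer_fintype fun u hu => ?_
    show c * u * c⁻¹ ∈ H
    rw [← mem_centralizer_iff.1 hc u hu, mul_inv_cancel_right]
    exact hu
  set E := H ⊔ (P : Subgroup G) ⊓ centralizer (H : Set G) with hE
  have hHE : H < E := lt_of_le_not_ge le_sup_left fun hle => hne (le_sup_right.trans hle)
  have hEP : E ≤ (P : Subgroup G) := sup_le h.le inf_le_left
  have hEN : E ≤ N := sup_le le_normalizer (inf_le_right.trans hCN)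
  haveI : ((centralizer (H : Set G)).subgroupOf N).Normal := by
    refine ⟨fun c hc n => ?_⟩
    rw [mem_subgroupOf, mem_centralizer_iff] at hc ⊢
    intro u hu
    have hu' := (mem_normalizer_iff.1 (inv_mem n.2) u).1 hu
    rw [inv_inv] at hu'
    have := congrArg (fun y => (n : G) * y * (n : G)⁻¹) (hc _ hu')
    simpa [mul_assoc] using this
  obtain ⟨S, hS⟩ := h.exists_sylow
  refine h.not_le fun n hn => ?_
  obtain ⟨c, hc, m, hm, e⟩ := PLocal.frattini_mul S ((centralizer (H : Set G)).subgroupOf N) ⟨n, hn⟩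
  have hnm : n = (c : G) * m := congrArg Subtype.val e
  rw [hnm]
  refine mul_mem (h.cen hc) (h.fus E hHE hEP hEN m m.2 ?_)
  rw [hE, rconj, Subgroup.map_sup]
  refine sup_le (le_trans ?_ h.le) ?_
  · rintro _ ⟨u, hu, rfl⟩
    simpa using (mem_normalizer_iff.1 (inv_mem m.2) u).1 hu
  · rintro _ ⟨u, ⟨huP, huC⟩, rfl⟩
    have hu' : (⟨u, hCN huC⟩ : N) ∈ (S : Subgroup N) ⊓ (centralizer (H : Set G)).subgroupOf N :=
      ⟨by rw [hS]; exact huP, huC⟩
    have := ((mem_normalizer_iff.1 (inv_mem hm)) _).1 hu'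
    rw [inv_inv] at this
    have h2 := this.1
    rw [hS] at h2
    simpa [mem_subgroupOf, mul_assoc] using h2

theorem AGEss.normal_subgroupOf : (H.subgroupOf (normalizer (H : Set G))).Normal :=
  Subgroup.normal_in_normalizer

theorem AGEss.not_connected (h : AGEss P H L) :
    ¬ IsSylowChainConnected p
      (↥(normalizer (H : Set G)) ⧸ H.subgroupOf (normalizer (H : Set G))) := by
  intro hcon
  set N := normalizer (H : Set G)
  obtain ⟨S, hS⟩ := h.exists_sylow
  set T : Sylow p (↥N ⧸ H.subgroupOf N) :=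
    S.mapSurjective (QuotientGroup.mk'_surjective (H.subgroupOf N)) with hTdef
  have hT : ∀ u : N, (QuotientGroup.mk u : ↥N ⧸ H.subgroupOf N) ∈ (T : Subgroup _) ↔
      (u : G) ∈ (P : Subgroup G) := by
    intro u
    constructor
    · intro hu
      rw [hTdef, Sylow.coe_mapSurjective] at hu
      obtain ⟨s, hs, he⟩ := hu
      have hd : s⁻¹ * u ∈ H.subgroupOf N := QuotientGroup.eq.1 he
      have hu' : u ∈ (S : Subgroup N) := by
        have := mul_mem hs (show s⁻¹ * u ∈ (S : Subgroup N) by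
          rw [hS]; exact h.le hd)
        rwa [mul_inv_cancel_left] at this
      rw [hS] at hu'
      exact hu'
    · intro hu
      rw [hTdef, Sylow.coe_mapSurjective]
      exact ⟨u, by rw [hS]; exact hu, rfl⟩
  have hsm : ∀ (a u : N), (QuotientGroup.mk u : ↥N ⧸ H.subgroupOf N) ∈
      ((QuotientGroup.mk a : ↥N ⧸ H.subgroupOf N) • T : Sylow p _) ↔
      (a : G)⁻¹ * u * a ∈ (P : Subgroup G) := by
    intro a u
    rw [show ((a⁻¹ : G) * u * a) = ((a⁻¹ * u * a : N) : G) from rfl, ← hT]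
    exact mem_conj_smul_iff T _ _
  let R : Sylow p (↥N ⧸ H.subgroupOf N) → Prop := fun U =>
    ∀ n : N, (QuotientGroup.mk n : ↥N ⧸ H.subgroupOf N) • T = U → (n : G) ∈ L
  have hbase : R T := by
    intro n hn
    refine h.fus _ h.lt_inf inf_le_left inf_le_right n n.2 fun x hx => ?_
    rw [mem_rconj] at hx
    have hxN : x ∈ N := by
      have := mul_mem (mul_mem (inv_mem n.2) hx.2) n.2
      simpa [mul_assoc] using this
    have h1 := (hT ⟨_, hx.2⟩).2 hx.1
    rw [← hn, SetLike.mem_coe.symm, SetLike.mem_coe] at h1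
    have := (hsm n ⟨_, hx.2⟩).1 h1
    simpa [mul_assoc] using this
  have hstep : ∀ U V, SylowAdj U V → R U → R V := by
    intro U V hUV hU b hb
    obtain ⟨q, hq⟩ := MulAction.exists_smul_eq (↥N ⧸ H.subgroupOf N) T U
    obtain ⟨a, rfl⟩ := QuotientGroup.mk_surjective q
    have haL := hU a hq
    obtain ⟨e, ⟨heU, heV⟩, he1⟩ := SetLike.exists_of_lt (bot_lt_iff_ne_bot.2 hUV.2)
    obtain ⟨u, rfl⟩ := QuotientGroup.mk_surjective e
    rw [mem_bot, QuotientGroup.eq_one_iff] at he1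
    rw [← hq] at heU
    rw [← hb] at heV
    have h1 := (hsm a u).1 heU
    have h2 := (hsm b u).1 heV
    set v : G := (a : G)⁻¹ * u * a
    have hvN : v ∈ N := mul_mem (mul_mem (inv_mem a.2) u.2) a.2
    have hvH : v ∉ H := fun hv => he1 ((mem_normalizer_iff.1 (inv_mem a.2) u).2
      (by rw [inv_inv]; exact hv))
    have hx : (a : G)⁻¹ * b ∈ L := by
      refine h.fus (H ⊔ zpowers v) (lt_of_le_not_ge le_sup_left fun hle => hvH
        (hle (mem_sup_right (mem_zpowers v)))) (sup_le h.le (zpowers_le.2 h1))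
        (sup_le le_normalizer (zpowers_le.2 hvN)) _ (mul_mem (inv_mem a.2) b.2) ?_
      rw [rconj, Subgroup.map_sup, MonoidHom.map_zpowers]
      refine sup_le (le_trans ?_ h.le) (zpowers_le.2 ?_)
      · rintro _ ⟨w, hw, rfl⟩
        simpa [mul_assoc] using
          (mem_normalizer_iff.1 (inv_mem (mul_mem (inv_mem a.2) b.2)) w).1 hw
      · simpa [v, mul_assoc] using h2
    have := mul_mem haL hx
    rwa [mul_inv_cancel_left] at this
  refine h.not_le fun n hn => ?_
  obtain ⟨m, c, h0, hl, _, hc⟩ := hcon T ((QuotientGroup.mk (⟨n, hn⟩ : N) : ↥N ⧸ H.subgroupOf N) • T)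
  have hall : ∀ i : Fin (m + 1), R (c i) := by
    intro i
    induction i using Fin.induction with
    | zero => rw [h0]; exact hbase
    | succ j ih => exact hstep _ _ (hc j) ih
  exact (hl ▸ hall (Fin.last m)) ⟨n, hn⟩ rfl

theorem AGEss.pPrimePCore_eq (h : AGEss P H L) :
    (Cfsg.pPrimePCore p ↥(normalizer (H : Set G))).map (normalizer (H : Set G)).subtype =
      H ⊔ centralizer (H : Set G) := by
  set N := normalizer (H : Set G)
  obtain ⟨S, hS⟩ := h.exists_sylow
  set Q := Cfsg.pPrimeCore p ↥N with hQ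
  set W := Cfsg.pPrimePCore p ↥N with hW
  haveI : W.Normal := CfsgLib.Comp.pPrimePCore_normal p _
  haveI : Q.Normal := Cfsg.pPrimeCore_normal p _
  set HN := H.subgroupOf N with hHN
  haveI : HN.Normal := Subgroup.normal_in_normalizer
  set C := (centralizer (H : Set G)).subgroupOf N with hC
  have hHp : IsPGroup p HN :=
    (P.isPGroup'.to_le h.le).comap_of_injective _ N.subtype_injective
  have hQC : Q ≤ C := by
    intro q hq
    rw [hC, mem_subgroupOf, mem_centralizer_iff]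
    intro u hu
    set v : N := ⟨u, le_normalizer hu⟩
    have hQH : Q ⊓ HN = ⊥ := by
      obtain ⟨k, hk⟩ := IsPGroup.iff_card.1 hHp
      refine inf_eq_bot_of_coprime ?_
      rw [hk]
      exact (CfsgLib.Solvable.pPrimeCore_coprime p).pow_right k
    have hv : v ∈ HN := hu
    have hcm : q * v * q⁻¹ * v⁻¹ ∈ Q ⊓ HN := by
      constructor
      · rw [mul_assoc q v, mul_assoc q]
        exact Q.mul_mem hq (‹Q.Normal›.conj_mem _ (Q.inv_mem hq) v)
      · exact HN.mul_mem (‹HN.Normal›.conj_mem _ hv q) (HN.inv_mem hv)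
    rw [hQH, mem_bot, mul_inv_eq_one, mul_inv_eq_iff_eq_mul] at hcm
    exact (congrArg Subtype.val hcm).symm
  have hHW : HN ≤ W := by
    rw [hW, Cfsg.pPrimePCore, ← map_le_iff_le_comap]
    exact CfsgLib.Solvable.le_pCore (‹HN.Normal›.map _ (QuotientGroup.mk'_surjective _)) (hHp.map _)
  have hWQ : W ≤ Q ⊔ ((S : Subgroup N) ⊓ W) := by
    refine PLocal.normal_pGroup_quotient_le S ?_ (PLocal.pCore_comap_relIndex Q)
    intro q hq
    show (QuotientGroup.mk' Q) q ∈ Cfsg.pCore p _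
    rw [QuotientGroup.mk'_apply, (QuotientGroup.eq_one_iff q).2 hq]
    exact one_mem _
  have hSW : (S : Subgroup N) ⊓ W ≤ HN := by
    by_contra hne
    refine h.not_le fun n hn => ?_
    obtain ⟨c, hc, m, hm, e⟩ := PLocal.frattini_mul S W ⟨n, hn⟩
    have hnm : n = (c : G) * m := congrArg Subtype.val e
    rw [hnm]
    refine mul_mem ?_ ?_
    · have hle : Q ⊔ ((S : Subgroup N) ⊓ W) ≤ L.subgroupOf N := by
        refine sup_le (fun q hq => h.cen (hQC hq)) fun s hs => ?_
        have hs' := hs.1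
        rw [hS] at hs'
        exact h.inf_le ⟨hs', s.2⟩
      exact hle (hWQ hc)
    · set E := ((S : Subgroup N) ⊓ W).map N.subtype with hE
      have hEP : E ≤ (P : Subgroup G) := by
        rintro _ ⟨s, hs, rfl⟩
        have hs' := hs.1
        rw [hS] at hs'
        exact hs'
      have hHE : H ≤ E := fun u hu => ⟨⟨u, le_normalizer hu⟩,
        ⟨by rw [hS]; exact h.le hu, hHW hu⟩, rfl⟩
      refine h.fus E (lt_of_le_not_ge hHE fun hle => hne fun s hs => hle ⟨s, hs, rfl⟩) hEP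
        (map_subtype_le _) m m.2 ?_
      rintro _ ⟨_, ⟨s, hs, rfl⟩, rfl⟩
      refine hEP ⟨m⁻¹ * s * m, ?_, by simp⟩
      have := (mem_normalizer_iff.1 (inv_mem hm) s).1 hs
      rwa [inv_inv] at this
  have hCW : C ≤ W := by
    haveI : C.Normal := by
      refine ⟨fun c hc n => ?_⟩
      rw [hC, mem_subgroupOf, mem_centralizer_iff] at hc ⊢
      intro u hu
      have hu' := (mem_normalizer_iff.1 (inv_mem n.2) u).1 hu
      rw [inv_inv] at hu'
      have := congrArg (fun y => (n : G) * y * (n : G)⁻¹) (hc _ hu')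
      simpa [mul_assoc] using this
    obtain ⟨Z, hZ⟩ := Transfer.exists_sylow_eq_subgroupOf S C
    have hZH : ∀ z ∈ (Z : Subgroup C), ((z : N) : G) ∈ H := by
      intro z hz
      rw [hZ, mem_subgroupOf, hS] at hz
      exact h.centric ⟨hz, z.2⟩
    have hNC : normalizer ((Z : Subgroup C) : Set C) ≤ centralizer ((Z : Subgroup C) : Set C) := by
      intro c _
      rw [mem_centralizer_iff]
      intro z hz
      exact Subtype.ext (Subtype.ext (mem_centralizer_iff.1 c.2 _ (hZH z hz)))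
    have hHall : (Nat.card (Z : Subgroup C)).Coprime (Z : Subgroup C).index := by
      obtain ⟨k, hk⟩ := IsPGroup.iff_card.1 Z.isPGroup'
      rw [hk]
      exact ((Fact.out : p.Prime).coprime_iff_not_dvd.2 Z.not_dvd_index).pow_left k
    obtain ⟨K, hKn, hKc⟩ := exists_normal_complement_of_normalizer_le_centralizer _ hHall hNC
    have hKcop : (Nat.card K).Coprime p := by
      rw [← hKc.index_eq_card]
      exact ((Fact.out : p.Prime).coprime_iff_not_dvd.2 Z.not_dvd_index).symm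
    have hKQ : K.map C.subtype ≤ W :=
      ((map_mono (CfsgLib.Solvable.le_pPrimeCore hKn hKcop)).trans
        (CfsgLib.Solvable.map_pPrimeCore_le p C)).trans fun q hq => by
          show (QuotientGroup.mk' Q) q ∈ Cfsg.pCore p _
          rw [QuotientGroup.mk'_apply, (QuotientGroup.eq_one_iff q).2 hq]
          exact one_mem _
    intro c hc
    obtain ⟨⟨k, z⟩, hkz⟩ := hKc.2 ⟨c, hc⟩
    have e : c = ((k : C) : N) * ((z : C) : N) := (congrArg Subtype.val hkz).symm
    rw [e]
    exact mul_mem (hKQ ⟨_, k.2, rfl⟩) (hHW (hZH _ z.2))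
  apply le_antisymm
  · rintro _ ⟨w, hw, rfl⟩
    have hle : Q ⊔ ((S : Subgroup N) ⊓ W) ≤ (H ⊔ centralizer (H : Set G)).subgroupOf N :=
      sup_le (fun q hq => mem_subgroupOf.2 (mem_sup_right (hQC hq)))
        (fun s hs => mem_subgroupOf.2 (mem_sup_left (hSW hs)))
    exact hle (hWQ hw)
  · refine sup_le (fun u hu => ⟨⟨u, le_normalizer hu⟩, hHW hu, rfl⟩) fun c hc => ?_
    have hcN : c ∈ N := by
      refine mem_normalizer_fintype fun u hu => ?_
      show c * u * c⁻¹ ∈ H
      rw [← mem_centralizer_iff.1 hc u hu, mul_inv_cancel_right]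
      exact hu
    exact ⟨⟨c, hcN⟩, hCW hc, rfl⟩

theorem AGEss.exists_min (h : AGEss P H L) : ∃ X, AGMin p H X := by
  classical
  set N := normalizer (H : Set G)
  set HN := H.subgroupOf N with hHN
  haveI : HN.Normal := Subgroup.normal_in_normalizer
  obtain ⟨M, hM, hpM, hMT⟩ := exists_trivialMeet_of_not_connected h.not_connected
  let good : Subgroup G → Prop := fun Y =>
    H ≤ Y ∧ Y ≤ N ∧ (Y.subgroupOf N).Normal ∧ p ∣ H.relIndex Y
  have hNgood : good N := by
    refine ⟨le_normalizer, le_rfl, by rw [subgroupOf_self]; infer_instance, ?_⟩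
    have hd : p ∣ H.relIndex ((P : Subgroup G) ⊓ N) := by
      obtain ⟨k, hk⟩ := IsPGroup.iff_card.1 (P.isPGroup'.to_le (inf_le_left : (P : Subgroup G) ⊓ N ≤ _))
      have h1 : H.relIndex ((P : Subgroup G) ⊓ N) ∣ p ^ k := hk ▸ index_dvd_card _
      obtain ⟨j, hj, he⟩ := (Nat.dvd_prime_pow Fact.out).1 h1
      rcases j with _ | j
      · exact absurd (relIndex_eq_one.1 (by rw [he, pow_zero])) h.lt_inf.not_ge
      · exact he ▸ dvd_pow_self p j.succ_ne_zero
    exact hd.trans (relIndex_mul_relIndex H _ N (le_inf h.le le_normalizer) inf_le_right ▸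
      dvd_mul_right _ _)
  have hcard : ∀ Y : Subgroup G, H ≤ Y → Y ≤ N →
      Nat.card ((Y.subgroupOf N).map (QuotientGroup.mk' HN)) = H.relIndex Y := by
    intro Y _ hY
    rw [← relIndex_bot_left, ← relIndex_comap, MonoidHom.comap_bot, QuotientGroup.ker_mk', hHN,
      relIndex_subgroupOf hY]
  have hinf : ∀ Y Z, good Y → good Z → good (Y ⊓ Z) := by
    intro Y Z hY hZ
    haveI := hY.2.2.1
    haveI := hZ.2.2.1
    have hn : ((Y ⊓ Z).subgroupOf N).Normal := by
      rw [show (Y ⊓ Z).subgroupOf N = Y.subgroupOf N ⊓ Z.subgroupOf N from comap_inf _ _ _]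
      infer_instance
    refine ⟨le_inf hY.1 hZ.1, inf_le_left.trans hY.2.1, hn, ?_⟩
    haveI := hY.2.2.1.map _ (QuotientGroup.mk'_surjective HN)
    haveI := hZ.2.2.1.map _ (QuotientGroup.mk'_surjective HN)
    have hd := dvd_card_inf_of_trivialMeet hM hpM hMT
      ((Y.subgroupOf N).map (QuotientGroup.mk' HN)) ((Z.subgroupOf N).map (QuotientGroup.mk' HN))
      (by rw [hcard Y hY.1 hY.2.1]; exact hY.2.2.2) (by rw [hcard Z hZ.1 hZ.2.1]; exact hZ.2.2.2)
    have hkY : (QuotientGroup.mk' HN).ker ≤ Y.subgroupOf N := by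
      rw [QuotientGroup.ker_mk', hHN]; exact subgroupOf_mono _ hY.1
    have hkZ : (QuotientGroup.mk' HN).ker ≤ Z.subgroupOf N := by
      rw [QuotientGroup.ker_mk', hHN]; exact subgroupOf_mono _ hZ.1
    have he : ((Y ⊓ Z).subgroupOf N).map (QuotientGroup.mk' HN) =
        (Y.subgroupOf N).map (QuotientGroup.mk' HN) ⊓ (Z.subgroupOf N).map (QuotientGroup.mk' HN) := by
      apply comap_injective (QuotientGroup.mk'_surjective HN)
      rw [comap_inf, comap_map_eq_self hkY, comap_map_eq_self hkZ,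
        show (Y ⊓ Z).subgroupOf N = Y.subgroupOf N ⊓ Z.subgroupOf N from comap_inf _ _ _,
        comap_map_eq_self (le_inf hkY hkZ)]
    rw [← hcard _ (le_inf hY.1 hZ.1) (inf_le_left.trans hY.2.1), he]
    exact hd
  obtain ⟨X, hX, hmin⟩ := Set.exists_min_image {Y | good Y} (fun Y => Nat.card Y)
    (Set.toFinite _) ⟨N, hNgood⟩
  refine ⟨X, hX.1, hX.2.1, hX.2.2.1, hX.2.2.2, fun Y h1 h2 h3 h4 => ?_⟩
  have he : X ⊓ Y = X := eq_of_le_of_card_ge inf_le_left (hmin _ (hinf X Y hX ⟨h1, h2, h3, h4⟩))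
  exact he ▸ inf_le_right

end CfsgLib.Amalgam
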