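import Cfsg.Prelude.Def_LocalEven
import Cfsg.Prelude.Def_TwoFusion
import Cfsg.Agent.Lib.Transfer.AlperinTame
import Cfsg.Agent.Lib.Transfer.Frobenius
import Cfsg.Agent.Lib.OddLocal.Stab
import Cfsg.Agent.Lib.Comp.Normalize

/-!
A strongly closed abelian subgroup of a Sylow subgroup controls strong fusion.
-/

set_option autoImplicit false
set_option linter.unusedSectionVars false
set_option linter.style.haveILetI false

namespace CfsgLib.Amalgam

open Subgroup

variable {G : Type*} [Group G] [Finite G] {p : ℕ} [hp : Fact p.Prime]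

/-- `g` agrees on `D` with an element of `N(A)`. -/
def AgreesInNormalizer (A D : Subgroup G) (g : G) : Prop :=
  ∃ x ∈ normalizer (A : Set G), ∀ d ∈ D, g⁻¹ * d * g = x⁻¹ * d * x

/-- A step of Alperin's chain is realised in `N(A)`, given this for larger subgroups. -/
theorem agrees_step (P : Sylow p G) {A : Subgroup G} (hA : IsMulCommutative A)
    (hsc : Cfsg.IsStronglyClosed A (P : Subgroup G)) (Q : Sylow p G) (hT : CfsgLib.Transfer.Tame P Q)
    {n : G} (hn : n ∈ normalizer ((((P : Subgroup G) ⊓ (Q : Subgroup G)) : Subgroup G) : Set G))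
    (ih : ∀ D : Subgroup G, Nat.card ((P : Subgroup G) ⊓ (Q : Subgroup G) : Subgroup G) < Nat.card D →
      D ≤ (P : Subgroup G) → ∀ g : G, CfsgLib.Transfer.rconj g D ≤ (P : Subgroup G) → AgreesInNormalizer A D g) :
    AgreesInNormalizer A ((P : Subgroup G) ⊓ (Q : Subgroup G)) n := by
  classical
  obtain ⟨hAP, hA'⟩ := hsc
  set R := (P : Subgroup G) ⊓ (Q : Subgroup G) with hR
  set N := normalizer (R : Set G) with hN
  have hRP : R ≤ (P : Subgroup G) := inf_le_left
  have hPA : ∀ u ∈ (P : Subgroup G), ∀ a ∈ A, u * a * u⁻¹ ∈ A := fun u hu a ha =>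
    hA' a ha u (mul_mem (mul_mem hu (hAP ha)) (inv_mem hu))
  have hAA : ∀ a ∈ A, ∀ b ∈ A, a * b = b * a := fun a ha b hb =>
    congrArg Subtype.val (hA.is_comm.comm ⟨a, ha⟩ ⟨b, hb⟩)
  have hinv : ∀ y ∈ N, ∀ a ∈ A, a ∈ R → y * a * y⁻¹ ∈ A ∧ y * a * y⁻¹ ∈ R := by
    intro y hy a ha haR
    have h1 : y * a * y⁻¹ ∈ R := (mem_normalizer_iff.1 hy a).1 haR
    exact ⟨hA' a ha y (hRP h1), h1⟩
  by_cases hAR : A ≤ R
  · refine ⟨n, mem_normalizer_iff_map_conj_eq.2 (eq_of_le_of_card_ge ?_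
      (card_map_of_injective (MulEquiv.injective _)).ge), fun d _ => rfl⟩
    rintro _ ⟨a, ha, rfl⟩
    exact (hinv n hn a ha (hAR ha)).1
  -- the stabilizer of the series `R ≥ A ∩ R ≥ 1`
  let K : Subgroup G :=
    { carrier := {y | y ∈ N ∧ (∀ a ∈ A, a ∈ R → y * a * y⁻¹ = a) ∧ ∀ r ∈ R, y * r * y⁻¹ * r⁻¹ ∈ A}
      one_mem' := ⟨one_mem _, by simp, by simp⟩
      mul_mem' := by
        rintro x y ⟨hx, hx1, hx2⟩ ⟨hy, hy1, hy2⟩
        refine ⟨mul_mem hx hy, fun a ha haR => ?_, fun r hr => ?_⟩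
        · rw [show x * y * a * (x * y)⁻¹ = x * (y * a * y⁻¹) * x⁻¹ by group, hy1 a ha haR, hx1 a ha haR]
        · have h1 := hx2 _ ((mem_normalizer_iff.1 hy r).1 hr)
          have h2 := mul_mem h1 (hy2 r hr)
          convert h2 using 1
          group
      inv_mem' := by
        rintro x ⟨hx, hx1, hx2⟩
        refine ⟨inv_mem hx, fun a ha haR => ?_, fun r hr => ?_⟩
        · conv_lhs => rw [← hx1 a ha haR]
          group
        · have hr' : x⁻¹ * r * x ∈ R := by simpa using (mem_normalizer_iff.1 (inv_mem hx) r).1 hr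
          have h1 := inv_mem (hx2 _ hr')
          convert h1 using 1
          group }
  have hKN : K ≤ N := fun y hy => hy.1
  set C := centralizer (R : Set G) with hC
  have hCN : C ≤ N := centralizer_le_normalizer _
  have hCK : C ≤ K := by
    intro c hc
    have hcom : ∀ r ∈ R, c * r * c⁻¹ = r := fun r hr => by
      rw [← mem_centralizer_iff.1 hc r hr, mul_inv_cancel_right]
    exact ⟨hCN hc, fun a _ haR => hcom a haR, fun r hr => by rw [hcom r hr, mul_inv_cancel]; exact one_mem _⟩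
  haveI : (K.subgroupOf N).Normal := by
    refine ⟨fun y hy m => ?_⟩
    rw [mem_subgroupOf] at hy ⊢
    obtain ⟨hy, hy1, hy2⟩ := hy
    refine ⟨(m * y * m⁻¹).2, fun a ha haR => ?_, fun r hr => ?_⟩
    · obtain ⟨h1, h2⟩ := hinv _ (inv_mem m.2) a ha haR
      have h3 := hy1 _ h1 h2
      simp only [Subgroup.coe_mul, InvMemClass.coe_inv, inv_inv] at h3 ⊢
      calc (m : G) * y * (m : G)⁻¹ * a * ((m : G) * y * (m : G)⁻¹)⁻¹
          = (m : G) * ((y : G) * ((m : G)⁻¹ * a * m) * (y : G)⁻¹) * (m : G)⁻¹ := by group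
        _ = (m : G) * ((m : G)⁻¹ * a * m) * (m : G)⁻¹ := by rw [h3]
        _ = a := by group
    · have hr' : (m : G)⁻¹ * r * m ∈ R := by simpa using (mem_normalizer_iff.1 (inv_mem m.2) r).1 hr
      have h1 := hy2 _ hr'
      have hyR : (y : G) * ((m : G)⁻¹ * r * m) * (y : G)⁻¹ * ((m : G)⁻¹ * r * m)⁻¹ ∈ R :=
        mul_mem ((mem_normalizer_iff.1 hy _).1 hr') (inv_mem hr')
      have h2 := (hinv m m.2 _ h1 hyR).1
      simp only [Subgroup.coe_mul, InvMemClass.coe_inv] at h2 ⊢
      convert h2 using 1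
      group
  -- Sylow subgroups
  have hPN : IsPGroup p ((P : Subgroup G) ⊓ N : Subgroup G) := P.2.to_le inf_le_left
  let SN : Sylow p N := (hPN.of_equiv (subgroupOfEquivOfLe inf_le_right).symm).toSylow hT.1
  obtain ⟨TK, hTK⟩ := CfsgLib.Transfer.exists_sylow_eq_subgroupOf SN (K.subgroupOf N)
  set R1 := (P : Subgroup G) ⊓ K with hR1
  have hTKmap : (TK : Subgroup (K.subgroupOf N)).map (K.subgroupOf N).subtype = R1.subgroupOf N := by
    rw [hTK, subgroupOf_map_subtype]
    ext y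
    simp only [mem_inf, mem_subgroupOf, hR1]
    constructor
    · rintro ⟨h1, h2⟩
      have h1' : (y : G) ∈ (P : Subgroup G) ⊓ N := h1
      exact ⟨(mem_inf.1 h1').1, h2⟩
    · rintro ⟨h1, h2⟩
      exact ⟨(mem_inf.2 ⟨h1, y.2⟩ : (y : G) ∈ (P : Subgroup G) ⊓ N), h2⟩
  -- `p'`-elements of `K` centralize `R`
  have hcent : ∀ y ∈ K, (orderOf y).Coprime p → y ∈ C := by
    intro y hy hyp
    obtain ⟨k, hk⟩ := (P.2.to_le hRP).exists_card_eq
    have hcop : (Nat.card (zpowers y)).Coprime (Nat.card R) := by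
      rw [Nat.card_zpowers, hk]; exact hyp.pow_right k
    refine CfsgLib.OddLocal.le_centralizer_of_stabilizes (H := R) (N := A ⊓ R) inf_le_right hcop ?_ ?_
      (mem_zpowers y)
    · refine zpowers_le.2 (mem_centralizer_iff.2 fun a ha => ?_)
      exact (mul_inv_eq_iff_eq_mul.1 (hy.2.1 a (mem_inf.1 ha).1 (mem_inf.1 ha).2)).symm
    · intro a ha r hr
      have haK : a ∈ K := (zpowers_le.2 hy) ha
      exact mem_inf.2 ⟨haK.2.2 r hr, mul_mem ((mem_normalizer_iff.1 haK.1 r).1 hr) (inv_mem hr)⟩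
  have hKsub : K.subgroupOf N ≤ C.subgroupOf N ⊔ R1.subgroupOf N := by
    have htop : (C.subgroupOf N).subgroupOf (K.subgroupOf N) ⊔ (TK : Subgroup (K.subgroupOf N)) = ⊤ := by
      haveI : (C.subgroupOf N).Normal := (normal_subgroupOf_iff_le_normalizer hCN).2 (fun y hy => mem_normalizer_iff_map_conj_eq.2 (CfsgLib.Comp.map_conj_eq_iff.2 (CfsgLib.Comp.le_normalizer_centralizer (M := N) le_rfl hy)))
      haveI : ((C.subgroupOf N).subgroupOf (K.subgroupOf N)).Normal := Subgroup.normal_subgroupOf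
      have hq : IsPGroup p ((K.subgroupOf N) ⧸ (C.subgroupOf N).subgroupOf (K.subgroupOf N)) :=
        CfsgLib.Transfer.isPGroup_quotient_of_coprime_mem fun y hy => by
          rw [mem_subgroupOf, mem_subgroupOf]
          exact hcent _ (mem_subgroupOf.1 y.2) (by rwa [Subgroup.orderOf_coe, Subgroup.orderOf_coe])
      obtain ⟨i, hi⟩ := hq.exists_card_eq
      exact CfsgLib.Transfer.sup_sylow_eq_top TK (by rw [index_eq_card]; exact hi)
    have h := congrArg (map (K.subgroupOf N).subtype) htop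
    rw [Subgroup.map_sup, hTKmap, ← MonoidHom.range_eq_map, range_subtype, subgroupOf_map_subtype] at h
    exact h.ge.trans (sup_le_sup_right inf_le_left _)
  have hfr := TK.normalizer_sup_eq_top
  rw [hTKmap] at hfr
  haveI : (C.subgroupOf N).Normal := (normal_subgroupOf_iff_le_normalizer hCN).2 (fun y hy => mem_normalizer_iff_map_conj_eq.2 (CfsgLib.Comp.map_conj_eq_iff.2 (CfsgLib.Comp.le_normalizer_centralizer (M := N) le_rfl hy)))
  have htop : normalizer ((R1.subgroupOf N : Subgroup N) : Set N) ⊔ C.subgroupOf N = ⊤ :=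
    top_le_iff.1 (hfr.ge.trans (sup_le le_sup_left (hKsub.trans (sup_le le_sup_right (le_normalizer.trans le_sup_left)))))
  have hmem : (⟨n, hn⟩ : N) ∈ ((normalizer ((R1.subgroupOf N : Subgroup N) : Set N) ⊔ C.subgroupOf N : Subgroup N) : Set N) := by
    rw [htop]; exact mem_top _
  rw [mul_normal] at hmem
  obtain ⟨m, hm, c, hc, hmc⟩ := hmem
  have hn' : n = (m : G) * c := (congrArg Subtype.val hmc).symm
  -- the larger subgroup
  have hR1n : (m : G) ∈ normalizer (R1 : Set G) := by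
    refine mem_normalizer_iff_map_conj_eq.2 (eq_of_le_of_card_ge ?_ (card_map_of_injective (MulEquiv.injective _)).ge)
    rintro _ ⟨y, hy, rfl⟩
    have hyN : y ∈ N := hKN (mem_inf.1 hy).2
    exact mem_subgroupOf.1 ((mem_normalizer_iff.1 hm ⟨y, hyN⟩).1 (mem_subgroupOf.2 hy))
  set R2 := R ⊔ R1 with hR2
  have hR2P : R2 ≤ (P : Subgroup G) := sup_le hRP inf_le_left
  have hlt : Nat.card R < Nat.card R2 := by
    refine lt_of_le_of_ne (card_le_of_le le_sup_left) fun e => hAR ?_
    have hR1R : R1 ≤ R := le_sup_right.trans (eq_of_le_of_card_ge le_sup_left e.ge).ge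
    have hNA : ∀ a ∈ A, a ∈ N → a ∈ R := by
      intro a ha haN
      refine hR1R (mem_inf.2 ⟨hAP ha, haN, fun b hb _ => ?_, fun r hr => ?_⟩)
      · rw [hAA a ha b hb, mul_inv_cancel_right]
      · have := mul_mem ha (hPA r (hRP hr) a⁻¹ (inv_mem ha))
        convert this using 1
        group
    by_contra hne
    have hU : IsPGroup p (R ⊔ A : Subgroup G) := P.2.to_le (sup_le hRP hAP)
    obtain ⟨u, huU, huN, huR⟩ := CfsgLib.Transfer.exists_mem_normalizer_not_mem hU
      (lt_of_le_not_ge (le_sup_left : R ≤ R ⊔ A) fun h => hne (le_sup_right.trans h))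
    have hRA : R ≤ normalizer (A : Set G) := fun r hr => mem_normalizer_iff_map_conj_eq.2
      (eq_of_le_of_card_ge (by rintro _ ⟨a, ha, rfl⟩; exact hPA r (hRP hr) a ha)
        (card_map_of_injective (MulEquiv.injective _)).ge)
    rw [← SetLike.mem_coe, coe_mul_of_left_le_normalizer_right R A hRA] at huU
    obtain ⟨r, hr, a, ha, rfl⟩ := huU
    have haN : a ∈ N := by
      have := mul_mem (inv_mem (le_normalizer hr : r ∈ N)) huN
      simpa using this
    exact huR (mul_mem hr (hNA a ha haN))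
  obtain ⟨x, hx, hxag⟩ := ih R2 hlt hR2P m (by
    rintro _ ⟨y, hy, rfl⟩
    have hmR2 : (m : G) ∈ normalizer (R2 : Set G) := mem_normalizer_iff_map_conj_eq.2 (by
      rw [hR2, Subgroup.map_sup, mem_normalizer_iff_map_conj_eq.1 hR1n, mem_normalizer_iff_map_conj_eq.1 m.2])
    exact hR2P ((mem_normalizer_iff.1 (inv_mem hmR2) y).1 hy))
  refine ⟨x, hx, fun d hd => ?_⟩
  have h1 := hxag d (mem_sup_left hd)
  rw [← h1, hn']
  have hd' : (m : G)⁻¹ * d * m ∈ R := by simpa using (mem_normalizer_iff.1 (inv_mem m.2) d).1 hd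
  have hc' := mem_centralizer_iff.1 (mem_subgroupOf.1 hc) _ hd'
  calc ((m : G) * c)⁻¹ * d * ((m : G) * c) = (c : G)⁻¹ * ((m : G)⁻¹ * d * m * c) := by group
    _ = (m : G)⁻¹ * d * m := by rw [hc', inv_mul_cancel_left]

/-- All fusion in `P` is realised in `N(A)`. -/
theorem agrees_of_stronglyClosed_abelian (P : Sylow p G) {A : Subgroup G} (hA : IsMulCommutative A)
    (hsc : Cfsg.IsStronglyClosed A (P : Subgroup G)) : ∀ D : Subgroup G, D ≤ (P : Subgroup G) → ∀ g : G,
    CfsgLib.Transfer.rconj g D ≤ (P : Subgroup G) → AgreesInNormalizer A D g := by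
  suffices key : ∀ n : ℕ, ∀ D : Subgroup G, Nat.card (P : Subgroup G) - Nat.card D = n → D ≤ (P : Subgroup G) →
      ∀ g : G, CfsgLib.Transfer.rconj g D ≤ (P : Subgroup G) → AgreesInNormalizer A D g from
    fun D => key _ D rfl
  intro n
  induction n using Nat.strong_induction_on with
  | _ n ih =>
    intro D hn hDP g hg
    have h := CfsgLib.Transfer.reach_of_le P D g hDP hg
    clear hg
    suffices H : ∀ (D' : Subgroup G) (g : G), CfsgLib.Transfer.Reach P D' g → Nat.card D' = Nat.card D →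
        AgreesInNormalizer A D' g from H D g h rfl
    intro D' g hr
    induction hr with
    | one D' => exact fun _ => ⟨1, one_mem _, fun d _ => rfl⟩
    | cons D' Q x g hT hx hD' _ ihr =>
      intro hc
      have hstep : AgreesInNormalizer A ((P : Subgroup G) ⊓ (Q : Subgroup G)) x := by
        refine agrees_step P hA hsc Q hT hx fun D₂ hlt hD₂ g₂ hg₂ => ?_
        refine ih _ ?_ D₂ rfl hD₂ g₂ hg₂
        have h1 : Nat.card D' ≤ _ := card_le_of_le hD'
        have h2 := card_le_of_le hD₂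
        omega
      obtain ⟨x₁, hx₁, hag₁⟩ := hstep
      obtain ⟨x₂, hx₂, hag₂⟩ := ihr (by
        rw [CfsgLib.Transfer.rconj, card_map_of_injective (MulEquiv.injective _), hc])
      refine ⟨x₁ * x₂, mul_mem hx₁ hx₂, fun d hd => ?_⟩
      have e1 := hag₁ d (hD' hd)
      have e2 := hag₂ (x⁻¹ * d * x) (by rw [CfsgLib.Transfer.mem_rconj]; simpa [mul_assoc] using hd)
      calc (x * g)⁻¹ * d * (x * g) = g⁻¹ * (x⁻¹ * d * x) * g := by group
        _ = x₂⁻¹ * (x⁻¹ * d * x) * x₂ := e2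
        _ = x₂⁻¹ * (x₁⁻¹ * d * x₁) * x₂ := by rw [e1]
        _ = (x₁ * x₂)⁻¹ * d * (x₁ * x₂) := by group

/-- A strongly closed abelian subgroup controls strong fusion. -/
theorem controlsStrongFusion_of_stronglyClosed_abelian (P : Sylow p G) {A : Subgroup G} (hA : IsMulCommutative A)
    (hsc : Cfsg.IsStronglyClosed A (P : Subgroup G)) : Cfsg.ControlsStrongFusion p A := by
  refine ⟨P, hsc.1, fun B hB => ⟨hB, fun g hg => ?_⟩⟩
  obtain ⟨x, hx, hag⟩ := agrees_of_stronglyClosed_abelian P hA hsc (closure B) ((closure_le _).2 hB) g⁻¹ (by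
    rw [CfsgLib.Transfer.rconj, inv_inv, MonoidHom.map_closure, closure_le]
    exact hg)
  refine ⟨x⁻¹, inv_mem hx, fun a ha => ?_⟩
  have := hag a (subset_closure ha)
  simpa using this

end CfsgLib.Amalgam
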