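import Cfsg.Agent.Lib.Amalgam.InvariantSubgroups
import Cfsg.Agent.Lib.Transfer.AlperinTame
import Cfsg.Agent.Lib.Transfer.Focal
import Cfsg.Agent.Lib.Transfer.Tate

/-!
Normal `p`-complements when, `p` being the smallest prime, all subgroups of one fixed order of a
Sylow subgroup are strongly closed.
-/

set_option autoImplicit false
set_option linter.unusedSectionVars false
set_option linter.style.haveILetI false

namespace CfsgLib.Amalgam

open Subgroup
open scoped commutatorElement

universe u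

variable {p : ℕ} [hp : Fact p.Prime]

theorem eq_one_of_dvd_totient {N a n : ℕ} (hmin : ∀ q : ℕ, q.Prime → q ∣ N → p ≤ q) (ha : a ∣ N)
    (hcop : a.Coprime p) (h : a ∣ Nat.totient (p ^ n)) : a = 1 := by
  rcases Nat.eq_zero_or_pos n with rfl | hn
  · simpa using h
  rw [Nat.totient_prime_pow hp.out hn] at h
  have h1 : a ∣ p - 1 := Nat.Coprime.dvd_of_dvd_mul_left (hcop.pow_right _) h
  by_contra hne
  obtain ⟨q, hq, hqa⟩ := Nat.exists_prime_and_dvd hne
  have h2 := hmin q hq (hqa.trans ha)
  have h4 := hp.out.two_le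
  have h3 := Nat.le_of_dvd (by omega) (hqa.trans h1)
  omega

variable {G : Type u} [Group G] [Finite G]

theorem hom_units_eq_one (hmin : ∀ q : ℕ, q.Prime → q ∣ Nat.card G → p ≤ q) {T : Subgroup G} (y : T)
    (hy : (orderOf (y : G)).Coprime p) :
    ∀ m n : ℕ, m = p ^ n → ∀ f : T →* (ZMod m)ˣ, f y = 1 := by
  rintro _ n rfl f
  haveI : NeZero (p ^ n) := ⟨pow_ne_zero n hp.out.ne_zero⟩
  have hd : orderOf (f y) ∣ orderOf (y : G) := by
    rw [Subgroup.orderOf_coe]; exact orderOf_map_dvd f y
  have h := orderOf_dvd_natCard (f y)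
  rw [Nat.card_eq_fintype_card, ZMod.card_units_eq_totient] at h
  exact orderOf_eq_one_iff.1 (eq_one_of_dvd_totient hmin (hd.trans (orderOf_dvd_natCard _))
    (hy.coprime_dvd_left hd) h)

/-- With `p` the smallest prime, a `p'`-element normalizing a cyclic `p`-group centralizes it. -/
theorem mem_centralizer_of_cyclic (hmin : ∀ q : ℕ, q.Prime → q ∣ Nat.card G → p ≤ q) {C : Subgroup G}
    (hC : IsPGroup p C) [IsCyclic C] {y : G} (hy : (orderOf y).Coprime p)
    (hyC : y ∈ normalizer (C : Set G)) : y ∈ centralizer (C : Set G) := by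
  have h := centralizes_cyclic (T := zpowers y) (y := ⟨y, mem_zpowers y⟩)
    (hom_units_eq_one hmin ⟨y, mem_zpowers y⟩ hy) (zpowers y).subtype C hC
    (fun t => zpowers_le.2 hyC t.2)
  exact mem_centralizer_iff.2 fun c hc => (mul_inv_eq_iff_eq_mul.1 (h c hc)).symm

/-- A normal subgroup of order `1` or the smallest prime `p` is central. -/
theorem commute_of_normal_card_dvd {H : Type*} [Group H] [Finite H]
    (hmin : ∀ q : ℕ, q.Prime → q ∣ Nat.card H → p ≤ q) (C : Subgroup H) [C.Normal]
    (hC : Nat.card C ∣ p) (h : H) : ∀ c ∈ C, h * c * h⁻¹ = c := by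
  intro c hc
  haveI : IsCyclic C := by
    rcases (Nat.dvd_prime hp.out).1 hC with h1 | h1
    · rw [Subgroup.card_eq_one] at h1; subst h1; infer_instance
    · exact isCyclic_of_prime_card h1
  set f : H →* MulAut C := MulAut.conjNormal with hf
  have h1 := orderOf_dvd_natCard (f h)
  rw [IsCyclic.card_mulAut] at h1
  have h2 : orderOf (f h) = 1 := by
    by_contra hne
    obtain ⟨q, hq, hqd⟩ := Nat.exists_prime_and_dvd hne
    have h3 := hmin q hq (hqd.trans ((orderOf_map_dvd f h).trans (orderOf_dvd_natCard h)))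
    rcases (Nat.dvd_prime hp.out).1 hC with e | e <;> rw [e] at h1
    · rw [Nat.totient_one] at h1; exact hq.not_dvd_one (hqd.trans h1)
    · rw [Nat.totient_prime hp.out] at h1
      have := Nat.le_of_dvd (by have := hp.out.two_le; omega) (hqd.trans h1)
      have := hp.out.two_le; omega
  simpa [hf] using congrArg Subtype.val (DFunLike.congr_fun (orderOf_eq_one_iff.1 h2) ⟨c, hc⟩)

theorem hmin_subgroup (hmin : ∀ q : ℕ, q.Prime → q ∣ Nat.card G → p ≤ q) (H : Subgroup G) :
    ∀ q : ℕ, q.Prime → q ∣ Nat.card H → p ≤ q := fun q hq h => hmin q hq (h.trans (card_subgroup_dvd_card H))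

theorem hmin_quotient (hmin : ∀ q : ℕ, q.Prime → q ∣ Nat.card G → p ≤ q) (N : Subgroup G) [N.Normal] :
    ∀ q : ℕ, q.Prime → q ∣ Nat.card (G ⧸ N) → p ≤ q := fun q hq h => hmin q hq (h.trans (card_quotient_dvd_card N))

theorem hasNormalPComplement_of_inf_le_frattini (P : Sylow p G)
    (h : (P : Subgroup G) ⊓ Cfsg.pResidual p G ≤ (frattini (P : Subgroup G)).map (P : Subgroup G).subtype) :
    Cfsg.HasNormalPComplement p G := by
  haveI := CfsgLib.Transfer.pResidual_normal (G := G) (p := p)
  have ht := CfsgLib.Transfer.tate P (Cfsg.pResidual p G) fun x hx => by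
    obtain ⟨f, hf, e⟩ := h ⟨x.2, mem_subgroupOf.1 hx⟩
    exact (Subtype.ext e : f = x) ▸ hf
  rw [CfsgLib.Transfer.hasNormalPComplement_iff_coprime_pResidual, CfsgLib.Transfer.pResidual_pResidual,
    Subgroup.card_top] at ht
  exact CfsgLib.Transfer.hasNormalPComplement_iff_coprime_pResidual.2 ht

theorem le_normalizer_of_strongly_closed_in_normalizer {P : Subgroup G} (hP : IsPGroup p P) {E : Subgroup G}
    (hEP : E ≤ P) (h : ∀ g : G, E.map (MulAut.conj g).toMonoidHom ⊓ normalizer (E : Set G) ≤ E) :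
    P ≤ normalizer (E : Set G) := by
  by_contra hn
  have hlt : P ⊓ normalizer (E : Set G) < P := lt_of_le_of_ne inf_le_left fun e => hn (inf_eq_left.1 e)
  obtain ⟨y, hyP, hyN, hyn⟩ := CfsgLib.Transfer.exists_mem_normalizer_not_mem hP hlt
  apply hyn
  refine mem_inf.2 ⟨hyP, mem_normalizer_iff_map_conj_eq.2 (eq_of_le_of_card_ge ?_
    (card_map_of_injective (MulEquiv.injective _)).ge)⟩
  rintro _ ⟨e, he, rfl⟩
  refine h y ⟨⟨e, he, rfl⟩, ?_⟩
  exact (mem_inf.1 ((mem_normalizer_iff.1 hyN e).1 ⟨hEP he, le_normalizer he⟩)).2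

/-- Every element of `M` lies in a closed subgroup of `M`, so `M` is closed. -/
theorem closed_of_all_small {P M : Subgroup G} (hP : IsPGroup p P) {k : ℕ} (hMP : M ≤ P)
    (hMc : p ^ k ≤ Nat.card M) (hsmall : ∀ x ∈ P, x ^ p ^ k = 1)
    (hcl : ∀ E : Subgroup G, E ≤ P → Nat.card E = p ^ k → ∀ g : G, ∀ e ∈ E, g * e * g⁻¹ ∈ P → g * e * g⁻¹ ∈ E) :
    ∀ g : G, ∀ m ∈ M, g * m * g⁻¹ ∈ P → g * m * g⁻¹ ∈ M := by
  intro g m hm hgm
  obtain ⟨E, hmE, hEM, hEc⟩ := exists_card_between (hP.to_le hMP) (zpowers_le.2 hm) (k := k)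
    (by rw [Nat.card_zpowers]; exact orderOf_le_of_pow_eq_one (pow_pos hp.out.pos k) (hsmall m (hMP hm))) hMc
  exact hEM (hcl E (hEM.trans hMP) hEc g m (hmE (mem_zpowers m)) hgm)

/-- If all maximal subgroups are closed then fusion preserves their cosets. -/
theorem fusion_mem_of_closed (hmin : ∀ q : ℕ, q.Prime → q ∣ Nat.card G → p ≤ q) (P : Sylow p G)
    {M : Subgroup (P : Subgroup G)} [M.Normal] (hM : M.index = p)
    (hcl : ∀ g : G, ∀ m ∈ M.map (P : Subgroup G).subtype, g * m * g⁻¹ ∈ (P : Subgroup G) →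
      g * m * g⁻¹ ∈ M.map (P : Subgroup G).subtype)
    {D : Subgroup G} {g : G} (h : CfsgLib.Transfer.Reach P D g) :
    ∀ d ∈ D, d ∈ (P : Subgroup G) → d⁻¹ * (g⁻¹ * d * g) ∈ M.map (P : Subgroup G).subtype := by
  set M' := M.map (P : Subgroup G).subtype
  induction h with
  | one D => intro d _ _; simp
  | cons D Q x g hT hx hD _ ih =>
    intro d hd hdP
    set R := (P : Subgroup G) ⊓ (Q : Subgroup G) with hR
    have hdR : x⁻¹ * d * x ∈ R := by
      simpa using (mem_normalizer_iff.1 (inv_mem hx) d).1 (hD hd)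
    have h1 := ih (x⁻¹ * d * x) (by rw [CfsgLib.Transfer.mem_rconj]; simpa [mul_assoc] using hd) (mem_inf.1 hdR).1
    suffices h2 : d⁻¹ * (x⁻¹ * d * x) ∈ M' by
      have h3 := mul_mem h2 h1
      convert h3 using 1
      group
    set N := normalizer (R : Set G)
    haveI hn : ((R ⊓ M').subgroupOf N).Normal := ⟨fun n hn m => by
      rw [mem_subgroupOf] at hn ⊢
      have hmR : (m : G) * n * (m : G)⁻¹ ∈ R := (mem_normalizer_iff.1 m.2 _).1 (mem_inf.1 hn).1
      exact mem_inf.2 ⟨hmR, hcl m n (mem_inf.1 hn).2 (mem_inf.1 hmR).1⟩⟩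
    let q := QuotientGroup.mk' ((R ⊓ M').subgroupOf N)
    haveI : (R.subgroupOf N).Normal := normal_in_normalizer
    haveI : ((R.subgroupOf N).map q).Normal := Subgroup.Normal.map inferInstance q (QuotientGroup.mk'_surjective _)
    have hc : Nat.card ((R.subgroupOf N).map q) ∣ p := by
      rw [← relIndex_ker, QuotientGroup.ker_mk', relIndex_subgroupOf le_normalizer, inf_relIndex_left]
      have h4 : M.relIndex (R.subgroupOf (P : Subgroup G)) = M'.relIndex R := by
        have : M'.subgroupOf (P : Subgroup G) = M := comap_map_eq_self_of_injective (Subtype.val_injective) M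
        rw [← this, relIndex_subgroupOf (inf_le_left : R ≤ _)]
      rw [← h4]
      exact (relIndex_dvd_index_of_normal M _).trans (dvd_of_eq hM)
    have h5 := commute_of_normal_card_dvd (hmin_quotient (hmin_subgroup hmin N) _) _ hc
      (q (⟨x, hx⟩⁻¹ : N)) (q ⟨d, le_normalizer (hD hd)⟩)
      (mem_map_of_mem q (mem_subgroupOf.2 (hD hd)))
    rw [← map_inv, ← map_mul, ← map_mul] at h5
    have h6 := mem_subgroupOf.1 (QuotientGroup.eq.1 h5.symm)
    have h7 := (mem_inf.1 h6).2
    simpa [mul_assoc] using h7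

/-- Case of exponent dividing `p ^ k`. -/
theorem hasNormalPComplement_of_all_small (hmin : ∀ q : ℕ, q.Prime → q ∣ Nat.card G → p ≤ q) (P : Sylow p G)
    {k : ℕ} (hk : p ^ k < Nat.card (P : Subgroup G)) (hsmall : ∀ x ∈ (P : Subgroup G), x ^ p ^ k = 1)
    (hcl : ∀ E : Subgroup G, E ≤ (P : Subgroup G) → Nat.card E = p ^ k → ∀ g : G, ∀ e ∈ E,
      g * e * g⁻¹ ∈ (P : Subgroup G) → g * e * g⁻¹ ∈ E) :
    Cfsg.HasNormalPComplement p G := by
  refine hasNormalPComplement_of_inf_le_frattini P ?_
  have hfoc : (P : Subgroup G) ⊓ Cfsg.pResidual p G ≤ (P : Subgroup G).focalSubgroup := by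
    rw [← ker_transferFocal_inf_eq_focalSubgroup P]
    exact le_inf (inf_le_right.trans (CfsgLib.Transfer.pResidual_le_ker _ (P.2.to_quotient _))) inf_le_left
  refine hfoc.trans ?_
  intro z hz
  refine ⟨⟨z, focalSubgroup_le _ hz⟩, ?_, rfl⟩
  rw [SetLike.mem_coe, frattini, Order.radical]
  simp only [mem_iInf]
  intro M hM
  obtain ⟨hMn, hMi⟩ := CfsgLib.Transfer.coatom_index_eq_prime P.2 hM
  have hMc : p ^ k ≤ Nat.card (M.map (P : Subgroup G).subtype) := by
    rw [card_map_of_injective (P : Subgroup G).subtype_injective]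
    obtain ⟨N, hN⟩ := P.2.exists_card_eq
    have h1 := M.card_mul_index
    rw [hMi, hN] at h1
    have h2 : k < N := (Nat.pow_lt_pow_iff_right hp.out.one_lt).1 (hN ▸ hk)
    have h3 : p ^ k * p ≤ Nat.card M * p := by
      rw [h1, ← pow_succ]; exact Nat.pow_le_pow_right hp.out.one_lt.le h2
    exact Nat.le_of_mul_le_mul_right h3 hp.out.pos
  have hclM := closed_of_all_small P.2 (map_subtype_le M) hMc hsmall hcl
  suffices h : (P : Subgroup G).focalSubgroup ≤ M.map (P : Subgroup G).subtype by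
    obtain ⟨m, hm, e⟩ := h hz
    have e' : m = ⟨z, focalSubgroup_le _ hz⟩ := Subtype.ext e
    exact e' ▸ hm
  rw [focalSubgroup_def, closure_le]
  rintro _ ⟨hmem, x, hx, u, rfl⟩
  have hy : u * x⁻¹ * u⁻¹ ∈ (P : Subgroup G) := by
    have := mul_mem (inv_mem hx) hmem
    simpa [commutatorElement_def, mul_assoc] using this
  have hr := CfsgLib.Transfer.reach_of_le P (zpowers x⁻¹) u⁻¹ (zpowers_le.2 (inv_mem hx)) (by
    rw [CfsgLib.Transfer.rconj, inv_inv, MonoidHom.map_zpowers, zpowers_le]; simpa using hy)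
  have h1 := fusion_mem_of_closed hmin P hMi hclM hr x⁻¹ (mem_zpowers _) (inv_mem hx)
  simpa [commutatorElement_def, mul_assoc] using h1

/-- All subgroups of order `p ^ k` closed, and all `p`-subgroups of larger order centralized by their
`p'`-normalizing elements: then there is a normal `p`-complement. -/
theorem hasNormalPComplement_of_closed : ∀ (n : ℕ) {G : Type u} [Group G] [Finite G] (k : ℕ), 1 ≤ k →
    Nat.card G = n → (∀ q : ℕ, q.Prime → q ∣ Nat.card G → p ≤ q) → ∀ P : Sylow p G,
    p ^ k < Nat.card (P : Subgroup G) →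
    (∀ E : Subgroup G, E ≤ (P : Subgroup G) → Nat.card E = p ^ k → ∀ g : G, ∀ e ∈ E,
      g * e * g⁻¹ ∈ (P : Subgroup G) → g * e * g⁻¹ ∈ E) →
    (∀ R : Subgroup G, IsPGroup p R → p ^ k < Nat.card R → ∀ y : G, (orderOf y).Coprime p →
      y ∈ normalizer (R : Set G) → y ∈ centralizer (R : Set G)) →
    Cfsg.HasNormalPComplement p G := by
  intro n
  induction n using Nat.strong_induction_on with
  | _ n ih =>
    intro G _ _ k hk hn hmin P hkP hcl hlc
    rcases hk.eq_or_lt with rfl | hk2
    · refine CfsgLib.Transfer.hasNormalPComplement_iff_frobenius.2 fun D hD y hy hyc => ?_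
      by_cases hD2 : p ^ 1 < Nat.card D
      · exact hlc D hD hD2 y hyc hy
      · haveI : IsCyclic D := by
          obtain ⟨j, hj⟩ := hD.exists_card_eq
          rw [hj, Nat.pow_lt_pow_iff_right hp.out.one_lt] at hD2
          rcases (by omega : j = 0 ∨ j = 1) with rfl | rfl
          · rw [pow_zero, Subgroup.card_eq_one] at hj; subst hj; infer_instance
          · exact isCyclic_of_prime_card (hj.trans (pow_one p))
        exact mem_centralizer_of_cyclic hmin hD hyc hy
    obtain ⟨k, rfl⟩ : ∃ j, k = j + 2 := ⟨k - 2, by omega⟩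
    by_cases hall : ∀ x ∈ (P : Subgroup G), x ^ p ^ (k + 2) = 1
    · exact hasNormalPComplement_of_all_small hmin P hkP hall hcl
    push Not at hall
    obtain ⟨x, hx, hxk⟩ := hall
    -- the element `c` of order `p ^ (k + 2)` and `z` of order `p`
    obtain ⟨j, hj⟩ := IsPGroup.iff_orderOf.1 P.2 ⟨x, hx⟩
    rw [Subgroup.orderOf_mk] at hj
    have hjk : k + 2 < j := by
      by_contra hle
      exact hxk (orderOf_dvd_iff_pow_eq_one.1 (hj ▸ pow_dvd_pow p (not_lt.1 hle)))
    set c := x ^ p ^ (j - (k + 2)) with hc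
    have hco : orderOf c = p ^ (k + 2) := by
      rw [hc, orderOf_pow_of_dvd (pow_ne_zero _ hp.out.ne_zero) (hj ▸ pow_dvd_pow p (Nat.sub_le _ _)), hj,
        Nat.pow_div (Nat.sub_le _ _) hp.out.pos]
      congr 1; omega
    have hcP : c ∈ (P : Subgroup G) := pow_mem hx _
    set z := c ^ p ^ (k + 1) with hz
    have hzo : orderOf z = p := by
      rw [hz, orderOf_pow_of_dvd (pow_ne_zero _ hp.out.ne_zero) (hco ▸ pow_dvd_pow p (by omega)), hco,
        Nat.pow_div (by omega) hp.out.pos, show k + 2 - (k + 1) = 1 by omega, pow_one]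
    set Z := zpowers z with hZ
    have hZc : Nat.card Z = p := by rw [hZ, Nat.card_zpowers, hzo]
    have hzP : z ∈ (P : Subgroup G) := pow_mem hcP _
    have hZP : Z ≤ (P : Subgroup G) := zpowers_le.2 hzP
    have hCc : Nat.card (zpowers c) = p ^ (k + 2) := by rw [Nat.card_zpowers, hco]
    have hZcl : ∀ g : G, ∀ e ∈ Z, g * e * g⁻¹ ∈ (P : Subgroup G) → g * e * g⁻¹ ∈ Z := by
      intro g e he hge
      have h1 := hcl _ (zpowers_le.2 hcP) hCc g e
        ((zpowers_le.2 (pow_mem (mem_zpowers c) _) : Z ≤ zpowers c) he) hge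
      obtain ⟨i, hi⟩ := mem_zpowers_iff.1 h1
      have hep : e ^ p = 1 := by
        obtain ⟨s, rfl⟩ := mem_zpowers_iff.1 he
        rw [← zpow_natCast, ← zpow_mul, mul_comm, zpow_mul, zpow_natCast, ← hzo, pow_orderOf_eq_one, one_zpow]
      have h2 : c ^ (i * (p : ℤ)) = 1 := by rw [zpow_mul, hi, zpow_natCast, conj_pow, hep]; group
      rw [← orderOf_dvd_iff_zpow_eq_one, hco, Nat.cast_pow, pow_succ] at h2
      obtain ⟨s, hs⟩ := Int.dvd_of_mul_dvd_mul_right (by exact_mod_cast hp.out.ne_zero) h2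
      refine mem_zpowers_iff.2 ⟨s, ?_⟩
      rw [← hi, hs, zpow_mul, hz, ← zpow_natCast c, Nat.cast_pow]
    have hPN : (P : Subgroup G) ≤ normalizer (Z : Set G) := fun g hg =>
      mem_normalizer_iff_map_conj_eq.2 (eq_of_le_of_card_ge (by
        rintro _ ⟨e, he, rfl⟩
        exact hZcl g e he (mul_mem (mul_mem hg (hZP he)) (inv_mem hg)))
        (card_map_of_injective (MulEquiv.injective _)).ge)
    have hcen : ∀ g ∈ normalizer (Z : Set G), ∀ e ∈ Z, g * e * g⁻¹ = e := by
      intro g hg e he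
      have h1 := commute_of_normal_card_dvd (hmin_subgroup hmin _) (Z.subgroupOf (normalizer (Z : Set G)))
        (by rw [Nat.card_congr (subgroupOfEquivOfLe le_normalizer).toEquiv, hZc]) ⟨g, hg⟩
        ⟨e, le_normalizer he⟩ (mem_subgroupOf.2 he)
      exact congrArg Subtype.val h1
    by_cases hN : normalizer (Z : Set G) = ⊤
    · -- `Z` is central
      haveI : Z.Normal := normalizer_eq_top_iff.1 hN
      let π := QuotientGroup.mk' Z
      have hs : Function.Surjective π := QuotientGroup.mk'_surjective Z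
      have hcardq : Nat.card (G ⧸ Z) < n := by
        rw [← hn, card_eq_card_quotient_mul_card_subgroup Z, hZc]
        exact lt_mul_of_one_lt_right Nat.card_pos hp.out.one_lt
      have hcard : ∀ E : Subgroup G, Z ≤ E → Nat.card E = Nat.card (E.map π) * p := by
        intro E hE
        rw [← relIndex_ker, QuotientGroup.ker_mk', mul_comm, ← hZc,
          ← relIndex_bot_left, ← relIndex_bot_left Z, relIndex_mul_relIndex _ _ _ bot_le hE]
      have hq := ih _ hcardq (G := G ⧸ Z) (k + 1) (by omega) rfl (hmin_quotient hmin Z) (P.mapSurjective hs)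
        ?_ ?_ ?_
      · refine hasNormalPComplement_of_inf_le_frattini P ?_
        intro w hw
        have h1 : π w = 1 := by
          rw [← mem_bot, ← (CfsgLib.Transfer.hasNormalPComplement_iff_pResidual_inf_eq_bot
            (P.mapSurjective hs)).1 hq]
          exact mem_inf.2 ⟨CfsgLib.Transfer.map_pResidual_le π (mem_map_of_mem π (mem_inf.1 hw).2),
            mem_map_of_mem π (mem_inf.1 hw).1⟩
        obtain ⟨i, hi⟩ := mem_zpowers_iff.1 ((QuotientGroup.eq_one_iff w).1 h1)
        rw [← hi]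
        refine zpow_mem ?_ i
        refine ⟨(⟨c ^ p ^ k, pow_mem hcP _⟩ : (P : Subgroup G)) ^ p, CfsgLib.Transfer.pow_mem_frattini P.2 _, ?_⟩
        show (c ^ p ^ k) ^ p = z
        rw [← pow_mul, ← pow_succ]
      · rw [Sylow.coe_mapSurjective]
        refine lt_of_mul_lt_mul_right ?_ (Nat.zero_le p)
        rw [← pow_succ, ← hcard _ hZP]
        exact hkP
      · intro E hE hEc g e he hge
        set E' := E.comap π
        have hZE : Z ≤ E' := fun w hw => by
          show π w ∈ E
          rw [show π w = 1 from (QuotientGroup.eq_one_iff w).2 hw]; exact one_mem _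
        have hE'P : E' ≤ (P : Subgroup G) := by
          refine (comap_mono hE).trans ?_
          rw [Sylow.coe_mapSurjective, comap_map_eq, QuotientGroup.ker_mk']
          exact sup_le le_rfl hZP
        have hE'c : Nat.card E' = p ^ (k + 2) := by
          rw [hcard E' hZE, map_comap_eq_self_of_surjective hs, hEc, ← pow_succ]
        obtain ⟨g, rfl⟩ := hs g
        obtain ⟨e, rfl⟩ := hs e
        rw [← map_inv, ← map_mul, ← map_mul] at hge ⊢
        rw [Sylow.coe_mapSurjective, ← mem_comap, comap_map_eq, QuotientGroup.ker_mk',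
          sup_eq_left.2 hZP] at hge
        exact hcl E' hE'P hE'c g e he hge
      · intro R hR hRc y hy hyR
        set R' := R.comap π
        have hZR : Z ≤ R' := fun w hw => by
          show π w ∈ R
          rw [show π w = 1 from (QuotientGroup.eq_one_iff w).2 hw]; exact one_mem _
        have hR'c : Nat.card R' = Nat.card R * p := by rw [hcard R' hZR, map_comap_eq_self_of_surjective hs]
        have hR' : IsPGroup p R' := by
          obtain ⟨i, hi⟩ := hR.exists_card_eq
          exact IsPGroup.of_card (n := i + 1) (by rw [hR'c, hi, pow_succ])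
        obtain ⟨y₀, rfl⟩ := hs y
        obtain ⟨a, m, hm, ham⟩ := Nat.exists_eq_pow_mul_and_not_dvd (orderOf_pos y₀).ne' p hp.out.ne_one
        have hyo : (orderOf (y₀ ^ p ^ a)).Coprime p := by
          rw [orderOf_pow_of_dvd (pow_ne_zero _ hp.out.ne_zero) (ham ▸ Dvd.intro m rfl), ham,
            Nat.mul_div_cancel_left _ (pow_pos hp.out.pos a)]
          exact ((Nat.Prime.coprime_iff_not_dvd hp.out).2 hm).symm
        have hyN : y₀ ^ p ^ a ∈ normalizer (R' : Set G) := by
          refine mem_normalizer_iff.2 fun w => ?_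
          simp only [R', mem_comap, map_mul, map_inv, map_pow]
          exact mem_normalizer_iff.1 (pow_mem hyR _) _
        have h1 := hlc R' hR' (by rw [hR'c, pow_succ]; exact Nat.mul_lt_mul_of_pos_right hRc hp.out.pos) _ hyo hyN
        obtain ⟨s, hs'⟩ := exists_pow_eq_self_of_coprime (x := π y₀) (n := p ^ a) ((hy.pow_right a).symm)
        rw [← hs', mem_centralizer_iff]
        intro w hw
        obtain ⟨w, rfl⟩ := hs w
        have h2 := mem_centralizer_iff.1 (pow_mem h1 s) w hw
        rw [← map_pow, ← map_pow, ← map_mul, ← map_mul, h2]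
    · -- Grün
      set V := normalizer (Z : Set G)
      have hVn : Nat.card V < n := hn ▸ lt_of_le_of_ne (card_le_card_group V)
        (fun e => hN (eq_top_of_card_eq V e))
      have hV := ih _ hVn (G := V) (k + 2) (by omega) rfl (hmin_subgroup hmin V) (P.subtype hPN)
        (by rw [Sylow.coe_subtype, Nat.card_congr (subgroupOfEquivOfLe hPN).toEquiv]; exact hkP) ?_ ?_
      · refine (CfsgLib.Transfer.hasNormalPComplement_iff_pResidual_inf_eq_bot P).2 ?_
        have hZcent : Z ≤ centralizer ((P : Subgroup G) : Set G) := fun e he => mem_centralizer_iff.2 fun g hg =>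
          mul_inv_eq_iff_eq_mul.1 (hcen g (hPN hg) e he)
        have hW : Cfsg.IsWeaklyClosed Z (P : Subgroup G) := ⟨hZP, fun g hg => eq_of_le_of_card_ge (by
          rintro _ ⟨e, he, rfl⟩
          exact hZcl g e he (hg (mem_map_of_mem _ he))) (card_map_of_injective (MulEquiv.injective _)).ge⟩
        rw [inf_comm, CfsgLib.Transfer.inf_pResidual_eq_of_controls P hPN
          (CfsgLib.Transfer.weaklyClosed_controls P hZcent hW), eq_bot_iff]
        rintro w ⟨hwP, v, hv, rfl⟩
        have h1 : v ∈ Cfsg.pResidual p V ⊓ (P.subtype hPN : Subgroup V) := ⟨hv, mem_subgroupOf.2 hwP⟩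
        rw [(CfsgLib.Transfer.hasNormalPComplement_iff_pResidual_inf_eq_bot _).1 hV, mem_bot] at h1
        rw [mem_bot, h1]; rfl
      · intro E hE hEc g e he hge
        have h1 := hcl (E.map V.subtype) ((map_mono hE).trans (by rw [Sylow.coe_subtype]; exact map_subgroupOf_eq_of_le hPN |>.le))
          (by rw [card_map_of_injective V.subtype_injective, hEc]) (g : G) e (mem_map_of_mem _ he)
          (by rw [Sylow.coe_subtype, mem_subgroupOf] at hge; simpa using hge)
        obtain ⟨w, hw, e'⟩ := h1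
        exact (Subtype.ext e' : w = g * e * g⁻¹) ▸ hw
      · intro R hR hRc y hy hyR
        have h1 := hlc (R.map V.subtype) (hR.map _) (by rw [card_map_of_injective V.subtype_injective]; exact hRc)
          (y : G) (by rw [Subgroup.orderOf_coe]; exact hy) (le_normalizer_map _ (mem_map_of_mem V.subtype hyR))
        exact mem_centralizer_iff.2 fun w hw => Subtype.ext (mem_centralizer_iff.1 h1 w (mem_map_of_mem _ hw))


theorem conj_conj_mem_iff {g : G} {R : Subgroup G} {x : G} :
    g * x * g⁻¹ ∈ R.map (MulAut.conj g).toMonoidHom ↔ x ∈ R :=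
  mem_map_iff_mem (f := (MulAut.conj g).toMonoidHom) (MulAut.conj g).injective

/-- `P` cyclic, or all its subgroups of one order (and of order 4) are strongly closed in their
normalizers: then, `p` being smallest, there is a normal `p`-complement. -/
theorem hasNormalPComplement_of_strongly_closed_in_normalizer {G : Type u} [Group G] [Finite G]
    (hmin : ∀ q : ℕ, q.Prime → q ∣ Nat.card G → p ≤ q) (P : Sylow p G)
    (h : IsCyclic ↥(P : Subgroup G) ∨ ∃ D : Subgroup G, D ≤ (P : Subgroup G) ∧ 1 < Nat.card D ∧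
      Nat.card D < Nat.card (P : Subgroup G) ∧
      ∀ E : Subgroup G, E ≤ (P : Subgroup G) → (Nat.card E = Nat.card D ∨ (Nat.card D = 2 ∧ Nat.card E = 4)) →
        ∀ g : G, E.map (MulAut.conj g).toMonoidHom ⊓ normalizer (E : Set G) ≤ E) :
    Cfsg.HasNormalPComplement p G := by
  have conj_le : ∀ R : Subgroup G, IsPGroup p R → ∃ g : G, R.map (MulAut.conj g).toMonoidHom ≤ (P : Subgroup G) := by
    intro R hR
    obtain ⟨S, hS⟩ := hR.exists_le_sylow
    obtain ⟨g, hg⟩ := MulAction.exists_smul_eq G S P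
    refine ⟨g, (map_mono hS).trans ?_⟩
    rw [← hg, Sylow.coe_subgroup_smul]
    exact le_of_eq rfl
  rcases h with hcyc | ⟨D, hDP, hD1, hDlt, hE⟩
  · refine CfsgLib.Transfer.hasNormalPComplement_iff_frobenius.2 fun R hR y hy hyc => ?_
    obtain ⟨g, hg⟩ := conj_le R hR
    haveI : IsCyclic (R.map (MulAut.conj g).toMonoidHom) :=
      isCyclic_of_injective (inclusion hg) (inclusion_injective hg)
    haveI : IsCyclic R :=
      (R.equivMapOfInjective (MulAut.conj g).toMonoidHom (MulAut.conj g).injective).isCyclic.2 inferInstance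
    exact mem_centralizer_of_cyclic hmin hR hyc hy
  obtain ⟨k, hk⟩ := (P.2.to_le hDP).exists_card_eq
  rw [hk] at hD1 hDlt
  have hk1 : 1 ≤ k := by
    rcases Nat.eq_zero_or_pos k with rfl | h
    · simp at hD1
    · exact h
  have hcl : ∀ E : Subgroup G, E ≤ (P : Subgroup G) → (Nat.card E = p ^ k ∨ (p ^ k = 2 ∧ Nat.card E = 4)) →
      ∀ g : G, ∀ e ∈ E, g * e * g⁻¹ ∈ (P : Subgroup G) → g * e * g⁻¹ ∈ E := by
    intro E hEP hEc g e he hge
    have hE' := hE E hEP (hk ▸ hEc)
    exact hE' g (mem_inf.2 ⟨mem_map_of_mem _ he,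
      le_normalizer_of_strongly_closed_in_normalizer P.2 hEP hE' hge⟩)
  refine hasNormalPComplement_of_closed _ k hk1 rfl hmin P hDlt (fun E hEP hEc => hcl E hEP (Or.inl hEc)) ?_
  intro R hR hRc y hyc hyR
  obtain ⟨g, hg⟩ := conj_le R hR
  set R' := R.map (MulAut.conj g).toMonoidHom with hR'
  have hy'c : (orderOf (g * y * g⁻¹)).Coprime p := by
    rw [show g * y * g⁻¹ = MulAut.conj g y from rfl, MulEquiv.orderOf_eq]; exact hyc
  have hy'R : g * y * g⁻¹ ∈ normalizer (R' : Set G) :=
    le_normalizer_map (f := (MulAut.conj g).toMonoidHom) (mem_map_of_mem _ hyR)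
  have h1 := centralizes_of_invariant_subgroups (T := zpowers (g * y * g⁻¹)) P.2 hk1 ⟨_, mem_zpowers _⟩ hy'c
    (hom_units_eq_one hmin ⟨_, mem_zpowers _⟩ hy'c) ?_ R' hg (zpowers_le.2 hy'R)
    (by rw [hR', card_map_of_injective (MulAut.conj g).injective]; exact hRc)
  · refine mem_centralizer_iff.2 fun x hx => ?_
    have h2 := h1 (g * x * g⁻¹) (conj_conj_mem_iff.2 hx)
    simp only at h2
    have h3 : g * (y * x * y⁻¹) * g⁻¹ = g * x * g⁻¹ := by rw [← h2]; group
    exact (mul_inv_eq_iff_eq_mul.1 (mul_left_cancel (mul_right_cancel h3))).symm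
  · intro W hWP hTW E hEW hEc t ht
    refine mem_normalizer_iff_map_conj_eq.2 (eq_of_le_of_card_ge ?_
      (card_map_of_injective (MulEquiv.injective _)).ge)
    rintro _ ⟨e, he, rfl⟩
    exact hcl E (hEW.trans hWP) hEc t e he (hWP ((mem_normalizer_iff.1 (hTW ht) e).1 (hEW he)))

end CfsgLib.Amalgam
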