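import Mathlib.GroupTheory.Sylow
import Mathlib.GroupTheory.Index
import Mathlib.Tactic

/-!
A trivial intersection subgroup whose normaliser is the product with the centraliser of an
inverting involution, in a group with many involutions: the double coset decomposition.
-/

set_option autoImplicit false
set_option linter.unusedSectionVars false
set_option linter.style.haveILetI false

namespace CfsgLib.Amalgam.TIInverted

open Subgroup

variable {G : Type*} [Group G] [Finite G] {M : Subgroup G} {z : G}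

/-- The hypotheses. -/
structure Data (M : Subgroup G) (z : G) : Prop where
  ne_bot : M ≠ ⊥
  ti : ∀ g : G, M ⊓ M.map (MulAut.conj g).toMonoidHom ≠ ⊥ → M.map (MulAut.conj g).toMonoidHom = M
  invol : orderOf z = 2
  mem_normalizer : z ∈ normalizer (M : Set G)
  fac : M ⊔ (normalizer (M : Set G) ⊓ centralizer ({z} : Set G)) = normalizer (M : Set G)
  odd : ∀ x ∈ M, x ≠ 1 → Odd (Nat.card ↥(centralizer ({x} : Set G)))
  many : M.index < Nat.card {g : G // orderOf g = 2}

namespace Data

variable (D : Data M z)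
include D

theorem zz : z * z = 1 := by rw [← pow_two, ← D.invol, pow_orderOf_eq_one]

theorem z_inv : z⁻¹ = z := inv_eq_of_mul_eq_one_right D.zz

theorem z_ne : z ≠ 1 := fun e => by
  have h := D.invol; rw [e, orderOf_one] at h; exact absurd h (by norm_num)

theorem no_commute {t x : G} (ht : orderOf t = 2) (hx : x ∈ M) (hx1 : x ≠ 1) (hc : t * x = x * t) :
    False := by
  have h := Subgroup.orderOf_dvd_natCard (centralizer ({x} : Set G))
    (mem_centralizer_singleton_iff.2 hc)
  rw [ht] at h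
  exact Nat.not_even_iff_odd.2 (D.odd x hx hx1) (even_iff_two_dvd.2 h)

theorem odd_M : Odd (Nat.card M) := by
  haveI : Fact (Nat.Prime 2) := ⟨Nat.prime_two⟩
  rw [← Nat.not_even_iff_odd, even_iff_two_dvd]
  intro h
  obtain ⟨t, ht⟩ := exists_prime_orderOf_dvd_card' 2 h
  rw [← Subgroup.orderOf_coe] at ht
  exact D.no_commute ht t.2 (fun e => by rw [e, orderOf_one] at ht; exact absurd ht (by norm_num)) rfl

theorem two_lt_card : 2 < Nat.card M := by
  have h1 : 1 < Nat.card M := M.one_lt_card_iff_ne_bot.2 D.ne_bot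
  obtain ⟨j, hj⟩ := D.odd_M
  omega

theorem inverts {x : G} (hx : x ∈ M) : z * x * z = x⁻¹ := by
  have hn : ∀ x ∈ M, z * x * z ∈ M := fun x hx => by
    have := (mem_normalizer_iff.1 D.mem_normalizer x).1 hx
    rwa [D.z_inv] at this
  have h3 : ∀ w : G, z * (z * w) = w := fun w => by rw [← mul_assoc, D.zz, one_mul]
  let f : M → M := fun x => ⟨(x : G)⁻¹ * (z * x * z), M.mul_mem (M.inv_mem x.2) (hn x x.2)⟩
  have hinj : Function.Injective f := by
    rintro ⟨a, ha⟩ ⟨b, hb⟩ e
    have e' : a⁻¹ * (z * a * z) = b⁻¹ * (z * b * z) := congrArg Subtype.val e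
    by_contra hne
    have hd : b * a⁻¹ ≠ 1 := fun h => hne (Subtype.ext (mul_inv_eq_one.1 h).symm)
    refine D.no_commute D.invol (mul_mem hb (inv_mem ha)) hd ?_
    have h1 : z * b * z = b * a⁻¹ * (z * a * z) := by rw [mul_assoc b, e', mul_inv_cancel_left]
    calc z * (b * a⁻¹) = z * b * z * (z * a * z)⁻¹ * z := by
          simp only [mul_inv_rev, D.z_inv, mul_assoc, h3, D.zz, mul_one]
      _ = b * a⁻¹ * z := by rw [h1, mul_inv_cancel_right]
  obtain ⟨y, hy⟩ := (Finite.injective_iff_surjective.1 hinj) ⟨x, hx⟩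
  have hy' : (y : G)⁻¹ * (z * y * z) = x := congrArg Subtype.val hy
  rw [← hy']
  simp only [mul_inv_rev, inv_inv, D.z_inv, mul_assoc, D.zz, mul_one]

theorem inverts' {x : G} (hx : x ∈ M) : z * x = x⁻¹ * z := by
  rw [← D.inverts hx, mul_assoc, D.zz, mul_one]

theorem commM {x y : G} (hx : x ∈ M) (hy : y ∈ M) : x * y = y * x := by
  have h := D.inverts (mul_mem hx hy)
  have h2 : z * (x * y) * z = (z * x * z) * (z * y * z) := by
    have h3 : ∀ w : G, z * (z * w) = w := fun w => by rw [← mul_assoc, D.zz, one_mul]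
    simp only [mul_assoc, h3]
  rw [h2, D.inverts hx, D.inverts hy, ← mul_inv_rev, inv_inj] at h
  exact h.symm

theorem isMulCommutative : IsMulCommutative M :=
  ⟨⟨fun a b => Subtype.ext (D.commM a.2 b.2)⟩⟩

theorem eq_one_of_sq {x : G} (hx : x ∈ M) (h : x * x = 1) : x = 1 := by
  have h2 : orderOf (⟨x, hx⟩ : M) ∣ 2 :=
    orderOf_dvd_of_pow_eq_one (Subtype.ext (by simpa [pow_two] using h))
  exact congrArg Subtype.val (orderOf_eq_one_iff.1
    (Nat.eq_one_of_dvd_coprimes D.odd_M.coprime_two_left h2 (orderOf_dvd_natCard _)))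

theorem exists_sqrt {x : G} (hx : x ∈ M) : ∃ y ∈ M, y * y = x := by
  let f : M → M := fun y => ⟨(y : G) * y, mul_mem y.2 y.2⟩
  have hinj : Function.Injective f := by
    rintro ⟨a, ha⟩ ⟨b, hb⟩ e
    have e' : a * a = b * b := congrArg Subtype.val e
    have h : (a * b⁻¹) * (a * b⁻¹) = 1 := by
      have hc : b⁻¹ * a = a * b⁻¹ := D.commM (inv_mem hb) ha
      calc (a * b⁻¹) * (a * b⁻¹) = a * (b⁻¹ * a) * b⁻¹ := by group
        _ = a * a * (b * b)⁻¹ := by rw [hc]; group
        _ = 1 := by rw [e', mul_inv_cancel]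
    exact Subtype.ext (mul_inv_eq_one.1 (D.eq_one_of_sq (mul_mem ha (inv_mem hb)) h))
  obtain ⟨y, hy⟩ := (Finite.injective_iff_surjective.1 hinj) ⟨x, hx⟩
  exact ⟨y, y.2, congrArg Subtype.val hy⟩

theorem z_memC : z ∈ normalizer (M : Set G) ⊓ centralizer ({z} : Set G) :=
  Subgroup.mem_inf.2 ⟨D.mem_normalizer, mem_centralizer_singleton_iff.2 rfl⟩

theorem conj_mem {n x : G} (hn : n ∈ normalizer (M : Set G)) (hx : x ∈ M) : n * x * n⁻¹ ∈ M :=
  (mem_normalizer_iff.1 hn x).1 hx

theorem decomp {n : G} (hn : n ∈ normalizer (M : Set G)) :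
    ∃ x ∈ M, ∃ c ∈ normalizer (M : Set G) ⊓ centralizer ({z} : Set G), n = x * c := by
  rw [← D.fac] at hn
  have h : n ∈ (((M ⊔ (normalizer (M : Set G) ⊓ centralizer ({z} : Set G))) : Subgroup G) : Set G) := hn
  rw [Subgroup.coe_mul_of_right_le_normalizer_left M _ inf_le_left] at h
  obtain ⟨x, hx, c, hc, rfl⟩ := h
  exact ⟨x, hx, c, hc, rfl⟩

theorem inf_eq_one {x : G} (hx : x ∈ M) (hc : x ∈ centralizer ({z} : Set G)) : x = 1 := by
  by_contra h
  exact D.no_commute D.invol hx h (mem_centralizer_singleton_iff.1 hc).symm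

theorem eq_one_or_z {c : G} (hc : c ∈ normalizer (M : Set G) ⊓ centralizer ({z} : Set G))
    (h : c * c = 1) : c = 1 ∨ c = z := by
  by_contra hne
  push Not at hne
  obtain ⟨x, hx, hx1⟩ := (Subgroup.bot_or_exists_ne_one M).resolve_left D.ne_bot
  have hci : c⁻¹ = c := inv_eq_of_mul_eq_one_right h
  have hc2 : orderOf c = 2 := orderOf_eq_prime (by rw [pow_two, h]) hne.1
  -- `c` inverts `M` as well
  have hcx : c * x * c = x⁻¹ := by
    have h3 : ∀ w : G, c * (c * w) = w := fun w => by rw [← mul_assoc, h, one_mul]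
    let f : M → M := fun y => ⟨(y : G)⁻¹ * (c * y * c), M.mul_mem (M.inv_mem y.2) (by
      have := D.conj_mem hc.1 y.2; rwa [hci] at this)⟩
    have hinj : Function.Injective f := by
      rintro ⟨a, ha⟩ ⟨b, hb⟩ e
      have e' : a⁻¹ * (c * a * c) = b⁻¹ * (c * b * c) := congrArg Subtype.val e
      by_contra hne'
      have hd : b * a⁻¹ ≠ 1 := fun h => hne' (Subtype.ext (mul_inv_eq_one.1 h).symm)
      refine D.no_commute hc2 (mul_mem hb (inv_mem ha)) hd ?_
      have h1 : c * b * c = b * a⁻¹ * (c * a * c) := by rw [mul_assoc b, e', mul_inv_cancel_left]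
      calc c * (b * a⁻¹) = c * b * c * (c * a * c)⁻¹ * c := by
            simp only [mul_inv_rev, hci, mul_assoc, h3, h, mul_one]
        _ = b * a⁻¹ * c := by rw [h1, mul_inv_cancel_right]
    obtain ⟨y, hy⟩ := (Finite.injective_iff_surjective.1 hinj) ⟨x, hx⟩
    have hy' : (y : G)⁻¹ * (c * y * c) = x := congrArg Subtype.val hy
    rw [← hy']
    simp only [mul_inv_rev, inv_inv, hci, mul_assoc, h, mul_one]
  have hcz : c * z = z * c := mem_centralizer_singleton_iff.1 hc.2
  refine D.no_commute (t := c * z) ?_ hx hx1 ?_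
  · refine orderOf_eq_prime ?_ ?_
    · rw [pow_two, show c * z * (c * z) = c * (z * c) * z by simp only [mul_assoc], ← hcz,
        show c * (c * z) * z = (c * c) * (z * z) by simp only [mul_assoc], h, D.zz, mul_one]
    · intro e
      exact hne.2 (by rw [eq_inv_of_mul_eq_one_left e, D.z_inv])
  · have hcx' : c * x⁻¹ = x * c := by
      rw [← hcx]; simp only [← mul_assoc, h, one_mul]
    rw [mul_assoc, D.inverts' hx, ← mul_assoc, hcx', mul_assoc]

theorem mem_M_of_inverted {n : G} (hn : n ∈ normalizer (M : Set G)) (hi : z * n * z = n⁻¹) :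
    n ∈ M ∨ ∃ y ∈ M, n = y * z := by
  obtain ⟨x, hx, c, hc, rfl⟩ := D.decomp hn
  have hcz : c * z = z * c := mem_centralizer_singleton_iff.1 hc.2
  have h1 : z * (x * c) * z = x⁻¹ * c := by
    calc z * (x * c) * z = (z * x) * (c * z) := by simp only [mul_assoc]
      _ = x⁻¹ * (z * z) * c := by rw [D.inverts' hx, hcz]; simp only [mul_assoc]
      _ = x⁻¹ * c := by rw [D.zz, mul_one]
  rw [h1] at hi
  have h2 : c * c = x * (c⁻¹ * x⁻¹ * c)⁻¹⁻¹ := by
    calc c * c = x * (x⁻¹ * c) * c := by rw [mul_inv_cancel_left]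
      _ = x * (x * c)⁻¹ * c := by rw [hi]
      _ = x * (c⁻¹ * x⁻¹ * c)⁻¹⁻¹ := by group
  have hM' : c * c ∈ M := by
    rw [h2, inv_inv]
    refine mul_mem hx ?_
    simpa using D.conj_mem (inv_mem hc.1) (inv_mem hx)
  rcases D.eq_one_or_z hc (D.inf_eq_one hM' (mul_mem hc.2 hc.2)) with rfl | rfl
  · exact Or.inl (by simpa using hx)
  · exact Or.inr ⟨x, hx, rfl⟩

theorem involution_normalizer {t : G} (ht : orderOf t = 2) (hn : t ∈ normalizer (M : Set G)) :
    ∃ y ∈ M, t = y * z := by
  obtain ⟨x, hx, c, hc, rfl⟩ := D.decomp hn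
  have h : x * c * (x * c) = 1 := by rw [← pow_two, ← ht, pow_orderOf_eq_one]
  have hM' : c * c ∈ M := by
    have e : c * c = (c * x * c⁻¹)⁻¹ * x⁻¹ * (x * c * (x * c)) := by group
    rw [e, h, mul_one]
    exact mul_mem (inv_mem (D.conj_mem hc.1 hx)) (inv_mem hx)
  rcases D.eq_one_or_z hc (D.inf_eq_one hM' (mul_mem hc.2 hc.2)) with rfl | rfl
  · exfalso
    rw [mul_one] at ht
    exact D.no_commute ht hx (fun e => by rw [e, orderOf_one] at ht; exact absurd ht (by norm_num)) rfl
  · exact ⟨x, hx, rfl⟩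

theorem mem_normalizer_of_conj {g x : G} (hx : x ∈ M) (hx1 : x ≠ 1) (h : g * x * g⁻¹ ∈ M) :
    g ∈ normalizer (M : Set G) := by
  have hne : M ⊓ M.map (MulAut.conj g).toMonoidHom ≠ ⊥ := fun e => by
    have hmem : g * x * g⁻¹ ∈ M ⊓ M.map (MulAut.conj g).toMonoidHom :=
      Subgroup.mem_inf.2 ⟨h, x, hx, rfl⟩
    rw [e, mem_bot, conj_eq_one_iff] at hmem
    exact hx1 hmem
  have e := D.ti g hne
  refine mem_normalizer_iff.2 fun y => ⟨fun hy => e.le ⟨y, hy, rfl⟩, fun hy => ?_⟩
  obtain ⟨w, hw, hwe⟩ := e.ge hy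
  have : w = y := by simpa using hwe
  rwa [← this]

/-- A coset outside the normaliser contains at most one involution. -/
theorem coset_unique {i x : G} (hi : i ∉ normalizer (M : Set G)) (hii : i * i = 1) (hx : x ∈ M)
    (h : i * x * (i * x) = 1) : x = 1 := by
  by_contra hx1
  refine hi (D.mem_normalizer_of_conj hx hx1 ?_)
  have : i * x * i⁻¹ = x⁻¹ := by
    rw [inv_eq_of_mul_eq_one_right hii, eq_inv_iff_mul_eq_one]
    simpa [mul_assoc] using h
  rw [this]; exact inv_mem hx

/-- Every coset outside the normaliser contains an involution. -/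
theorem exists_invol {g : G} (hg : g ∉ normalizer (M : Set G)) :
    ∃ x ∈ M, g * x * (g * x) = 1 := by
  classical
  haveI := Fintype.ofFinite G
  haveI := Fintype.ofFinite (G ⧸ M)
  by_contra hno
  push Not at hno
  set N := normalizer (M : Set G) with hN
  have hnot : ∀ y ∈ M, g * y ∉ N := fun y hy h => hg (by
    have := mul_mem h (inv_mem (Subgroup.le_normalizer hy)); rwa [mul_inv_cancel_right] at this)
  let S : Finset G := Finset.univ.filter fun t => orderOf t = 2
  have hS : Nat.card {t : G // orderOf t = 2} = S.card := by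
    rw [Nat.card_eq_fintype_card, Fintype.card_subtype]
  let π : G → G ⧸ M := fun t => (t : G ⧸ M)
  let Sout := S.filter fun t => t ∉ N
  let Sin := S.filter fun t => t ∈ N
  have hsplit : S.card = Sin.card + Sout.card :=
    (Finset.card_filter_add_card_filter_not (s := S) (fun t => t ∈ N)).symm
  have hin : Sin.card ≤ Nat.card M := by
    rw [Nat.card_eq_fintype_card, ← Finset.card_univ]
    refine (Finset.card_le_card (t := (Finset.univ : Finset M).image fun y : M => (y : G) * z) ?_).trans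
      Finset.card_image_le
    intro t ht
    simp only [Sin, S, Finset.mem_filter, Finset.mem_univ, true_and] at ht
    obtain ⟨y, hy, rfl⟩ := D.involution_normalizer ht.1 ht.2
    exact Finset.mem_image.2 ⟨⟨y, hy⟩, Finset.mem_univ _, rfl⟩
  let X : Finset (G ⧸ M) := (Finset.univ : Finset M).image fun y : M => π ((y : G) * g)
  have hX : X.card = Nat.card M := by
    rw [Finset.card_image_of_injective, Finset.card_univ, Nat.card_eq_fintype_card]
    intro a b hab
    have h1 : ((a : G) * g)⁻¹ * (b * g) ∈ M := QuotientGroup.eq.1 hab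
    by_contra hne
    have hd : (a : G)⁻¹ * b ≠ 1 := fun e => hne (Subtype.ext (inv_mul_eq_one.1 e))
    refine hg ?_
    have h2 := D.mem_normalizer_of_conj (g := g⁻¹) (mul_mem (inv_mem a.2) b.2) hd
      (by simpa [mul_assoc] using h1)
    simpa using inv_mem h2
  have hout : Sout.card + X.card + 1 ≤ Fintype.card (G ⧸ M) := by
    have h1 : (Sout.image π).card = Sout.card := by
      refine Finset.card_image_of_injOn fun a ha b hb hab => ?_
      simp only [Sout, S, Finset.coe_filter, Finset.mem_filter, Finset.mem_univ, true_and,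
        Set.mem_ofPred_eq] at ha hb
      have haa : a * a = 1 := by rw [← pow_two, ← ha.1, pow_orderOf_eq_one]
      have hbb : b * b = 1 := by rw [← pow_two, ← hb.1, pow_orderOf_eq_one]
      have hx : a⁻¹ * b ∈ M := QuotientGroup.eq.1 hab
      exact (inv_mul_eq_one.1 (D.coset_unique ha.2 haa hx (by rw [mul_inv_cancel_left, hbb])))
    have hdisj : Disjoint (Sout.image π) X := by
      rw [Finset.disjoint_left]
      intro q hq hq'
      obtain ⟨t, ht, rfl⟩ := Finset.mem_image.1 hq
      obtain ⟨y, -, hy⟩ := Finset.mem_image.1 hq'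
      simp only [Sout, S, Finset.mem_filter, Finset.mem_univ, true_and] at ht
      have h2 : ((y : G) * g)⁻¹ * t ∈ M := QuotientGroup.eq.1 hy
      -- conjugating by `y` gives an involution in the coset of `g`
      have htt : t * t = 1 := by rw [← pow_two, ← ht.1, pow_orderOf_eq_one]
      have hmem : g⁻¹ * ((y : G)⁻¹ * t * y) ∈ M := by
        have : g⁻¹ * ((y : G)⁻¹ * t * y) = ((y : G) * g)⁻¹ * t * y := by group
        rw [this]; exact mul_mem h2 y.2
      refine hno _ hmem ?_
      rw [mul_inv_cancel_left]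
      calc (y : G)⁻¹ * t * y * ((y : G)⁻¹ * t * y) = (y : G)⁻¹ * (t * t) * y := by group
        _ = 1 := by rw [htt]; group
    have h0 : π 1 ∉ Sout.image π ∪ X := by
      rw [Finset.mem_union]
      rintro (h | h)
      · obtain ⟨t, ht, hte⟩ := Finset.mem_image.1 h
        simp only [Sout, S, Finset.mem_filter, Finset.mem_univ, true_and] at ht
        refine ht.2 (Subgroup.le_normalizer ?_)
        simpa using QuotientGroup.eq.1 hte.symm
      · obtain ⟨y, -, hy⟩ := Finset.mem_image.1 h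
        have h2 : (y : G) * g ∈ M := by simpa using QuotientGroup.eq.1 hy.symm
        refine hg ?_
        have := mul_mem (inv_mem (Subgroup.le_normalizer y.2)) (Subgroup.le_normalizer h2)
        simpa using this
    have h3 := Finset.card_le_univ (insert (π 1) (Sout.image π ∪ X))
    rw [Finset.card_insert_of_notMem h0, Finset.card_union_of_disjoint hdisj, h1] at h3
    omega
  have hmany := D.many
  rw [hS, hsplit, Subgroup.index, Nat.card_eq_fintype_card (α := G ⧸ M)] at hmany
  omega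

theorem involution_outside {h : G} (hC : h ∈ centralizer ({z} : Set G))
    (hN : h ∉ normalizer (M : Set G)) : h * h = 1 := by
  obtain ⟨x, hx, he⟩ := D.exists_invol hN
  suffices x = 1 by rw [this, mul_one] at he; exact he
  by_contra hx1
  have hzh : h * z = z * h := mem_centralizer_singleton_iff.1 hC
  have he2 : h * x⁻¹ * (h * x⁻¹) = 1 := by
    have h3 : ∀ w : G, z * (z * w) = w := fun w => by rw [← mul_assoc, D.zz, one_mul]
    have hc : z * h * z = h := by rw [← hzh, mul_assoc, D.zz, mul_one]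
    calc h * x⁻¹ * (h * x⁻¹) = (z * h * z) * (z * x * z) * ((z * h * z) * (z * x * z)) := by
          rw [hc, D.inverts hx]
      _ = z * (h * x * (h * x)) * z := by simp only [mul_assoc, h3]
      _ = 1 := by rw [he, mul_one, D.zz]
  have hx2 : x * x ≠ 1 := fun e => hx1 (D.eq_one_of_sq hx e)
  refine hN (D.mem_normalizer_of_conj (mul_mem hx hx) hx2 ?_)
  have e1 : h * x * h⁻¹ = x⁻¹ * (h⁻¹ * h⁻¹) := by
    have a1 : h * x = (h * x)⁻¹ := eq_inv_of_mul_eq_one_left he
    calc h * x * h⁻¹ = (h * x)⁻¹ * h⁻¹ := by rw [← a1]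
      _ = x⁻¹ * (h⁻¹ * h⁻¹) := by group
  have e2 : h * x⁻¹ * h⁻¹ = x * (h⁻¹ * h⁻¹) := by
    have a1 : h * x⁻¹ = (h * x⁻¹)⁻¹ := eq_inv_of_mul_eq_one_left he2
    calc h * x⁻¹ * h⁻¹ = (h * x⁻¹)⁻¹ * h⁻¹ := by rw [← a1]
      _ = x * (h⁻¹ * h⁻¹) := by group
  have e3 : h * x * h⁻¹ = h * h * x⁻¹ := by
    calc h * x * h⁻¹ = (h * x⁻¹ * h⁻¹)⁻¹ := by group
      _ = h * h * x⁻¹ := by rw [e2]; simp only [mul_inv_rev, inv_inv, mul_assoc]
  have : h * (x * x) * h⁻¹ = x⁻¹ * x⁻¹ := by
    calc h * (x * x) * h⁻¹ = (h * x * h⁻¹) * (h * x * h⁻¹) := by group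
      _ = x⁻¹ * (h⁻¹ * h⁻¹) * (h * h * x⁻¹) := by nth_rw 1 [e1]; rw [e3]
      _ = x⁻¹ * x⁻¹ := by group
  rw [this]
  exact mul_mem (inv_mem hx) (inv_mem hx)

theorem inverts_C {h c : G} (hC : h ∈ centralizer ({z} : Set G)) (hN : h ∉ normalizer (M : Set G))
    (hc : c ∈ normalizer (M : Set G) ⊓ centralizer ({z} : Set G)) : h * c * h = c⁻¹ := by
  have h' : h * c ∉ normalizer (M : Set G) := fun e => hN (by
    have := mul_mem e (inv_mem hc.1); rwa [mul_inv_cancel_right] at this)
  have := D.involution_outside (mul_mem hC hc.2) h'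
  rw [eq_inv_iff_mul_eq_one]
  simpa [mul_assoc] using this

/-- Every element outside the normaliser is `x h y` with `x, y ∈ M` and `h` commuting with `z`. -/
theorem exists_bruhat {g : G} (hg : g ∉ normalizer (M : Set G)) :
    ∃ x ∈ M, ∃ h ∈ centralizer ({z} : Set G), h ∉ normalizer (M : Set G) ∧ ∃ y ∈ M, g = x * h * y := by
  obtain ⟨x₀, hx₀, he⟩ := D.exists_invol hg
  set i := g * x₀ with hi
  have hiN : i ∉ normalizer (M : Set G) := fun e => hg (by
    have := mul_mem e (inv_mem (Subgroup.le_normalizer hx₀)); rwa [hi, mul_inv_cancel_right] at this)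
  have hii : i⁻¹ = i := inv_eq_of_mul_eq_one_right he
  -- an involution of `N ∩ N^i`
  have hzi : z * i ∉ normalizer (M : Set G) := fun e => hiN (by
    have := mul_mem (inv_mem D.mem_normalizer) e; rwa [inv_mul_cancel_left] at this)
  obtain ⟨x₁, hx₁, he₁⟩ := D.exists_invol (g := i * z) (fun e => hiN (by
    have := mul_mem e (inv_mem D.mem_normalizer); rwa [mul_inv_cancel_right] at this))
  set u := z * x₁ with hu
  have hu2 : u * u = 1 := by
    rw [hu, D.inverts' hx₁, show x₁⁻¹ * z * (x₁⁻¹ * z) = x₁⁻¹ * (z * x₁⁻¹) * z by group,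
      D.inverts' (inv_mem hx₁), inv_inv, show x₁⁻¹ * (x₁ * z) * z = z * z by group, D.zz]
  have hiu : i * u * i = u := by
    have h1 : i * u * i * u = 1 := by simpa [hu, mul_assoc] using he₁
    calc i * u * i = i * u * i * (u * u) := by rw [hu2, mul_one]
      _ = i * u * i * u * u := by simp only [mul_assoc]
      _ = u := by rw [h1, one_mul]
  -- move `u` to `z`
  obtain ⟨w, hw, hww⟩ := D.exists_sqrt (inv_mem hx₁)
  have hwu : w⁻¹ * u * w = z := by
    have hux : u = w * w * z := by rw [hu, D.inverts' hx₁, hww]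
    rw [hux, mul_assoc, mul_assoc, D.inverts' hw]
    simp [mul_assoc]
  set h := w⁻¹ * i * w with hh
  refine ⟨w, hw, h, ?_, ?_, w⁻¹ * x₀⁻¹, mul_mem (inv_mem hw) (inv_mem hx₀), ?_⟩
  · rw [mem_centralizer_singleton_iff, hh, ← hwu]
    have hiu' : i * u = u * i := by
      calc i * u = i * u * (i * i) := by rw [he, mul_one]
        _ = i * u * i * i := by simp only [mul_assoc]
        _ = u * i := by rw [hiu]
    calc w⁻¹ * i * w * (w⁻¹ * u * w) = w⁻¹ * (i * u) * w := by group
      _ = w⁻¹ * (u * i) * w := by rw [hiu']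
      _ = w⁻¹ * u * w * (w⁻¹ * i * w) := by group
  · intro e
    refine hiN ?_
    have := mul_mem (mul_mem (Subgroup.le_normalizer hw) e) (inv_mem (Subgroup.le_normalizer hw))
    simpa [hh, mul_assoc] using this
  · rw [hh, hi]; group

theorem bruhat_unique {x x' y y' h h' : G} (hx : x ∈ M) (hx' : x' ∈ M) (hy : y ∈ M) (hy' : y' ∈ M)
    (hh : h ∈ centralizer ({z} : Set G)) (hh' : h' ∈ centralizer ({z} : Set G))
    (hhN' : h' ∉ normalizer (M : Set G)) (e : x * h * y = x' * h' * y') :
    x = x' ∧ h = h' ∧ y = y' := by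
  set a := x'⁻¹ * x with ha
  set b := y' * y⁻¹ with hb
  have haM : a ∈ M := mul_mem (inv_mem hx') hx
  have hbM : b ∈ M := mul_mem hy' (inv_mem hy)
  have e1 : a * h = h' * b := by
    calc a * h = x'⁻¹ * (x * h * y) * y⁻¹ := by rw [ha]; group
      _ = h' * b := by rw [e, hb]; group
  have hzh : z * h * z = h := by
    rw [← mem_centralizer_singleton_iff.1 hh, mul_assoc, D.zz, mul_one]
  have hzh' : z * h' * z = h' := by
    rw [← mem_centralizer_singleton_iff.1 hh', mul_assoc, D.zz, mul_one]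
  have h3 : ∀ w : G, z * (z * w) = w := fun w => by rw [← mul_assoc, D.zz, one_mul]
  have e2 : a⁻¹ * h = h' * b⁻¹ := by
    calc a⁻¹ * h = (z * a * z) * (z * h * z) := by rw [D.inverts haM, hzh]
      _ = z * (a * h) * z := by simp only [mul_assoc, h3]
      _ = z * (h' * b) * z := by rw [e1]
      _ = (z * h' * z) * (z * b * z) := by simp only [mul_assoc, h3]
      _ = h' * b⁻¹ := by rw [hzh', D.inverts hbM]
  have e3 : a * a = h' * (b * b) * h'⁻¹ := by
    calc a * a = (a * h) * (a⁻¹ * h)⁻¹ := by group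
      _ = h' * (b * b) * h'⁻¹ := by rw [e1, e2]; group
  have hb1 : b = 1 := by
    by_contra hb1
    refine hhN' (D.mem_normalizer_of_conj (mul_mem hbM hbM)
      (fun h => hb1 (D.eq_one_of_sq hbM h)) ?_)
    rw [← e3]; exact mul_mem haM haM
  have ha1 : a = 1 := by
    refine D.eq_one_of_sq haM ?_
    rw [e3, hb1]; group
  rw [ha1, hb1, one_mul, mul_one] at e1
  exact ⟨(inv_mul_eq_one.1 ha1).symm, e1, (mul_inv_eq_one.1 hb1).symm⟩

theorem involution_bruhat {t : G} (ht : t * t = 1) (htN : t ∉ normalizer (M : Set G)) :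
    ∃ x ∈ M, ∃ h ∈ centralizer ({z} : Set G), h ∉ normalizer (M : Set G) ∧ t = x * h * x⁻¹ := by
  obtain ⟨x, hx, h, hh, hhN, y, hy, e⟩ := D.exists_bruhat htN
  refine ⟨x, hx, h, hh, hhN, ?_⟩
  have hhh := D.involution_outside hh hhN
  have e2 : y⁻¹ * h * x⁻¹ = x * h * y := by
    calc y⁻¹ * h * x⁻¹ = (x * h * y)⁻¹ := by
          rw [mul_inv_rev, mul_inv_rev, inv_eq_of_mul_eq_one_right hhh, ← mul_assoc]
      _ = t⁻¹ := by rw [e]
      _ = t := inv_eq_of_mul_eq_one_right ht
      _ = x * h * y := e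
  obtain ⟨-, -, h2⟩ := D.bruhat_unique (inv_mem hy) hx (inv_mem hx) hy hh hh hhN e2
  rw [e, ← h2]

end Data

end CfsgLib.Amalgam.TIInverted
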