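import Cfsg.Agent.Lib.Amalgam.TIInvertedCount
import Cfsg.Agent.Lib.Perm.SharplyThree
import Cfsg.Agent.Lib.Perm.ZassenhausPSL
import Cfsg.Agent.Lib.Invol.CAInvol
import Cfsg.Agent.Lib.Invol.Dihedral
import Cfsg.Agent.Lib.KnownB.PSL2Elem
import Cfsg.Agent.Lib.Solvable.KegelWielandt
import Cfsg.Agent.Lib.Solvable.MinNormal
import Cfsg.Agent.Lib.Coprime.Generation
import Cfsg.Prelude.Def_Blocks

/-!
The groups occurring: projective linear groups and the split extension by a dihedral group.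
-/

set_option autoImplicit false
set_option linter.unusedSectionVars false
set_option linter.style.haveILetI false

namespace CfsgLib.Amalgam.TIInverted

open Subgroup

variable {G : Type*} [Group G] [Finite G] {M : Subgroup G} {z : G}

omit [Finite G] in
theorem smul_base_iff {N : Subgroup G} {g : G} :
    g • ((1 : G) : G ⧸ N) = ((1 : G) : G ⧸ N) ↔ g ∈ N := by
  rw [MulAction.Quotient.smul_coe, smul_eq_mul, mul_one, QuotientGroup.eq, mul_one, inv_mem_iff]

/-- A group acting freely by conjugation has order dividing the number of nonidentity elements. -/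
theorem free_dvd {A B : Subgroup G} (hAB : ∀ a ∈ A, ∀ b ∈ B, a * b * a⁻¹ ∈ B)
    (hfree : ∀ a ∈ A, ∀ b ∈ B, b ≠ 1 → a * b = b * a → a = 1) :
    Nat.card A ∣ Nat.card B - 1 := by
  classical
  haveI := Fintype.ofFinite G
  let X := {x : B // x ≠ 1}
  letI : MulAction A X :=
    { smul := fun c x => ⟨⟨(c : G) * (x.1 : G) * (c : G)⁻¹, hAB c c.2 x.1 x.1.2⟩, fun e => x.2
        (Subtype.ext (by
          have : (c : G) * (x.1 : G) * (c : G)⁻¹ = 1 := congrArg Subtype.val e
          simpa using conj_eq_one_iff.1 this))⟩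
      one_smul := fun x => Subtype.ext (Subtype.ext (by
        show (1 : G) * (x.1 : G) * (1 : G)⁻¹ = x.1
        simp))
      mul_smul := fun c d x => Subtype.ext (Subtype.ext (by
        show (c : G) * d * (x.1 : G) * ((c : G) * d)⁻¹ = c * (d * x.1 * (d : G)⁻¹) * (c : G)⁻¹
        group)) }
  have hstab : ∀ x : X, MulAction.stabilizer A x = ⊥ := by
    intro x
    rw [Subgroup.eq_bot_iff_forall]
    intro c hc
    have hc' : (c : G) * (x.1 : G) * (c : G)⁻¹ = x.1 :=
      congrArg (fun y : X => (y.1 : G)) (MulAction.mem_stabilizer_iff.1 hc)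
    exact Subtype.ext (hfree c c.2 x.1 x.1.2 (fun e => x.2 (Subtype.ext e))
      (mul_inv_eq_iff_eq_mul.1 hc'))
  have hX : Nat.card X = Nat.card B - 1 := by
    rw [Nat.card_eq_fintype_card, Fintype.card_subtype_compl, Fintype.card_subtype_eq,
      Nat.card_eq_fintype_card]
  rw [← hX, Nat.card_congr (MulAction.selfEquivSigmaOrbitsQuotientStabilizer A X), Nat.card_sigma]
  refine Finset.dvd_sum fun ω _ => ?_
  rw [← Subgroup.index, hstab, Subgroup.index_bot]

namespace Data

variable (D : Data M z) (hnn : ¬ M.Normal) {h : G} (hh : h ∈ centralizer ({z} : Set G))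
  (hhN : h ∉ normalizer (M : Set G))

/-- The point `x h N`. -/
local notation:max "pnt" x:arg => (((x * h : G)) : G ⧸ normalizer (M : Set G))
local notation "base" => (((1 : G)) : G ⧸ normalizer (M : Set G))

include D hh hhN

theorem pnt_ne {x : G} (hx : x ∈ M) : (pnt x) ≠ base := by
  rw [Ne, eq_comm, QuotientGroup.eq, inv_one, one_mul]
  intro e
  refine hhN ?_
  have := mul_mem (inv_mem (Subgroup.le_normalizer hx)) e
  rwa [inv_mul_cancel_left] at this

theorem pnt_inj {x x' : G} (hx : x ∈ M) (hx' : x' ∈ M) (e : (pnt x) = pnt x') : x = x' := by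
  rw [QuotientGroup.eq] at e
  obtain ⟨y, hy, c, hc, he⟩ := D.decomp e
  have h1 : x' * h = x * (h * c) * (c⁻¹ * y * c) := by
    calc x' * h = x * h * ((x * h)⁻¹ * (x' * h)) := by group
      _ = x * (h * c) * (c⁻¹ * y * c) := by rw [he]; group
  have h2 : x' * h * 1 = x * (h * c) * (c⁻¹ * y * c) := by rw [mul_one, h1]
  have hcy : c⁻¹ * y * c ∈ M := by simpa using D.conj_mem (inv_mem hc.1) hy
  exact ((D.bruhat_unique hx' hx (one_mem _) hcy hh (mul_mem hh hc.2) (fun e' => hhN (by
    have := mul_mem e' (inv_mem hc.1); rwa [mul_inv_cancel_right] at this)) h2).1).symm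

theorem smul_pnt_M {x y : G} : y • (pnt x) = pnt (y * x) := by
  rw [MulAction.Quotient.smul_coe, smul_eq_mul, mul_assoc]

theorem smul_pnt_C {c x : G} (hc : c ∈ comp M z) : c • (pnt x) = pnt (c * x * c⁻¹) := by
  rw [MulAction.Quotient.smul_coe, smul_eq_mul, QuotientGroup.eq]
  have hch : h⁻¹ * c⁻¹ * h = c := by
    rw [inv_eq_of_mul_eq_one_right (D.involution_outside hh hhN),
      D.inverts_C hh hhN (inv_mem hc), inv_inv]
  have : (c * (x * h))⁻¹ * (c * x * c⁻¹ * h) = h⁻¹ * c⁻¹ * h := by group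
  rw [this, hch]
  exact hc.1

theorem twoStab {g : G} (h1 : g • base = base) (h2 : g • (pnt 1) = pnt 1) : g ∈ comp M z := by
  obtain ⟨x, hx, c, hc, rfl⟩ := D.decomp (smul_base_iff.1 h1)
  rw [mul_smul, D.smul_pnt_C hh hhN hc, D.smul_pnt_M hh hhN, mul_one, mul_inv_cancel, mul_one] at h2
  rw [D.pnt_inj hh hhN hx (one_mem _) h2, one_mul]
  exact hc

theorem stab_inf_card :
    Nat.card ↥(MulAction.stabilizer G base ⊓ MulAction.stabilizer G (pnt 1) : Subgroup G) =
      Nat.card (comp M z) := by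
  suffices (MulAction.stabilizer G base ⊓ MulAction.stabilizer G (pnt 1) : Subgroup G) = comp M z by
    rw [this]
  ext g
  rw [Subgroup.mem_inf, MulAction.mem_stabilizer_iff, MulAction.mem_stabilizer_iff]
  refine ⟨fun e => D.twoStab hh hhN e.1 e.2, fun hg => ⟨smul_base_iff.2 hg.1, ?_⟩⟩
  rw [D.smul_pnt_C hh hhN hg, mul_one, mul_inv_cancel]

variable (hJ : Nat.card (Outer M z) = Nat.card (comp M z))
include hJ

theorem outer_eq {h' : G} (hh' : h' ∈ centralizer ({z} : Set G))
    (hhN' : h' ∉ normalizer (M : Set G)) : ∃ c ∈ comp M z, h' = h * c := by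
  let f : comp M z → Outer M z := fun c => ⟨h * c, mul_mem hh c.2.2, fun e => hhN (by
    have := mul_mem e (inv_mem c.2.1); rwa [mul_inv_cancel_right] at this)⟩
  have hinj : Function.Injective f := fun a b e =>
    Subtype.ext (mul_left_cancel (congrArg Subtype.val e))
  obtain ⟨c, hc⟩ := ((Nat.bijective_iff_injective_and_card f).2 ⟨hinj, hJ.symm⟩).2 ⟨h', hh', hhN'⟩
  exact ⟨c, c.2, (congrArg Subtype.val hc).symm⟩

theorem points (a : G ⧸ normalizer (M : Set G)) : a = base ∨ ∃ x ∈ M, a = pnt x := by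
  induction a using QuotientGroup.induction_on with
  | _ g =>
    by_cases hg : g ∈ normalizer (M : Set G)
    · left; rw [QuotientGroup.eq, mul_one]; exact inv_mem hg
    · right
      obtain ⟨x, hx, h', hh', hhN', y, hy, rfl⟩ := D.exists_bruhat hg
      obtain ⟨c, hc, rfl⟩ := D.outer_eq hh hhN hJ hh' hhN'
      refine ⟨x, hx, ?_⟩
      rw [QuotientGroup.eq]
      have : (x * (h * c) * y)⁻¹ * (x * h) = y⁻¹ * c⁻¹ := by group
      rw [this]
      exact mul_mem (inv_mem (Subgroup.le_normalizer hy)) (inv_mem hc.1)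

theorem card_points : Nat.card (G ⧸ normalizer (M : Set G)) = Nat.card M + 1 := by
  classical
  haveI := Fintype.ofFinite G
  let f : Option M → G ⧸ normalizer (M : Set G) := fun o => o.elim base fun x => pnt (x : G)
  have hb : Function.Bijective f := by
    constructor
    · rintro (_ | x) (_ | y) e
      · rfl
      · exact absurd e.symm (D.pnt_ne hh hhN y.2)
      · exact absurd e (D.pnt_ne hh hhN x.2)
      · exact congrArg some (Subtype.ext (D.pnt_inj hh hhN x.2 y.2 e))
    · intro a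
      rcases D.points hh hhN hJ a with rfl | ⟨x, hx, rfl⟩
      · exact ⟨none, rfl⟩
      · exact ⟨some ⟨x, hx⟩, rfl⟩
  rw [← Nat.card_eq_of_bijective f hb, Finite.card_option]

theorem move_pair {a b : G ⧸ normalizer (M : Set G)} (hab : a ≠ b) :
    ∃ g : G, g • a = base ∧ g • b = pnt 1 := by
  obtain ⟨g, hg⟩ : ∃ g : G, g • a = base := MulAction.exists_smul_eq G a base
  rcases D.points hh hhN hJ (g • b) with e | ⟨x, hx, e⟩
  · exact absurd (MulAction.injective g (hg.trans e.symm)) hab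
  · refine ⟨x⁻¹ * g, ?_, ?_⟩
    · rw [mul_smul, hg, smul_base_iff]; exact inv_mem (Subgroup.le_normalizer hx)
    · rw [mul_smul, e, D.smul_pnt_M hh hhN, inv_mul_cancel]

theorem two_trans : MulAction.IsMultiplyPretransitive G (G ⧸ normalizer (M : Set G)) 2 := by
  rw [MulAction.is_two_pretransitive_iff]
  intro a b c d hab hcd
  obtain ⟨g, ga, gb⟩ := D.move_pair hh hhN hJ hab
  obtain ⟨k, kc, kd⟩ := D.move_pair hh hhN hJ hcd
  exact ⟨k⁻¹ * g, by rw [mul_smul, ga, inv_smul_eq_iff, kc], by rw [mul_smul, gb, inv_smul_eq_iff, kd]⟩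

include hnn

theorem three_fix {g : G} {a b c : G ⧸ normalizer (M : Set G)} (hab : a ≠ b) (hbc : b ≠ c)
    (hac : a ≠ c) (ha : g • a = a) (hb : g • b = b) (hc : g • c = c) : g = 1 := by
  obtain ⟨k, ka, kb⟩ := D.move_pair hh hhN hJ hab
  set g' := k * g * k⁻¹ with hg'
  have hs : ∀ w : G ⧸ normalizer (M : Set G), g • w = w → g' • (k • w) = k • w := fun w hw => by
    rw [hg', mul_smul, mul_smul, inv_smul_smul, hw]
  have hC : g' ∈ comp M z := D.twoStab hh hhN (by rw [← ka]; exact hs a ha) (by rw [← kb]; exact hs b hb)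
  rcases D.points hh hhN hJ (k • c) with e | ⟨x, hx, e⟩
  · exact absurd (MulAction.injective k (ka.trans e.symm)) hac
  · have hx1 : x ≠ 1 := fun h1 => hbc (MulAction.injective k (by show k • b = k • c; rw [kb, e, h1]))
    have h2 := hs c hc
    rw [e, D.smul_pnt_C hh hhN hC] at h2
    have h3 := D.pnt_inj hh hhN (D.conj_mem hC.1 hx) hx h2
    have h4 := (D.free hnn hC hx (mul_inv_eq_iff_eq_mul.1 h3)).resolve_right hx1
    rwa [hg', mul_inv_eq_one, mul_eq_left] at h4

theorem faithful : FaithfulSMul G (G ⧸ normalizer (M : Set G)) := by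
  refine ⟨fun {a b} hab => ?_⟩
  obtain ⟨x, hx, hx1⟩ := (Subgroup.bot_or_exists_ne_one M).resolve_left D.ne_bot
  have hfx : ∀ w : G ⧸ normalizer (M : Set G), (b⁻¹ * a) • w = w := fun w => by
    rw [mul_smul, hab, inv_smul_smul]
  have := D.three_fix hnn hh hhN hJ (D.pnt_ne hh hhN (one_mem M)).symm
    (fun e => hx1 (D.pnt_inj hh hhN hx (one_mem _) e.symm)) (D.pnt_ne hh hhN hx).symm
    (hfx _) (hfx _) (hfx _)
  exact (inv_mul_eq_one.1 this).symm

/-- The two-point stabiliser of full size: the projective general linear group. -/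
theorem pgl (hc : Nat.card (comp M z) = Nat.card M - 1) :
    ∃ (F : Type) (_ : Field F) (_ : Fintype F) (p : ℕ) (_ : Fact p.Prime) (_ : CharP F p),
      Fintype.card F = Nat.card M ∧ Cfsg.IsElementaryAbelian p M ∧
        Nonempty (G ≃* (GL (Fin 2) F ⧸ Subgroup.center (GL (Fin 2) F))) := by
  classical
  haveI := Fintype.ofFinite (G ⧸ normalizer (M : Set G))
  haveI := D.faithful hnn hh hhN hJ
  have h2M := D.two_lt_card
  obtain ⟨p, hp, hexp, n, hn⟩ := D.elementary hnn (by omega)
  haveI : Fact p.Prime := ⟨hp⟩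
  have hstd : ∀ {x y : G}, x ∈ M → y ∈ M → x ≠ 1 → y ≠ 1 → ∃ c ∈ comp M z, c * x * c⁻¹ = y := by
    intro x y hx hy hx1 hy1
    let f : comp M z → {w : M // w ≠ 1} := fun c => ⟨⟨(c : G) * x * (c : G)⁻¹, D.conj_mem c.2.1 hx⟩,
      fun e => hx1 (conj_eq_one_iff.1 (congrArg Subtype.val e))⟩
    have hinj : Function.Injective f := by
      intro a b e
      have e' : (a : G) * x * (a : G)⁻¹ = (b : G) * x * (b : G)⁻¹ :=
        congrArg (fun w : {w : M // w ≠ 1} => (w.1 : G)) e
      refine Subtype.ext ((inv_mul_eq_one.1 ((D.free hnn (mul_mem (inv_mem b.2) a.2) hx ?_).resolve_right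
        hx1)).symm)
      calc (b : G)⁻¹ * a * x = (b : G)⁻¹ * ((a : G) * x * (a : G)⁻¹) * a := by group
        _ = x * ((b : G)⁻¹ * a) := by rw [e']; group
    have hcard : Nat.card (comp M z) = Nat.card {w : M // w ≠ 1} := by
      haveI := Fintype.ofFinite G
      rw [hc, Nat.card_eq_fintype_card (α := {w : M // w ≠ 1}), Fintype.card_subtype_compl,
        Fintype.card_subtype_eq, Nat.card_eq_fintype_card]
    obtain ⟨c, hc'⟩ := ((Nat.bijective_iff_injective_and_card f).2 ⟨hinj, hcard⟩).2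
      ⟨⟨y, hy⟩, fun e => hy1 (congrArg Subtype.val e)⟩
    exact ⟨c, c.2, congrArg (fun w : {w : M // w ≠ 1} => (w.1 : G)) hc'⟩
  have htr3 : ∀ a b c a' b' c' : G ⧸ normalizer (M : Set G), a ≠ b → a ≠ c → b ≠ c →
      a' ≠ b' → a' ≠ c' → b' ≠ c' → ∃ g : G, g • a = a' ∧ g • b = b' ∧ g • c = c' := by
    have key : ∀ a b c : G ⧸ normalizer (M : Set G), a ≠ b → a ≠ c → b ≠ c →
        ∀ x₀ ∈ M, x₀ ≠ 1 → ∃ g : G, g • a = base ∧ g • b = pnt 1 ∧ g • c = pnt x₀ := by
      intro a b c hab hac hbc x₀ hx₀ hx₀1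
      obtain ⟨g, ga, gb⟩ := D.move_pair hh hhN hJ hab
      rcases D.points hh hhN hJ (g • c) with e | ⟨x, hx, e⟩
      · exact absurd (MulAction.injective g (ga.trans e.symm)) hac
      · have hx1 : x ≠ 1 := fun h1 => hbc (MulAction.injective g (by show g • b = g • c; rw [gb, e, h1]))
        obtain ⟨u, hu, hux⟩ := hstd hx hx₀ hx1 hx₀1
        refine ⟨u * g, ?_, ?_, ?_⟩
        · rw [mul_smul, ga, smul_base_iff]; exact hu.1
        · rw [mul_smul, gb, D.smul_pnt_C hh hhN hu, mul_one, mul_inv_cancel]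
        · rw [mul_smul, e, D.smul_pnt_C hh hhN hu, hux]
    obtain ⟨x₀, hx₀, hx₀1⟩ := (Subgroup.bot_or_exists_ne_one M).resolve_left D.ne_bot
    intro a b c a' b' c' h1 h2 h3 k1 k2 k3
    obtain ⟨g, g1, g2, g3⟩ := key a b c h1 h2 h3 x₀ hx₀ hx₀1
    obtain ⟨k, e1, e2, e3⟩ := key a' b' c' k1 k2 k3 x₀ hx₀ hx₀1
    exact ⟨k⁻¹ * g, by rw [mul_smul, g1, inv_smul_eq_iff, e1],
      by rw [mul_smul, g2, inv_smul_eq_iff, e2], by rw [mul_smul, g3, inv_smul_eq_iff, e3]⟩
  have hsharp : ∀ x : Fin 3 ↪ G ⧸ normalizer (M : Set G), MulAction.stabilizer G x = ⊥ := by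
    intro x
    rw [Subgroup.eq_bot_iff_forall]
    intro g hg
    have hx : ∀ i, g • x i = x i := fun i => congrArg (fun e : Fin 3 ↪ _ => e i) hg
    have hne : ∀ (i j : Fin 3), i ≠ j → x i ≠ x j := fun i j hij e => hij (x.injective e)
    exact D.three_fix hnn hh hhN hJ (hne 0 1 (by decide)) (hne 1 2 (by decide)) (hne 0 2 (by decide))
      (hx 0) (hx 1) (hx 2)
  have hab : ∀ a b : G ⧸ normalizer (M : Set G), a ≠ b → ∀ g g' : G,
      g • a = a → g • b = b → g' • a = a → g' • b = b → g * g' = g' * g := by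
    intro a b hab g g' ga gb g'a g'b
    obtain ⟨k, ka, kb⟩ := D.move_pair hh hhN hJ hab
    have hs : ∀ (u : G) (w : G ⧸ normalizer (M : Set G)), u • w = w → (k * u * k⁻¹) • (k • w) = k • w := fun u w hw => by
      rw [mul_smul, mul_smul, inv_smul_smul, hw]
    have m1 := D.twoStab hh hhN (by rw [← ka]; exact hs g a ga) (by rw [← kb]; exact hs g b gb)
    have m2 := D.twoStab hh hhN (by rw [← ka]; exact hs g' a g'a) (by rw [← kb]; exact hs g' b g'b)
    -- `C` is abelian, being inverted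
    have e1 := D.inverts_C hh hhN (mul_mem m1 m2)
    have h2 := D.involution_outside hh hhN
    have h3 : ∀ w : G, h * (h * w) = w := fun w => by rw [← mul_assoc, h2, one_mul]
    have e2 : h * ((k * g * k⁻¹) * (k * g' * k⁻¹)) * h =
        (h * (k * g * k⁻¹) * h) * (h * (k * g' * k⁻¹) * h) := by simp only [mul_assoc, h3]
    rw [e2, D.inverts_C hh hhN m1, D.inverts_C hh hhN m2, ← mul_inv_rev, inv_inj] at e1
    have e3 : k * (g' * g) * k⁻¹ = k * (g * g') * k⁻¹ := by
      rw [← conj_mul, ← conj_mul]; exact e1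
    exact (mul_left_cancel (mul_right_cancel e3)).symm
  have hcardΩ := D.card_points hh hhN hJ
  rw [Nat.card_eq_fintype_card] at hcardΩ
  let φ : G →* Equiv.Perm (G ⧸ normalizer (M : Set G)) := MulAction.toPermHom G _
  have hφ : Function.Injective φ := MulAction.toPerm_injective
  have h3' : MulAction.IsMultiplyPretransitive φ.range (G ⧸ normalizer (M : Set G)) 3 := by
    refine CfsgLib.Invol.pretransitive_three_of fun a b c a' b' c' h1 h2 h3 k1 k2 k3 => ?_
    obtain ⟨g, g1, g2, g3⟩ := htr3 a b c a' b' c' h1 h2 h3 k1 k2 k3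
    exact ⟨⟨φ g, g, rfl⟩, g1, g2, g3⟩
  have hsharp' : ∀ x : Fin 3 ↪ G ⧸ normalizer (M : Set G), MulAction.stabilizer φ.range x = ⊥ := by
    intro x
    rw [Subgroup.eq_bot_iff_forall]
    rintro ⟨_, g, rfl⟩ hg
    have h1 : g ∈ MulAction.stabilizer G x := hg
    rw [hsharp x, Subgroup.mem_bot] at h1
    exact Subtype.ext (by simp [h1])
  obtain ⟨F, iF, iFF, hcard, ⟨e⟩⟩ :=
    CfsgLib.Perm.sharply_three_pgl_of_abelian φ.range h3' hsharp' (by
      rintro a b hne ⟨_, g, rfl⟩ ⟨_, g', rfl⟩ ga gb g'a g'b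
      have := hab a b hne g g' ga gb g'a g'b
      exact Subtype.ext (by simp only [Subgroup.coe_mul, ← map_mul, this]))
      (by omega)
  have hFm : Fintype.card F = Nat.card M := by omega
  haveI : CharP F p := charP_of_card_eq_prime_pow (hFm.trans hn)
  exact ⟨F, iF, iFF, p, ⟨hp⟩, inferInstance, hFm, ⟨D.isMulCommutative, hexp⟩,
    ⟨(MonoidHom.ofInjective hφ).trans e⟩⟩

/-- The two-point stabiliser of half size: the projective special linear group. -/
theorem psl (hc : Nat.card M = 2 * Nat.card (comp M z) + 1) :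
    ∃ (F : Type) (_ : Field F) (_ : Fintype F) (p : ℕ) (_ : Fact p.Prime) (_ : CharP F p),
      Fintype.card F = Nat.card M ∧ Cfsg.IsElementaryAbelian p M ∧
        Fintype.card F % 4 = 1 ∧ Nonempty (G ≃* Matrix.ProjectiveSpecialLinearGroup (Fin 2) F) := by
  classical
  haveI := Fintype.ofFinite (G ⧸ normalizer (M : Set G))
  haveI := D.faithful hnn hh hhN hJ
  obtain ⟨p, hp, hexp, n, hn⟩ := D.elementary hnn (by omega)
  haveI : Fact p.Prime := ⟨hp⟩
  have hCeven : Even (Nat.card (comp M z)) := by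
    rw [even_iff_two_dvd]
    exact D.invol ▸ Subgroup.orderOf_dvd_natCard _ D.z_memC
  -- every involution is conjugate to `z`, so `h` has a fixed point
  have hconj : IsConj z h := by
    refine D.all_conj ?_ (orderOf_eq_prime (by rw [pow_two, D.involution_outside hh hhN])
      (fun e => hhN (e ▸ one_mem _)))
    rw [D.card_group, D.card_involutions, D.card_centralizer, hJ, hc]
    ring
  obtain ⟨w, hw⟩ := isConj_iff.1 hconj
  have hwN : w ∉ normalizer (M : Set G) := fun e => hhN (by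
    rw [← hw]; exact mul_mem (mul_mem e D.mem_normalizer) (inv_mem e))
  have hfixw : h • ((w : G) : G ⧸ normalizer (M : Set G)) = (w : G) := by
    rw [MulAction.Quotient.smul_coe, smul_eq_mul, QuotientGroup.eq, ← hw]
    have : (w * z * w⁻¹ * w)⁻¹ * w = z⁻¹ := by group
    rw [this]; exact inv_mem D.mem_normalizer
  have hio : base ≠ pnt 1 := (D.pnt_ne hh hhN (one_mem M)).symm
  have hsi : h • base = pnt 1 := by rw [MulAction.Quotient.smul_coe, smul_eq_mul, mul_one, one_mul]
  have h2 := D.involution_outside hh hhN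
  have hso : h • (pnt 1) = base := by rw [← hsi, ← mul_smul, h2, one_smul]
  have hiu : base ≠ ((w : G) : G ⧸ normalizer (M : Set G)) := fun e => hwN (by
    rw [QuotientGroup.eq, inv_one, one_mul] at e; exact e)
  have hou : (pnt 1) ≠ ((w : G) : G ⧸ normalizer (M : Set G)) := fun e => by
    rw [← e] at hfixw
    exact hio (hso.symm.trans hfixw)
  have hinv : ∀ g : G, g • base = base → g • (pnt 1) = pnt 1 → ∀ t : G, t • base = (pnt 1) →
      t • (pnt 1) = base → t * g * t⁻¹ = g⁻¹ := by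
    intro g g1 g2 t t1 t2
    have hg := D.twoStab hh hhN g1 g2
    have ht : h * t ∈ comp M z := D.twoStab hh hhN (by rw [mul_smul, t1, hso])
      (by rw [mul_smul, t2, hsi])
    have e1 := D.inverts_C hh hhN hg
    have hcm : (h * t) * g = g * (h * t) := by
      have a := D.inverts_C hh hhN (mul_mem ht hg)
      have h3 : ∀ w : G, h * (h * w) = w := fun w => by rw [← mul_assoc, h2, one_mul]
      have e2 : h * (h * t * g) * h = (h * (h * t) * h) * (h * g * h) := by
        simp only [mul_assoc, h3]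
      rw [e2, D.inverts_C hh hhN ht, e1, ← mul_inv_rev, inv_inj] at a
      exact a.symm
    have ht' : t = h * (h * t) := by rw [← mul_assoc, h2, one_mul]
    rw [ht', mul_inv_rev, inv_eq_of_mul_eq_one_right h2]
    calc h * (h * t) * g * ((h * t)⁻¹ * h) = h * ((h * t) * g * (h * t)⁻¹) * h := by group
      _ = g⁻¹ := by rw [hcm, mul_inv_cancel_right, e1]
  have hcardΩ := D.card_points hh hhN hJ
  rw [Nat.card_eq_fintype_card] at hcardΩ
  have hstab := D.stab_inf_card hh hhN
  obtain ⟨F, iF, iFF, -, hcard, ⟨e⟩⟩ := CfsgLib.Perm.zassenhaus_psl (D.two_trans hh hhN hJ)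
    (fun g a b c hab hbc hac => D.three_fix hnn hh hhN hJ hab hbc hac) hio hiu hou
    (by rw [hstab]; exact hCeven) hinv hsi hso hfixw (by rw [hstab]; omega) M
    (fun x hx => smul_base_iff.2 (Subgroup.le_normalizer hx)) D.isMulCommutative hp hexp
    (fun g hg x hx => D.conj_mem (smul_base_iff.1 hg) hx) (by
      intro a b ha hb
      obtain ⟨x, hx, rfl⟩ := (D.points hh hhN hJ a).resolve_left ha
      obtain ⟨y, hy, rfl⟩ := (D.points hh hhN hJ b).resolve_left hb
      refine ⟨⟨y * x⁻¹, mul_mem hy (inv_mem hx)⟩, ?_, ?_⟩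
      · show (y * x⁻¹) • (pnt x) = pnt y
        rw [D.smul_pnt_M hh hhN, inv_mul_cancel_right]
      · rintro ⟨u, hu⟩ he
        change u • (pnt x) = pnt y at he
        rw [D.smul_pnt_M hh hhN] at he
        exact Subtype.ext (eq_mul_inv_of_mul_eq (D.pnt_inj hh hhN (mul_mem hu hx) hy he)))
  have hFm : Fintype.card F = Nat.card M := by omega
  haveI : CharP F p := charP_of_card_eq_prime_pow (hFm.trans hn)
  obtain ⟨j, hj⟩ := hCeven
  exact ⟨F, iF, iFF, p, ⟨hp⟩, inferInstance, hFm, ⟨D.isMulCommutative, hexp⟩, by omega, ⟨e⟩⟩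

end Data

namespace Data

variable (D : Data M z) (hnn : ¬ M.Normal) {f : ℕ} (hf : 2 ≤ f) (hc : Nat.card (comp M z) = 2)
  (hJ : Nat.card (Outer M z) + 2 = 2 ^ f) (hsq : ∀ w ∈ centralizer ({z} : Set G), w * w = 1)

include D hc

theorem mem_M_of_odd {y : G} (hy : y ∈ normalizer (M : Set G)) (ho : Odd (orderOf y)) : y ∈ M := by
  obtain ⟨x, hx, c, hc', rfl⟩ := D.decomp hy
  have h2 : (⟨c, hc'⟩ : comp M z) ^ 2 = 1 := by rw [← hc]; exact pow_card_eq_one'
  have h2' : c * c = 1 := by
    have := congrArg Subtype.val h2; rwa [Subgroup.coe_pow, Subgroup.coe_one, pow_two] at this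
  rcases D.eq_one_or_z hc' h2' with rfl | rfl
  · rwa [mul_one]
  · rw [D.z_mul_invol hx] at ho; exact absurd ho (by decide)

include hJ

theorem card_H : Nat.card ↥(centralizer ({z} : Set G)) = 2 ^ f := by
  rw [D.card_centralizer, hc, ← hJ, add_comm]

include hf hsq hnn

/-- All involutions conjugate: `PSL_2(2^f)`. -/
theorem psl_even (hm : Nat.card M = 2 ^ f + 1) :
    ∃ (F : Type) (_ : Field F) (_ : Fintype F) (e : ℕ), 1 < e ∧ Fintype.card F = 2 ^ e ∧
      IsCyclic ↥M ∧ Nat.card M = 2 ^ e + 1 ∧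
      Nonempty (G ≃* Matrix.ProjectiveSpecialLinearGroup (Fin 2) F) := by
  classical
  haveI : Fact (Nat.Prime 2) := ⟨Nat.prime_two⟩
  set q := 2 ^ f with hq
  have hq4 : 4 ≤ q := by
    calc 4 = 2 ^ 2 := rfl
      _ ≤ q := Nat.pow_le_pow_right (by norm_num) hf
  set J := Nat.card (Outer M z) with hJdef
  have hg : Nat.card G = q * (Nat.card M * (q - 1)) := by
    rw [D.card_group, hc, hm, ← hJdef, show J = q - 2 by omega]
    obtain ⟨r, hr⟩ := Nat.exists_eq_add_of_le hq4
    rw [hr, show 4 + r - 2 = 2 + r by omega, show 4 + r - 1 = 3 + r by omega]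
    ring
  have hodd : ¬ 2 ∣ Nat.card M * (q - 1) := by
    have he : Even q := by rw [hq]; exact (even_two).pow_of_ne_zero (by omega)
    intro h
    rcases Nat.prime_two.dvd_mul.1 h with h | h
    · exact Nat.not_even_iff_odd.2 D.odd_M (even_iff_two_dvd.2 h)
    · obtain ⟨j, hj⟩ := he; omega
  have hH := D.card_H hc hJ
  have hexpo : (Nat.card G).factorization 2 = f := by
    rw [hg, hq, Nat.factorization_mul (by positivity) (fun e => hodd (by rw [e]; exact dvd_zero 2)),
      Finsupp.add_apply, Nat.prime_two.factorization_pow, Finsupp.single_eq_same,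
      Nat.factorization_eq_zero_of_not_dvd hodd, add_zero]
  let T : Sylow 2 G := Sylow.ofCard (centralizer ({z} : Set G)) (by rw [hH, hexpo])
  have hTeq : (T : Subgroup G) = centralizer ({z} : Set G) := rfl
  have hI : Nat.card {t : G // orderOf t = 2} = Nat.card M + Nat.card M * J := D.card_involutions
  have hall : ∀ t : G, orderOf t = 2 → IsConj z t := fun t ht => by
    refine D.all_conj ?_ ht
    rw [hH, hI, hg, hm, show J = q - 2 by omega]
    obtain ⟨r, hr⟩ := Nat.exists_eq_add_of_le hq4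
    rw [hq.symm, hr, show 4 + r - 2 = 2 + r by omega, show 4 + r - 1 = 3 + r by omega]
    ring
  have hCA : CfsgLib.Invol.CAHyp T := by
    refine ⟨?_, ?_, ?_⟩
    · intro hcyc
      obtain ⟨u, hu⟩ := hcyc.exists_generator
      have h1 : Nat.card ↥(T : Subgroup G) = orderOf u :=
        (orderOf_eq_card_of_forall_mem_zpowers hu).symm
      have h2 : orderOf u ∣ 2 :=
        orderOf_dvd_of_pow_eq_one (Subtype.ext (by rw [Subgroup.coe_pow, pow_two]; exact hsq u u.2))
      have h3 := Nat.le_of_dvd (by norm_num) h2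
      have h4 : Nat.card ↥(T : Subgroup G) = q := hH
      omega
    · intro hn
      have hle : Nat.card {t : G // orderOf t = 2} ≤ Nat.card ↥(centralizer ({z} : Set G)) := by
        refine Nat.card_le_card_of_injective (fun t : {t : G // orderOf t = 2} =>
          (⟨t.1, ?_⟩ : centralizer ({z} : Set G))) fun a b e => Subtype.ext
            (congrArg (fun w : centralizer ({z} : Set G) => (w : G)) e)
        obtain ⟨g, hg'⟩ := isConj_iff.1 (hall t.1 t.2)
        rw [← hg']
        exact hn.conj_mem z (mem_centralizer_singleton_iff.2 rfl) g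
      rw [hI, hH, hm] at hle
      have : 1 ≤ (2 ^ f + 1) * J := Nat.one_le_iff_ne_zero.2 (Nat.mul_ne_zero (by omega) (by omega))
      omega
    · intro t ht
      obtain ⟨g, rfl⟩ := isConj_iff.1 (hall t ht)
      have hmem : ∀ w ∈ centralizer ({g * z * g⁻¹} : Set G), g⁻¹ * w * g ∈ centralizer ({z} : Set G) := by
        intro w hw
        rw [mem_centralizer_singleton_iff] at hw ⊢
        calc g⁻¹ * w * g * z = g⁻¹ * (w * (g * z * g⁻¹)) * g := by group
          _ = g⁻¹ * (g * z * g⁻¹ * w) * g := by rw [hw]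
          _ = z * (g⁻¹ * w * g) := by group
      have hsq' : ∀ w ∈ centralizer ({g * z * g⁻¹} : Set G), w * w = 1 := fun w hw => by
        have := hsq _ (hmem w hw)
        calc w * w = g * (g⁻¹ * w * g * (g⁻¹ * w * g)) * g⁻¹ := by group
          _ = 1 := by rw [this]; group
      refine ⟨⟨⟨fun a b => Subtype.ext ?_⟩⟩, fun w hw => by rw [pow_two]; exact hsq' w hw⟩
      have hab := hsq' _ (mul_mem a.2 b.2)
      have ha' : (a : G)⁻¹ = a := inv_eq_of_mul_eq_one_right (hsq' _ a.2)
      have hb' : (b : G)⁻¹ = b := inv_eq_of_mul_eq_one_right (hsq' _ b.2)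
      calc (a : G) * b = ((a : G) * b)⁻¹ := (inv_eq_of_mul_eq_one_right hab).symm
        _ = b * a := by rw [mul_inv_rev, ha', hb']
  obtain ⟨F, iF, iFF, hF, ⟨e⟩⟩ := hCA.exists_psl
  have hFq : Fintype.card F = 2 ^ f := by rw [hF]; exact hH
  refine ⟨F, iF, iFF, f, hf, hFq, ?_, hm, ⟨e⟩⟩
  haveI : CharP F 2 := charP_of_card_eq_prime_pow hFq
  have hgcd : Nat.gcd 2 (Fintype.card F - 1) = 1 := by
    rw [hFq]
    refine (Nat.Prime.coprime_iff_not_dvd Nat.prime_two).2 ?_
    have he : 2 ∣ 2 ^ f := dvd_pow_self 2 (by omega)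
    omega
  obtain ⟨y₀, hy₀⟩ := CfsgLib.KnownB.SL2.exists_orderOf_psl (F := F) 2 (m := Nat.card M)
    (Or.inr (Or.inr (by rw [hgcd, Nat.div_one, hFq, ← hm])))
  set y := e.symm y₀ with hy
  have hyo : orderOf y = Nat.card M := by rw [hy, MulEquiv.orderOf_eq, hy₀]
  -- a power of prime order is conjugate into `M`
  have h1M : 1 < Nat.card M := M.one_lt_card_iff_ne_bot.2 D.ne_bot
  obtain ⟨r, hr, hrm⟩ := Nat.exists_prime_and_dvd h1M.ne'
  haveI : Fact r.Prime := ⟨hr⟩
  obtain ⟨R₀⟩ := Sylow.nonempty (p := r) (G := M)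
  have hrq : ¬ r ∣ q * (q - 1) := by
    intro h
    have hr2 : r ≠ 2 := fun e => by
      subst e; exact Nat.not_even_iff_odd.2 D.odd_M (even_iff_two_dvd.2 hrm)
    rw [hm] at hrm
    rcases hr.dvd_mul.1 h with h | h
    · exact hr2 ((Nat.prime_dvd_prime_iff_eq hr Nat.prime_two).1 (hr.dvd_of_dvd_pow h))
    · have h2 := Nat.dvd_sub hrm h
      rw [show q + 1 - (q - 1) = 2 by omega] at h2
      exact hr2 ((Nat.prime_dvd_prime_iff_eq hr Nat.prime_two).1 h2)
  let R : Sylow r G := Sylow.ofCard ((R₀ : Subgroup M).map M.subtype) (by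
    rw [Subgroup.card_map_of_injective M.subtype_injective, R₀.card_eq_multiplicity, hg,
      show q * (Nat.card M * (q - 1)) = Nat.card M * (q * (q - 1)) by ring,
      Nat.factorization_mul Nat.card_pos.ne' (fun e => hrq (by rw [e]; exact dvd_zero r)), Finsupp.add_apply,
      Nat.factorization_eq_zero_of_not_dvd hrq, add_zero])
  set v := y ^ (orderOf y / r) with hv
  have hvo : orderOf v = r := orderOf_pow_orderOf_div (orderOf_pos y).ne' (hyo ▸ hrm)
  obtain ⟨Q, hQ⟩ := (IsPGroup.of_card (p := r) (n := 1) (G := Subgroup.zpowers v)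
    (by rw [Nat.card_zpowers, hvo, pow_one])).exists_le_sylow
  obtain ⟨g, hg'⟩ := MulAction.exists_smul_eq G Q R
  have hvM : g * v * g⁻¹ ∈ M := by
    have h1 : g * v * g⁻¹ ∈ ((g • Q : Sylow r G) : Subgroup G) := by
      rw [Sylow.coe_subgroup_smul]
      exact Subgroup.smul_mem_pointwise_smul v (MulAut.conj g) _ (hQ (Subgroup.mem_zpowers v))
    rw [hg'] at h1
    exact Subgroup.map_subtype_le _ h1
  set y' := g * y * g⁻¹ with hy'
  have hyo' : orderOf y' = Nat.card M := by rw [← hyo, hy']; exact MulEquiv.orderOf_eq (MulAut.conj g) y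
  have hv1 : g * v * g⁻¹ ≠ 1 := fun e => by
    rw [conj_eq_one_iff] at e; rw [e, orderOf_one] at hvo; exact hr.one_lt.ne hvo
  have hyN : y' ∈ normalizer (M : Set G) := by
    refine D.mem_normalizer_of_conj hvM hv1 ?_
    have : y' * (g * v * g⁻¹) * y'⁻¹ = g * v * g⁻¹ := by
      rw [hy', hv, ← conj_pow]
      exact mul_inv_eq_iff_eq_mul.2 ((Commute.refl _).pow_right _).eq
    rw [this]; exact hvM
  have hyM := D.mem_M_of_odd hc hyN (hyo' ▸ D.odd_M)
  exact isCyclic_of_orderOf_eq_card (⟨y', hyM⟩ : M) (by rw [Subgroup.orderOf_mk, hyo'])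

/-- The elementary abelian normal subgroup. -/
theorem affine {d : ℕ} (hd : d + 1 = f) (hm : Nat.card M = 2 ^ d + 1) :
    ∃ (d : ℕ) (E : Subgroup G), 1 ≤ d ∧ E.Normal ∧ Cfsg.IsElementaryAbelian 2 E ∧
      Nat.card E = 2 ^ (2 * d) ∧ E ⊓ normalizer (M : Set G) = ⊥ ∧
      E ⊔ normalizer (M : Set G) = ⊤ ∧
      Nonempty (↥(normalizer (M : Set G)) ≃* DihedralGroup (2 ^ d + 1)) := by
  classical
  haveI : Fact (Nat.Prime 2) := ⟨Nat.prime_two⟩
  set k := 2 ^ d with hk
  set m := Nat.card M with hmdef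
  have hJ' : Nat.card (Outer M z) = 2 * k - 2 := by
    rw [hk]; rw [← hd, pow_succ] at hJ; omega
  have hk2 : 2 ≤ k := by
    calc 2 = 2 ^ 1 := rfl
      _ ≤ k := Nat.pow_le_pow_right (by norm_num) (by omega)
  have hg : Nat.card G = 2 ^ (2 * d + 1) * m := by
    rw [D.card_group, hc, hJ', ← hmdef, hm, pow_succ, two_mul d, pow_add, ← hk]
    obtain ⟨r, hr⟩ := Nat.exists_eq_add_of_le hk2
    rw [hr, show 2 * (2 + r) - 2 = 2 + 2 * r by omega]
    ring
  have hNcard : Nat.card ↥(normalizer (M : Set G)) = 2 * m := by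
    rw [D.card_normalizer, hc, mul_comm]
  -- solvability
  obtain ⟨S⟩ := Sylow.nonempty (p := 2) (G := G)
  have hexpo : (Nat.card G).factorization 2 = 2 * d + 1 := by
    rw [hg, Nat.factorization_mul (by positivity) Nat.card_pos.ne', Finsupp.add_apply,
      Nat.prime_two.factorization_pow, Finsupp.single_eq_same,
      Nat.factorization_eq_zero_of_not_dvd (fun e => Nat.not_even_iff_odd.2 D.odd_M
        (even_iff_two_dvd.2 e)), add_zero]
  have hScard : Nat.card ↥(S : Subgroup G) = 2 ^ (2 * d + 1) := by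
    rw [S.card_eq_multiplicity, hexpo]
  haveI hsolv : Group.IsSolvable G := by
    letI : CommGroup M := { (inferInstance : Group M) with
      mul_comm := fun a b => Subtype.ext (D.commM a.2 b.2) }
    refine CfsgLib.Solvable.isSolvable_of_mul_nilpotent M (S : Subgroup G) ?_ S.isPGroup'.isNilpotent ?_
    · exact CommGroup.isNilpotent
    · intro g
      let φ : M × (S : Subgroup G) → G := fun w => (w.1 : G) * w.2
      have hinj : Function.Injective φ := by
        rintro ⟨a, b⟩ ⟨a', b'⟩ e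
        have e' : (a : G) * b = a' * b' := e
        have h1 : (a' : G)⁻¹ * a = b' * (b : G)⁻¹ := by
          calc (a' : G)⁻¹ * a = (a' : G)⁻¹ * ((a : G) * b) * (b : G)⁻¹ := by group
            _ = b' * (b : G)⁻¹ := by rw [e']; group
        have hcop : Nat.Coprime (Nat.card M) (Nat.card ↥(S : Subgroup G)) := by
          rw [hScard]; exact (Nat.coprime_two_right.2 D.odd_M).pow_right _
        have h2 : (a' : G)⁻¹ * a = 1 := by
          refine orderOf_eq_one_iff.1 (Nat.eq_one_of_dvd_coprimes hcop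
            (Subgroup.orderOf_dvd_natCard _ (mul_mem (inv_mem a'.2) a.2)) ?_)
          rw [h1]
          exact Subgroup.orderOf_dvd_natCard _ (mul_mem b'.2 (inv_mem b.2))
        have ha : a = a' := Subtype.ext (inv_mul_eq_one.1 h2).symm
        subst ha
        rw [Subtype.ext (mul_left_cancel e')]
      have hb := (Nat.bijective_iff_injective_and_card φ).2 ⟨hinj, by
        rw [Nat.card_prod, hScard, hg, mul_comm]⟩
      obtain ⟨w, hw⟩ := hb.2 g
      exact ⟨w.1, w.1.2, w.2, w.2.2, hw.symm⟩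
  -- a minimal normal subgroup
  haveI : Nontrivial G := ⟨⟨z, 1, D.z_ne⟩⟩
  obtain ⟨E, hEn, hE1, hmin⟩ := CfsgLib.Solvable.exists_minimal_normal (G := G)
  haveI := hEn
  haveI : Group.IsSolvable E := inferInstance
  haveI hEc := CfsgLib.Solvable.isMulCommutative_of_minimal_normal hE1 hmin
  obtain ⟨r, hr, hEexp⟩ := CfsgLib.Solvable.exists_prime_pow_eq_one_of_minimal_normal hE1 hmin
  haveI : Fact r.Prime := ⟨hr⟩
  have hEp : IsPGroup r E := fun x => ⟨1, Subtype.ext (by simpa using hEexp x x.2)⟩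
  obtain ⟨a, ha⟩ := IsPGroup.iff_card.1 hEp
  -- counting: `|E|` divides `k ^ 2 |E ∩ N|`
  have hcount : Nat.card E ∣ Nat.card ↥(E ⊓ normalizer (M : Set G)) * 2 ^ (2 * d) := by
    have h1 : Nat.card ↥(E ⊓ normalizer (M : Set G)) * E.relIndex (normalizer (M : Set G)) = 2 * m := by
      rw [← hNcard, ← Subgroup.inf_relIndex_right, ← Subgroup.relIndex_bot_left,
        ← Subgroup.relIndex_bot_left, Subgroup.relIndex_mul_relIndex _ _ _ bot_le inf_le_right]
    have h2 : E.relIndex (normalizer (M : Set G)) ∣ E.index := Subgroup.relIndex_dvd_index_of_normal _ _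
    obtain ⟨b, hb⟩ := h2
    have h3 := E.card_mul_index
    rw [hb, hg] at h3
    refine Nat.dvd_of_mul_dvd_mul_right (k := E.relIndex (normalizer (M : Set G))) ?_ ⟨b, ?_⟩
    · exact Nat.pos_of_ne_zero fun e => by rw [e, mul_zero] at h1; omega
    · rw [mul_assoc (Nat.card E), h3, mul_right_comm, h1, pow_succ]; ring
  obtain ⟨x₁, hx₁, hx₁1⟩ := (Subgroup.bot_or_exists_ne_one M).resolve_left D.ne_bot
  have hr2 : r = 2 := by
    by_contra hr2
    have hrodd : Odd r := hr.odd_of_ne_two hr2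
    have hEodd : Odd (Nat.card E) := by rw [ha]; exact hrodd.pow
    have hd1 := ((Nat.coprime_two_right.2 hEodd).pow_right (2 * d)).dvd_of_dvd_mul_right hcount
    have hEN : E ≤ normalizer (M : Set G) := by
      refine le_trans ?_ (inf_le_right (a := E))
      exact (Subgroup.eq_of_le_of_card_ge inf_le_left (Nat.le_of_dvd Nat.card_pos hd1)).ge
    have hEM : E ≤ M := fun u hu => D.mem_M_of_odd hc (hEN hu)
      (hEodd.of_dvd_nat (Subgroup.orderOf_dvd_natCard E hu))
    obtain ⟨u, hu, hu1⟩ := (Subgroup.bot_or_exists_ne_one E).resolve_left hE1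
    exact hnn (normalizer_eq_top_iff.1 (eq_top_iff.2 fun g _ =>
      D.mem_normalizer_of_conj (hEM hu) hu1 (hEM (hEn.conj_mem u hu g))))
  subst hr2
  have hfree : ∀ x ∈ M, ∀ u ∈ E, u ≠ 1 → x * u = u * x → x = 1 := by
    intro x hx u hu hu1 hxu
    by_contra hx1
    exact D.no_commute (orderOf_eq_prime (hEexp u hu) hu1) hx hx1 hxu.symm
  have hEN : E ⊓ normalizer (M : Set G) = ⊥ := by
    rw [Subgroup.eq_bot_iff_forall]
    intro u hu
    by_contra hu1
    obtain ⟨y, hy, rfl⟩ := D.involution_normalizer (orderOf_eq_prime (hEexp u hu.1) hu1) hu.2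
    have h1 : x₁ * (y * z) * x₁⁻¹ * (y * z) ∈ E := mul_mem (hEn.conj_mem _ hu.1 x₁) hu.1
    have h2 : x₁ * (y * z) * x₁⁻¹ * (y * z) = x₁ * x₁ := by
      have hxy : x₁ * y = y * x₁ := D.commM hx₁ hy
      calc x₁ * (y * z) * x₁⁻¹ * (y * z) = (x₁ * y) * (z * x₁⁻¹) * (y * z) := by group
        _ = (x₁ * y) * (x₁ * z) * (y * z) := by rw [D.inverts' (inv_mem hx₁), inv_inv]
        _ = x₁ * (y * x₁) * (z * y) * z := by group
        _ = x₁ * (x₁ * y) * (y⁻¹ * z) * z := by rw [← hxy, D.inverts' hy]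
        _ = x₁ * x₁ * (z * z) := by group
        _ = x₁ * x₁ := by rw [D.zz, mul_one]
    rw [h2] at h1
    have h3 := hEexp _ h1
    rw [pow_two] at h3
    exact hx₁1 (D.eq_one_of_sq hx₁ (D.eq_one_of_sq (mul_mem hx₁ hx₁) h3))
  have hcop : Nat.Coprime m (Nat.card E) := by
    rw [ha]; exact (Nat.coprime_two_right.2 D.odd_M).pow_right a
  -- the order of `E`
  have hdiv : m ∣ 2 ^ a - 1 := ha ▸ free_dvd (fun x _ u hu => hEn.conj_mem u hu x) hfree
  have hle : a ≤ 2 * d := by
    rw [hEN, Subgroup.card_bot, one_mul, ha] at hcount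
    exact (Nat.pow_dvd_pow_iff_le_right (by norm_num)).1 hcount
  have ha0 : a ≠ 0 := fun e => by
    rw [e, pow_zero] at ha; exact hE1 (Subgroup.card_eq_one.1 ha)
  have had : a = 2 * d := by
    rw [hm] at hdiv
    have h2a : 2 ≤ 2 ^ a := by
      calc 2 = 2 ^ 1 := rfl
        _ ≤ 2 ^ a := Nat.pow_le_pow_right (by norm_num) (by omega)
    rcases le_or_gt a d with hle' | hlt
    · have h3 : 2 ^ a ≤ k := Nat.pow_le_pow_right (by norm_num) hle'
      have h4 := Nat.le_of_dvd (by omega) hdiv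
      omega
    · obtain ⟨b, rfl⟩ := Nat.exists_eq_add_of_le hlt.le
      have hb : 2 ^ b ≤ k := Nat.pow_le_pow_right (by norm_num) (by omega)
      have h1 : (k + 1) ∣ 2 ^ b + 1 := by
        have h5 : 2 ^ (d + b) - 1 + (2 ^ b + 1) = (k + 1) * 2 ^ b := by
          rw [pow_add, ← hk]
          have : 1 ≤ k * 2 ^ b := Nat.one_le_iff_ne_zero.2 (by positivity)
          rw [Nat.add_mul, one_mul]; omega
        exact (Nat.dvd_add_right hdiv).1 (h5 ▸ dvd_mul_right _ _)
      have h6 := Nat.le_of_dvd (by positivity) h1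
      have h7 : 2 ^ b = 2 ^ d := by omega
      have := Nat.pow_right_injective le_rfl h7
      omega
  have hEcard : Nat.card E = 2 ^ (2 * d) := by rw [ha, had]
  have htop : E ⊔ normalizer (M : Set G) = ⊤ := by
    have hdisj : Disjoint E (normalizer (M : Set G)) := disjoint_iff.2 hEN
    have hcompl := Subgroup.isComplement'_of_card_mul_and_disjoint (by
      rw [hEcard, hNcard, hg, pow_succ]; ring) hdisj
    exact hcompl.sup_eq_top
  -- `M` is cyclic
  have hcyc : IsCyclic M := by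
    by_contra hncyc
    have hMn : M ≤ normalizer (E : Set G) := by rw [normalizer_eq_top]; exact le_top
    have h := CfsgLib.Coprime.iSup_centralizer_eq D.isMulCommutative hncyc hMn hcop
    refine hE1 (le_bot_iff.1 (h ▸ iSup_le fun x => ?_))
    rintro u ⟨hu, hu'⟩
    rw [Subgroup.mem_bot]
    by_contra hu1
    exact x.2.2 (hfree x x.2.1 u hu hu1 (mem_centralizer_singleton_iff.1 hu').symm)
  obtain ⟨x, hx⟩ := hcyc.exists_generator
  have hxo : orderOf (x : G) = k + 1 := by
    rw [Subgroup.orderOf_coe, orderOf_eq_card_of_forall_mem_zpowers hx, ← hm]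
  haveI : NeZero (k + 1) := ⟨by omega⟩
  have hzM : z ∉ M := fun e => D.z_ne (D.inf_eq_one e (mem_centralizer_singleton_iff.2 rfl))
  obtain ⟨e⟩ := CfsgLib.Invol.exists_mulEquiv_dihedral hxo D.invol
    (by rw [D.z_inv]; exact D.inverts x.2) (fun e => hzM ((Subgroup.zpowers_le.2 x.2) e))
  have hcl : Subgroup.closure ({(x : G), z} : Set G) = normalizer (M : Set G) := by
    refine le_antisymm ((Subgroup.closure_le _).2 ?_) fun n hn => ?_
    · rintro u (rfl | rfl)
      · exact Subgroup.le_normalizer x.2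
      · exact D.mem_normalizer
    · obtain ⟨y, hy, c, hc', rfl⟩ := D.decomp hn
      refine mul_mem ?_ ?_
      · obtain ⟨j, hj⟩ := hx ⟨y, hy⟩
        have hj' : (x : G) ^ j = y := congrArg Subtype.val hj
        rw [← hj']
        exact zpow_mem (show (x : G) ∈ Subgroup.closure ({(x : G), z} : Set G) from
          Subgroup.subset_closure (Set.mem_insert _ _)) j
      · have h2 : c * c = 1 := hsq c hc'.2
        rcases D.eq_one_or_z hc' h2 with rfl | rfl
        · exact one_mem _
        · exact Subgroup.subset_closure (Or.inr rfl)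
  refine ⟨d, E, by omega, hEn, ⟨hEc, hEexp⟩, hEcard, hEN, htop, ?_⟩
  rw [← hcl]
  exact ⟨e⟩

end Data

end CfsgLib.Amalgam.TIInverted
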