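import Cfsg.Agent.Lib.Amalgam.TIInverted
import Mathlib.GroupTheory.GroupAction.Quotient
import Mathlib.GroupTheory.GroupAction.ConjAct

/-!
Orders, the number of involutions and the fixed-point-free action of the inverting complement.
-/

set_option autoImplicit false
set_option linter.unusedSectionVars false
set_option linter.style.haveILetI false

namespace CfsgLib.Amalgam.TIInverted

open Subgroup

variable {G : Type*} [Group G] [Finite G] {M : Subgroup G} {z : G}

/-- The complement `C`. -/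
abbrev comp (M : Subgroup G) (z : G) : Subgroup G :=
  normalizer (M : Set G) ⊓ centralizer ({z} : Set G)

/-- The elements commuting with `z` outside the normaliser. -/
abbrev Outer (M : Subgroup G) (z : G) : Type _ :=
  {h : G // h ∈ centralizer ({z} : Set G) ∧ h ∉ normalizer (M : Set G)}

namespace Data

variable (D : Data M z)
include D

theorem card_normalizer : Nat.card ↥(normalizer (M : Set G)) = Nat.card M * Nat.card (comp M z) := by
  rw [← Nat.card_prod]
  symm
  refine Nat.card_congr (Equiv.ofBijective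
    (fun w : M × comp M z => (⟨(w.1 : G) * w.2, mul_mem (Subgroup.le_normalizer w.1.2) w.2.2.1⟩ :
      normalizer (M : Set G))) ⟨?_, ?_⟩)
  · rintro ⟨⟨x, hx⟩, c, hc⟩ ⟨⟨x', hx'⟩, c', hc'⟩ e
    have e' : x * c = x' * c' := congrArg Subtype.val e
    have h1 : x'⁻¹ * x = c' * c⁻¹ := by
      calc x'⁻¹ * x = x'⁻¹ * (x * c) * c⁻¹ := by group
        _ = c' * c⁻¹ := by rw [e']; group
    have h2 := D.inf_eq_one (mul_mem (inv_mem hx') hx) (h1 ▸ mul_mem hc'.2 (inv_mem hc.2))
    have hxx : x = x' := (inv_mul_eq_one.1 h2).symm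
    subst hxx
    have hcc : c = c' := mul_left_cancel e'
    subst hcc
    rfl
  · rintro ⟨n, hn⟩
    obtain ⟨x, hx, c, hc, rfl⟩ := D.decomp hn
    exact ⟨(⟨x, hx⟩, ⟨c, hc⟩), rfl⟩

theorem card_centralizer :
    Nat.card ↥(centralizer ({z} : Set G)) = Nat.card (comp M z) + Nat.card (Outer M z) := by
  classical
  rw [← Nat.card_sum]
  refine Nat.card_congr ((Equiv.sumCompl fun h : centralizer ({z} : Set G) =>
    (h : G) ∈ normalizer (M : Set G)).symm.trans (Equiv.sumCongr ?_ ?_))
  · exact ⟨fun h => ⟨h.1, h.2, h.1.2⟩, fun h => ⟨⟨h.1, h.2.2⟩, h.2.1⟩, fun h => rfl, fun h => rfl⟩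
  · exact ⟨fun h => ⟨h.1, h.1.2, h.2⟩, fun h => ⟨⟨h.1, h.2.1⟩, h.2.2⟩, fun h => rfl, fun h => rfl⟩

theorem card_group :
    Nat.card G = Nat.card M * Nat.card (comp M z) +
      Nat.card M * Nat.card (Outer M z) * Nat.card M := by
  classical
  rw [← D.card_normalizer, ← Nat.card_prod, ← Nat.card_prod, ← Nat.card_sum]
  refine Nat.card_congr ((Equiv.sumCompl fun g : G => g ∈ normalizer (M : Set G)).symm.trans
    (Equiv.sumCongr (Equiv.refl _) (Equiv.ofBijective
      (fun w : (M × Outer M z) × M =>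
        (⟨(w.1.1 : G) * w.1.2 * w.2, fun e => w.1.2.2.2 (by
          have := mul_mem (mul_mem (inv_mem (Subgroup.le_normalizer w.1.1.2)) e)
            (inv_mem (Subgroup.le_normalizer w.2.2))
          simpa [mul_assoc] using this)⟩ : {g : G // g ∉ normalizer (M : Set G)})) ⟨?_, ?_⟩).symm))
  · rintro ⟨⟨x, h⟩, y⟩ ⟨⟨x', h'⟩, y'⟩ e
    obtain ⟨e1, e2, e3⟩ := D.bruhat_unique x.2 x'.2 y.2 y'.2 h.2.1 h'.2.1 h'.2.2
      (congrArg Subtype.val e)
    rw [Subtype.ext e1, Subtype.ext e2, Subtype.ext e3]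
  · rintro ⟨g, hg⟩
    obtain ⟨x, hx, h, hh, hhN, y, hy, rfl⟩ := D.exists_bruhat hg
    exact ⟨((⟨x, hx⟩, ⟨h, hh, hhN⟩), ⟨y, hy⟩), rfl⟩

theorem z_mul_invol {x : G} (hx : x ∈ M) : orderOf (x * z) = 2 := by
  refine orderOf_eq_prime ?_ ?_
  · rw [pow_two, show x * z * (x * z) = x * (z * x * z) by group, D.inverts hx, mul_inv_cancel]
  · intro e
    have hz : z ∈ M := by rw [eq_inv_of_mul_eq_one_right e]; exact inv_mem hx
    exact D.z_ne (D.inf_eq_one hz (mem_centralizer_singleton_iff.2 rfl))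

theorem card_involutions :
    Nat.card {t : G // orderOf t = 2} = Nat.card M + Nat.card M * Nat.card (Outer M z) := by
  classical
  rw [← Nat.card_prod, ← Nat.card_sum]
  refine Nat.card_congr ((Equiv.sumCompl fun t : {t : G // orderOf t = 2} =>
    (t : G) ∈ normalizer (M : Set G)).symm.trans (Equiv.sumCongr
      (Equiv.ofBijective (fun y : M => (⟨⟨(y : G) * z, D.z_mul_invol y.2⟩,
        mul_mem (Subgroup.le_normalizer y.2) D.mem_normalizer⟩ :
          {t : {t : G // orderOf t = 2} // (t : G) ∈ normalizer (M : Set G)})) ⟨?_, ?_⟩).symm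
      (Equiv.ofBijective (fun w : M × Outer M z =>
        (⟨⟨(w.1 : G) * w.2 * (w.1 : G)⁻¹, orderOf_eq_prime (by
            rw [conj_pow, pow_two, D.involution_outside w.2.2.1 w.2.2.2]; group)
            (fun e => w.2.2.2 (by
              rw [conj_eq_one_iff] at e
              rw [e]; exact one_mem _))⟩, fun e => w.2.2.2 (by
          have := mul_mem (mul_mem (inv_mem (Subgroup.le_normalizer w.1.2)) e)
            (Subgroup.le_normalizer w.1.2)
          simpa [mul_assoc] using this)⟩ :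
          {t : {t : G // orderOf t = 2} // (t : G) ∉ normalizer (M : Set G)})) ⟨?_, ?_⟩).symm))
  · intro a b e
    exact Subtype.ext (mul_right_cancel (congrArg (fun t => (t.1 : G)) e))
  · rintro ⟨⟨t, ht⟩, htN⟩
    obtain ⟨y, hy, rfl⟩ := D.involution_normalizer ht htN
    exact ⟨⟨y, hy⟩, rfl⟩
  · rintro ⟨x, h⟩ ⟨x', h'⟩ e
    obtain ⟨e1, e2, -⟩ := D.bruhat_unique x.2 x'.2 (inv_mem x.2) (inv_mem x'.2) h.2.1 h'.2.1 h'.2.2
      (congrArg (fun t => (t.1 : G)) e)
    rw [Subtype.ext e1, Subtype.ext e2]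
  · rintro ⟨⟨t, ht⟩, htN⟩
    obtain ⟨x, hx, h, hh, hhN, rfl⟩ :=
      D.involution_bruhat (by have h2 := pow_orderOf_eq_one t; rw [ht, pow_two] at h2; exact h2) htN
    exact ⟨(⟨x, hx⟩, ⟨h, hh, hhN⟩), rfl⟩

omit D [Finite G] in
theorem card_conjugates (w : G) :
    Nat.card {t : G // IsConj w t} = (centralizer ({w} : Set G)).index := by
  let e : G → {t : G // IsConj w t} := fun g => ⟨g * w * g⁻¹, isConj_iff.2 ⟨g, rfl⟩⟩
  have hiff : ∀ a b : G, e a = e b ↔ a⁻¹ * b ∈ centralizer ({w} : Set G) := by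
    intro a b
    rw [mem_centralizer_singleton_iff, Subtype.ext_iff]
    show a * w * a⁻¹ = b * w * b⁻¹ ↔ _
    constructor
    · intro h
      calc a⁻¹ * b * w = a⁻¹ * (b * w * b⁻¹) * b := by group
        _ = a⁻¹ * (a * w * a⁻¹) * b := by rw [h]
        _ = w * (a⁻¹ * b) := by group
    · intro h
      calc a * w * a⁻¹ = a * (w * (a⁻¹ * b)) * b⁻¹ := by group
        _ = a * (a⁻¹ * b * w) * b⁻¹ := by rw [h]
        _ = b * w * b⁻¹ := by group
  let q : G ⧸ centralizer ({w} : Set G) → {t : G // IsConj w t} :=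
    Quotient.lift e fun a b hab => (hiff a b).2 (QuotientGroup.leftRel_apply.1 hab)
  symm
  refine Nat.card_congr (Equiv.ofBijective q ⟨?_, ?_⟩)
  · intro a b
    induction a using QuotientGroup.induction_on with
    | _ a =>
      induction b using QuotientGroup.induction_on with
      | _ b => intro h; exact QuotientGroup.eq.2 ((hiff a b).1 h)
  · rintro ⟨t, ht⟩
    obtain ⟨g, rfl⟩ := isConj_iff.1 ht
    exact ⟨(g : G ⧸ _), rfl⟩

theorem class_le : Nat.card G ≤
    Nat.card ↥(centralizer ({z} : Set G)) * Nat.card {t : G // orderOf t = 2} := by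
  classical
  rw [← (centralizer ({z} : Set G)).card_mul_index, ← card_conjugates z]
  refine Nat.mul_le_mul_left _ (Nat.card_le_card_of_injective
    (fun t : {t : G // IsConj z t} => (⟨t.1, by
      obtain ⟨g, hg⟩ := isConj_iff.1 t.2
      rw [← hg, ← D.invol]; exact MulEquiv.orderOf_eq (MulAut.conj g) z⟩ : {t : G // orderOf t = 2}))
    fun a b e => Subtype.ext ?_)
  exact congrArg (fun w : {t : G // orderOf t = 2} => (w : G)) e

theorem all_conj (h : Nat.card G =
    Nat.card ↥(centralizer ({z} : Set G)) * Nat.card {t : G // orderOf t = 2}) {t : G}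
    (ht : orderOf t = 2) : IsConj z t := by
  classical
  haveI := Fintype.ofFinite G
  let f : {t : G // IsConj z t} → {t : G // orderOf t = 2} := fun t => ⟨t.1, by
      obtain ⟨g, hg⟩ := isConj_iff.1 t.2
      rw [← hg, ← D.invol]; exact MulEquiv.orderOf_eq (MulAut.conj g) z⟩
  have hcard : Nat.card {t : G // IsConj z t} = Nat.card {t : G // orderOf t = 2} := by
    rw [card_conjugates]
    refine Nat.eq_of_mul_eq_mul_left (Nat.card_pos (α := centralizer ({z} : Set G))) ?_
    rw [← h, Subgroup.card_mul_index]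
  have hinj : Function.Injective f := fun a b e =>
    Subtype.ext (congrArg (fun w : {t : G // orderOf t = 2} => (w : G)) e)
  have hb := (Nat.bijective_iff_injective_and_card f).2 ⟨hinj, hcard⟩
  obtain ⟨u, hu⟩ := hb.2 ⟨t, ht⟩
  rw [← show u.1 = t from congrArg Subtype.val hu]
  exact u.2

theorem exists_outer (hnn : ¬ M.Normal) : Nonempty (Outer M z) := by
  obtain ⟨g, hg⟩ : ∃ g, g ∉ normalizer (M : Set G) := by
    by_contra h
    push Not at h
    exact hnn (normalizer_eq_top_iff.1 (eq_top_iff.2 fun g _ => h g))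
  obtain ⟨x, -, h, hh, hhN, -⟩ := D.exists_bruhat hg
  exact ⟨⟨h, hh, hhN⟩⟩

/-- Either `C` has index two in the centraliser of `z`, or `C` has order two. -/
theorem dichotomy (hnn : ¬ M.Normal) :
    Nat.card (Outer M z) = Nat.card (comp M z) ∨
      (Nat.card (comp M z) = 2 ∧ ∀ h ∈ centralizer ({z} : Set G), h * h = 1) := by
  classical
  obtain ⟨⟨h, hh, hhN⟩⟩ := D.exists_outer hnn
  by_cases hall : ∀ h' : Outer M z, h * h' ∈ normalizer (M : Set G)
  · left
    refine Nat.card_congr ⟨fun h' => ⟨h * h', hall h', mul_mem hh h'.2.1⟩,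
      fun c => ⟨h * c, mul_mem hh c.2.2, fun e => hhN ?_⟩, fun h' => Subtype.ext ?_,
      fun c => Subtype.ext ?_⟩
    · have := mul_mem e (inv_mem c.2.1); rwa [mul_inv_cancel_right] at this
    · show h * (h * (h' : G)) = h'
      rw [← mul_assoc, D.involution_outside hh hhN, one_mul]
    · show h * (h * (c : G)) = c
      rw [← mul_assoc, D.involution_outside hh hhN, one_mul]
  · right
    push Not at hall
    obtain ⟨⟨h', hh', hhN'⟩, hne⟩ := hall
    have h2 := D.involution_outside hh hhN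
    have h2' := D.involution_outside hh' hhN'
    have hcm : h * h' = h' * h := by
      have := D.involution_outside (mul_mem hh hh') hne
      calc h * h' = h * h' * (h * h' * (h' * h)) := by
            rw [show h * h' * (h' * h) = h * (h' * h') * h by group, h2', mul_one, h2, mul_one]
        _ = h' * h := by rw [← mul_assoc, this, one_mul]
    have hC : ∀ c ∈ comp M z, c * c = 1 := by
      intro c hc
      have e1 := D.inverts_C (mul_mem hh hh') hne hc
      have e2 : h * h' * c * (h * h') = c := by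
        nth_rw 2 [hcm]
        rw [show h * h' * c * (h' * h) = h * (h' * c * h') * h by group, D.inverts_C hh' hhN' hc,
          D.inverts_C hh hhN (inv_mem hc), inv_inv]
      rw [e2, eq_inv_iff_mul_eq_one] at e1
      exact e1
    refine ⟨?_, fun w hw => ?_⟩
    · haveI := Fintype.ofFinite G
      have : (comp M z : Set G) = {1, z} := by
        ext c
        simp only [SetLike.mem_coe, Set.mem_insert_iff, Set.mem_singleton_iff]
        constructor
        · intro hc; exact D.eq_one_or_z hc (hC c hc)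
        · rintro (rfl | rfl)
          · exact one_mem _
          · exact D.z_memC
      rw [← SetLike.coe_sort_coe, this, Nat.card_coe_set_eq, Set.ncard_pair D.z_ne.symm]
    · by_cases hwN : w ∈ normalizer (M : Set G)
      · exact hC w ⟨hwN, hw⟩
      · exact D.involution_outside hw hwN

theorem free (hnn : ¬ M.Normal) {c x : G} (hc : c ∈ comp M z) (hx : x ∈ M)
    (hcx : c * x = x * c) : c = 1 ∨ x = 1 := by
  by_contra hne
  push Not at hne
  obtain ⟨hc1, hx1⟩ := hne
  obtain ⟨⟨h, hh, hhN⟩⟩ := D.exists_outer hnn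
  have h2 := D.involution_outside hh hhN
  have hhi : h⁻¹ = h := inv_eq_of_mul_eq_one_right h2
  have hg : h * x * h ∉ normalizer (M : Set G) := by
    intro e
    have hzh : z * h = h * z := (mem_centralizer_singleton_iff.1 hh).symm
    have hi : z * (h * x * h) * z = (h * x * h)⁻¹ := by
      calc z * (h * x * h) * z = (z * h) * x * (h * z) := by simp only [mul_assoc]
        _ = h * (z * x * z) * h := by rw [← hzh, hzh]; simp only [mul_assoc]; rw [← hzh]
        _ = (h * x * h)⁻¹ := by rw [D.inverts hx, mul_inv_rev, mul_inv_rev, hhi, mul_assoc]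
    rcases D.mem_M_of_inverted e hi with h1 | ⟨y, hy, h1⟩
    · exact hhN (D.mem_normalizer_of_conj hx hx1 (by rw [hhi]; exact h1))
    · have h3 : orderOf (h * x * h⁻¹) = orderOf x := MulEquiv.orderOf_eq (MulAut.conj h) x
      rw [hhi, h1, D.z_mul_invol hy] at h3
      refine hx1 (D.eq_one_of_sq hx ?_)
      rw [← pow_two, h3, pow_orderOf_eq_one]
  obtain ⟨a, ha, h', hh', hhN', b, hb, e⟩ := D.exists_bruhat hg
  have hch : c * h = h * c⁻¹ := by
    rw [← D.inverts_C hh hhN hc, ← mul_assoc, ← mul_assoc, h2, one_mul]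
  have hch' : h * c⁻¹ = c * h := hch.symm
  have hinv : c * (h * x * h) * c⁻¹ = h * x * h := by
    have hxc : c⁻¹ * x * c = x := by rw [mul_assoc, ← hcx, inv_mul_cancel_left]
    have hhc : h * c⁻¹ = c * h := hch'
    have hhc2 : h * c⁻¹ = c * h ∧ h * c = c⁻¹ * h := ⟨hch', by
      rw [← D.inverts_C hh hhN hc, mul_assoc, h2, mul_one]⟩
    calc c * (h * x * h) * c⁻¹ = (c * h) * x * (h * c⁻¹) := by simp only [mul_assoc]
      _ = (h * c⁻¹) * x * (c * h) := by rw [hhc]
      _ = h * (c⁻¹ * x * c) * h := by simp only [mul_assoc]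
      _ = h * x * h := by rw [hxc]
  have e' : (c * a * c⁻¹) * (c * h' * c⁻¹) * (c * b * c⁻¹) = a * h' * b := by
    rw [← e]; conv_rhs => rw [← hinv, e]
    group
  obtain ⟨-, e2, -⟩ := D.bruhat_unique (D.conj_mem hc.1 ha) ha (D.conj_mem hc.1 hb) hb
    (mul_mem (mul_mem hc.2 hh') (inv_mem hc.2)) hh' hhN' e'
  have h5 : c * c = 1 := by
    have h6 := D.inverts_C hh' hhN' hc
    have h7 : h' * c = c * h' := (mul_inv_eq_iff_eq_mul.1 e2).symm
    rw [h7, mul_assoc, D.involution_outside hh' hhN', mul_one, eq_inv_iff_mul_eq_one] at h6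
    exact h6
  rcases D.eq_one_or_z hc h5 with rfl | rfl
  · exact hc1 rfl
  · exact D.no_commute D.invol hx hx1 hcx

/-- `C` acts freely on every invariant subgroup of `M`. -/
theorem comp_dvd (hnn : ¬ M.Normal) {A : Subgroup G} (hAM : A ≤ M)
    (hA : ∀ c ∈ comp M z, ∀ x ∈ A, c * x * c⁻¹ ∈ A) :
    Nat.card (comp M z) ∣ Nat.card A - 1 := by
  classical
  haveI := Fintype.ofFinite G
  let X := {x : A // x ≠ 1}
  letI : MulAction (comp M z) X :=
    { smul := fun c x => ⟨⟨(c : G) * (x.1 : G) * (c : G)⁻¹, hA c c.2 x.1 x.1.2⟩, fun e => x.2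
        (Subtype.ext (by
          have : (c : G) * (x.1 : G) * (c : G)⁻¹ = 1 := congrArg Subtype.val e
          simpa using conj_eq_one_iff.1 this))⟩
      one_smul := fun x => Subtype.ext (Subtype.ext (by
        show (1 : G) * (x.1 : G) * (1 : G)⁻¹ = x.1
        simp))
      mul_smul := fun c d x => Subtype.ext (Subtype.ext (by
        show (c : G) * d * (x.1 : G) * ((c : G) * d)⁻¹ = c * (d * x.1 * (d : G)⁻¹) * (c : G)⁻¹
        group)) }
  have hstab : ∀ x : X, MulAction.stabilizer (comp M z) x = ⊥ := by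
    intro x
    rw [Subgroup.eq_bot_iff_forall]
    intro c hc
    have hc' : (c : G) * (x.1 : G) * (c : G)⁻¹ = x.1 :=
      congrArg (fun y : X => (y.1 : G)) (MulAction.mem_stabilizer_iff.1 hc)
    refine Subtype.ext ((D.free hnn c.2 (hAM x.1.2) (mul_inv_eq_iff_eq_mul.1 hc')).resolve_right
      fun e => x.2 (Subtype.ext e))
  have hX : Nat.card X = Nat.card A - 1 := by
    rw [Nat.card_eq_fintype_card, Fintype.card_subtype_compl, Fintype.card_subtype_eq,
      Nat.card_eq_fintype_card]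
  rw [← hX, Nat.card_congr (MulAction.selfEquivSigmaOrbitsQuotientStabilizer (comp M z) X),
    Nat.card_sigma]
  refine Finset.dvd_sum fun ω _ => ?_
  rw [← Subgroup.index, hstab, Subgroup.index_bot]

theorem comp_dvd_card (hnn : ¬ M.Normal) : Nat.card (comp M z) ∣ Nat.card M - 1 :=
  D.comp_dvd hnn le_rfl fun _ hc _ hx => D.conj_mem hc.1 hx

/-- With a large complement, `M` is elementary abelian. -/
theorem elementary (hnn : ¬ M.Normal) (hle : Nat.card M ≤ 2 * Nat.card (comp M z) + 1) :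
    ∃ p : ℕ, p.Prime ∧ (∀ x ∈ M, x ^ p = 1) ∧ ∃ n, Nat.card M = p ^ n := by
  have h1 : 1 < Nat.card M := M.one_lt_card_iff_ne_bot.2 D.ne_bot
  obtain ⟨p, hp, hdvd⟩ := Nat.exists_prime_and_dvd h1.ne'
  haveI : Fact p.Prime := ⟨hp⟩
  let A : Subgroup G :=
    { carrier := {x | x ∈ M ∧ x ^ p = 1}
      one_mem' := ⟨one_mem _, one_pow p⟩
      mul_mem' := fun {a b} ha hb => ⟨mul_mem ha.1 hb.1, by
        rw [Commute.mul_pow (D.commM ha.1 hb.1), ha.2, hb.2, one_mul]⟩
      inv_mem' := fun {a} ha => ⟨inv_mem ha.1, by rw [inv_pow, ha.2, inv_one]⟩ }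
  have hAM : A ≤ M := fun x hx => hx.1
  obtain ⟨w, hw⟩ := exists_prime_orderOf_dvd_card' p hdvd
  have hA2 : 1 < Nat.card A := by
    rw [A.one_lt_card_iff_ne_bot]
    intro e
    have hwA : (w : G) ∈ A := ⟨w.2, by rw [← hw, ← Subgroup.orderOf_coe, pow_orderOf_eq_one]⟩
    rw [e, mem_bot, OneMemClass.coe_eq_one] at hwA
    rw [hwA, orderOf_one] at hw
    exact hp.one_lt.ne hw
  have hinv : ∀ c ∈ comp M z, ∀ x ∈ A, c * x * c⁻¹ ∈ A := fun c hc x hx =>
    ⟨D.conj_mem hc.1 hx.1, by rw [conj_pow, hx.2]; group⟩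
  obtain ⟨u, hu⟩ := D.comp_dvd hnn hAM hinv
  obtain ⟨v, hv⟩ := D.comp_dvd_card hnn
  have hmul : Nat.card A * A.relIndex M = Nat.card M := by
    have := Subgroup.card_mul_index (A.subgroupOf M)
    rwa [Nat.card_congr (Subgroup.subgroupOfEquivOfLe hAM).toEquiv] at this
  have hb : A.relIndex M = 1 := by
    by_contra hb
    set a := Nat.card A
    set b := A.relIndex M
    set c := Nat.card (comp M z)
    have hb0 : b ≠ 0 := fun e => by rw [e, mul_zero] at hmul; omega
    have hdb : c ∣ b - 1 := by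
      have hca : Nat.Coprime c a := by
        have : Nat.gcd c a ∣ 1 := by
          have h2 : Nat.gcd c a ∣ a - 1 := (Nat.gcd_dvd_left c a).trans ⟨u, hu⟩
          have h3 := Nat.dvd_sub (Nat.gcd_dvd_right c a) h2
          rwa [show a - (a - 1) = 1 by omega] at h3
        exact Nat.dvd_one.1 this
      refine hca.dvd_of_dvd_mul_left ?_
      have hle1 : a ≤ a * b := Nat.le_mul_of_pos_right a (Nat.pos_of_ne_zero hb0)
      have h4 : a * (b - 1) = (Nat.card M - 1) - (a - 1) := by
        rw [Nat.mul_sub, mul_one, hmul]; omega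
      rw [h4, hu, hv]
      exact Nat.dvd_sub (dvd_mul_right _ _) (dvd_mul_right _ _)
    have hca' : c ≤ a - 1 := Nat.le_of_dvd (by omega) ⟨u, hu⟩
    have hcb' : c ≤ b - 1 := Nat.le_of_dvd (by omega) hdb
    have hc0 : 0 < c := Nat.card_pos
    have h5 : (c + 1) * (c + 1) ≤ a * b := Nat.mul_le_mul (by omega) (by omega)
    nlinarith
  have hAeq : M ≤ A := Subgroup.relIndex_eq_one.1 hb
  refine ⟨p, hp, fun x hx => (hAeq hx).2, ?_⟩
  exact IsPGroup.iff_card.1 (fun x => ⟨1, Subtype.ext (by simpa using (hAeq x.2).2)⟩ : IsPGroup p M)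

end Data

end CfsgLib.Amalgam.TIInverted
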