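import Cfsg.Agent.Lib.Transfer.Frobenius
import Cfsg.Agent.Lib.Transfer.Tate

/-!
# The largest `p`-factor group from the derived group

Tate: if a subgroup `M` contains a Sylow `p`-subgroup `P` and `P ∩ G' ≤ M'`, then the largest
`p`-factor groups of `G` and `M` are isomorphic.
-/

set_option autoImplicit false

namespace CfsgLib.Amalgam.TateIso

open Subgroup CfsgLib.Transfer
open scoped commutatorElement Pointwise

section

open scoped IsMulCommutative

variable {G : Type*} [Group G] [Finite G] {p : ℕ} [Fact p.Prime]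

/-- Tate's transfer argument, relative to a subgroup `R`. -/
theorem le_sup_commutator (P : Sylow p G) (K : Subgroup G) [K.Normal]
    (hKP : K ⊔ (P : Subgroup G) = ⊤) (hK : Cfsg.pResidual p K = ⊤)
    (R₀ : Subgroup (P : Subgroup G)) (hR₀ : R₀ ≤ K.subgroupOf (P : Subgroup G))
    (h : K.subgroupOf (P : Subgroup G) ≤ commutator (P : Subgroup G) ⊔ R₀) :
    K.subgroupOf (P : Subgroup G) ≤
      R₀ ⊔ ⁅K.subgroupOf (P : Subgroup G), (⊤ : Subgroup (P : Subgroup G))⁆ := by
  set Q := K.subgroupOf (P : Subgroup G)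
  set X := ⁅Q, (⊤ : Subgroup (P : Subgroup G))⁆ with hX
  let ψP := QuotientGroup.mk' X
  set A := (P : Subgroup G) ⧸ X
  set Z : Subgroup A := Q.map ψP with hZdef
  have hZc : Z ≤ center A := by
    rintro _ ⟨q, hq, rfl⟩
    rw [mem_center_iff]
    intro a
    obtain ⟨s, rfl⟩ := QuotientGroup.mk'_surjective X a
    have hmem : ⁅q, s⁆ ∈ X := commutator_mem_commutator hq (mem_top s)
    have : ψP ⁅q, s⁆ = 1 := (QuotientGroup.eq_one_iff _).2 hmem
    rw [map_commutatorElement, commutatorElement_eq_one_iff_mul_comm] at this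
    exact this.symm
  have : IsMulCommutative Z :=
    ⟨⟨fun a b => Subtype.ext ((mem_center_iff.1 (hZc b.2)) (a : A))⟩⟩
  have hZp : IsPGroup p Z := (P.2.to_quotient X).to_subgroup Z
  let π := QuotientGroup.mk' K
  let ρ : A →* G ⧸ K := QuotientGroup.lift X (π.comp (P : Subgroup G).subtype) (by
    refine (commutator_le_left Q ⊤).trans fun q hq => ?_
    exact (QuotientGroup.eq_one_iff (q : G)).2 hq)
  have hρ : ∀ s, ρ (ψP s) = π s := fun s => rfl
  -- the fibre product
  let E : Subgroup (G × A) := (π.comp (MonoidHom.fst G A)).eqLocus (ρ.comp (MonoidHom.snd G A))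
  let f : E →* G := (MonoidHom.fst G A).comp E.subtype
  have hf : Function.Surjective f := by
    intro g
    have hg : g ∈ ((K : Set G) * ((P : Subgroup G) : Set G) : Set G) := by
      rw [← normal_mul, hKP]; trivial
    obtain ⟨k, hk, s, hs, rfl⟩ := hg
    refine ⟨⟨(k * s, ψP ⟨s, hs⟩), ?_⟩, rfl⟩
    change π (k * s) = ρ (ψP ⟨s, hs⟩)
    rw [hρ, map_mul, (show π k = 1 from (QuotientGroup.eq_one_iff k).2 hk), one_mul]
  set R := (P : Subgroup G).comap f
  have hRi : R.index = (P : Subgroup G).index := index_comap_of_surjective _ hf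
  have hmem : ∀ e : R, (e : E).1.2 * (ψP ⟨(e : E).1.1, e.2⟩)⁻¹ ∈ Z := by
    intro e
    obtain ⟨q, hq⟩ := QuotientGroup.mk'_surjective X ((e : E).1.2 * (ψP ⟨(e : E).1.1, e.2⟩)⁻¹)
    refine ⟨q, ?_, hq⟩
    have h1 : ρ (ψP q) = 1 := by
      change ρ (QuotientGroup.mk' X q) = 1
      rw [hq, map_mul, map_inv, hρ]
      have he : π (e : E).1.1 = ρ (e : E).1.2 := (e : E).2
      rw [← he, mul_inv_cancel]
    rw [hρ] at h1
    exact (QuotientGroup.eq_one_iff (q : G)).1 h1
  let r : R →* Z :=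
    { toFun := fun e => ⟨_, hmem e⟩
      map_one' := Subtype.ext (by
        change (1 : A) * (ψP 1)⁻¹ = 1
        rw [map_one, inv_one, mul_one])
      map_mul' := fun a b => Subtype.ext (by
        have hb := mem_center_iff.1 (hZc (hmem b))
        change (a : E).1.2 * (b : E).1.2 *
            (ψP (⟨(a : E).1.1, a.2⟩ * ⟨(b : E).1.1, b.2⟩))⁻¹ =
          (a : E).1.2 * (ψP ⟨(a : E).1.1, a.2⟩)⁻¹ * ((b : E).1.2 * (ψP ⟨(b : E).1.1, b.2⟩)⁻¹)
        rw [map_mul, mul_inv_rev, mul_assoc ((a : E).1.2) ((ψP ⟨(a : E).1.1, a.2⟩)⁻¹),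
          hb ((ψP ⟨(a : E).1.1, a.2⟩)⁻¹)]
        simp only [mul_assoc]) }
  let τ := MonoidHom.transfer r
  -- `τ` is the `index`-th power on `Z`
  have hzmem : ∀ z : Z, ((1 : G), (z : A)) ∈ E := by
    rintro ⟨_, q, hq, rfl⟩
    change π 1 = ρ (ψP q)
    rw [hρ, map_one]
    exact ((QuotientGroup.eq_one_iff (q : G)).2 hq).symm
  have hτz : ∀ z : Z, τ ⟨_, hzmem z⟩ = z ^ R.index := by
    intro z
    have hcent : (⟨_, hzmem z⟩ : E) ∈ center E := mem_center_iff.2 fun e => Subtype.ext
      (Prod.ext ((mul_one _).trans (one_mul _).symm) (mem_center_iff.1 (hZc z.2) e.1.2))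
    change MonoidHom.transfer r ⟨_, hzmem z⟩ = _
    rw [MonoidHom.transfer_eq_pow r _ fun k g₀ _ => by
      rw [mem_center_iff.1 (pow_mem hcent k) g₀⁻¹, mul_assoc, inv_mul_cancel, mul_one]]
    have hzR : (⟨_, hzmem z⟩ : E) ∈ R := one_mem (P : Subgroup G)
    rw [show (⟨(⟨_, hzmem z⟩ : E) ^ R.index, _⟩ : R) = (⟨_, hzR⟩ : R) ^ R.index from
      Subtype.ext (SubmonoidClass.coe_pow (⟨_, hzR⟩ : R) R.index).symm, map_pow]
    congr 1
    refine Subtype.ext ?_
    change (z : A) * (ψP (1 : (P : Subgroup G)))⁻¹ = z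
    rw [map_one, inv_one, mul_one]
  let ι : K →* E :=
    { toFun := fun k => ⟨((k : G), 1), by
        change π k = ρ 1
        rw [map_one]
        exact (QuotientGroup.eq_one_iff (k : G)).2 k.2⟩
      map_one' := rfl
      map_mul' := fun a b => Subtype.ext (Prod.ext rfl (one_mul 1).symm) }
  have hτK : ∀ k, τ (ι k) = 1 := eq_one_of_pResidual_eq_top (τ.comp ι) hZp hK
  let φ : (P : Subgroup G) →* Z :=
    τ.comp ((((P : Subgroup G).subtype).prod ψP).codRestrict E fun s => (hρ s).symm)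
  have hφQ : ∀ q (hq : q ∈ Q), φ q = (⟨ψP q, q, hq, rfl⟩ : Z) ^ R.index := by
    intro q hq
    rw [← hτz]
    have : ((((P : Subgroup G).subtype).prod ψP).codRestrict E fun s => (hρ s).symm) q =
        ι ⟨q, hq⟩ * ⟨_, hzmem ⟨ψP q, q, hq, rfl⟩⟩ :=
      Subtype.ext (Prod.ext (mul_one _).symm (one_mul _).symm)
    change τ _ = _
    rw [this, map_mul, hτK, one_mul]
  have hcop : (Nat.card Z).Coprime R.index := by
    obtain ⟨n, hn⟩ := hZp.exists_card_eq
    rw [hn, hRi]
    exact ((Fact.out : p.Prime).coprime_iff_not_dvd.2 P.not_dvd_index).pow_left n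
  intro q hq
  have hq' : q ∈ φ.ker ⊔ R₀ := sup_le_sup_right (Abelianization.commutator_subset_ker φ) _ (h hq)
  rw [← SetLike.mem_coe, normal_mul] at hq'
  obtain ⟨c, hc, r, hr, hcr⟩ := hq'
  have e : φ q = φ r := by rw [← hcr, map_mul, show φ c = 1 from hc, one_mul]
  rw [hφQ q hq, hφQ r (hR₀ hr)] at e
  have e2 : (ψP r : A) = ψP q := (congrArg Subtype.val ((powCoprime hcop).injective e)).symm
  have h2 : r⁻¹ * q ∈ X := QuotientGroup.eq.1 e2
  have := mul_mem_sup hr h2
  rwa [mul_inv_cancel_left] at this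

end

universe v

variable {G : Type v} [Group G] [Finite G] {p : ℕ} [Fact p.Prime]

theorem inf_pResidual_le_commutator (P : Sylow p G) :
    (P : Subgroup G) ⊓ Cfsg.pResidual p G ≤ commutator G := by
  rintro x ⟨hxP, hxK⟩
  let f : G →* Abelianization G :=
    (powMonoidHom (P : Subgroup G).index).comp Abelianization.of
  obtain ⟨n, hn⟩ := P.2.exists_card_eq
  have hf : IsPGroup p f.range := by
    rintro ⟨_, g, rfl⟩
    refine ⟨n, Subtype.ext ?_⟩
    show ((Abelianization.of g) ^ (P : Subgroup G).index) ^ p ^ n = 1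
    rw [← pow_mul, mul_comm, ← hn, Subgroup.card_mul_index, ← map_pow, pow_card_eq_one', map_one]
  have h1 : (Abelianization.of x) ^ (P : Subgroup G).index = 1 :=
    congrArg Subtype.val (MonoidHom.mem_ker.1 (pResidual_le_ker f.rangeRestrict hf hxK))
  obtain ⟨k, hk⟩ := P.2 ⟨x, hxP⟩
  refine (QuotientGroup.eq_one_iff x).1 (orderOf_eq_one_iff.1 ?_)
  refine Nat.eq_one_of_dvd_coprimes
    (Nat.Coprime.pow_left k ((Fact.out : p.Prime).coprime_iff_not_dvd.2 P.not_dvd_index))
    ?_ (orderOf_dvd_of_pow_eq_one h1)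
  exact (orderOf_map_dvd (Abelianization.of : G →* Abelianization G) x).trans
    (orderOf_dvd_of_pow_eq_one (congrArg Subtype.val hk :))

/-- If `P ≤ M` and `P ∩ G' ≤ M'`, then `G / O^p(G) ≅ M / O^p(M)`. -/
theorem quotient_pResidual_equiv (P : Sylow p G) {M : Subgroup G} (hPM : (P : Subgroup G) ≤ M)
    (h : (P : Subgroup G) ⊓ commutator G ≤ ⁅M, M⁆)
    [hn : (Cfsg.pResidual p G).Normal] [hm : (Cfsg.pResidual p M).Normal] :
    Nonempty (G ⧸ Cfsg.pResidual p G ≃* M ⧸ Cfsg.pResidual p M) := by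
  set K := Cfsg.pResidual p G with hKdef
  set LM := Cfsg.pResidual p M with hLM
  set L := LM.map M.subtype with hLdef
  have hLK : L ≤ K := map_pResidual_le _
  have hKP : K ⊔ (P : Subgroup G) = ⊤ := pResidual_sup_sylow P
  set R := L.subgroupOf (P : Subgroup G) with hR
  set Q := K.subgroupOf (P : Subgroup G) with hQ
  have hLn : (P : Subgroup G) ≤ normalizer (L : Set G) := by
    refine hPM.trans fun m hm' => ?_
    have : (⟨m, hm'⟩ : M) ∈ normalizer (LM : Set M) := by
      rw [normalizer_eq_top_iff.2 hm]; exact mem_top _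
    exact le_normalizer_map _ ⟨_, this, rfl⟩
  haveI hRn : R.Normal := normal_subgroupOf_iff_le_normalizer_inf.2
    ((le_inf le_normalizer hLn).trans inf_normalizer_le_normalizer_inf |>.trans
      (le_of_eq (by rw [inf_comm])))
  -- `M = L P`
  let P' := P.subtype hPM
  have hM : LM ⊔ (P' : Subgroup M) = ⊤ := pResidual_sup_sylow P'
  set π := QuotientGroup.mk' LM with hπ
  have hπP : (P' : Subgroup M).map π = ⊤ := by
    rw [← map_top_of_surjective π (QuotientGroup.mk'_surjective LM), ← hM, Subgroup.map_sup,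
      hπ, QuotientGroup.map_mk'_self, bot_sup_eq]
  have hQR : Q ≤ R := by
    have h1 : Q ≤ commutator (P : Subgroup G) ⊔ R := by
      intro x hx
      have h2 : (x : G) ∈ ⁅M, M⁆ := h ⟨x.2, inf_pResidual_le_commutator P ⟨x.2, hx⟩⟩
      rw [← map_subtype_commutator] at h2
      obtain ⟨y, hy, hyx⟩ := h2
      have h3 : π y ∈ ⁅(P' : Subgroup M), (P' : Subgroup M)⁆.map π := by
        rw [Subgroup.map_commutator, hπP, ← map_top_of_surjective π (QuotientGroup.mk'_surjective LM),
          ← Subgroup.map_commutator]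
        exact mem_map_of_mem π hy
      obtain ⟨w, hw, hwy⟩ := h3
      have h4 : w⁻¹ * y ∈ LM := QuotientGroup.eq.1 hwy
      have hw' : (w : G) ∈ ⁅(P : Subgroup G), (P : Subgroup G)⁆ := by
        have := mem_map_of_mem M.subtype hw
        rwa [Subgroup.map_commutator, Sylow.coe_subtype, map_subgroupOf_eq_of_le hPM] at this
      rw [← map_subtype_commutator] at hw'
      obtain ⟨c, hc, hcw⟩ := hw'
      have h5 : c⁻¹ * x ∈ R := by
        show ((c : G))⁻¹ * (x : G) ∈ L
        refine ⟨w⁻¹ * y, h4, ?_⟩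
        rw [map_mul, map_inv, hyx, show M.subtype w = (w : G) from rfl, ← hcw]
        rfl
      have := mul_mem_sup hc h5
      rwa [mul_inv_cancel_left] at this
    have h2 := le_sup_commutator P K hKP pResidual_pResidual R
      (comap_mono hLK) h1
    set ρ := QuotientGroup.mk' R with hρ
    have h3 : Q.map ρ ≤ ⁅Q.map ρ, (⊤ : Subgroup _)⁆ := by
      refine (map_mono h2).trans ?_
      rw [Subgroup.map_sup, hρ, QuotientGroup.map_mk'_self, bot_sup_eq, Subgroup.map_commutator,
        map_top_of_surjective _ (QuotientGroup.mk'_surjective R)]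
    haveI := (P.2.to_quotient R).isNilpotent
    haveI : Group.IsNilpotent (⊤ : Subgroup ((P : Subgroup G) ⧸ R)) := Group.isNilpotent_top.2 ‹_›
    have := eq_bot_of_le_commutator (le_top : Q.map ρ ≤ (⊤ : Subgroup ((P : Subgroup G) ⧸ R))) h3
    rwa [Subgroup.map_eq_bot_iff, hρ, QuotientGroup.ker_mk'] at this
  let f : M →* G ⧸ K := (QuotientGroup.mk' K).comp M.subtype
  have hf : Function.Surjective f := by
    intro q
    obtain ⟨g, rfl⟩ := QuotientGroup.mk'_surjective K q
    have hg : g ∈ ((K : Set G) * ((P : Subgroup G) : Set G)) := by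
      rw [← normal_mul, hKP]; trivial
    obtain ⟨k, hk, s, hs, rfl⟩ := hg
    refine ⟨⟨s, hPM hs⟩, ?_⟩
    show QuotientGroup.mk' K s = _
    rw [map_mul, show QuotientGroup.mk' K k = 1 from (QuotientGroup.eq_one_iff k).2 hk, one_mul]
  have hker : LM = f.ker := by
    refine le_antisymm (fun m hm' => ?_) fun m hm' => ?_
    · exact (QuotientGroup.eq_one_iff (m : G)).2 (hLK ⟨m, hm', rfl⟩)
    · have hmK : (m : G) ∈ K := (QuotientGroup.eq_one_iff (m : G)).1 hm'
      have h1 : m ∈ ((LM : Set M) * ((P' : Subgroup M) : Set M)) := by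
        rw [← normal_mul, hM]; trivial
      obtain ⟨l, hl, s, hs, rfl⟩ := h1
      have hsK : (s : G) ∈ K := by
        have := mul_mem (inv_mem (hLK ⟨l, hl, rfl⟩)) hmK
        simpa using this
      obtain ⟨s', hs', hse⟩ := hQR (show (⟨(s : G), hs⟩ : (P : Subgroup G)) ∈ Q from hsK)
      exact mul_mem hl (Subtype.ext hse ▸ hs')
  exact ⟨((QuotientGroup.quotientMulEquivOfEq hker).trans
    (QuotientGroup.quotientKerEquivOfSurjective f hf)).symm⟩

end CfsgLib.Amalgam.TateIso
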