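import Cfsg.Agent.Lib.Amalgam.BaumannBlock
import Cfsg.Agent.Lib.Amalgam.WeaklyClosed

/-!
The weak closure of a weakly closed `p`-subgroup in a product of two normal subgroups commuting
modulo its normalizer.
-/

set_option autoImplicit false
set_option linter.unusedSectionVars false
set_option linter.unusedVariables false
set_option linter.style.haveILetI false
set_option maxHeartbeats 800000

namespace CfsgLib.Amalgam.WCFactor

open Subgroup
open scoped commutatorElement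

variable {G : Type*} [Group G] [Finite G] {p : ℕ} [hp : Fact p.Prime]

/-- `O^p` of a subgroup, generated by its elements of order prime to `p`. -/
theorem res_eq (X : Subgroup G) :
    (Cfsg.pResidual p ↥X).map X.subtype = closure {x : G | x ∈ X ∧ (orderOf x).Coprime p} := by
  rw [Cfsg.pResidual, MonoidHom.map_closure]
  congr 1
  ext x
  constructor
  · rintro ⟨⟨y, hy⟩, hc, rfl⟩
    exact ⟨hy, by rw [Set.mem_setOf_eq, Subgroup.orderOf_mk] at hc; exact hc⟩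
  · rintro ⟨hx, hc⟩
    exact ⟨⟨x, hx⟩, by rwa [Set.mem_setOf_eq, Subgroup.orderOf_mk], rfl⟩

theorem conj_res {X : Subgroup G} {g : G} (hg : g ∈ normalizer (X : Set G)) :
    g ∈ normalizer (((Cfsg.pResidual p ↥X).map X.subtype : Subgroup G) : Set G) := by
  refine mem_normalizer_iff_map_conj_eq.2 (eq_of_le_of_card_ge ?_
    (card_map_of_injective (MulAut.conj g).injective).ge)
  rw [res_eq, MonoidHom.map_closure]
  refine (closure_le _).2 ?_
  rintro _ ⟨x, ⟨hx, hc⟩, rfl⟩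
  refine subset_closure ⟨(mem_normalizer_iff.1 hg x).1 hx, ?_⟩
  have : orderOf ((MulAut.conj g).toMonoidHom x) = orderOf x :=
    orderOf_injective _ (MulAut.conj g).injective x
  exact this.symm ▸ hc

theorem res_le_of_le_sup {X N P : Subgroup G} (hX : X ≤ N ⊔ P) (hP : IsPGroup p P)
    (hPN : P ≤ normalizer (N : Set G)) : (Cfsg.pResidual p ↥X).map X.subtype ≤ N := by
  rw [res_eq]
  refine (closure_le _).2 ?_
  rintro x ⟨hx, hc⟩
  exact BlockB.mem_of_coprime hP hPN (hX hx) hc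

theorem res_sup_syl {X P : Subgroup G} (hP : IsSylIn p X P) :
    (Cfsg.pResidual p ↥X).map X.subtype ⊔ P = X := by
  let W : Sylow p X := Sylow.ofCard (P.subgroupOf X)
    (by rw [Nat.card_congr (subgroupOfEquivOfLe hP.1).toEquiv, hP.2.2])
  have h := congrArg (Subgroup.map X.subtype) (CfsgLib.Transfer.pResidual_sup_sylow W)
  rw [Subgroup.map_sup, show (W : Subgroup X) = P.subgroupOf X from Sylow.coe_ofCard _ _,
    subgroupOf_map_subtype, inf_eq_left.2 hP.1, ← MonoidHom.range_eq_map, range_subtype] at h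
  exact h

/-- The data of the factorization. -/
structure Ctx (p : ℕ) (Q Hc H₁ H₂ : Subgroup G) : Prop where
  qp : IsPGroup p Q
  wc : Cfsg.IsWeaklyClosedSubgroup p Q
  clo : Hc = Cfsg.weakClosure Q ⊤
  le₁ : H₁ ≤ Hc
  n₁ : Hc ≤ normalizer (H₁ : Set G)
  le₂ : H₂ ≤ Hc
  n₂ : Hc ≤ normalizer (H₂ : Set G)
  prod : H₁ ⊔ H₂ = Hc
  comm : ⁅H₁, H₂⁆ ≤ normalizer (Q : Set G)

variable {Q Hc H₁ H₂ : Subgroup G}

theorem Ctx.symm (c : Ctx p Q Hc H₁ H₂) : Ctx p Q Hc H₂ H₁ :=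
  ⟨c.qp, c.wc, c.clo, c.le₂, c.n₂, c.le₁, c.n₁, by rw [sup_comm]; exact c.prod,
    by rw [commutator_comm]; exact c.comm⟩

theorem Ctx.conj_le (c : Ctx p Q Hc H₁ H₂) (g : G) : Q.map (MulAut.conj g).toMonoidHom ≤ Hc :=
  c.clo ▸ conj_le_weakClosure le_top

theorem Ctx.q_le (c : Ctx p Q Hc H₁ H₂) : Q ≤ Hc := c.clo ▸ self_le_weakClosure le_top

/-- `Hc` is generated by the conjugates of `Q` under itself. -/
theorem Ctx.le_of_conj_le (c : Ctx p Q Hc H₁ H₂) {X : Subgroup G}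
    (h : ∀ k ∈ Hc, Q.map (MulAut.conj k).toMonoidHom ≤ X) : Hc ≤ X := by
  refine c.clo.trans_le (iSup_le fun g => ?_)
  obtain ⟨k, hk, e⟩ := exists_conj_eq_of_le c.wc c.qp c.q_le (c.conj_le (g : G))
  exact e ▸ h k hk

theorem Ctx.mem_mul (c : Ctx p Q Hc H₁ H₂) {x : G} (hx : x ∈ Hc) :
    ∃ a ∈ H₁, ∃ b ∈ H₂, x = a * b := by
  have h : x ∈ ((H₁ ⊔ H₂ : Subgroup G) : Set G) := c.prod.symm ▸ hx
  rw [coe_mul_of_right_le_normalizer_left _ _ (c.le₂.trans c.n₁)] at h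
  obtain ⟨a, ha, b, hb, rfl⟩ := h
  exact ⟨a, ha, b, hb, rfl⟩

theorem norm_R : Hc ≤ normalizer (Cfsg.pCoreOf p Hc : Set G) := le_normalizer_pCoreOf Hc

theorem conjR {g : G} (hg : g ∈ Hc) :
    (Cfsg.pCoreOf p Hc).map (MulAut.conj g).toMonoidHom = Cfsg.pCoreOf p Hc :=
  mem_normalizer_iff_map_conj_eq.1 (norm_R hg)

theorem Ctx.R_norm_conj (c : Ctx p Q Hc H₁ H₂) {g : G} (hg : g ∈ Hc) :
    Cfsg.pCoreOf p Hc ≤ normalizer ((Q.map (MulAut.conj g).toMonoidHom : Subgroup G) : Set G) := by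
  have h1 : Cfsg.pCoreOf p Hc ≤ normalizer (Q : Set G) := by
    intro r hr
    have hP : IsPGroup p (Q ⊔ Cfsg.pCoreOf p Hc : Subgroup G) :=
      c.qp.to_sup_of_normal_right' (isPGroup_pCoreOf Hc) (c.q_le.trans norm_R)
    exact normalizer_le_of_weaklyClosed c.wc hP le_sup_left (le_normalizer (mem_sup_right hr))
  rw [← conjR (p := p) hg]
  exact (map_mono h1).trans (le_normalizer_map _)

theorem Ctx.norm_D (c : Ctx p Q Hc H₁ H₂) : Hc ≤ normalizer ((⁅H₁, H₂⁆ : Subgroup G) : Set G) := by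
  intro x hx
  rw [mem_normalizer_iff_map_conj_eq]
  exact (map_commutator _ _ _).trans
    (congrArg₂ (fun a b : Subgroup G => ⁅a, b⁆) (mem_normalizer_iff_map_conj_eq.1 (c.n₁ hx))
      (mem_normalizer_iff_map_conj_eq.1 (c.n₂ hx)))

theorem Ctx.D_le (c : Ctx p Q Hc H₁ H₂) : ⁅H₁, H₂⁆ ≤ H₁ :=
  le_normalizer_iff_commutator_le_left.1 (c.le₂.trans c.n₁)

/-- `[H₁, H₂]` is central modulo `O_p(Hc)`. -/
theorem Ctx.D_central (c : Ctx p Q Hc H₁ H₂) :
    ∀ d ∈ ⁅H₁, H₂⁆, ∀ x ∈ Hc, ⁅d, x⁆ ∈ Cfsg.pCoreOf p Hc := by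
  set D := ⁅H₁, H₂⁆
  set R := Cfsg.pCoreOf p Hc
  have hDHc : D ≤ Hc := c.D_le.trans c.le₁
  have hOD : Cfsg.pCoreOf p D ≤ R := by
    refine le_pCoreOf ((pCoreOf_le D).trans hDHc) ?_ (isPGroup_pCoreOf D)
    intro x hx
    rw [mem_normalizer_iff_map_conj_eq]
    show (Cfsg.pCoreOf p D).map (MulAut.conj x).toMonoidHom = _
    rw [← pCoreOf_map _ (MulAut.conj x).injective]
    congr 1
    exact mem_normalizer_iff_map_conj_eq.1 (c.norm_D hx)
  intro d hd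
  let S : Subgroup G :=
    { carrier := {x | x ∈ Hc ∧ ∀ d ∈ D, ⁅d, x⁆ ∈ R}
      one_mem' := ⟨one_mem _, fun d _ => by rw [commutatorElement_one_right]; exact one_mem R⟩
      mul_mem' := fun {x y} hx hy => ⟨mul_mem hx.1 hy.1, fun d hd => by
        have e : ⁅d, x * y⁆ = ⁅d, x⁆ * (x * ⁅d, y⁆ * x⁻¹) := by
          simp only [commutatorElement_def]; group
        rw [e]
        exact mul_mem (hx.2 d hd) ((mem_normalizer_iff.1 (norm_R hx.1) _).1 (hy.2 d hd))⟩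
      inv_mem' := fun {x} hx => ⟨inv_mem hx.1, fun d hd => by
        have e : ⁅d, x⁻¹⁆ = x⁻¹ * ⁅d, x⁆⁻¹ * x⁻¹⁻¹ := by
          simp only [commutatorElement_def]; group
        rw [e]
        exact (mem_normalizer_iff.1 (norm_R (inv_mem hx.1)) _).1 (inv_mem (hx.2 d hd))⟩ }
  have hS : Hc ≤ S := c.le_of_conj_le fun k hk => by
    intro x hx
    refine ⟨c.conj_le k hx, fun d hd => hOD ?_⟩
    set Qk := Q.map (MulAut.conj k).toMonoidHom
    have hDk : D ≤ normalizer (Qk : Set G) := by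
      have e : D.map (MulAut.conj k).toMonoidHom = D := mem_normalizer_iff_map_conj_eq.1 (c.norm_D hk)
      rw [← e]
      exact (map_mono c.comm).trans (le_normalizer_map _)
    have hle : ⁅D, Qk⁆ ≤ Qk ⊓ D := le_inf (le_normalizer_iff_commutator_le_right.1 hDk)
      (le_normalizer_iff_commutator_le_left.1 ((c.conj_le k).trans c.norm_D))
    refine le_pCoreOf inf_le_right ?_ ((c.qp.map _).to_le inf_le_left) (hle (commutator_mem_commutator hd hx))
    exact fun a ha => mem_normalizer_iff.2 fun z =>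
      and_congr (mem_normalizer_iff.1 (hDk ha) z) (mem_normalizer_iff.1 (le_normalizer ha) z)
  exact fun x hx => (hS hx).2 d hd

theorem Ctx.R_comm (c : Ctx p Q Hc H₁ H₂) {x : G} (hx : x ∈ ⁅H₁, H₁⁆ ⊔ ⁅H₁, H₂⁆) :
    x ∈ H₁ ∧ ∀ h ∈ H₂, ⁅x, h⁆ ∈ Cfsg.pCoreOf p Hc := by
  set R := Cfsg.pCoreOf p Hc
  have key : ∀ h ∈ H₂, ∀ a ∈ H₁, ∀ b ∈ H₁, ∃ r ∈ R, ⁅a * b, h⁆ = ⁅a, h⁆ * ⁅b, h⁆ * r := by
    intro h hh a ha b hb
    have e : ⁅a * b, h⁆ = ⁅a, ⁅b, h⁆⁆ * ⁅b, h⁆ * ⁅a, h⁆ := by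
      simp only [commutatorElement_def]; group
    have hD1 : ⁅b, h⁆ ∈ ⁅H₁, H₂⁆ := commutator_mem_commutator hb hh
    have hD2 : ⁅a, h⁆ ∈ ⁅H₁, H₂⁆ := commutator_mem_commutator ha hh
    have hr1 : ⁅a, ⁅b, h⁆⁆ ∈ R := by
      rw [← commutatorElement_inv]
      exact inv_mem (c.D_central _ hD1 a (c.le₁ ha))
    have hr2 : ⁅⁅b, h⁆, ⁅a, h⁆⁆ ∈ R := c.D_central _ hD1 _ (c.le₁ (c.D_le hD2))
    refine ⟨(⁅a, h⁆ * ⁅b, h⁆)⁻¹ * ⁅a * b, h⁆, ?_, by group⟩
    have hin : (⁅a, h⁆ * ⁅b, h⁆)⁻¹ ∈ Hc :=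
      inv_mem (mul_mem (c.le₁ (c.D_le hD2)) (c.le₁ (c.D_le hD1)))
    have e2 : (⁅a, h⁆ * ⁅b, h⁆)⁻¹ * ⁅a * b, h⁆ =
        ((⁅a, h⁆ * ⁅b, h⁆)⁻¹ * (⁅a, ⁅b, h⁆⁆ * ⁅⁅b, h⁆, ⁅a, h⁆⁆) * (⁅a, h⁆ * ⁅b, h⁆)⁻¹⁻¹) := by
      rw [e]; simp only [commutatorElement_def]; group
    rw [e2]
    exact (mem_normalizer_iff.1 (norm_R hin) _).1 (mul_mem hr1 hr2)
  let S : Subgroup G :=
    { carrier := {x | x ∈ H₁ ∧ ∀ h ∈ H₂, ⁅x, h⁆ ∈ R}
      one_mem' := ⟨one_mem _, fun h _ => by rw [commutatorElement_one_left]; exact one_mem R⟩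
      mul_mem' := fun {a b} ha hb => ⟨mul_mem ha.1 hb.1, fun h hh => by
        obtain ⟨r, hr, e⟩ := key h hh a ha.1 b hb.1
        rw [e]
        exact mul_mem (mul_mem (ha.2 h hh) (hb.2 h hh)) hr⟩
      inv_mem' := fun {a} ha => ⟨inv_mem ha.1, fun h hh => by
        have e : ⁅a⁻¹, h⁆ = a⁻¹ * ⁅a, h⁆⁻¹ * a⁻¹⁻¹ := by simp only [commutatorElement_def]; group
        rw [e]
        exact (mem_normalizer_iff.1 (norm_R (c.le₁ (inv_mem ha.1))) _).1 (inv_mem (ha.2 h hh))⟩ }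
  have hD : ⁅H₁, H₂⁆ ≤ S := fun d hd => ⟨c.D_le hd, fun h hh => c.D_central d hd h (c.le₂ hh)⟩
  have hE : ⁅H₁, H₁⁆ ≤ S := by
    rw [commutator_le]
    intro a ha b hb
    refine ⟨?_, fun h hh => ?_⟩
    · rw [commutatorElement_def]
      exact mul_mem (mul_mem (mul_mem ha hb) (inv_mem ha)) (inv_mem hb)
    -- the commutator map into the abelian section is a homomorphism
    haveI hn : (R.subgroupOf Hc).Normal :=
      (normal_subgroupOf_iff_le_normalizer (pCoreOf_le Hc)).2 norm_R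
    set π := QuotientGroup.mk' (R.subgroupOf Hc)
    let C := Subgroup.center (↥Hc ⧸ R.subgroupOf Hc)
    have hcen : ∀ z : H₁, π ⟨⁅(z : G), h⁆, c.le₁ (c.D_le (commutator_mem_commutator z.2 hh))⟩ ∈ C := by
      intro z
      rw [Subgroup.mem_center_iff]
      intro y
      obtain ⟨⟨y, hy⟩, rfl⟩ := QuotientGroup.mk'_surjective _ y
      rw [← map_mul, ← map_mul, QuotientGroup.mk'_eq_mk']
      refine ⟨⟨(y * ⁅(z : G), h⁆)⁻¹ * (⁅(z : G), h⁆ * y), ?_⟩, ?_, ?_⟩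
      · exact mul_mem (inv_mem (mul_mem hy (c.le₁ (c.D_le (commutator_mem_commutator z.2 hh)))))
          (mul_mem (c.le₁ (c.D_le (commutator_mem_commutator z.2 hh))) hy)
      · rw [mem_subgroupOf]
        have h9 := c.D_central _ (inv_mem (commutator_mem_commutator z.2 hh)) y⁻¹ (inv_mem hy)
        have e : (y * ⁅(z : G), h⁆)⁻¹ * (⁅(z : G), h⁆ * y) = ⁅⁅(z : G), h⁆⁻¹, y⁻¹⁆ := by
          simp only [commutatorElement_def]; group
        show (y * ⁅(z : G), h⁆)⁻¹ * (⁅(z : G), h⁆ * y) ∈ R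
        rw [e]; exact h9
      · refine Subtype.ext ?_
        show y * ⁅(z : G), h⁆ * ((y * ⁅(z : G), h⁆)⁻¹ * (⁅(z : G), h⁆ * y)) = ⁅(z : G), h⁆ * y
        group
    let f : H₁ →* C :=
      { toFun := fun z => ⟨_, hcen z⟩
        map_one' := Subtype.ext (by
          show π _ = 1
          rw [← map_one π]
          congr 1
          exact Subtype.ext (by simp))
        map_mul' := fun z w => Subtype.ext (by
          show π _ = π _ * π _
          rw [← map_mul, QuotientGroup.mk'_eq_mk']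
          obtain ⟨r, hr, e⟩ := key h hh z z.2 w w.2
          refine ⟨⟨r⁻¹, inv_mem (pCoreOf_le Hc hr)⟩, inv_mem hr, Subtype.ext ?_⟩
          show ⁅((z * w : H₁) : G), h⁆ * r⁻¹ = ⁅(z : G), h⁆ * ⁅(w : G), h⁆
          rw [Subgroup.coe_mul, e, mul_inv_cancel_right]) }
    have hk : f ⁅(⟨a, ha⟩ : H₁), ⟨b, hb⟩⁆ = 1 := by
      rw [map_commutatorElement, commutatorElement_eq_one_iff_mul_comm]
      exact Subtype.ext ((Subgroup.mem_center_iff.1 (f ⟨a, ha⟩).2 _).symm)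
    have hk' : π ⟨⁅((⁅(⟨a, ha⟩ : H₁), ⟨b, hb⟩⁆ : H₁) : G), h⁆,
        c.le₁ (c.D_le (commutator_mem_commutator (SetLike.coe_mem _) hh))⟩ = 1 := congrArg Subtype.val hk
    exact mem_subgroupOf.1 ((QuotientGroup.eq_one_iff _).1 hk')
  exact sup_le hE hD hx

/-- The conclusions for one factor. -/
theorem Ctx.side (c : Ctx p Q Hc H₁ H₂) {K : Subgroup G}
    (hK : K = (Cfsg.pResidual p ↥(Cfsg.weakClosure Q (H₁ ⊔ Q))).map
      (Cfsg.weakClosure Q (H₁ ⊔ Q)).subtype) :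
    ⁅K, Q⁆ = K ∧ ⁅K, H₁⁆ = K ∧ K ≤ ⁅H₁, H₁⁆ ∧ Hc ≤ normalizer (K : Set G) ∧
      (∀ k ∈ K, ∀ h ∈ H₂, ⁅k, h⁆ ∈ Cfsg.pCoreOf p Hc) := by
  set L := Cfsg.weakClosure Q (H₁ ⊔ Q) with hL
  set R := Cfsg.pCoreOf p Hc
  have hQN : Q ≤ normalizer (H₁ : Set G) := c.q_le.trans c.n₁
  have hLle : L ≤ H₁ ⊔ Q := weakClosure_le _ _
  have hQL : Q ≤ L := self_le_weakClosure le_sup_right
  have hLH : H₁ ⊔ Q ≤ Hc := sup_le c.le₁ c.q_le
  have hH1L : H₁ ⊔ Q ≤ normalizer (L : Set G) :=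
    le_normalizer.trans (normalizer_le_normalizer_weakClosure Q (H₁ ⊔ Q))
  have hH1K : H₁ ⊔ Q ≤ normalizer (K : Set G) := fun x hx => hK ▸ conj_res (hH1L hx)
  have hRL : R ≤ normalizer (L : Set G) := by
    intro r hr
    refine mem_normalizer_iff_map_conj_eq.2 (eq_of_le_of_card_ge ?_
      (card_map_of_injective (MulAut.conj r).injective).ge)
    rw [hL, Cfsg.weakClosure, Subgroup.map_iSup]
    refine iSup_le fun g => ?_
    obtain ⟨k, hk, e⟩ := exists_conj_eq_of_le c.wc c.qp (le_sup_right : Q ≤ H₁ ⊔ Q) g.2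
    refine le_trans ?_ (le_iSup _ g)
    rw [e]
    exact (mem_normalizer_iff_map_conj_eq.1 (c.R_norm_conj (hLH hk) hr)).le
  have hKL : K ≤ L := hK ▸ map_subtype_le _
  have hKH : K ≤ H₁ := hK ▸ res_le_of_le_sup hLle c.qp hQN
  have hKcop : closure {x : G | x ∈ L ∧ (orderOf x).Coprime p} = K := hK ▸ (res_eq L).symm
  have hKgen : ∀ X : Subgroup G, (∀ x ∈ K, (orderOf x).Coprime p → x ∈ X) → K ≤ X := fun X hX => by
    conv_lhs => rw [← hKcop]
    exact (closure_le _).2 fun x hx => hX x (hKcop.le (subset_closure hx)) hx.2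
  obtain ⟨P, hP, hQP⟩ := exists_isSylIn_ge c.qp hQL
  have hLeq : K ⊔ P = L := hK ▸ res_sup_syl hP
  have hPQ : P ≤ normalizer (Q : Set G) :=
    le_normalizer.trans (normalizer_le_of_weaklyClosed c.wc hP.2.1 hQP)
  -- `K = [K, Q]`
  have hPK : P ≤ normalizer (K : Set G) := (hP.1.trans hLle).trans hH1K
  have hMK : ⁅K, Q⁆ ≤ K := le_normalizer_iff_commutator_le_left.1 (le_sup_right.trans hH1K)
  have hMn : ∀ x ∈ P, x ∈ normalizer ((⁅K, Q⁆ : Subgroup G) : Set G) := fun x hx =>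
    mem_normalizer_iff_map_conj_eq.2 ((map_commutator _ _ _).trans
      (congrArg₂ (fun a b : Subgroup G => ⁅a, b⁆) (mem_normalizer_iff_map_conj_eq.1 (hPK hx))
        (mem_normalizer_iff_map_conj_eq.1 (hPQ hx))))
  have hQM : Q ≤ normalizer ((⁅K, Q⁆ : Subgroup G) : Set G) := fun x hx => hMn x (hQP hx)
  have hKM : K ≤ normalizer ((⁅K, Q⁆ : Subgroup G) : Set G) := by
    intro k hk
    refine mem_normalizer_iff_map_conj_eq.2 (eq_of_le_of_card_ge ?_
      (card_map_of_injective (MulAut.conj k).injective).ge)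
    rw [map_commutator, commutator_le]
    rintro _ ⟨a, ha, rfl⟩ _ ⟨q, hq, rfl⟩
    show ⁅k * a * k⁻¹, k * q * k⁻¹⁆ ∈ _
    have e : ⁅k * a * k⁻¹, k * q * k⁻¹⁆ = ⁅k * a, q⁆ * ⁅k, q⁆⁻¹ := by
      simp only [commutatorElement_def]; group
    rw [e]
    exact mul_mem (commutator_mem_commutator (mul_mem hk ha) hq)
      (inv_mem (commutator_mem_commutator hk hq))
  have hLM : L ≤ ⁅K, Q⁆ ⊔ Q := by
    have hn : L ≤ normalizer ((⁅K, Q⁆ ⊔ Q : Subgroup G) : Set G) := by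
      rw [← hLeq]
      refine sup_le (fun k hk => ?_) fun x hx => ?_
      · refine mem_normalizer_iff_map_conj_eq.2 (eq_of_le_of_card_ge ?_
          (card_map_of_injective (MulAut.conj k).injective).ge)
        rw [Subgroup.map_sup]
        refine sup_le ((mem_normalizer_iff_map_conj_eq.1 (hKM hk)).le.trans le_sup_left) ?_
        rintro _ ⟨q, hq, rfl⟩
        show k * q * k⁻¹ ∈ _
        rw [show k * q * k⁻¹ = ⁅k, q⁆ * q by rw [commutatorElement_def]; group]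
        exact mul_mem (mem_sup_left (commutator_mem_commutator hk hq)) (mem_sup_right hq)
      · refine mem_normalizer_iff_map_conj_eq.2 ((Subgroup.map_sup _ _ _).trans ?_)
        exact congrArg₂ (· ⊔ ·) (mem_normalizer_iff_map_conj_eq.1 (hMn x hx))
          (mem_normalizer_iff_map_conj_eq.1 (hPQ hx))
    refine iSup_le fun g => ?_
    obtain ⟨l, hl, e⟩ := exists_conj_eq_of_le c.wc c.qp hQL
      (conj_le_weakClosure (A := Q) g.2 : Q.map (MulAut.conj (g : G)).toMonoidHom ≤ L)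
    rw [e]
    exact (map_mono le_sup_right).trans (mem_normalizer_iff_map_conj_eq.1 (hn hl)).le
  have hKQ : ⁅K, Q⁆ = K := le_antisymm hMK (by
    conv_lhs => rw [hK]
    exact res_le_of_le_sup hLM c.qp hQM)
  -- a commutator with an element of `Q`
  have hsplit : ∀ k ∈ K, ∀ q ∈ Q, ∃ a ∈ H₁, ∃ b ∈ H₂, ⁅k, q⁆ = ⁅k, a⁆ * (a * ⁅k, b⁆ * a⁻¹) := by
    intro k hk q hq
    obtain ⟨a, ha, b, hb, rfl⟩ := c.mem_mul (c.q_le hq)
    exact ⟨a, ha, b, hb, by simp only [commutatorElement_def]; group⟩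
  have hK3 : K ≤ ⁅H₁, H₁⁆ ⊔ ⁅H₁, H₂⁆ := by
    conv_lhs => rw [← hKQ]
    rw [commutator_le]
    intro k hk q hq
    obtain ⟨a, ha, b, hb, e⟩ := hsplit k hk q hq
    rw [e]
    exact mul_mem (mem_sup_left (commutator_mem_commutator (hKH hk) ha))
      (mem_sup_right ((mem_normalizer_iff.1 (c.norm_D (c.le₁ ha)) _).1
        (commutator_mem_commutator (hKH hk) hb)))
  have hKR : ∀ k ∈ K, ∀ h ∈ H₂, ⁅k, h⁆ ∈ R := fun k hk => (c.R_comm (hK3 hk)).2
  -- `H₂` normalises `K`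
  have hRK : R ≤ normalizer (K : Set G) := fun r hr => hK ▸ conj_res (hRL hr)
  have hRp : IsPGroup p R := isPGroup_pCoreOf Hc
  have hH2K : H₂ ≤ normalizer (K : Set G) := by
    intro h hh
    refine mem_normalizer_iff_map_conj_eq.2 (eq_of_le_of_card_ge ?_
      (card_map_of_injective (MulAut.conj h).injective).ge)
    conv_lhs => rw [← hKcop, MonoidHom.map_closure]
    refine (closure_le _).2 ?_
    rintro _ ⟨x, hx, rfl⟩
    refine BlockB.mem_of_coprime hRp hRK ?_ ?_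
    · have hxK : x ∈ K := hKcop.le (subset_closure hx)
      show h * x * h⁻¹ ∈ _
      rw [show h * x * h⁻¹ = ⁅x, h⁆⁻¹ * x by rw [commutatorElement_def]; group]
      exact mul_mem (mem_sup_right (inv_mem (hKR x hxK h hh))) (mem_sup_left hxK)
    · have : orderOf ((MulAut.conj h).toMonoidHom x) = orderOf x :=
        orderOf_injective _ (MulAut.conj h).injective x
      exact this.symm ▸ hx.2
  have hHcK : Hc ≤ normalizer (K : Set G) := c.prod ▸ sup_le (le_sup_left.trans hH1K) hH2K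
  -- `K = [K, H₁]`
  have hM' : ⁅K, H₁⁆ ≤ K := le_normalizer_iff_commutator_le_left.1 (le_sup_left.trans hH1K)
  have hH1M : H₁ ≤ normalizer ((⁅K, H₁⁆ : Subgroup G) : Set G) := fun x hx =>
    mem_normalizer_iff_map_conj_eq.2 ((map_commutator _ _ _).trans
      (congrArg₂ (fun a b : Subgroup G => ⁅a, b⁆) (mem_normalizer_iff_map_conj_eq.1 (hH1K (mem_sup_left hx)))
        (mem_normalizer_iff_map_conj_eq.1 (le_normalizer hx))))
  have hKH1 : ⁅K, H₁⁆ = K := by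
    refine le_antisymm hM' (hKgen _ fun x hx hc => ?_)
    refine BlockB.mem_of_coprime (hRp.to_le inf_le_left : IsPGroup p (R ⊓ K : Subgroup G))
      (inf_le_right.trans (hKH.trans hH1M)) ?_ hc
    suffices hle : ⁅K, Q⁆ ≤ ⁅K, H₁⁆ ⊔ (R ⊓ K) from hle (hKQ.symm ▸ hx)
    rw [commutator_le]
    intro k hk q hq
    obtain ⟨a, ha, b, hb, e⟩ := hsplit k hk q hq
    have hkb : ⁅k, b⁆ ∈ K := by
      rw [commutatorElement_def, mul_assoc, mul_assoc, ← mul_assoc b]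
      exact mul_mem hk ((mem_normalizer_iff.1 (hH2K hb) _).1 (inv_mem hk))
    rw [e]
    exact mul_mem (mem_sup_left (commutator_mem_commutator hk ha))
      (mem_sup_right ⟨(mem_normalizer_iff.1 (norm_R (c.le₁ ha)) _).1 (hKR k hk b hb),
        (mem_normalizer_iff.1 (hH1K (mem_sup_left ha)) _).1 hkb⟩)
  refine ⟨hKQ, hKH1, ?_, hHcK, hKR⟩
  conv_lhs => rw [← hKH1]
  exact commutator_mono hKH le_rfl

end CfsgLib.Amalgam.WCFactor
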